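import Groth.Agent.SiteCohomology.PushTotallyAcyclic
import Groth.Agent.SiteCohomology.ModulesInjective
import Groth.Prelude.Def_ModSite
import Mathlib.CategoryTheory.Adjunction.FullyFaithful
import Mathlib.CategoryTheory.Adjunction.Restrict

/-!
Injective sheaves of modules are totally acyclic as abelian sheaves.
-/

universe u

open CategoryTheory Limits Opposite Simplicial AlgebraicTopology

set_option synthInstance.maxHeartbeats 400000
set_option maxHeartbeats 1000000

namespace Groth.DAlg.SiteInj

open Groth.SiteCohomology Abelian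

section Reflect

variable {A : Type*} [Category A] [Abelian A] {B : Type*} [Category B] [Abelian B]

/-- An exact faithful functor reflects augmented resolutions. -/
lemma isAugResolution_of_map (G : A ⥤ B) [G.Additive] [PreservesFiniteLimits G] [PreservesFiniteColimits G]
    [G.Faithful] {X : SimplicialObject.Augmented A}
    (h : IsAugResolution (((SimplicialObject.Augmented.whiskering A B).obj G).obj X)) : IsAugResolution X := by
  have hhom : G.map (X.hom.app (op ⦋0⦌)) =
      (((SimplicialObject.Augmented.whiskering A B).obj G).obj X).hom.app (op ⦋0⦌) := (Category.comp_id _).symm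
  have hd := fun n => map_objD G X.left n
  refine { epi := ?_, zero₀ := objD_comp_ε _, exact₀ := ?_,
           zero := fun n => AlternatingFaceMapComplex.d_squared _ n, exact := fun n => ?_ }
  · have := h.epi
    rw [← hhom] at this
    exact G.epi_of_epi_map this
  · exact ((ShortComplex.mk _ _ (objD_comp_ε X)).exact_map_iff_of_faithful G).1
      (exact_mk_of_eq (hd 0) hhom _ h.exact₀)
  · exact ((ShortComplex.mk _ _ (AlternatingFaceMapComplex.d_squared X.left n)).exact_map_iff_of_faithful G).1
      (exact_mk_of_eq (hd (n + 1)) (hd n) _ (h.exact n))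

end Reflect

variable {C : Type u} [SmallCategory C] (J : GrothendieckTopology C) (R : Sheaf J RingCat.{u})

/-- The forgetful functor to abelian sheaves is exact. -/
instance preservesFiniteColimits_toSheaf : PreservesFiniteColimits (SheafOfModules.toSheaf.{u} R) where
  preservesFiniteColimits Sh _ _ := by
    let i := SheafOfModules.forget R ⋙ PresheafOfModules.restrictScalars (𝟙 R.obj)
    let a := PresheafOfModules.sheafification.{u} (𝟙 R.obj)
    let adj := PresheafOfModules.sheafificationAdjunction.{u} (𝟙 R.obj)
    have := adj.leftAdjoint_preservesColimits.{0, 0}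
    refine ⟨fun {F} => ?_⟩
    have h : IsColimit ((a ⋙ SheafOfModules.toSheaf R).mapCocone (colimit.cocone (F ⋙ i))) :=
      isColimitOfPreserves (PresheafOfModules.toPresheaf R.obj ⋙ presheafToSheaf J AddCommGrpCat.{u})
        (colimit.isColimit (F ⋙ i))
    have : PreservesColimit ((F ⋙ i) ⋙ a) (SheafOfModules.toSheaf R) :=
      preservesColimit_of_preserves_colimit_cocone (isColimitOfPreserves a (colimit.isColimit (F ⋙ i))) h
    exact preservesColimit_of_iso_diagram (SheafOfModules.toSheaf R)
      (Functor.associator _ _ _ ≪≫ Functor.isoWhiskerLeft F (asIso adj.counit) ≪≫ F.rightUnitor)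

/-- Free sheaves of modules on presheaves of sets. -/
noncomputable abbrev freeShM : (Cᵒᵖ ⥤ Type u) ⥤ SheafOfModules.{u} R :=
  PresheafOfModules.free R.obj ⋙ PresheafOfModules.sheafification (𝟙 R.obj)

/-- Free sheaves of modules on sheaves of sets. -/
noncomputable abbrev freeTM : Sheaf J (Type u) ⥤ SheafOfModules.{u} R :=
  sheafToPresheaf J (Type u) ⋙ freeShM J R

/-- Sections as a presheaf of sets. -/
noncomputable abbrev sectP : SheafOfModules.{u} R ⥤ (Cᵒᵖ ⥤ Type u) :=
  (SheafOfModules.forget R ⋙ PresheafOfModules.restrictScalars (𝟙 R.obj)) ⋙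
    (PresheafOfModules.toPresheaf R.obj ⋙ (Functor.whiskeringRight _ _ _).obj (forget Ab))

/-- Sections as a sheaf of sets. -/
noncomputable abbrev sectT : SheafOfModules.{u} R ⥤ Sheaf J (Type u) :=
  SheafOfModules.toSheaf R ⋙ sheafCompose J (forget AddCommGrpCat.{u})

/-- The free-forgetful adjunction on presheaves of sets. -/
noncomputable def freeShMAdj : freeShM J R ⊣ sectP J R :=
  (PresheafOfModules.freeAdjunction R.obj).comp
    (PresheafOfModules.sheafificationAdjunction.{u} (𝟙 R.obj))

/-- The free-forgetful adjunction on sheaves of sets. -/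
noncomputable def freeTMAdj : freeTM J R ⊣ sectT J R :=
  (freeShMAdj J R).restrictFullyFaithful (fullyFaithfulSheafToPresheaf J (Type u))
    (Functor.FullyFaithful.id _) (Functor.rightUnitor _).symm (Iso.refl _)

lemma isIso_freeShM_map_of_W {P Q : Cᵒᵖ ⥤ Type u} (f : P ⟶ Q) (hf : J.W f) :
    IsIso ((freeShM J R).map f) := by
  rw [isIso_iff_coyoneda_map_bijective]
  intro G
  have hG : Presheaf.IsSheaf J ((sectP J R).obj G) := ((sectT J R).obj G).2
  have key : (fun x => (freeShM J R).map f ≫ x) =
      ((freeShMAdj J R).homEquiv P G).symm ∘ (fun y => f ≫ y) ∘ ((freeShMAdj J R).homEquiv Q G) := by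
    funext x
    simp only [Function.comp_apply, Adjunction.homEquiv_naturality_left_symm,
      Equiv.symm_apply_apply]
  rw [key]
  exact (Equiv.bijective _).comp ((hf _ hG).comp (Equiv.bijective _))

/-- Free modules on a Čech type simplicial presheaf with locally surjective augmentation give a resolution. -/
theorem isAugResolution_freeShM (X : SimplicialObject.Augmented (Cᵒᵖ ⥤ Type u))
    (hX : IsCechTypePresheaf X) [Presheaf.IsLocallySurjective J (X.hom.app (op ⦋0⦌))] :
    IsAugResolution (((SimplicialObject.Augmented.whiskering _ _).obj (freeShM J R)).obj X) := by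
  let Y := imageAug X
  let free := PresheafOfModules.free R.obj ⋙ PresheafOfModules.toPresheaf R.obj
  have hY : IsAugResolution (((SimplicialObject.Augmented.whiskering _ _).obj free).obj Y) := by
    refine isAugResolution_of_evaluation _ fun c => ?_
    have hY0 : ((evalAug c).obj Y).hom.app (op ⦋0⦌) =
        (Subfunctor.toRange (X.hom.app (op ⦋0⦌))).app c := by
      rw [← imageAug_hom_zero]
      exact Category.comp_id _
    have hX0 : ((evalAug c).obj X).hom.app (op ⦋0⦌) = (X.hom.app (op ⦋0⦌)).app c :=
      Category.comp_id _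
    have hsur : Function.Surjective (((evalAug c).obj Y).hom.app (op ⦋0⦌)) := by
      rw [hY0]
      rintro ⟨b, a, ha⟩
      exact ⟨a, Subtype.ext ha⟩
    have hT : IsCechType ((evalAug c).obj Y) :=
      { ext := (hX c).ext
        lift := fun n t ht => (hX c).lift n t fun i j => by
          have h := ht i j
          rw [hY0] at h
          rw [hX0]
          exact congrArg Subtype.val h }
    obtain ⟨ed⟩ := hT.nonempty_extraDegeneracy hsur
    let G := ModuleCat.free (R.obj.obj c) ⋙ forget₂ (ModuleCat.{u} (R.obj.obj c)) AddCommGrpCat.{u}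
    exact isAugResolution_of_extraDegeneracy (ed.map G)
  have h2 := hY.map (presheafToSheaf J AddCommGrpCat.{u})
  have h3 : IsAugResolution (((SimplicialObject.Augmented.whiskering _ _).obj (freeShM J R)).obj Y) :=
    isAugResolution_of_map (SheafOfModules.toSheaf R) h2
  have hι : IsIso ((freeShM J R).map (Subfunctor.range (X.hom.app (op ⦋0⦌))).ι) := by
    refine isIso_freeShM_map_of_W J R _ ?_
    have := Presheaf.isLocallySurjective_of_isLocallySurjective_fac J
      (Subfunctor.toRange_ι (X.hom.app (op ⦋0⦌)))
    have : Presheaf.IsLocallyInjective J (Subfunctor.range (X.hom.app (op ⦋0⦌))).ι :=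
      Presheaf.isLocallyInjective_of_injective J _ fun _ => Subtype.val_injective
    exact J.W_of_isLocallyBijective _
  let e := ((SimplicialObject.Augmented.whiskering _ _).obj (freeShM J R)).map (imageAugHom X)
  have : IsIso e.left := inferInstanceAs (IsIso
    (((SimplicialObject.whiskering _ _).obj (freeShM J R)).map (𝟙 X.left)))
  have : IsIso e.right := hι
  exact @IsAugResolution.congr_point _ _ _ _ _ h3 e (by assumption) (by assumption)

/-- The Čech nerve of an epimorphism resolves the free module. -/
theorem isAugResolution_cechNerve_freeTM {K' K : Sheaf J (Type u)} (f : K' ⟶ K) [Epi f] :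
    IsAugResolution (((SimplicialObject.Augmented.whiskering _ _).obj (freeTM J R)).obj
      (Arrow.mk f).augmentedCechNerve) := by
  have := isLocallySurjective_cechNerve_hom J f
  exact IsAugResolution.whisker_comp (sheafToPresheaf J (Type u)) (freeShM J R) (Iso.refl _)
    (isAugResolution_freeShM J R
      (((SimplicialObject.Augmented.whiskering _ _).obj (sheafToPresheaf J (Type u))).obj
        (Arrow.mk f).augmentedCechNerve)
      fun c => isCechType_map (Arrow.mk f) (sheafToPresheaf J (Type u) ⋙ (evaluation _ _).obj c))

/-- Injective sheaves of modules are totally acyclic. -/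
theorem isTotallyAcyclic_of_injective (I : SheafOfModules.{u} R) [Injective I] :
    CohCx.IsTotallyAcyclic ((SheafOfModules.toSheaf R).obj I) := by
  refine isTotallyAcyclic_of_cech _ fun K' K f hf q => ?_
  obtain ⟨e⟩ := nonempty_yonedaCofaceCx_homology_equiv (T := freeTM J R) I
    (isAugResolution_cechNerve_freeTM J R f) (q + 1)
    (fun n i _ => Ext.subsingleton_of_injective _ _ i)
  have h0 : Subsingleton (Ext ((freeTM J R).obj K) I (q + 1)) := Ext.subsingleton_of_injective _ _ q
  have := @Equiv.subsingleton _ _ e.toEquiv h0
  exact (@AddCommGrpCat.isZero_of_subsingleton _ this).of_iso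
    ((HomologicalComplex.homologyFunctor _ _ (q + 1)).mapIso
      ((alternatingCofaceMapComplex AddCommGrpCat.{u}).mapIso
        (Functor.isoWhiskerLeft (Arrow.mk f).cechNerve.rightOp (asIso (transferHom (freeTMAdj J R)
          (freeTAdj J) (SheafOfModules.toSheaf R) (Iso.refl _) I))))).symm

/-- Injective sheaves of modules have no higher cohomology. -/
theorem subsingleton_HU_of_injective (I : SheafOfModules.{u} R) [Injective I] (U : C) (q : ℕ) :
    Subsingleton (CohSite.HU ((SheafOfModules.toSheaf R).obj I) (q + 1) U) :=
  subsingleton_HU_of_totallyAcyclic J _ (isTotallyAcyclic_of_injective J R I) U q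

/-- The free module on an object. -/
noncomputable abbrev freeMod (V : C) : SheafOfModules.{u} R := (freeShM J R).obj (yoneda.obj V)

/-- Morphisms out of the free module on an object are sections. -/
noncomputable def freeModHomEquiv (V : C) (N : SheafOfModules.{u} R) :
    (freeMod J R V ⟶ N) ≃ ((SheafOfModules.toSheaf R).obj N).obj.obj (op V) :=
  ((freeShMAdj J R).homEquiv _ N).trans yonedaEquiv

lemma freeModHomEquiv_comp (V : C) {N N' : SheafOfModules.{u} R} (φ : freeMod J R V ⟶ N) (g : N ⟶ N') :
    freeModHomEquiv J R V N' (φ ≫ g) =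
      ((SheafOfModules.toSheaf R).map g).hom.app (op V) (freeModHomEquiv J R V N φ) := by
  show yonedaEquiv ((freeShMAdj J R).homEquiv _ N' (φ ≫ g)) = _
  rw [Adjunction.homEquiv_naturality_right, yonedaEquiv_comp]
  rfl

/-- Sheaves of modules without higher cohomology have no extensions by free modules. -/
theorem subsingleton_ext_freeMod (V : C) (N : SheafOfModules.{u} R)
    (hN : ∀ (U : C) (i : ℕ), Subsingleton (CohSite.HU ((SheafOfModules.toSheaf R).obj N) (i + 1) U))
    (q : ℕ) : Subsingleton (Ext (freeMod J R V) N (q + 1)) := by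
  refine subsingleton_ext_succ_of_class (freeMod J R V)
    (fun N => ∀ (U : C) (i : ℕ), Subsingleton (CohSite.HU ((SheafOfModules.toSheaf R).obj N) (i + 1) U))
    (fun F S hS hF h₁ hI f => ?_) (fun F S hS hF h₁ hI U i => ?_) q N hN
  · subst h₁
    have hS' := hS.map_of_exact (SheafOfModules.toSheaf R)
    haveI := hF V 0
    obtain ⟨t, ht⟩ := @surjective_sections_of_subsingleton_HU _ _ _ _ hS' V (hF V 0) (freeModHomEquiv J R V _ f)
    refine ⟨(freeModHomEquiv J R V _).symm t, (freeModHomEquiv J R V _).injective ?_⟩
    rw [freeModHomEquiv_comp]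
    erw [Equiv.apply_symm_apply]
    exact ht
  · subst h₁
    have hS' := hS.map_of_exact (SheafOfModules.toSheaf R)
    exact @subsingleton_ext_right _ _ _ _ _ hS' (CohCx.freeSheaf J U) (i + 1)
      (subsingleton_HU_of_injective J R S.X₂ U i) (hF U (i + 1))

end Groth.DAlg.SiteInj
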