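import Groth.Prelude.Def_DRing2
import Groth.Agent.DerivedCoh.KFlat.Pointwise
import Groth.Agent.DerivedCoh.KFlat.Unbounded
import Groth.Agent.DerivedCoh.KFlat.Factor
import Mathlib.Algebra.Category.ModuleCat.Monoidal.Closed
import Mathlib.Algebra.Category.ModuleCat.AB
import Mathlib.Algebra.Category.ModuleCat.Monoidal.Symmetric
import Mathlib.Algebra.Homology.Monoidal
import Mathlib.RingTheory.Flat.CategoryTheory
import Mathlib.CategoryTheory.Abelian.GrothendieckCategory.Basic

/-!
K-flat complexes of modules: the generic theory applied to the tensor product of modules.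
-/

universe u

open CategoryTheory CategoryTheory.Limits HomologicalComplex MonoidalCategory

namespace Groth.DAlg.KFlatMod

open DerivedCoh

variable (R : Type u) [CommRing R]

local notation "up" => ComplexShape.up ℤ

/-- The tensor product bifunctor. -/
noncomputable abbrev T : ModuleCat.{u} R ⥤ ModuleCat.{u} R ⥤ ModuleCat.{u} R :=
  curriedTensor (ModuleCat.{u} R)

instance (J : Type) : HasColimitsOfShape (Discrete J) (ModuleCat.{u} R) :=
  hasColimitsOfShape_of_equivalence (Discrete.equivalence (Equiv.ulift : ULift.{u} J ≃ J))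

instance (J : Type) : HasExactColimitsOfShape (Discrete J) (ModuleCat.{u} R) :=
  HasExactColimitsOfShape.of_domain_equivalence (ModuleCat.{u} R)
    (Discrete.equivalence (Equiv.ulift : ULift.{u} J ≃ J))

instance : HasExactColimitsOfShape ℕ (ModuleCat.{u} R) :=
  haveI : IsFiltered (AsSmall.{u} ℕ) := IsFiltered.of_equivalence AsSmall.equiv
  haveI := AB5OfSize.ofShape (C := ModuleCat.{u} R) (AsSmall.{u} ℕ)
  HasExactColimitsOfShape.of_domain_equivalence (ModuleCat.{u} R) AsSmall.equiv.symm

instance (X : ModuleCat.{u} R) : (tensorLeft X).IsLeftAdjoint := (ihom.adjunction X).isLeftAdjoint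
/-- K-flatness, in the form used by the statements. -/
abbrev IsKFlatCx (P : DRing.Cx R) : Prop :=
  ∀ L : DRing.Cx R, (∀ i : ℤ, IsZero (L.homology i)) → ∀ i : ℤ, IsZero ((L ⊗ P).homology i)

variable {R}

lemma acyclic_of_isZero_homology {L : DRing.Cx R} (h : ∀ i : ℤ, IsZero (L.homology i)) : L.Acyclic :=
  fun i => (exactAt_iff_isZero_homology L i).2 (h i)

lemma isKFlatCx_iff {P : DRing.Cx R} : IsKFlatCx R P ↔ KFlat.IsKFlat (T R) P :=
  ⟨fun h L hL => acyclic_of_isZero_homology (h L fun i => (hL i).isZero_homology),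
    fun h L hL i => (h L (acyclic_of_isZero_homology hL) i).isZero_homology⟩

lemma flat_of_moduleFlat (N : ModuleCat.{u} R) [Module.Flat R N] : KFlat.Flat (T R) N := fun S hS => by
  have hm := hS.mono_f
  have he := hS.epi_g
  exact
    { exact := Module.Flat.rTensor_shortComplex_exact N S hS.exact
      mono_f := (ModuleCat.mono_iff_injective _).2 (Module.Flat.rTensor_preserves_injective_linearMap (M := N)
        S.f.hom ((ModuleCat.mono_iff_injective _).1 hm))
      epi_g := (ModuleCat.epi_iff_surjective _).2 (LinearMap.rTensor_surjective N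
        ((ModuleCat.epi_iff_surjective _).1 he)) }

lemma moduleFlat_of_flat (N : ModuleCat.{u} R) (h : KFlat.Flat (T R) N) : Module.Flat R N := by
  refine Module.Flat.iff_rTensor_preserves_injective_linearMap.2 fun M M' _ _ _ _ g hg => ?_
  let S : ShortComplex (ModuleCat.{u} R) := ShortComplex.mk (ModuleCat.ofHom g)
    (ModuleCat.ofHom (LinearMap.range g).mkQ) (ModuleCat.hom_ext (LinearMap.range_mkQ_comp g))
  have hS : S.ShortExact :=
    { exact := (ShortComplex.ShortExact.moduleCat_exact_iff_function_exact _).2 (LinearMap.exact_map_mkQ_range g)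
      mono_f := (ModuleCat.mono_iff_injective _).2 hg
      epi_g := (ModuleCat.epi_iff_surjective _).2 (Submodule.mkQ_surjective _) }
  exact (ModuleCat.mono_iff_injective _).1 (h S hS).mono_f

/-- The braiding, as an isomorphism of bicomplexes. -/
noncomputable def biFlipIso (K M : DRing.Cx R) :
    ((KFlat.Bi (T R).flip).obj K).obj M ≅ ((KFlat.Bi (T R)).obj K).obj M :=
  HomologicalComplex.Hom.isoOfComponents
    (fun p => HomologicalComplex.Hom.isoOfComponents (fun q => β_ (M.X q) (K.X p))
      fun q q' _ => (BraidedCategory.braiding_naturality_left (M.d q q') (K.X p)).symm)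
    fun p p' _ => by
      ext q : 1
      exact (BraidedCategory.braiding_naturality_right (M.X q) (K.d p p')).symm

/-- A K-flat complex is K-flat for the flipped bifunctor. -/
lemma isKFlat_flip {P : DRing.Cx R} (h : KFlat.IsKFlat (T R) P) : KFlat.IsKFlat (T R).flip P :=
  fun L hL i => (h L hL i).of_iso
    ((HomologicalComplex₂.totalFunctor (ModuleCat.{u} R) up up up).mapIso (biFlipIso L P)).symm

lemma acyclic_tot_left {P : DRing.Cx R} (h : KFlat.IsKFlat (T R) P) {M : DRing.Cx R} (hM : M.Acyclic) :
    (KFlat.tot (T R) P M).Acyclic :=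
  (KFlat.isKFlat_flip_iff (T R) P).1 (isKFlat_flip h) M hM

/-- Bounded above complexes of flat modules are K-flat. -/
theorem isKFlatCx_of_flat (P : DRing.Cx R) {b : ℤ} (hb : DRing.VanishesAbove P b) (hP : DRing.TermwiseFlat P) :
    IsKFlatCx R P :=
  isKFlatCx_iff.2 (KFlat.isKFlat_of_flat (T R) P b hb fun q => haveI := hP q; flat_of_moduleFlat _)

/-- `M ⊗ K` is `K ⊗ M`. -/
noncomputable def leftTensorIso (M : ModuleCat.{u} R) (K : DRing.Cx R) :
    (((T R).obj M).mapHomologicalComplex up).obj K ≅ DRing.tensorCx K M :=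
  (NatIso.mapHomologicalComplex (BraidedCategory.tensorLeftIsoTensorRight M) up).app K

/-- A complex which is acyclic after tensoring with every module is K-flat. -/
theorem isKFlatCx_of_forall (K : DRing.Cx R)
    (h : ∀ (M : ModuleCat.{u} R) (i : ℤ), IsZero ((DRing.tensorCx K M).homology i)) : IsKFlatCx R K :=
  fun L _ i => (KFlat.acyclic_tot_of_forall (T R) K
    (fun Y j => (exactAt_iff_isZero_homology _ j).2
      ((h Y j).of_iso ((homologyFunctor _ _ j).mapIso (leftTensorIso Y K)))) L i).isZero_homology

section Cover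

open Classical in
/-- The reduced free module. -/
noncomputable def freeMap {M N : ModuleCat.{u} R} (f : M ⟶ N) :
    ({m : M // m ≠ 0} →₀ R) →ₗ[R] ({n : N // n ≠ 0} →₀ R) :=
  Finsupp.linearCombination R fun m => if h : f m.1 = 0 then 0 else Finsupp.single ⟨f m.1, h⟩ 1

lemma freeMap_single {M N : ModuleCat.{u} R} (f : M ⟶ N) (m : {m : M // m ≠ 0}) :
    (f m.1 = 0 → freeMap f (Finsupp.single m 1) = 0) ∧
      ∀ h : f m.1 ≠ 0, freeMap f (Finsupp.single m 1) = Finsupp.single ⟨f m.1, h⟩ 1 := by
  constructor <;> intro h <;> simp [freeMap, h]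

/-- The functor of reduced free modules. -/
noncomputable def freeFunctor : ModuleCat.{u} R ⥤ ModuleCat.{u} R where
  obj M := ModuleCat.of R ({m : M // m ≠ 0} →₀ R)
  map f := ModuleCat.ofHom (freeMap f)
  map_id M := ModuleCat.hom_ext (Finsupp.lhom_ext' fun m => LinearMap.ext_ring (by
    simpa using (freeMap_single (𝟙 M) m).2 m.2))
  map_comp {X Y Z} f g := ModuleCat.hom_ext (Finsupp.lhom_ext' fun m => LinearMap.ext_ring (by
    simp only [LinearMap.comp_apply, ModuleCat.hom_comp, Finsupp.lsingle_apply, ModuleCat.hom_ofHom]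
    by_cases h : f m.1 = 0
    · rw [(freeMap_single f m).1 h, (freeMap_single (f ≫ g) m).1 (by simp [h]), map_zero]
    · rw [(freeMap_single f m).2 h]
      by_cases h' : g (f m.1) = 0
      · rw [(freeMap_single g ⟨f m.1, h⟩).1 h', (freeMap_single (f ≫ g) m).1 h']
      · rw [(freeMap_single g ⟨f m.1, h⟩).2 h', (freeMap_single (f ≫ g) m).2 h']
        rfl))

/-- The cover of modules by free modules. -/
noncomputable def cover : KFlat.Cover (ModuleCat.{u} R) where
  P := freeFunctor
  π :=
    { app := fun M => ModuleCat.ofHom (Finsupp.linearCombination R (Subtype.val : {m : M // m ≠ 0} → M))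
      naturality := fun {M N} f => ModuleCat.hom_ext (Finsupp.lhom_ext' fun m => LinearMap.ext_ring (by
        show Finsupp.linearCombination R (Subtype.val : {n : N // n ≠ 0} → N) (freeMap f (Finsupp.single m 1)) =
          f (Finsupp.linearCombination R (Subtype.val : {m : M // m ≠ 0} → M) (Finsupp.single m 1))
        rw [Finsupp.linearCombination_single, one_smul]
        by_cases h : f m.1 = 0
        · rw [(freeMap_single f m).1 h, map_zero, h]
        · rw [(freeMap_single f m).2 h, Finsupp.linearCombination_single, one_smul])) }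
  epi M := (ModuleCat.epi_iff_surjective _).2 fun x => by
    by_cases hx : x = 0
    · exact ⟨0, by simp [hx]⟩
    · exact ⟨Finsupp.single ⟨x, hx⟩ 1, (Finsupp.linearCombination_single R _ _).trans (one_smul R x)⟩
  preservesZero := ⟨fun M N => ModuleCat.hom_ext (Finsupp.lhom_ext' fun m => LinearMap.ext_ring (
    (freeMap_single (0 : M ⟶ N) m).1 rfl))⟩

lemma flat_colimit_shape {J : Type} [Category J] [HasColimitsOfShape J (ModuleCat.{u} R)]
    [HasExactColimitsOfShape J (ModuleCat.{u} R)] [∀ X, PreservesColimitsOfShape J ((T R).obj X)]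
    (G : J ⥤ ModuleCat.{u} R) (h : ∀ n, KFlat.Flat (T R) (G.obj n)) :
    KFlat.Flat (T R) (colimit G) := fun S hS => by
  let S' : ShortComplex (J ⥤ ModuleCat.{u} R) :=
    (S.map (T R)).map ((Functor.whiskeringLeft J _ (ModuleCat.{u} R)).obj G)
  have hS' : (S'.map colim).ShortExact :=
    (KFlat.shortExact_of_app S' fun n => h n S hS).map_of_exact colim
  have key : ∀ {A B : ModuleCat.{u} R} (f : A ⟶ B), (preservesColimitIso ((T R).obj A) G).inv ≫ ((T R).map f).app (colimit G) =
      colimMap (Functor.whiskerLeft G ((T R).map f)) ≫ (preservesColimitIso ((T R).obj B) G).inv := fun {A B} f =>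
    colimit.hom_ext fun n => by
      erw [ι_preservesColimitIso_inv_assoc, ι_colimMap_assoc, ι_preservesColimitIso_inv]
      exact ((T R).map f).naturality _
  exact ShortComplex.shortExact_of_iso (ShortComplex.isoMk (preservesColimitIso ((T R).obj S.X₁) G).symm
    (preservesColimitIso ((T R).obj S.X₂) G).symm (preservesColimitIso ((T R).obj S.X₃) G).symm (key S.f) (key S.g)) hS'

lemma flat_colimit (G : ℕ ⥤ ModuleCat.{u} R) (h : ∀ n, KFlat.Flat (T R) (G.obj n)) :
    KFlat.Flat (T R) (colimit G) := flat_colimit_shape G h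

lemma flat_sigma (ι : Type) (N : ι → ModuleCat.{u} R) (h : ∀ i, KFlat.Flat (T R) (N i)) :
    KFlat.Flat (T R) (∐ N) := flat_colimit_shape (Discrete.functor N) fun n => h n.as

variable (R) in
/-- The K-flat resolution functor. -/
noncomputable abbrev resFunctor : DRing.Cx R ⥤ DRing.Cx R := (cover (R := R)).resol

variable (R) in
/-- Its augmentation. -/
noncomputable abbrev resAug : resFunctor R ⟶ 𝟭 (DRing.Cx R) := (cover (R := R)).resolAug

lemma resAug_quasiIso (M : DRing.Cx R) : QuasiIso ((resAug R).app M) := (cover.resolAug_spec M).1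

lemma resAug_epi (M : DRing.Cx R) : Epi ((resAug R).app M) := (cover.resolAug_spec M).2

lemma flat_freeFunctor (Y : ModuleCat.{u} R) : KFlat.Flat (T R) ((freeFunctor (R := R)).obj Y) :=
  haveI : Module.Flat R ((freeFunctor (R := R)).obj Y) :=
    inferInstanceAs (Module.Flat R ({m : Y // m ≠ 0} →₀ R))
  flat_of_moduleFlat _

lemma res_isKFlat (M : DRing.Cx R) : IsKFlatCx R ((resFunctor R).obj M) :=
  isKFlatCx_iff.2 ((cover (R := R)).isKFlat_resol (T R) (KFlat.Flat (T R)) (fun _ h => h) flat_freeFunctor
    (fun _ h => KFlat.flat_of_isZero (T R) h) (fun e h => h.of_iso e) flat_sigma M)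

lemma res_flat (M : DRing.Cx R) : DRing.TermwiseFlat ((resFunctor R).obj M) := fun q =>
  moduleFlat_of_flat _ ((cover (R := R)).resol_X_prop (KFlat.Flat (T R)) flat_freeFunctor
    (fun _ h => KFlat.flat_of_isZero (T R) h) (fun e h => h.of_iso e) flat_sigma flat_colimit M q)

end Cover

end Groth.DAlg.KFlatMod
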