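import Groth.Prelude.Def_DRing4
import Groth.Agent.DerivedCoh.KInj.Products
import Mathlib.CategoryTheory.Functor.Derived.PointwiseRightDerived
import Mathlib.Algebra.Category.ModuleCat.AB

/-!
Right derived functors of homotopy invariant functors on complexes of modules, and `RHom_A(K, -)`.
-/

universe u

open CategoryTheory CategoryTheory.Limits CochainComplex CochainComplex.HomComplex
open Groth.DerivedCoh

attribute [local instance] HasDerivedCategory.standard

namespace Groth.DAlg.RHomCx

variable {A : Type u} [CommRing A]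

/-- Quasi-isomorphisms. -/
abbrev qi (A : Type u) [CommRing A] : MorphismProperty (DRing.Cx A) :=
  HomologicalComplex.quasiIso (ModuleCat.{u} A) (ComplexShape.up ℤ)

section Derived

variable {H : Type*} [Category* H] (F : DRing.Cx A ⥤ H)
  (hF : ∀ {K L : DRing.Cx A} (f g : K ⟶ L), Homotopy f g → F.map f = F.map g)

include hF in
lemma map_eq {K L : DRing.Cx A} [L.IsKInjective] (f g : K ⟶ L)
    (h : DerivedCategory.Q.map f = DerivedCategory.Q.map g) : F.map f = F.map g :=
  hF f g ((KInjRes.Q_map_eq_iff K L f g).1 h).some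

/-- A morphism inducing `j.hom`. -/
noncomputable def lift (L : DRing.Cx A) [L.IsKInjective]
    (j : CostructuredArrow DerivedCategory.Q (DerivedCategory.Q.obj L)) : j.left ⟶ L :=
  (KInjRes.Q_map_surjective j.left L j.hom).choose

lemma Q_map_lift (L : DRing.Cx A) [L.IsKInjective]
    (j : CostructuredArrow DerivedCategory.Q (DerivedCategory.Q.obj L)) :
    DerivedCategory.Q.map (lift L j) = j.hom :=
  (KInjRes.Q_map_surjective j.left L j.hom).choose_spec

/-- The cocone with point `F L`. -/
noncomputable def cocone (L : DRing.Cx A) [L.IsKInjective] :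
    Cocone (CostructuredArrow.proj DerivedCategory.Q (DerivedCategory.Q.obj L) ⋙ F) where
  pt := F.obj L
  ι :=
    { app := fun j => F.map (lift L j)
      naturality := fun j k φ => by
        change F.map φ.left ≫ F.map (lift L k) = F.map (lift L j) ≫ 𝟙 _
        rw [Category.comp_id, ← F.map_comp]
        refine map_eq F hF _ _ ?_
        rw [Functor.map_comp, Q_map_lift, Q_map_lift]
        exact CostructuredArrow.w φ }

/-- It is a colimit cocone. -/
noncomputable def isColimitCocone (L : DRing.Cx A) [L.IsKInjective] : IsColimit (cocone F hF L) where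
  desc s := s.ι.app (CostructuredArrow.mk (𝟙 (DerivedCategory.Q.obj L)))
  fac s j := s.w (CostructuredArrow.homMk (lift L j)
    ((Category.comp_id _).trans (Q_map_lift L j)) : j ⟶ CostructuredArrow.mk (𝟙 (DerivedCategory.Q.obj L)))
  uniq s m hm := by
    refine Eq.trans ?_ (hm (CostructuredArrow.mk (𝟙 (DerivedCategory.Q.obj L))))
    refine (Category.id_comp m).symm.trans (congrArg (· ≫ m) ?_)
    refine (F.map_id L).symm.trans (map_eq F hF _ _ ?_)
    rw [Q_map_lift, CategoryTheory.Functor.map_id]
    rfl

include hF in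
theorem hasPointwiseRightDerivedFunctor : F.HasPointwiseRightDerivedFunctor (qi A) := fun X => by
  obtain ⟨L, hL, ⟨e⟩⟩ := KInjRes.exists_kInjective_iso (DerivedCategory.Q.obj X)
  rw [F.hasPointwiseRightDerivedFunctorAt_iff DerivedCategory.Q (qi A),
    ← Functor.hasPointwiseLeftKanExtensionAt_iff_of_iso DerivedCategory.Q F e]
  exact HasColimit.mk ⟨_, isColimitCocone F hF L⟩

include hF in
/-- The unit of a right derived functor is invertible on K-injective complexes. -/
theorem isIso_unit (RF : Dual.D A ⥤ H) (α : F ⟶ DerivedCategory.Q ⋙ RF) [RF.IsRightDerivedFunctor α (qi A)]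
    (L : DRing.Cx A) [L.IsKInjective] : IsIso (α.app L) := by
  have := hasPointwiseRightDerivedFunctor F hF
  have hc := Functor.isPointwiseLeftKanExtensionOfHasPointwiseRightDerivedFunctor
    (α := α) (F' := RF) (qi A) (DerivedCategory.Q.obj L)
  let e := (isColimitCocone F hF L).coconePointUniqueUpToIso hc
  have h : (cocone F hF L).ι.app (CostructuredArrow.mk (𝟙 _)) ≫ e.hom = _ :=
    IsColimit.comp_coconePointUniqueUpToIso_hom _ hc (CostructuredArrow.mk (𝟙 (DerivedCategory.Q.obj L)))
  have hid : (cocone F hF L).ι.app (CostructuredArrow.mk (𝟙 (DerivedCategory.Q.obj L))) = 𝟙 (F.obj L) := by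
    refine (map_eq F hF _ _ ?_).trans (F.map_id L)
    exact (Q_map_lift L _).trans (DerivedCategory.Q.map_id L).symm
  rw [hid] at h
  change 𝟙 (F.obj L) ≫ e.hom = α.app L ≫ RF.map (𝟙 (DerivedCategory.Q.obj L)) at h
  erw [CategoryTheory.Functor.map_id, Category.comp_id, Category.id_comp] at h
  rw [← h]
  exact e.isIso_hom

end Derived

section Hom

variable (K : DRing.Cx A)

/-- Postcomposition with a degree `-1` cochain. -/
noncomputable def postLin {L L' : DRing.Cx A} (γ : Cochain L L' (-1)) (i j : ℤ) :
    Cochain K L i →ₗ[A] Cochain K L' j :=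
  if h : i + (-1) = j then
    { toFun := fun z => z.comp γ h
      map_add' := fun z z' => Cochain.add_comp z z' γ h
      map_smul' := fun a z => Cochain.smul_comp a z γ h }
  else 0

/-- The components of the homotopy. -/
noncomputable def homCxH {L L' : DRing.Cx A} (γ : Cochain L L' (-1)) (i j : ℤ) :
    (DRing.homCx K L).X i ⟶ (DRing.homCx K L').X j :=
  ModuleCat.ofHom (postLin K γ i j)

/-- `Hom•(K, -)` maps homotopic maps to homotopic maps. -/
noncomputable def homCxHomotopy {L L' : DRing.Cx A} {f g : L ⟶ L'} (h : Homotopy f g) :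
    Homotopy (DRing.homCxMap K f) (DRing.homCxMap K g) where
  hom := homCxH K (Cochain.ofHomotopy h)
  zero i j hij := by
    refine ModuleCat.hom_ext ?_
    change postLin K (Cochain.ofHomotopy h) i j = 0
    rw [postLin, dif_neg (fun hh => hij (by simp only [ComplexShape.up_Rel]; omega))]
  comm i := by
    rw [dNext_eq _ (show (ComplexShape.up ℤ).Rel i (i + 1) from rfl),
      prevD_eq _ (show (ComplexShape.up ℤ).Rel (i - 1) i by simp)]
    refine ModuleCat.hom_ext (LinearMap.ext fun (z : Cochain K L i) => ?_)
    change z.comp (Cochain.ofHom f) (add_zero i) =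
      postLin K (Cochain.ofHomotopy h) (i + 1) i (δ i (i + 1) z) +
        δ (i - 1) i (postLin K (Cochain.ofHomotopy h) i (i - 1) z) + z.comp (Cochain.ofHom g) (add_zero i)
    simp only [postLin, dif_pos (show i + 1 + -1 = i by omega), dif_pos (show i + -1 = i - 1 by omega),
      LinearMap.coe_mk, AddHom.coe_mk]
    rw [δ_comp z (Cochain.ofHomotopy h) (show i + -1 = i - 1 by omega) (i + 1) 0 i (by omega) rfl (by omega),
      δ_ofHomotopy, Cochain.comp_sub]
    simp only [Int.negOnePow_neg, Int.negOnePow_one, Units.neg_smul, one_smul]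
    abel

/-- `Hom•(K, -)` followed by localisation is homotopy invariant. -/
theorem homCxQ_homotopy {L L' : DRing.Cx A} (f g : L ⟶ L') (h : Homotopy f g) :
    (DRing.homCxQ K).map f = (DRing.homCxQ K).map g :=
  DerivedCategory.Q_map_eq_of_homotopy (C := ModuleCat.{u} A) (h := homCxHomotopy K h)

instance hasRHomCx : DRing.HasRHomCx K :=
  have := hasPointwiseRightDerivedFunctor (DRing.homCxQ K) (fun f g => homCxQ_homotopy K f g)
  Functor.hasRightDerivedFunctor_of_hasPointwiseRightDerivedFunctor _ _

/-- The unit of `RHom_A(K, -)`. -/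
noncomputable abbrev unit [DRing.HasRHomCx K] :
    DRing.homCxQ K ⟶ DerivedCategory.Q ⋙ DRing.RHomCx K :=
  (DRing.homCxQ K).totalRightDerivedUnit DerivedCategory.Q (qi A)

theorem isIso_unit_app [DRing.HasRHomCx K] (L : DRing.Cx A) [L.IsKInjective] : IsIso ((unit K).app L) :=
  isIso_unit (DRing.homCxQ K) (fun f g => homCxQ_homotopy K f g) _ _ L

/-- `RHom_A(K, L)` for K-injective `L`. -/
noncomputable def objIso [DRing.HasRHomCx K] (L : DRing.Cx A) [L.IsKInjective] :
    DRing.toD (DRing.homCx K L) ≅ (DRing.RHomCx K).obj (DRing.toD L) :=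
  @asIso _ _ _ _ ((unit K).app L) (isIso_unit_app K L)

theorem objIso_naturality [DRing.HasRHomCx K] {L L' : DRing.Cx A} [L.IsKInjective] [L'.IsKInjective]
    (f : L ⟶ L') :
    DerivedCategory.Q.map ((DRing.homCxFunctor K).map f) ≫ (objIso K L').hom =
      (objIso K L).hom ≫ (DRing.RHomCx K).map (DerivedCategory.Q.map f) :=
  (unit K).naturality f

end Hom

end Groth.DAlg.RHomCx
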