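import Groth.Agent.DAlg.TwoTerm
import Mathlib.Algebra.Homology.DerivedCategory.HomologySequence

/-!
Two-term representatives of objects of `D(R)` with cohomology in degrees `-1, 0`, and their `Ext¹`.
-/

universe u

open CategoryTheory CategoryTheory.Limits HomologicalComplex

attribute [local instance] HasDerivedCategory.standard

namespace Groth.DAlg

variable {R : Type u} [CommRing R]

/-- Cohomology of a complex, computed in the derived category. -/
noncomputable def HDEquiv (E : DRing.Cx R) (n : ℤ) : Dual.HD R (DRing.toD E) n ≃ₗ[R] E.homology n :=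
  ((DerivedCategory.homologyFunctorFactors (ModuleCat.{u} R) n).app E).toLinearEquiv

/-- Cohomology is invariant under isomorphism. -/
noncomputable def HDCongr {K L : Dual.D R} (e : K ≅ L) (n : ℤ) : Dual.HD R K n ≃ₗ[R] Dual.HD R L n :=
  ((DerivedCategory.homologyFunctor (ModuleCat.{u} R) n).mapIso e).toLinearEquiv

lemma isGE_of_subsingleton {K : Dual.D R} {n : ℤ} (h : ∀ i < n, Subsingleton (Dual.HD R K i)) : K.IsGE n :=
  (DerivedCategory.isGE_iff K n).2 fun i hi => ModuleCat.isZero_iff_subsingleton.2 (h i hi)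

lemma isLE_of_subsingleton {K : Dual.D R} {n : ℤ} (h : ∀ i, n < i → Subsingleton (Dual.HD R K i)) : K.IsLE n :=
  (DerivedCategory.isLE_iff K n).2 fun i hi => ModuleCat.isZero_iff_subsingleton.2 (h i hi)

lemma exists_rep {K : Dual.D R} {a b : ℤ} (h : ∀ i, i < a ∨ b < i → Subsingleton (Dual.HD R K i)) :
    ∃ E : DRing.Cx R, DRing.VanishesOutside E a b ∧ Nonempty (DRing.toD E ≅ K) := by
  have := isGE_of_subsingleton (K := K) (n := a) fun i hi => h i (Or.inl hi)
  have := isLE_of_subsingleton (K := K) (n := b) fun i hi => h i (Or.inr hi)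
  obtain ⟨E, _, _, ⟨e⟩⟩ := K.exists_iso_Q_obj_of_isGE_of_isLE a b
  exact ⟨E, fun i hi => hi.elim (fun hi => E.isZero_of_isStrictlyGE a i hi)
    (fun hi => E.isZero_of_isStrictlyLE b i hi), ⟨e.symm⟩⟩

section Two

variable {E : DRing.Cx R} (hE : DRing.VanishesOutside E (-1) 0)
include hE

lemma two_above (i : ℤ) (hi : 0 < i) : IsZero (E.X i) := hE i (Or.inr hi)

lemma two_below (i : ℤ) (hi : i ≤ -2) : IsZero (E.X i) := hE i (Or.inl (by omega))

lemma two_cycle (x : E.X 0) : E.d 0 1 x = 0 := by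
  have := ModuleCat.subsingleton_of_isZero (two_above hE 1 one_pos)
  exact Subsingleton.elim _ _

/-- `H⁰` of a two-term complex. -/
lemma nonempty_homology_zero_equiv :
    Nonempty (E.homology 0 ≃ₗ[R] (E.X 0 ⧸ LinearMap.range (E.d (-1) 0).hom)) := by
  have hk : LinearMap.ker (E.d 0 1).hom = ⊤ := eq_top_iff.2 fun x _ => two_cycle hE x
  let e := LinearEquiv.ofTop _ hk
  refine ⟨(FlatCxBase.homologyEquivQuot E (i := -1) (k := 1)
    ((ComplexShape.up ℤ).prev_eq' (by simp)) ((ComplexShape.up ℤ).next_eq' (by simp))).symm.trans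
      (Submodule.Quotient.equiv _ _ e ?_)⟩
  ext x
  simp [e, hk]

/-- `H⁻¹` of a two-term complex. -/
lemma nonempty_homology_neg_one_equiv :
    Nonempty (E.homology (-1) ≃ₗ[R] LinearMap.ker (E.d (-1) 0).hom) := by
  refine ⟨(FlatCxBase.homologyEquivQuot E (i := -2) (k := 0)
    ((ComplexShape.up ℤ).prev_eq' (by simp)) ((ComplexShape.up ℤ).next_eq' (by simp))).symm.trans
      (Submodule.quotEquivOfEqBot _ ?_)⟩
  rw [show (E.d (-2) (-1)) = 0 from (two_below hE (-2) le_rfl).eq_of_src _ _, ModuleCat.hom_zero,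
    LinearMap.range_zero]
  exact LinearMap.ker_eq_bot.2 (Submodule.injective_subtype _)

lemma subsingleton_HD_of_two (i : ℤ) (h1 : i ≠ -1) (h0 : i ≠ 0) :
    Subsingleton (Dual.HD R (DRing.toD E) i) :=
  have : Subsingleton (E.homology i) := ModuleCat.subsingleton_of_isZero
    (ShortComplex.isZero_homology_of_isZero_X₂ (E.sc i) (hE i (by omega)))
  (HDEquiv E i).toEquiv.subsingleton

/-- Replace the degree zero term along a map which is surjective onto `H⁰`. -/
lemma exists_pullback (F : ModuleCat.{u} R) (g : F ⟶ E.X 0)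
    (hg : ∀ y : E.X 0, ∃ x w, g x + E.d (-1) 0 w = y) :
    ∃ E' : DRing.Cx R, DRing.VanishesOutside E' (-1) 0 ∧ Nonempty (E'.X 0 ≅ F) ∧
      Nonempty (E'.X (-1) ≅
        ModuleCat.of R (LinearMap.ker ((E.d (-1) 0).hom.coprod (-g.hom) : E.X (-1) × F →ₗ[R] E.X 0))) ∧
      ∃ q : E' ⟶ E, QuasiIso q := by
  let L : E.X (-1) × F →ₗ[R] E.X 0 := (E.d (-1) 0).hom.coprod (-g.hom)
  have hP : ∀ p : LinearMap.ker L, E.d (-1) 0 p.1.1 = g p.1.2 := fun p => by
    have := LinearMap.mem_ker.1 p.2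
    rwa [LinearMap.coprod_apply, LinearMap.neg_apply, ← sub_eq_add_neg, sub_eq_zero] at this
  let f : ModuleCat.of R (LinearMap.ker L) ⟶ F :=
    ModuleCat.ofHom (LinearMap.snd R _ _ ∘ₗ (LinearMap.ker L).subtype)
  have hrel : (ComplexShape.up ℤ).Rel (-1) 0 := by simp
  let E' : DRing.Cx R := double f hrel
  let e₀ := doubleXIso₀ f hrel
  let e₁ := doubleXIso₁ f hrel (by omega)
  let q : E' ⟶ E := mkHomFromDouble hrel (by omega)
    (ModuleCat.ofHom (LinearMap.fst R _ _ ∘ₗ (LinearMap.ker L).subtype) :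
      ModuleCat.of R (LinearMap.ker L) ⟶ E.X (-1)) g
    (ModuleCat.hom_ext (LinearMap.ext hP)) (fun k hk => (two_above hE k (by
      change (0 : ℤ) + 1 = k at hk; omega)).eq_of_tgt _ _)
  have hE' : DRing.VanishesOutside E' (-1) 0 := fun i hi =>
    isZero_double_X f hrel i (by omega) (by omega)
  refine ⟨E', hE', ⟨e₁⟩, ⟨e₀⟩, q, ⟨fun i => ?_⟩⟩
  have hd : ∀ x, E'.d (-1) 0 x = e₁.inv (e₀.hom x).1.2 :=
    ConcreteCategory.congr_hom (double_d f hrel (by omega))
  have hq₀ : ∀ x, q.f (-1) x = (e₀.hom x).1.1 :=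
    ConcreteCategory.congr_hom (mkHomFromDouble_f₀ hrel (by omega) _ g _ _)
  have hq₁ : ∀ x, q.f 0 x = g (e₁.hom x) :=
    ConcreteCategory.congr_hom (mkHomFromDouble_f₁ hrel (by omega) _ g _ _)
  rw [quasiIsoAt_iff_isIso_homologyMap, ConcreteCategory.isIso_iff_bijective]
  by_cases h : i = -1 ∨ i = 0
  · rcases h with rfl | rfl
    · have hi := (ComplexShape.up ℤ).prev_eq' (show (ComplexShape.up ℤ).Rel (-2) (-1) by simp)
      have hk := (ComplexShape.up ℤ).next_eq' hrel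
      refine ⟨(FlatCxBase.homologyMap_injective_iff q hi hk).2 fun x hx ⟨y, hy⟩ => ⟨0, ?_⟩,
        (FlatCxBase.homologyMap_surjective_iff q hi hk).2 fun y hy => ?_⟩
      · have := ModuleCat.subsingleton_of_isZero (two_below hE (-2) le_rfl)
        rw [Subsingleton.elim y 0, map_zero, hq₀] at hy
        rw [hd] at hx
        have : e₀.hom x = 0 := Subtype.ext (Prod.ext hy.symm
          (e₁.toLinearEquiv.symm.injective (hx.trans (map_zero e₁.inv.hom).symm)))
        rw [map_zero]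
        exact e₀.toLinearEquiv.injective ((map_zero _).trans this.symm)
      · have hy0 : (y, (0 : F)) ∈ LinearMap.ker L := by simp [L, hy]
        refine ⟨e₀.inv ⟨(y, 0), hy0⟩, 0, ?_, ?_⟩
        · rw [hd, Iso.inv_hom_id_apply, map_zero]
        · rw [hq₀, Iso.inv_hom_id_apply, map_zero, add_zero]
    · have hi := (ComplexShape.up ℤ).prev_eq' hrel
      have hk := (ComplexShape.up ℤ).next_eq' (show (ComplexShape.up ℤ).Rel 0 1 by simp)
      refine ⟨(FlatCxBase.homologyMap_injective_iff q hi hk).2 fun x _ ⟨y, hy⟩ => ?_,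
        (FlatCxBase.homologyMap_surjective_iff q hi hk).2 fun y _ => ?_⟩
      · refine ⟨e₀.inv ⟨(y, e₁.hom x), ?_⟩, ?_⟩
        · rw [hq₁] at hy
          simp [L, hy]
        · rw [hd, Iso.inv_hom_id_apply]
          exact Iso.hom_inv_id_apply e₁ x
      · obtain ⟨x, w, hxw⟩ := hg y
        exact ⟨e₁.inv x, w, two_cycle hE' _, by rw [hq₁, Iso.inv_hom_id_apply, hxw]⟩
  · have h1 : Subsingleton (E'.homology i) := ModuleCat.subsingleton_of_isZero
      (ShortComplex.isZero_homology_of_isZero_X₂ (E'.sc i) (hE' i (by omega)))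
    have h2 : Subsingleton (E.homology i) := ModuleCat.subsingleton_of_isZero
      (ShortComplex.isZero_homology_of_isZero_X₂ (E.sc i) (hE i (by omega)))
    exact ⟨Function.injective_of_subsingleton (α := E'.homology i) _, fun y => ⟨0, h2.elim _ _⟩⟩

end Two

theorem exists_rep_free (K : Dual.D R) (hK : ∀ i : ℤ, i ≠ -1 → i ≠ 0 → Subsingleton (Dual.HD R K i)) :
    ∃ E : DRing.Cx R, DRing.VanishesOutside E (-1) 0 ∧ Module.Free R (E.X 0) ∧
      Nonempty (DRing.toD E ≅ K) := by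
  obtain ⟨E, hE, ⟨e⟩⟩ := exists_rep (K := K) (a := -1) (b := 0) fun i hi => hK i (by omega) (by omega)
  obtain ⟨E', hE', ⟨e₀⟩, -, q, hq⟩ := exists_pullback hE (ModuleCat.of R (E.X 0 →₀ R))
    (ModuleCat.ofHom (Finsupp.linearCombination R id)) fun y => ⟨Finsupp.single y 1, 0, by simp⟩
  exact ⟨E', hE', Module.Free.of_equiv e₀.toLinearEquiv.symm, ⟨asIso (DerivedCategory.Q.map q) ≪≫ e⟩⟩

theorem exists_rep_projective (K : Dual.D R) (hK : ∀ i : ℤ, i ≠ -1 → i ≠ 0 → Subsingleton (Dual.HD R K i)) :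
    ∃ E : DRing.Cx R, DRing.VanishesOutside E (-1) 0 ∧ Module.Projective R (E.X 0) ∧
      Nonempty (DRing.toD E ≅ K) :=
  have ⟨E, hE, hF, he⟩ := exists_rep_free K hK
  ⟨E, hE, haveI := hF; inferInstance, he⟩

section Ext

/-- The complex `N[1]`. -/
noncomputable abbrev shiftOne (N : Type u) [AddCommGroup N] [Module R N] : DRing.Cx R :=
  (single (ModuleCat.{u} R) (ComplexShape.up ℤ) (-1)).obj (ModuleCat.of R N)

/-- `N[0][1]` as the class of a complex. -/
noncomputable def shiftOneIso (N : Type u) [AddCommGroup N] [Module R N] :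
    (Dual.inD R N)⟦(1 : ℤ)⟧ ≅ DRing.toD (shiftOne (R := R) N) :=
  ((DerivedCategory.singleFunctors (ModuleCat.{u} R)).shiftIso 1 (-1) 0 (by simp)).app (ModuleCat.of R N) ≪≫
    (DerivedCategory.singleFunctorIsoCompQ (ModuleCat.{u} R) (-1)).app (ModuleCat.of R N)

variable {N : Type u} [AddCommGroup N] [Module R N] {E : DRing.Cx R}

/-- The class in `Ext¹(E, N)` of a map `u : E⁻¹ → N` killing the boundaries. -/
noncomputable def extCl (u : E.X (-1) ⟶ ModuleCat.of R N) (hu : E.d (-2) (-1) ≫ u = 0) :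
    DRing.toD E ⟶ (Dual.inD R N)⟦(1 : ℤ)⟧ :=
  DerivedCategory.Q.map (mkHomToSingle u fun i hi => by
    obtain rfl : i = -2 := by change i + 1 = -1 at hi; omega
    exact hu) ≫ (shiftOneIso N).inv

lemma isZero_shiftOne {i : ℤ} (hi : i ≠ -1) : IsZero ((shiftOne (R := R) N).X i) :=
  isZero_single_obj_X _ _ _ _ hi

lemma comp_extCl {E' : DRing.Cx R} (a : E' ⟶ E) (u : E.X (-1) ⟶ ModuleCat.of R N)
    (hu : E.d (-2) (-1) ≫ u = 0) :
    DerivedCategory.Q.map a ≫ extCl u hu =
      extCl (a.f (-1) ≫ u) (by rw [← Hom.comm_assoc, hu, comp_zero]) := by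
  rw [extCl, extCl, ← Category.assoc, ← Functor.map_comp]
  congr 2
  apply to_single_hom_ext
  simp

lemma smul_extCl (r : R) (u : E.X (-1) ⟶ ModuleCat.of R N) (hu : E.d (-2) (-1) ≫ u = 0) :
    r • extCl u hu = extCl (r • u) (by rw [Linear.comp_smul, hu, smul_zero]) := by
  rw [extCl, extCl, ← Linear.smul_comp, ← Functor.map_smul]
  congr 2
  apply to_single_hom_ext
  simp

variable (hM : ∀ i : ℤ, 0 < i → IsZero (E.X i)) (hM0 : Module.Projective R (E.X 0))
include hM hM0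

lemma exists_extCl (ξ : DRing.toD E ⟶ (Dual.inD R N)⟦(1 : ℤ)⟧) :
    ∃ (u : E.X (-1) ⟶ ModuleCat.of R N) (hu : E.d (-2) (-1) ≫ u = 0), ξ = extCl u hu := by
  obtain ⟨φ, hφ⟩ := exists_Q_map_eq hM hM0 (fun i hi => isZero_shiftOne (N := N) (by omega))
    (ξ ≫ (shiftOneIso N).hom)
  refine ⟨φ.f (-1) ≫ (singleObjXSelf (ComplexShape.up ℤ) (-1) (ModuleCat.of R N)).hom, ?_, ?_⟩
  · rw [← Hom.comm_assoc, (isZero_shiftOne (R := R) (N := N) (by omega : (-2 : ℤ) ≠ -1)).eq_of_tgt (φ.f (-2)) 0,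
      zero_comp]
  · rw [extCl, ← cancel_mono (shiftOneIso N).hom, Category.assoc, Iso.inv_hom_id, Category.comp_id, ← hφ]
    congr 1
    apply to_single_hom_ext
    simp

lemma extCl_eq_zero_iff (u : E.X (-1) ⟶ ModuleCat.of R N) (hu : E.d (-2) (-1) ≫ u = 0) :
    extCl u hu = 0 ↔ ∃ h : E.X 0 ⟶ ModuleCat.of R N, E.d (-1) 0 ≫ h = u := by
  let σ := singleObjXSelf (ComplexShape.up ℤ) (-1) (ModuleCat.of R N)
  rw [extCl, Preadditive.IsIso.comp_right_eq_zero,
    Q_map_eq_zero_iff hM hM0 (fun i hi => isZero_shiftOne (N := N) (by omega))]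
  rw [mkHomToSingle_f]
  constructor
  · rintro ⟨h, h1, -⟩
    exact ⟨h ≫ σ.hom, by rw [← Category.assoc, ← h1, Category.assoc, Iso.inv_hom_id, Category.comp_id]⟩
  · rintro ⟨h, rfl⟩
    exact ⟨h ≫ σ.inv, Category.assoc _ _ _, (isZero_shiftOne (by omega)).eq_of_tgt _ _⟩

omit hM hM0 in
lemma d_comp_eq_zero (hE : DRing.VanishesOutside E (-1) 0) (u : E.X (-1) ⟶ ModuleCat.of R N) :
    E.d (-2) (-1) ≫ u = 0 := by
  rw [(two_below hE (-2) le_rfl).eq_of_src (E.d (-2) (-1)) 0, zero_comp]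

end Ext

section Precomp

/-- Precomposition with a map which is surjective on `Hⁱ`, `i ≥ -1`, and injective on `Hⁱ`, `i ≥ 0`, is injective
on morphisms to objects in degrees `≥ -1`. -/
lemma eq_zero_of_comp_eq_zero {K K' X : Dual.D R} (α : K ⟶ K') [X.IsGE (-1)]
    (hepi : ∀ i : ℤ, -1 ≤ i → Epi ((DerivedCategory.homologyFunctor (ModuleCat.{u} R) i).map α))
    (hmono : ∀ i : ℤ, 0 ≤ i → Mono ((DerivedCategory.homologyFunctor (ModuleCat.{u} R) i).map α))
    (φ : K' ⟶ X) (h : α ≫ φ = 0) : φ = 0 := by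
  obtain ⟨C, g, δ, hT⟩ := Pretriangulated.distinguished_cocone_triangle α
  have : DerivedCategory.IsLE C (-2) := (DerivedCategory.isLE_iff C (-2)).2 fun i hi =>
    (DerivedCategory.HomologySequence.exact₃ _ hT i (i + 1) rfl).isZero_of_both_zeros
      ((DerivedCategory.HomologySequence.epi_homologyMap_mor₁_iff _ hT i).1 (hepi i (by omega)))
      ((DerivedCategory.HomologySequence.mono_homologyMap_mor₁_iff _ hT i (i + 1) rfl).1 (hmono _ (by omega)))
  obtain ⟨ψ, rfl⟩ := Pretriangulated.Triangle.yoneda_exact₂ _ hT φ h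
  rw [show ψ = 0 from DerivedCategory.TStructure.t.zero_of_isLE_of_isGE ψ (-2) (-1) (by omega) this inferInstance]
  exact comp_zero

instance (N : Type u) [AddCommGroup N] [Module R N] : ((Dual.inD R N)⟦(1 : ℤ)⟧).IsGE (-1) :=
  DerivedCategory.TStructure.t.isGE_shift (Dual.inD R N) 0 1 (-1) (by simp)

lemma epi_map_of_subsingleton {K K' : Dual.D R} (α : K ⟶ K') (i : ℤ) (h : Subsingleton (Dual.HD R K' i)) :
    Epi ((DerivedCategory.homologyFunctor (ModuleCat.{u} R) i).map α) :=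
  IsZero.epi (ModuleCat.isZero_iff_subsingleton.2 h) _

lemma mono_map_of_subsingleton {K K' : Dual.D R} (α : K ⟶ K') (i : ℤ) (h : Subsingleton (Dual.HD R K i)) :
    Mono ((DerivedCategory.homologyFunctor (ModuleCat.{u} R) i).map α) :=
  IsZero.mono (ModuleCat.isZero_iff_subsingleton.2 h) _

lemma isIso_map_Q {A B : DRing.Cx R} (a : A ⟶ B) (i : ℤ) (h : Function.Bijective (homologyMap a i)) :
    IsIso ((DerivedCategory.homologyFunctor (ModuleCat.{u} R) i).map (DerivedCategory.Q.map a)) := by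
  have : IsIso (homologyMap a i) := (ConcreteCategory.isIso_iff_bijective _).2 h
  exact (NatIso.isIso_map_iff (DerivedCategory.homologyFunctorFactors (ModuleCat.{u} R) i) a).2 this

lemma nonempty_iso_inD {K : Dual.D R} (h : ∀ i : ℤ, i ≠ 0 → Subsingleton (Dual.HD R K i)) :
    Nonempty (K ≅ Dual.inD R (Dual.HD R K 0)) := by
  have := isGE_of_subsingleton (K := K) (n := 0) fun i hi => h i (by omega)
  have := isLE_of_subsingleton (K := K) (n := 0) fun i hi => h i (by omega)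
  obtain ⟨Y, ⟨e⟩⟩ := K.exists_iso_singleFunctor_obj_of_isGE_of_isLE 0
  exact ⟨e ≪≫ (DerivedCategory.singleFunctor _ 0).mapIso
    ((DerivedCategory.homologyFunctor _ 0).mapIso e ≪≫
      (DerivedCategory.singleFunctorCompHomologyFunctorIso _ 0).app Y).symm⟩

/-- For a two-term complex, the map to `H⁰[0]`, realised by `range d → E⁰`. -/
lemma exists_to_H0 {E : DRing.Cx R} (hE : DRing.VanishesOutside E (-1) 0) :
    ∃ (E' : DRing.Cx R) (a : E ⟶ E') (e₀ : E'.X 0 ≅ E.X 0)
      (e₁ : E'.X (-1) ≅ ModuleCat.of R (LinearMap.range (E.d (-1) 0).hom)),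
      DRing.VanishesOutside E' (-1) 0 ∧ (∀ x, e₁.hom (a.f (-1) x) = (E.d (-1) 0).hom.rangeRestrict x) ∧
      IsIso ((DerivedCategory.homologyFunctor (ModuleCat.{u} R) 0).map (DerivedCategory.Q.map a)) ∧
      Nonempty (DRing.toD E' ≅ Dual.inD R (Dual.HD R (DRing.toD E) 0)) := by
  let f : ModuleCat.of R (LinearMap.range (E.d (-1) 0).hom) ⟶ E.X 0 :=
    ModuleCat.ofHom (LinearMap.range (E.d (-1) 0).hom).subtype
  have hrel : (ComplexShape.up ℤ).Rel (-1) 0 := by simp
  let E' : DRing.Cx R := double f hrel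
  let e₁ : E'.X (-1) ≅ _ := doubleXIso₀ f hrel
  let e₀ : E'.X 0 ≅ E.X 0 := doubleXIso₁ f hrel (by omega)
  have hE' : DRing.VanishesOutside E' (-1) 0 := fun i hi => isZero_double_X f hrel i (by omega) (by omega)
  have hd : ∀ x, E'.d (-1) 0 x = e₀.inv (e₁.hom x).1 :=
    ConcreteCategory.congr_hom (double_d f hrel (by omega))
  let a : E ⟶ E' := homOfTwo (two_above hE) (two_below hE')
    (ModuleCat.ofHom (E.d (-1) 0).hom.rangeRestrict ≫ e₁.inv) e₀.inv
    ((two_below hE (-2) le_rfl).eq_of_src _ _)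
    (ModuleCat.hom_ext (LinearMap.ext fun x => by
      show E'.d (-1) 0 (e₁.inv _) = e₀.inv (E.d (-1) 0 x)
      rw [hd, Iso.inv_hom_id_apply]
      rfl))
    ((two_above hE' 1 one_pos).eq_of_tgt _ _)
  have ha : a.f (-1) = ModuleCat.ofHom (E.d (-1) 0).hom.rangeRestrict ≫ e₁.inv := homOfTwo_f_neg_one ..
  have ha₀ : a.f 0 = e₀.inv := homOfTwo_f_zero ..
  have hi := (ComplexShape.up ℤ).prev_eq' hrel
  have hk := (ComplexShape.up ℤ).next_eq' (show (ComplexShape.up ℤ).Rel 0 1 by simp)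
  have hiso := isIso_map_Q a 0 ⟨(FlatCxBase.homologyMap_injective_iff a hi hk).2 fun x _ ⟨y, hy⟩ => by
      obtain ⟨w, hw⟩ := (e₁.hom y).2
      rw [hd, ha₀] at hy
      exact ⟨w, hw.trans (e₀.toLinearEquiv.symm.injective hy)⟩,
    (FlatCxBase.homologyMap_surjective_iff a hi hk).2 fun y _ =>
      ⟨e₀.hom y, 0, two_cycle hE _, by rw [ha₀, map_zero, add_zero]; exact Iso.hom_inv_id_apply e₀ y⟩⟩
  have h1 : ∀ i : ℤ, i ≠ 0 → Subsingleton (Dual.HD R (DRing.toD E') i) := fun i hi0 => by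
    by_cases h : i = -1
    · subst h
      obtain ⟨e⟩ := nonempty_homology_neg_one_equiv hE'
      have : Subsingleton (LinearMap.ker (E'.d (-1) 0).hom) := by
        refine Submodule.subsingleton_iff_eq_bot.2 (LinearMap.ker_eq_bot.2 fun x y hxy => ?_)
        rw [hd, hd] at hxy
        exact e₁.toLinearEquiv.injective (Subtype.ext (e₀.toLinearEquiv.symm.injective hxy))
      exact ((HDEquiv E' (-1)).trans e).toEquiv.subsingleton
    · exact subsingleton_HD_of_two hE' i h hi0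
  obtain ⟨e⟩ := nonempty_iso_inD h1
  refine ⟨E', a, e₀, e₁, hE', fun x => ?_, hiso, ⟨e ≪≫ (DerivedCategory.singleFunctor _ 0).mapIso
    (asIso ((DerivedCategory.homologyFunctor (ModuleCat.{u} R) 0).map (DerivedCategory.Q.map a))).symm⟩⟩
  rw [ha]
  exact Iso.inv_hom_id_apply e₁ _

end Precomp

end Groth.DAlg

namespace Groth.DAlg

variable {R : Type u} [CommRing R]

/-- If `H(Q a) = 0` then `a` maps cycles to boundaries. -/
lemma exists_boundary_of_map_eq_zero {A B : DRing.Cx R} (a : A ⟶ B) {i j k : ℤ}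
    (hi : (ComplexShape.up ℤ).prev j = i) (hk : (ComplexShape.up ℤ).next j = k)
    (h : (DerivedCategory.homologyFunctor (ModuleCat.{u} R) j).map (DerivedCategory.Q.map a) = 0)
    (x : A.X j) (hx : A.d j k x = 0) : ∃ w, B.d i j w = a.f j x := by
  subst hk
  have h1 : homologyMap a j = 0 := by
    have e := NatIso.naturality_1 (DerivedCategory.homologyFunctorFactors (ModuleCat.{u} R) j) a
    have h' : (DerivedCategory.Q ⋙ DerivedCategory.homologyFunctor (ModuleCat.{u} R) j).map a = 0 := h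
    rw [h', zero_comp, comp_zero] at e
    exact e.symm
  refine (FlatCxBase.cls_eq_zero_iff j hi ⟨a.f j x, FlatCxBase.map_mem_ker a j ⟨x, hx⟩⟩).1 ?_
  have h2 := FlatCxBase.homologyMap_cls a j ⟨x, hx⟩
  rw [h1] at h2
  exact h2.symm

end Groth.DAlg
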