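import Groth.Agent.DAlg.Classes
import Groth.Agent.DAlg.Rep

/-!
Pseudo-coherent modules, perfect objects and devissage in `D(R)`.
-/

universe w v u

open CategoryTheory CategoryTheory.Limits CategoryTheory.Pretriangulated HomologicalComplex

attribute [local instance] HasDerivedCategory.standard
set_option linter.style.haveILetI false

namespace Groth.DAlg

open PCohPunctual
open scoped ZeroObject

section Devissage

variable {C : Type u} [Category.{v} C] [Abelian C] [HasDerivedCategory.{w} C]

lemma isZero_Q_obj {G : CochainComplex C ℤ} (h : ∀ i, IsZero (G.X i)) : IsZero (DerivedCategory.Q.obj G) := by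
  refine Functor.map_isZero _ ?_
  rw [IsZero.iff_id_eq_zero]
  ext i
  exact (h i).eq_of_src _ _

lemma isZero_of_homology {K : DerivedCategory C}
    (h : ∀ i, IsZero ((DerivedCategory.homologyFunctor C i).obj K)) : IsZero K := by
  have : IsIso (0 : K ⟶ 0) := (DerivedCategory.isIso_iff C _).2 fun n =>
    ⟨0, (h n).eq_of_src _ _, (Functor.map_isZero _ (isZero_zero _)).eq_of_src _ _⟩
  exact (isZero_zero _).of_iso (asIso (0 : K ⟶ 0))

variable (Φ : DerivedCategory C → Prop) (hiso : ∀ X Y, (X ≅ Y) → Φ X → Φ Y)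
  (hext : ∀ T : Triangle (DerivedCategory C), T ∈ distinguishedTriangles → Φ T.obj₁ → Φ T.obj₃ → Φ T.obj₂)
  (hzero : ∀ X, IsZero X → Φ X)
include hiso hext hzero

/-- Devissage of a bounded complex by its terms. -/
theorem bounded_induction (F : CochainComplex C ℤ) (a b : ℤ) (hF : ∀ i, i < a ∨ b < i → IsZero (F.X i))
    (h : ∀ i, Φ ((DerivedCategory.singleFunctor C i).obj (F.X i))) : Φ (DerivedCategory.Q.obj F) := by
  suffices ∀ (k : ℕ) (b : ℤ), b < a + k → ∀ F : CochainComplex C ℤ, (∀ i, i < a ∨ b < i → IsZero (F.X i)) →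
      (∀ i, Φ ((DerivedCategory.singleFunctor C i).obj (F.X i))) → Φ (DerivedCategory.Q.obj F) from
    this (b + 1 - a).toNat b (by omega) F hF h
  intro k
  induction k with
  | zero => exact fun b hb F hF _ => hzero _ (isZero_Q_obj fun i => hF i (by omega))
  | succ k ih =>
    intro b hbn F hb hF
    let f : (single C (ComplexShape.up ℤ) b).obj (F.X b) ⟶ F :=
      mkHomFromSingle (𝟙 _) (by rintro j rfl; exact (hb _ (by omega)).eq_of_tgt _ _)
    have hfb : IsIso (f.f b) := by
      simp only [f, mkHomFromSingle_f, Category.comp_id]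
      infer_instance
    haveI : ∀ i, Mono (f.f i) := fun i => by
      by_cases h : i = b
      · subst h; infer_instance
      · exact ⟨fun _ _ _ => (isZero_single_obj_X (ComplexShape.up ℤ) b (F.X b) i h).eq_of_tgt _ _⟩
    haveI : Mono f := mono_of_mono_f f inferInstance
    let S := ShortComplex.mk f (cokernel.π f) (cokernel.condition f)
    have hS : S.ShortExact := { exact := ShortComplex.exact_of_g_is_cokernel S (cokernelIsCokernel f) }
    have hSi := fun i => hS.map_of_exact (eval C (ComplexShape.up ℤ) i)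
    have hzero' : IsZero (S.X₃.X b) := by
      haveI : Epi ((cokernel.π f).f b) := (hSi b).epi_g
      have h0 : (cokernel.π f).f b = 0 := by
        haveI := hfb
        rw [← cancel_epi (f.f b), comp_zero, ← comp_f, cokernel.condition, zero_f]
      exact IsZero.of_epi_eq_zero _ h0
    have hiso' : ∀ i, i ≠ b → IsIso ((cokernel.π f).f i) := fun i hi =>
      (ShortComplex.ShortExact.isIso_g_iff (hSi i)).2 (isZero_single_obj_X (ComplexShape.up ℤ) b (F.X b) i hi)
    refine hext _ (DerivedCategory.triangleOfSES_distinguished hS)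
      (hiso _ _ ((DerivedCategory.singleFunctorIsoCompQ C b).app (F.X b)) (hF b))
      (ih (b - 1) (by omega) S.X₃ (fun i hi => ?_) fun i => ?_)
    · by_cases h : i = b
      · subst h; exact hzero'
      · haveI := hiso' i h
        exact (hb i (by omega)).of_iso (asIso ((cokernel.π f).f i)).symm
    · by_cases h : i = b
      · subst h
        exact hzero _ (Functor.map_isZero _ hzero')
      · haveI := hiso' i h
        exact hiso _ _ ((DerivedCategory.singleFunctor C i).mapIso (asIso ((cokernel.π f).f i))) (hF i)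

/-- Devissage of a cohomologically bounded object by its cohomology. -/
theorem bounded_homology_induction (F : DerivedCategory C) (a b : ℤ)
    (hF : ∀ i, i < a ∨ b < i → IsZero ((DerivedCategory.homologyFunctor C i).obj F))
    (h : ∀ i, Φ ((DerivedCategory.singleFunctor C i).obj ((DerivedCategory.homologyFunctor C i).obj F))) :
    Φ F := by
  suffices ∀ (k : ℕ) (b : ℤ), b < a + k → ∀ F : DerivedCategory C,
      (∀ i, i < a ∨ b < i → IsZero ((DerivedCategory.homologyFunctor C i).obj F)) →
      (∀ i, Φ ((DerivedCategory.singleFunctor C i).obj ((DerivedCategory.homologyFunctor C i).obj F))) → Φ F from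
    this (b + 1 - a).toNat b (by omega) F hF h
  intro k
  induction k with
  | zero => exact fun b hb F hF _ => hzero _ (isZero_of_homology fun i => hF i (by omega))
  | succ k ih =>
    intro b hbn F hb hF
    obtain ⟨X, Y, hX, hY, f, g, h, hT⟩ :=
      DerivedCategory.TStructure.t.exists_triangle F (b - 1) b (by omega)
    haveI : X.IsLE (b - 1) := ⟨hX⟩
    haveI hYge : Y.IsGE b := ⟨hY⟩
    have hX0 : ∀ i, b ≤ i → IsZero ((DerivedCategory.homologyFunctor C i).obj X) := fun i hi =>
      DerivedCategory.isZero_of_isLE X (b - 1) i (by omega)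
    have hY0 : ∀ i, i < b → IsZero ((DerivedCategory.homologyFunctor C i).obj Y) := fun i hi =>
      DerivedCategory.isZero_of_isGE Y b i hi
    haveI : Y.IsLE b := (DerivedCategory.isLE_iff Y b).2 fun i hi =>
      isZero_homology₃ hT (j := i + 1) rfl (hb i (Or.inr hi)) (hX0 _ (by omega))
    have hg : IsIso ((DerivedCategory.homologyFunctor C b).map g) := by
      haveI : Mono ((DerivedCategory.homologyFunctor C b).map g) :=
        (DerivedCategory.HomologySequence.mono_homologyMap_mor₂_iff _ hT b).2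
          ((hX0 b le_rfl).eq_of_src _ _)
      haveI : Epi ((DerivedCategory.homologyFunctor C b).map g) :=
        (DerivedCategory.HomologySequence.epi_homologyMap_mor₂_iff _ hT b (b + 1) rfl).2
          ((hX0 (b + 1) (by omega)).eq_of_tgt _ _)
      exact isIso_of_mono_of_epi _
    have hf : ∀ i, i < b → IsIso ((DerivedCategory.homologyFunctor C i).map f) := fun i hi => by
      haveI : Mono ((DerivedCategory.homologyFunctor C i).map f) :=
        (DerivedCategory.HomologySequence.mono_homologyMap_mor₁_iff _ hT (i - 1) i (by omega)).2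
          ((hY0 (i - 1) (by omega)).eq_of_src _ _)
      haveI : Epi ((DerivedCategory.homologyFunctor C i).map f) :=
        (DerivedCategory.HomologySequence.epi_homologyMap_mor₁_iff _ hT i).2
          ((hY0 i hi).eq_of_tgt _ _)
      exact isIso_of_mono_of_epi _
    obtain ⟨Z, ⟨eZ⟩⟩ := DerivedCategory.exists_iso_singleFunctor_obj_of_isGE_of_isLE Y b
    have hΦY : Φ Y := hiso _ _ eZ.symm (hiso _ _ ((DerivedCategory.singleFunctor C b).mapIso
      (asIso ((DerivedCategory.homologyFunctor C b).map g) ≪≫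
        (DerivedCategory.homologyFunctor C b).mapIso eZ ≪≫ homologySingleIso Z b)) (hF b))
    refine hext _ hT (ih (b - 1) (by omega) X (fun i hi => ?_) fun i => ?_) hΦY
    · by_cases hib : b ≤ i
      · exact hX0 i hib
      · haveI := hf i (by omega)
        exact (hb i (by omega)).of_iso (asIso ((DerivedCategory.homologyFunctor C i).map f))
    · rcases lt_or_ge i b with hib | hib
      · haveI := hf i hib
        exact hiso _ _ ((DerivedCategory.singleFunctor C i).mapIso
          (asIso ((DerivedCategory.homologyFunctor C i).map f)).symm) (hF i)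
      · exact hzero _ (Functor.map_isZero _ (hX0 i hib))

end Devissage

variable {R : Type u} [CommRing R]

/-- A module in degree zero. -/
noncomputable abbrev mD (M : ModuleCat.{u} R) : Dual.D R := (DerivedCategory.singleFunctor (ModuleCat.{u} R) 0).obj M

/-- The short exact sequence of a surjection, as a triangle. -/
lemma exists_triangle_of_surjective {F M : ModuleCat.{u} R} (π : F ⟶ M) (hπ : Function.Surjective π) :
    ∃ T : Triangle (Dual.D R), T ∈ distinguishedTriangles ∧
      T.obj₁ = mD (ModuleCat.of R (LinearMap.ker π.hom)) ∧ T.obj₂ = mD F ∧ T.obj₃ = mD M := by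
  let ι : ModuleCat.of R (LinearMap.ker π.hom) ⟶ F := ModuleCat.ofHom (LinearMap.ker π.hom).subtype
  have hc : ι ≫ π = 0 := ModuleCat.hom_ext (LinearMap.ext fun x => x.2)
  have hS : (ShortComplex.mk ι π hc).ShortExact :=
    { exact := (ShortComplex.moduleCat_exact_iff _).2 fun x hx => ⟨⟨x, hx⟩, rfl⟩
      mono_f := (ModuleCat.mono_iff_injective _).2 Subtype.val_injective
      epi_g := (ModuleCat.epi_iff_surjective _).2 hπ }
  exact ⟨hS.singleTriangle, hS.singleTriangle_distinguished, rfl, rfl, rfl⟩

lemma pcn_mD_of_prop {P : ObjectProperty (ModuleCat.{u} R)} (hA : IsAdditiveSub P) {F : ModuleCat.{u} R}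
    (hF : P F) (n : ℤ) : PCn P n (mD F) :=
  ⟨(single _ (ComplexShape.up ℤ) 0).obj F,
    ⟨⟨0, fun i hi => isZero_single_obj_X _ _ _ _ hi.ne'⟩, fun i _ => by
      by_cases hi : i = 0
      · exact hA.of_iso (singleObjXIsoOfEq (ComplexShape.up ℤ) 0 F i hi).symm hF
      · exact hA.zero _ (isZero_single_obj_X _ _ _ _ hi)⟩,
    ⟨((DerivedCategory.singleFunctorIsoCompQ _ 0).app F).symm⟩⟩

lemma pcn_zero_mD_iff (M : ModuleCat.{u} R) : PCn (finFree R) 0 (mD M) ↔ Module.Finite R M :=
  ⟨fun h => (finite_iff_ft R M).1 (ft_of_pcn_single (isQuasiStable_finFree R) h),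
    fun h => pcn_single_of_ft (isAdditiveSub_finFree R) (isQuasiLiftable_finFree R) ((finite_iff_ft R M).2 h)⟩

lemma pcn_neg_one_mD_iff (M : ModuleCat.{u} R) :
    PCn (finFree R) (-1) (mD M) ↔ Module.FinitePresentation R M := by
  have hA := isAdditiveSub_finFree R
  have hqs := isQuasiStable_finFree R
  have hql := isQuasiLiftable_finFree R
  constructor
  · intro h
    have hfin : Module.Finite R M := (pcn_zero_mD_iff M).1 (h.mono (by omega))
    obtain ⟨n, f, hf⟩ := Module.Finite.exists_fin' R M
    let F : ModuleCat.{u} R := ModuleCat.of R (Fin n → R)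
    have hF : finFree R F := ⟨inferInstanceAs (Module.Finite R (Fin n → R)), inferInstanceAs (Module.Free R (Fin n → R))⟩
    obtain ⟨T, hT, e₁, e₂, e₃⟩ := exists_triangle_of_surjective (F := F) (ModuleCat.ofHom f) hf
    have h1 : PCn (finFree R) (-1 + 1) T.obj₁ :=
      PCn.fiber hA hqs hql hT (e₂ ▸ pcn_mD_of_prop hA hF _) (e₃ ▸ h)
    rw [e₁, neg_add_cancel, pcn_zero_mD_iff] at h1
    exact Module.finitePresentation_of_surjective f hf (Module.Finite.iff_fg.1 h1)
  · intro h
    obtain ⟨n, f, hf⟩ := Module.Finite.exists_fin' R M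
    let F : ModuleCat.{u} R := ModuleCat.of R (Fin n → R)
    have hF : finFree R F := ⟨inferInstanceAs (Module.Finite R (Fin n → R)), inferInstanceAs (Module.Free R (Fin n → R))⟩
    obtain ⟨T, hT, e₁, e₂, e₃⟩ := exists_triangle_of_surjective (F := F) (ModuleCat.ofHom f) hf
    have h1 : PCn (finFree R) (-1 + 1) T.obj₁ := by
      rw [e₁, neg_add_cancel, pcn_zero_mD_iff]
      exact Module.Finite.iff_fg.2 (Module.FinitePresentation.fg_ker f hf)
    exact e₃ ▸ PCn.cone hA hqs hql hT h1 (e₂ ▸ pcn_mD_of_prop hA hF _)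

/-- Over a Noetherian ring, cohomology of a pseudo-coherent object is finite in the range. -/
theorem finite_HD_of_isPseudoCoherent [IsNoetherianRing R] {m : ℤ} {K : Dual.D R}
    (h : DRing.IsPseudoCoherent R m K) {i : ℤ} (hi : m ≤ i) : Module.Finite R (Dual.HD R K i) := by
  obtain ⟨E, a, b, α, -, hF, hiso, hepi⟩ := h
  have : Module.Finite R (E.X i) := (hF i).1
  have : IsNoetherian R (E.X i) := isNoetherian_of_isNoetherianRing_of_finite R _
  have : Module.Finite R (Dual.HD R (DRing.toD E) i) :=
    Module.Finite.equiv ((FlatCxBase.homologyEquivQuot E rfl rfl).trans (HDEquiv E i).symm)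
  have hsurj : Epi ((DerivedCategory.homologyFunctor (ModuleCat.{u} R) i).map α) := by
    rcases hi.eq_or_lt with rfl | h
    · exact hepi
    · have := hiso i h
      infer_instance
  exact Module.Finite.of_surjective ((DerivedCategory.homologyFunctor (ModuleCat.{u} R) i).map α).hom
    ((ModuleCat.epi_iff_surjective _).1 hsurj)

lemma IsPerfect.of_iso {K L : Dual.D R} (h : DRing.IsPerfect R K) (e : K ≅ L) : DRing.IsPerfect R L := by
  obtain ⟨E, a, b, hE, hP, ⟨e'⟩⟩ := h
  exact ⟨E, a, b, hE, hP, ⟨e' ≪≫ e⟩⟩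

lemma IsPerfect.shift {K : Dual.D R} (h : DRing.IsPerfect R K) (m : ℤ) : DRing.IsPerfect R (K⟦m⟧) := by
  obtain ⟨E, a, b, hE, hP, ⟨e⟩⟩ := h
  exact ⟨(CategoryTheory.shiftFunctor (DRing.Cx R) m).obj E, a - m, b - m,
    fun i hi => hE (i + m) (by omega), fun i => hP (i + m),
    ⟨(DerivedCategory.Q.commShiftIso m).app E ≪≫ (CategoryTheory.shiftFunctor (Dual.D R) m).mapIso e⟩⟩

theorem IsPerfect.cone {T : Triangle (Dual.D R)} (hT : T ∈ distinguishedTriangles)
    (h₁ : DRing.IsPerfect R T.obj₁) (h₂ : DRing.IsPerfect R T.obj₂) : DRing.IsPerfect R T.obj₃ := by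
  obtain ⟨E, a, b, hE, hP, e⟩ := exists_perfect_cone (P := finProj R) (isAdditiveSub_finProj R)
    (isLiftable_of_le R fun _ h => h.2) T hT
    (by obtain ⟨E, a, b, hE, hP, e⟩ := h₁; exact ⟨E, a, b, hE, hP, e⟩)
    (by obtain ⟨E, a, b, hE, hP, e⟩ := h₂; exact ⟨E, a, b, hE, hP, e⟩)
  exact ⟨E, a, b, hE, hP, e⟩

theorem IsPerfect.ext {T : Triangle (Dual.D R)} (hT : T ∈ distinguishedTriangles)
    (h₁ : DRing.IsPerfect R T.obj₁) (h₃ : DRing.IsPerfect R T.obj₃) : DRing.IsPerfect R T.obj₂ :=
  IsPerfect.cone (inv_rot_of_distTriang T hT) (IsPerfect.shift h₃ (-1)) h₁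

theorem IsPerfect.fiber {T : Triangle (Dual.D R)} (hT : T ∈ distinguishedTriangles)
    (h₂ : DRing.IsPerfect R T.obj₂) (h₃ : DRing.IsPerfect R T.obj₃) : DRing.IsPerfect R T.obj₁ :=
  IsPerfect.of_iso (IsPerfect.shift (IsPerfect.cone (rot_of_distTriang T hT) h₂ h₃) (-1))
    ((shiftFunctorCompIsoId (Dual.D R) (1 : ℤ) (-1) (by omega)).app T.obj₁)

lemma IsPerfect.of_isZero {K : Dual.D R} (h : IsZero K) : DRing.IsPerfect R K :=
  ⟨HomologicalComplex.zero, 0, 0, fun i _ => isZero_zeroComplex_X i,
    fun i => (isAdditiveSub_finProj R).zero _ (isZero_zeroComplex_X i),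
    ⟨(isZero_Q_obj fun i => isZero_zeroComplex_X i).iso h⟩⟩

/-- `M[-n] ≅ M[0][-n]`. -/
noncomputable def singleShift (M : ModuleCat.{u} R) (n : ℤ) :
    (mD M)⟦-n⟧ ≅ (DerivedCategory.singleFunctor (ModuleCat.{u} R) n).obj M :=
  ((DerivedCategory.singleFunctors (ModuleCat.{u} R)).shiftIso (-n) n 0 (by omega)).app M

theorem exists_finProj_prod_iso {M : ModuleCat.{u} R} (h : finProj R M) :
    ∃ (n : ℕ) (N : ModuleCat.{u} R), finProj R N ∧ Nonempty (ModuleCat.of R (Fin n → R) ≅ ModuleCat.of R (M × N)) := by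
  have := h.1
  have := h.2
  obtain ⟨n, f, hf⟩ := Module.Finite.exists_fin' R M
  obtain ⟨s, hs⟩ := Module.projective_lifting_property f LinearMap.id hf
  let F : ModuleCat.{u} R := ModuleCat.of R (Fin n → R)
  refine ⟨n, ModuleCat.of R (LinearMap.ker f), (isAdditiveSub_finProj R).of_iso
    (ModuleCat.kernelIsoKer (ModuleCat.ofHom f : F ⟶ M)) (isStableKer_finProj R F M _
      ((ModuleCat.epi_iff_surjective _).2 hf)
      ⟨inferInstanceAs (Module.Finite R (Fin n → R)), inferInstanceAs (Module.Projective R (Fin n → R))⟩ h), ⟨?_⟩⟩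
  let r : (Fin n → R) →ₗ[R] LinearMap.ker f :=
    ((LinearMap.id : (Fin n → R) →ₗ[R] _) - s ∘ₗ f).codRestrict _ fun x => by
      simp [show f (s (f x)) = f x from LinearMap.congr_fun hs (f x)]
  exact LinearEquiv.toModuleIso
    { __ := f.prod r
      invFun := fun p => s p.1 + p.2.1
      left_inv := fun x => by simp [r]
      right_inv := fun p => by
        have h1 : f (s p.1 + p.2.1) = p.1 := by
          rw [map_add, show f p.2.1 = 0 from p.2.2, add_zero]
          exact LinearMap.congr_fun hs p.1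
        refine Prod.ext h1 (Subtype.ext ?_)
        show (s p.1 + p.2.1) - s (f (s p.1 + p.2.1)) = p.2.1
        rw [h1, add_sub_cancel_left] }

end Groth.DAlg
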