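import Groth.Agent.DAlg.TorAmp

/-!
`(m-1)`-pseudo-coherent objects of tor amplitude in `[m, n]` are perfect of amplitude `[m, n]`.
-/

universe u

open CategoryTheory CategoryTheory.Limits CategoryTheory.Pretriangulated HomologicalComplex MonoidalCategory
open scoped TensorProduct

attribute [local instance] HasDerivedCategory.standard
set_option linter.style.haveILetI false

namespace Groth.DAlg

open FlatCxBase PCohPunctual

variable {R : Type u} [CommRing R] {K : Dual.D R} {m n : ℤ}

lemma flat_coker_of_cone {E F : DRing.Cx R} [∀ i, Module.Flat R (E.X i)] [∀ i, Module.Flat R (F.X i)]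
    (g : E ⟶ F) {b : ℤ} (hE : DRing.VanishesAbove E b) (hF : DRing.VanishesAbove F b) (m : ℤ)
    (hFm : IsZero (F.X (m - 1))) (hac : ∀ i, m - 1 ≤ i → IsZero ((CochainComplex.mappingCone g).homology i)) :
    Module.Flat R (Coker E (m - 1) m) := by
  let C := CochainComplex.mappingCone g
  haveI : ∀ i, Module.Flat R (C.X i) := flat_cone_X g (fun i => inferInstance) (fun i => inferInstance)
  have hC : DRing.VanishesAbove C b := fun i hi =>
    (CochainComplex.mappingCone.isZero_X_iff g i).2 ⟨hE _ (by omega), hF i hi⟩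
  have := ModuleCat.subsingleton_of_isZero hFm
  refine Module.Flat.iff_lTensor_preserves_injective_linearMap.2 fun N M _ _ _ _ φ hφ => ?_
  rw [injective_iff_map_eq_zero]
  intro q hq
  obtain ⟨x, rfl⟩ := LinearMap.rTensor_surjective N (Submodule.mkQ_surjective _) q
  rw [lTensor_rTensor] at hq
  obtain ⟨y, hy⟩ := (rTensor_cokerπ_eq_zero_iff E M (m - 1) m _).1 hq
  have hdx : (E.d m (m + 1)).hom.rTensor N x = 0 := by
    apply Module.Flat.lTensor_preserves_injective_linearMap (M := E.X (m + 1)) φ hφ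
    rw [map_zero, lTensor_rTensor, ← hy, rTensor_d_d]
  have hgx : (g.f m).hom.rTensor N x = 0 := by
    apply Module.Flat.lTensor_preserves_injective_linearMap (M := F.X m) φ hφ
    rw [map_zero, lTensor_rTensor, ← hy, ← LinearMap.rTensor_comp_apply, ← ModuleCat.hom_comp, ← g.comm]
    rw [(hFm.eq_of_tgt (g.f (m - 1)) 0), zero_comp, ModuleCat.hom_zero, LinearMap.rTensor_zero,
      LinearMap.zero_apply]
  let inl := ((CochainComplex.mappingCone.inl g).v m (m - 1) (by omega)).hom
  let fst := ((CochainComplex.mappingCone.fst g).1.v (m - 1) m (by omega)).hom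
  have hz : (C.d (m - 1) m).hom.rTensor N (inl.rTensor N x) = 0 := by
    rw [← LinearMap.rTensor_comp_apply, ← ModuleCat.hom_comp,
      CochainComplex.mappingCone.inl_v_d g m (m - 1) (m + 1) (by omega) (by omega), ModuleCat.hom_sub,
      LinearMap.rTensor_sub, LinearMap.sub_apply, ModuleCat.hom_comp, ModuleCat.hom_comp,
      LinearMap.rTensor_comp_apply, LinearMap.rTensor_comp_apply, hgx, hdx, map_zero, map_zero, sub_zero]
  obtain ⟨w, hw⟩ := exact_rTensor_of_acyclicAbove C hC (j := m - 1) hac N (inl.rTensor N x) (by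
    rw [show (m - 1 + 1) = m from by omega]
    exact hz)
  refine (rTensor_cokerπ_eq_zero_iff E N (m - 1) m x).2
    ⟨-((CochainComplex.mappingCone.fst g).1.v (m - 1 - 1) (m - 1) (by omega)).hom.rTensor N w, ?_⟩
  have h1 : fst.rTensor N (inl.rTensor N x) = x := by
    rw [← LinearMap.rTensor_comp_apply, ← ModuleCat.hom_comp, CochainComplex.mappingCone.inl_v_fst_v,
      ModuleCat.hom_id, LinearMap.rTensor_id, LinearMap.id_apply]
  rw [← hw, ← LinearMap.rTensor_comp_apply, ← ModuleCat.hom_comp,
    CochainComplex.mappingCone.d_fst_v g (m - 1 - 1) (m - 1) m (by omega) (by omega),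
    ModuleCat.hom_neg, LinearMap.rTensor_neg, LinearMap.neg_apply,
    ModuleCat.hom_comp, LinearMap.rTensor_comp_apply] at h1
  rw [map_neg]
  exact h1

theorem exists_finProj_of_pseudoCoherent (hK : DRing.IsPseudoCoherent R (m - 1) K)
    (h : DRing.HasTorAmplitudeIn R m n K) (hmn : m - 1 ≤ n + 1) :
    ∃ E : DRing.Cx R, DRing.VanishesOutside E m n ∧ DRing.TermwiseFiniteProjective E ∧
      Nonempty (DRing.toD E ≅ K) := by
  obtain ⟨F, hF, hFf, ⟨e⟩⟩ := id h
  obtain ⟨E, α, hE, hEP, hα⟩ := exists_strictPerfect_dnqis (isAdditiveSub_finFree R) (isQuasiStable_finFree R)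
    (isQuasiLiftable_finFree R) (isPseudoCoherent_iff.1 hK) (n + 1) hmn
    fun i hi => ModuleCat.isZero_iff_subsingleton.2 (TorAmp.subsingleton_HD h (Or.inr (by omega)))
  have hEb : DRing.VanishesAbove E n := fun i hi => hE i (Or.inr (by omega))
  have hproj : DRing.TermwiseFiniteProjective E := fun i =>
    ⟨(hEP i).1, haveI := (hEP i).2; inferInstance⟩
  haveI : ∀ i, Module.Flat R (E.X i) := fun i => haveI := (hproj i).2; inferInstance
  haveI : ∀ i, Module.Flat R (F.X i) := hFf
  obtain ⟨g, hg⟩ := exists_map_of_projective (E := F) hEb (fun i => (hproj i).2) (α ≫ e.inv)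
  have hg' : DNQis (DerivedCategory.Q.map g) (m - 1) :=
    hg ▸ hα.comp (dnqis_of_isIso e.inv (m - 1))
  have hac : ∀ i, m - 1 ≤ i → IsZero ((CochainComplex.mappingCone g).homology i) := fun i hi =>
    (isZero_homology_cone (DerivedCategory.mappingCone_triangle_distinguished g) hg' hi).of_iso
      ((DerivedCategory.homologyFunctorFactors (ModuleCat.{u} R) i).app _).symm
  obtain ⟨h1, h2⟩ := exists_finProj_truncGE E hEb hproj
    (flat_coker_of_cone g hEb (fun i hi => hF i (Or.inr hi)) m (hF _ (Or.inl (by omega))) hac)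
  have hstr : F.IsStrictlyGE m := (CochainComplex.isStrictlyGE_iff F m).2 fun i hi => hF i (Or.inl hi)
  haveI := hstr
  have hqis : ∀ i, m ≤ i → QuasiIsoAt g i := fun i hi => by
    rw [quasiIsoAt_iff_isIso_homologyMap]
    have := hg'.1 i (by omega)
    exact (NatIso.isIso_map_iff (DerivedCategory.homologyFunctorFactors (ModuleCat.{u} R) i) g).1 this
  haveI : IsIso (DerivedCategory.Q.map (CochainComplex.truncGEMap g m)) :=
    (DerivedCategory.isIso_Q_map_iff_quasiIso (φ := _)).2 ((CochainComplex.quasiIso_truncGEMap_iff g m).2 hqis)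
  exact ⟨E.truncGE m, h1, h2, ⟨asIso (DerivedCategory.Q.map (CochainComplex.truncGEMap g m)) ≪≫
    (asIso (DerivedCategory.Q.map (F.πTruncGE m))).symm ≪≫ e⟩⟩

end Groth.DAlg
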