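import Groth.Agent.DAlg.TorAmp
import Groth.Agent.FlatCxBase.BaseChange
import Mathlib.Algebra.Category.ModuleCat.Descent

/-!
Derived base change on bounded above complexes of flat modules.
-/

universe u

open CategoryTheory CategoryTheory.Limits CategoryTheory.Pretriangulated HomologicalComplex MonoidalCategory
open scoped TensorProduct

attribute [local instance] HasDerivedCategory.standard
set_option linter.style.haveILetI false

namespace Groth.DAlg

open FlatCxBase

variable {R S : Type u} [CommRing R] [CommRing S]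

/-- Vanishing of cohomology transfers along degreewise additive equivalences. -/
lemma isZero_homology_iff_of_addEquiv {F : DRing.Cx R} {G : DRing.Cx S} (e : ∀ i, F.X i ≃+ G.X i)
    (he : ∀ i k x, e k (F.d i k x) = G.d i k (e i x)) (j : ℤ) :
    IsZero (F.homology j) ↔ IsZero (G.homology j) := by
  rw [isZero_homology_iff (cochain_prev j) (cochain_next j), isZero_homology_iff (cochain_prev j) (cochain_next j)]
  constructor
  · intro h y hy
    obtain ⟨x, rfl⟩ := (e j).surjective y
    obtain ⟨w, rfl⟩ := h x ((e (j + 1)).injective (by rw [he, map_zero]; exact hy))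
    exact ⟨e _ w, (he _ _ w).symm⟩
  · intro h x hx
    obtain ⟨w, hw⟩ := h (e j x) (by rw [← he, hx, map_zero])
    obtain ⟨v, rfl⟩ := (e (j - 1)).surjective w
    exact ⟨v, (e j).injective ((he _ _ v).trans hw)⟩

variable [Algebra R S]

/-- `(S ⊗ X) ⊗_S M = X ⊗ M`. -/
noncomputable def extTensorEquiv (X : ModuleCat.{u} R) (M : Type u) [AddCommGroup M] [Module R M] [Module S M]
    [IsScalarTower R S M] :
    (ModuleCat.extendScalars (algebraMap R S)).obj X ⊗[S] M ≃+ X ⊗[R] M :=
  ((TensorProduct.congr (extendEquiv S X) (LinearEquiv.refl S M)).trans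
    (TensorProduct.comm S _ _) |>.trans
      (TensorProduct.AlgebraTensorModule.cancelBaseChange R S S M X)).toAddEquiv.trans
        (TensorProduct.comm R M X).toAddEquiv

lemma extTensorEquiv_naturality {X Y : ModuleCat.{u} R} (g : X ⟶ Y) (M : Type u) [AddCommGroup M] [Module R M]
    [Module S M] [IsScalarTower R S M] (z : (ModuleCat.extendScalars (algebraMap R S)).obj X ⊗[S] M) :
    extTensorEquiv Y M (((ModuleCat.extendScalars (algebraMap R S)).map g).hom.rTensor M z) =
      g.hom.rTensor M (extTensorEquiv X M z) := by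
  induction z with
  | zero => simp
  | add a b ha hb => simp only [map_add, ha, hb]
  | tmul w m =>
    show TensorProduct.comm R M Y (TensorProduct.AlgebraTensorModule.cancelBaseChange R S S M Y
        (m ⊗ₜ extendEquiv S Y ((ModuleCat.extendScalars (algebraMap R S)).map g w))) =
      g.hom.rTensor M (TensorProduct.comm R M X (TensorProduct.AlgebraTensorModule.cancelBaseChange R S S M X
        (m ⊗ₜ extendEquiv S X w)))
    rw [extendEquiv_map]
    generalize extendEquiv S X w = v
    induction v with
    | zero => simp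
    | add a b ha hb => simp only [TensorProduct.tmul_add, map_add, ha, hb]
    | tmul s x => simp

/-- Cohomology of `(F ⊗ S) ⊗_S M` and of `F ⊗ M`. -/
lemma isZero_extCx_tensor_iff (F : DRing.Cx R) (M : Type u) [AddCommGroup M] [Module R M] [Module S M]
    [IsScalarTower R S M] (j : ℤ) :
    IsZero ((DRing.tensorCx (extCx (algebraMap R S) F) (ModuleCat.of S M)).homology j) ↔
      IsZero ((DRing.tensorCx F (ModuleCat.of R M)).homology j) :=
  isZero_homology_iff_of_addEquiv (fun i => extTensorEquiv (F.X i) M)
    (fun i k z => extTensorEquiv_naturality (F.d i k) M z) j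

lemma isZero_extCx_iff (F : DRing.Cx R) (j : ℤ) :
    IsZero ((extCx (algebraMap R S) F).homology j) ↔
      IsZero ((DRing.tensorCx F (ModuleCat.of R S)).homology j) :=
  (((homologyFunctor _ _ j).mapIso (tensorUnitIso (extCx (algebraMap R S) F))).symm.isZero_iff).trans
    (isZero_extCx_tensor_iff F S j)

omit [Algebra R S] in
lemma termwiseFlat_extCx (φ : R →+* S) {E : DRing.Cx R} (hE : DRing.TermwiseFlat E) :
    DRing.TermwiseFlat (extCx φ E) := fun i => by
  algebraize [φ]
  have := hE i
  exact Module.Flat.of_linearEquiv (extendEquiv S (E.X i))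

omit [Algebra R S] in
/-- Base change of complexes of bounded above flat modules preserves quasi-isomorphisms. -/
lemma quasiIso_extCx (φ : R →+* S) {P E : DRing.Cx R} {b : ℤ} (hP : DRing.VanishesAbove P b)
    (hE : DRing.VanishesAbove E b) (hPf : DRing.TermwiseFlat P) (hEf : DRing.TermwiseFlat E)
    (g : P ⟶ E) [QuasiIso g] :
    QuasiIso (((ModuleCat.extendScalars φ).mapHomologicalComplex (ComplexShape.up ℤ)).map g) := by
  algebraize [φ]
  rw [quasiIso_iff_cone_acyclic]
  let C := CochainComplex.mappingCone g
  haveI : ∀ i, Module.Flat R (C.X i) := flat_cone_X g hPf hEf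
  have hC : ∀ i, b < i → IsZero (C.X i) := fun i hi =>
    (CochainComplex.mappingCone.isZero_X_iff g i).2 ⟨hP _ (by omega), hE i hi⟩
  have h := acyclic_tensor C b hC ((quasiIso_iff_cone_acyclic g).1 inferInstance) (ModuleCat.of R S)
  intro i
  refine HomologicalComplex.ExactAt.of_iso ?_
    (CochainComplex.mappingCone.mapHomologicalComplexIso g (ModuleCat.extendScalars (algebraMap R S)))
  rw [exactAt_iff_isZero_homology]
  exact (isZero_extCx_iff C i).2 ((exactAt_iff_isZero_homology _ _).1 (h i))

omit [Algebra R S] in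
/-- A bounded above complex of flat modules computes the derived base change. -/
theorem nonempty_lBaseChangeFlatIso (φ : R →+* S) [DRing.HasLBaseChange φ] (E : DRing.Cx R) {b : ℤ}
    (hb : DRing.VanishesAbove E b) (hE : DRing.TermwiseFlat E) :
    Nonempty ((DRing.LBaseChange φ).obj (DRing.toD E) ≅ DRing.toD (extCx φ E)) := by
  obtain ⟨P, hP, hfree, ⟨e⟩⟩ := exists_free_rep R (K := DRing.toD E) (b := b)
    fun i hi => subsingleton_HD_of_iso (Iso.refl _) (hb i hi)
  have hproj : ∀ i, Module.Projective R (P.X i) := fun i => haveI := hfree i; inferInstance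
  haveI := isKProjective_of_bounded hP hproj
  obtain ⟨g, hg⟩ := exists_map_of_projective hP hproj e.hom
  haveI : QuasiIso g := by
    rw [← DerivedCategory.isIso_Q_map_iff_quasiIso, hg]
    infer_instance
  have hq := (DerivedCategory.isIso_Q_map_iff_quasiIso (φ := _)).2
    (quasiIso_extCx φ hP hb (fun i => haveI := hproj i; inferInstance) hE g)
  exact ⟨(DRing.LBaseChange φ).mapIso e.symm ≪≫ lBaseChangeIso φ P ≪≫
    @asIso _ _ _ _ (DerivedCategory.Q.map
      (((ModuleCat.extendScalars φ).mapHomologicalComplex (ComplexShape.up ℤ)).map g)) hq⟩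

omit [Algebra R S] in
/-- Tor amplitude is stable under derived base change. -/
theorem TorAmp.baseChange (φ : R →+* S) [DRing.HasLBaseChange φ] {K : Dual.D R} {a b : ℤ}
    (h : DRing.HasTorAmplitudeIn R a b K) :
    DRing.HasTorAmplitudeIn S a b ((DRing.LBaseChange φ).obj K) := by
  obtain ⟨E, hE, hEf, ⟨e⟩⟩ := h
  obtain ⟨e'⟩ := nonempty_lBaseChangeFlatIso φ E (b := b) (fun i hi => hE i (Or.inr hi)) hEf
  exact ⟨extCx φ E, fun i hi => (ModuleCat.extendScalars φ).map_isZero (hE i hi), termwiseFlat_extCx φ hEf,
    ⟨e'.symm ≪≫ (DRing.LBaseChange φ).mapIso e⟩⟩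

omit [Algebra R S] in
/-- For flat ring maps derived base change of a module is the tensor product. -/
theorem nonempty_lBaseChange_mD (φ : R →+* S) (hφ : φ.Flat) [DRing.HasLBaseChange φ] (M : ModuleCat.{u} R) :
    Nonempty ((DRing.LBaseChange φ).obj (mD M) ≅ mD ((ModuleCat.extendScalars φ).obj M)) := by
  algebraize [φ]
  have : Module.Flat R S := hφ
  obtain ⟨P, hP, hfree, ⟨e⟩⟩ := exists_free_rep R (K := mD M) (b := 0) fun i hi =>
    ModuleCat.isZero_iff_subsingleton.1 (PCohPunctual.homology_single_isZero M (ne_of_gt hi))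
  have hproj : ∀ i, Module.Projective R (P.X i) := fun i => haveI := hfree i; inferInstance
  haveI := isKProjective_of_bounded hP hproj
  let M₀ := (single (ModuleCat.{u} R) (ComplexShape.up ℤ) 0).obj M
  let F := ModuleCat.extendScalars (algebraMap R S)
  obtain ⟨g, hg⟩ := exists_map_of_projective (E := M₀) hP hproj
    (e ≪≫ (DerivedCategory.singleFunctorIsoCompQ _ 0).app M).hom
  haveI : QuasiIso g := by
    rw [← DerivedCategory.isIso_Q_map_iff_quasiIso, hg]
    exact Iso.isIso_hom _
  haveI : PreservesFiniteLimits F := ModuleCat.preservesFiniteLimits_extendScalars_of_flat hφ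
  have hq : IsIso (DerivedCategory.Q.map ((F.mapHomologicalComplex (ComplexShape.up ℤ)).map g)) := inferInstance
  exact ⟨(DRing.LBaseChange φ).mapIso e.symm ≪≫ lBaseChangeIso φ P ≪≫
    @asIso _ _ _ _ (DerivedCategory.Q.map ((F.mapHomologicalComplex (ComplexShape.up ℤ)).map g)) hq ≪≫
    DerivedCategory.Q.mapIso ((singleMapHomologicalComplex F (ComplexShape.up ℤ) 0).app M) ≪≫
    ((DerivedCategory.singleFunctorIsoCompQ _ 0).app (F.obj M)).symm⟩

end Groth.DAlg
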