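import Groth.Agent.DAlg.KFlat
import Groth.Agent.FlatCxBase.BoundedFlat
import Groth.Agent.DAlg.BaseChange

/-!
Operations on K-flat complexes of modules.
-/

universe u

set_option linter.style.haveILetI false

open CategoryTheory CategoryTheory.Limits HomologicalComplex MonoidalCategory
open scoped TensorProduct

namespace Groth.DAlg.KFlatMod

open DerivedCoh FlatCxBase

variable {R : Type u} [CommRing R]

local notation "up" => ComplexShape.up ℤ

lemma quasiIso_whiskerRight {K : DRing.Cx R} (hK : IsKFlatCx R K) {L₁ L₂ : DRing.Cx R} (f : L₁ ⟶ L₂)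
    [QuasiIso f] : QuasiIso (f ▷ K) :=
  (isKFlatCx_iff.1 hK).quasiIso_totL f

lemma quasiIso_whiskerLeft {P Q : DRing.Cx R} (α : P ⟶ Q) [QuasiIso α] (hP : IsKFlatCx R P)
    (hQ : IsKFlatCx R Q) (L : DRing.Cx R) : QuasiIso (L ◁ α) :=
  haveI := resAug_quasiIso L
  (isKFlatCx_iff.1 hP).quasiIso_totR (isKFlatCx_iff.1 hQ) α ((resAug R).app L)
    (isKFlat_flip (isKFlatCx_iff.1 (res_isKFlat L)))

/-- An acyclic K-flat complex stays acyclic after tensoring with anything. -/
lemma acyclic_tot_of_acyclic_kFlat (C : DRing.Cx R) (hC : KFlat.IsKFlat (T R) C) (hac : C.Acyclic)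
    (L : DRing.Cx R) : (KFlat.tot (T R) L C).Acyclic := by
  have := resAug_quasiIso L
  have h := hC.quasiIso_totL ((resAug R).app L)
  intro i
  have h2 := acyclic_tot_left (isKFlatCx_iff.1 (res_isKFlat L)) hac i
  have h3 : QuasiIsoAt ((KFlat.totL (T R) C).map ((resAug R).app L)) i := inferInstance
  exact (quasiIsoAt_iff_exactAt ((KFlat.totL (T R) C).map ((resAug R).app L)) i h2).1 h3

lemma isZero_tensorCx_of_acyclic_kFlat (C : DRing.Cx R) (hC : KFlat.IsKFlat (T R) C) (hac : C.Acyclic)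
    (M : ModuleCat.{u} R) (i : ℤ) : IsZero ((DRing.tensorCx C M).homology i) :=
  ((acyclic_tot_of_acyclic_kFlat C hC hac ((single _ up 0).obj M) i).of_iso
    (KFlat.totSingleIso (T R) M C ≪≫ leftTensorIso M C)).isZero_homology

/-- K-flatness is invariant under homotopy equivalence. -/
lemma isKFlat_of_homotopyEquiv {K L : DRing.Cx R} (e : HomotopyEquiv K L) (h : KFlat.IsKFlat (T R) K) :
    KFlat.IsKFlat (T R) L := fun M hM => by
  let G := KFlat.totR (T R) M
  let e' : HomotopyEquiv (G.obj K) (G.obj L) :=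
    ⟨G.map e.hom, G.map e.inv,
      ((Homotopy.ofEq (G.map_comp _ _).symm).trans
        ((mapBifunctorMapHomotopy₂ (𝟙 M) e.homotopyHomInvId (T R) up).trans (Homotopy.ofEq (G.map_id _)))),
      ((Homotopy.ofEq (G.map_comp _ _).symm).trans
        ((mapBifunctorMapHomotopy₂ (𝟙 M) e.homotopyInvHomId (T R) up).trans (Homotopy.ofEq (G.map_id _))))⟩
  intro i
  exact (quasiIsoAt_iff_exactAt e'.hom i (h M hM i)).1
    ((homotopyEquivalences_le_quasiIso _ _ _ e'.homotopyEquivalences_hom).quasiIsoAt i)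

lemma isKFlat_of_iso_homotopy {K L : HomotopyCategory (ModuleCat.{u} R) up} (e : K ≅ L)
    (h : KFlat.IsKFlat (T R) K.as) : KFlat.IsKFlat (T R) L.as :=
  isKFlat_of_homotopyEquiv (HomotopyCategory.homotopyEquivOfIso e) h

/-- Cones: two out of three. -/
lemma two_of_three_cone {M G : DRing.Cx R} (φ : M ⟶ G) :
    (KFlat.IsKFlat (T R) M → KFlat.IsKFlat (T R) G → KFlat.IsKFlat (T R) (CochainComplex.mappingCone φ)) ∧
    (KFlat.IsKFlat (T R) M → KFlat.IsKFlat (T R) (CochainComplex.mappingCone φ) → KFlat.IsKFlat (T R) G) ∧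
    (KFlat.IsKFlat (T R) G → KFlat.IsKFlat (T R) (CochainComplex.mappingCone φ) → KFlat.IsKFlat (T R) M) := by
  have h := KFlat.isKFlat_two_of_three (T R) (KFlat.coneSC φ) fun Y q =>
    ((KFlat.coneSplitting φ q).map ((T R).obj Y)).shortExact
  refine ⟨fun hM hG => hM.mappingCone (T R) φ hG, fun hM hC => h.2.2 hC (hM.shift (T R) 1), fun hG hC => ?_⟩
  exact ((h.1 hG hC).shift (T R) (-1)).of_iso
    ((shiftFunctorCompIsoId (DRing.Cx R) (1 : ℤ) (-1) (by omega)).app M)

open Pretriangulated in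
theorem two_of_three_distinguished (T' : Triangle (HomotopyCategory (ModuleCat.{u} R) up))
    (hT : T' ∈ distinguishedTriangles) :
    (IsKFlatCx R T'.obj₁.as → IsKFlatCx R T'.obj₂.as → IsKFlatCx R T'.obj₃.as) ∧
    (IsKFlatCx R T'.obj₁.as → IsKFlatCx R T'.obj₃.as → IsKFlatCx R T'.obj₂.as) ∧
    (IsKFlatCx R T'.obj₂.as → IsKFlatCx R T'.obj₃.as → IsKFlatCx R T'.obj₁.as) := by
  obtain ⟨M, G, φ, ⟨e⟩⟩ := hT
  have h := two_of_three_cone φ
  have e₁ := Triangle.π₁.mapIso e
  have e₂ := Triangle.π₂.mapIso e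
  have e₃ := Triangle.π₃.mapIso e
  simp only [isKFlatCx_iff]
  exact ⟨fun a b => isKFlat_of_iso_homotopy e₃.symm (h.1 (isKFlat_of_iso_homotopy e₁ a) (isKFlat_of_iso_homotopy e₂ b)),
    fun a b => isKFlat_of_iso_homotopy e₂.symm (h.2.1 (isKFlat_of_iso_homotopy e₁ a) (isKFlat_of_iso_homotopy e₃ b)),
    fun a b => isKFlat_of_iso_homotopy e₁.symm (h.2.2 (isKFlat_of_iso_homotopy e₂ a) (isKFlat_of_iso_homotopy e₃ b))⟩

/-- Two out of three for short exact sequences with termwise flat cokernel. -/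
theorem two_of_three_shortExact (S : ShortComplex (DRing.Cx R)) (hS : S.ShortExact)
    (h3 : DRing.TermwiseFlat S.X₃) :
    (IsKFlatCx R S.X₁ → IsKFlatCx R S.X₂ → IsKFlatCx R S.X₃) ∧
    (IsKFlatCx R S.X₁ → IsKFlatCx R S.X₃ → IsKFlatCx R S.X₂) ∧
    (IsKFlatCx R S.X₂ → IsKFlatCx R S.X₃ → IsKFlatCx R S.X₁) := by
  simp only [isKFlatCx_iff]
  refine KFlat.isKFlat_two_of_three (T R) S fun Y q => ?_
  let S' := S.map (eval (ModuleCat.{u} R) up q)
  have h : S'.ShortExact := hS.map_of_exact (eval (ModuleCat.{u} R) up q)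
  have : Module.Flat R S'.X₃ := h3 q
  have hs := (ModuleCat.epi_iff_surjective _).1 h.epi_g
  have hx := (ShortComplex.ShortExact.moduleCat_exact_iff_function_exact _).1 h.exact
  have hm := (ModuleCat.mono_iff_injective _).1 h.mono_f
  exact
    { exact := (ShortComplex.ShortExact.moduleCat_exact_iff_function_exact _).2 (lTensor_exact Y hx hs)
      mono_f := (ModuleCat.mono_iff_injective _).2
        (LinearMap.lTensor_injective_of_exact_of_flat S'.g.hom hs S'.f.hom hm hx Y)
      epi_g := (ModuleCat.epi_iff_surjective _).2 (LinearMap.lTensor_surjective _ hs) }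

/-- Filtered colimits. -/
theorem isKFlatCx_colimit {J : Type u} [SmallCategory J] [IsFiltered J] (F : J ⥤ DRing.Cx R)
    (hF : ∀ j, IsKFlatCx R (F.obj j)) : IsKFlatCx R (colimit F) :=
  isKFlatCx_iff.2 (KFlat.isKFlat_of_isColimit (T R) F (colimit.cocone F)
    (fun q => isColimitOfPreserves (eval (ModuleCat.{u} R) up q) (colimit.isColimit F))
    fun j => isKFlatCx_iff.1 (hF j))

/-- Every morphism out of a K-flat complex factors through a K-flat resolution of its target. -/
theorem exists_factor {K L : DRing.Cx R} (a : K ⟶ L) (hK : IsKFlatCx R K) :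
    ∃ (N : DRing.Cx R) (b : K ⟶ N) (c : N ⟶ L), IsKFlatCx R N ∧
      (DRing.TermwiseFlat K → DRing.TermwiseFlat N) ∧ QuasiIso c ∧ Nonempty (Homotopy a (b ≫ c)) := by
  letI := HasDerivedCategory.standard (ModuleCat.{u} R)
  obtain ⟨M, φ, b, c, hc, hbc⟩ := KFlat.exists_factor (resFunctor R) (resAug R) resAug_quasiIso resAug_epi a
  refine ⟨_, b, c, isKFlatCx_iff.2 ?_, fun hKf => ?_, hc, ⟨Homotopy.ofEq hbc.symm⟩⟩
  · exact (isKFlatCx_iff.1 (res_isKFlat M)).mappingCone (T R) φ
      ((isKFlatCx_iff.1 hK).biprod (T R) (isKFlatCx_iff.1 (res_isKFlat L)))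
  · have hbi : ∀ {Y Y' : ModuleCat.{u} R}, Module.Flat R Y → Module.Flat R Y' → Module.Flat R ↑(Y ⊞ Y') :=
      fun {Y Y'} h h' => by
        have : Module.Flat R (Y × Y') :=
          flat_of_exact_flat_right (f := LinearMap.inl R Y Y') (g := LinearMap.snd R _ _)
            LinearMap.inl_injective LinearMap.snd_surjective Function.Exact.inl_snd
        exact Module.Flat.of_linearEquiv (ModuleCat.biprodIsoProd Y Y').toLinearEquiv
    refine KFlat.prop_mappingCone φ (fun Y => Module.Flat R Y)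
      (fun e h => Module.Flat.of_linearEquiv e.symm.toLinearEquiv) hbi (res_flat M) fun n => ?_
    have := hbi (hKf n) (res_flat L n)
    exact Module.Flat.of_linearEquiv (HomologicalComplex.biprodXIso _ _ n).toLinearEquiv

section BaseChange

variable {R' : Type u} [CommRing R'] (φ : R →+* R')

/-- `(M, N) ↦ M ⊗ (R' ⊗ N)`. -/
noncomputable abbrev TP : ModuleCat.{u} R' ⥤ ModuleCat.{u} R ⥤ ModuleCat.{u} R' :=
  T R' ⋙ (Functor.whiskeringLeft _ _ _).obj (ModuleCat.extendScalars φ)

instance (M : ModuleCat.{u} R') : ((TP φ).obj M).Additive :=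
  inferInstanceAs (ModuleCat.extendScalars φ ⋙ (T R').obj M).Additive

instance (M : ModuleCat.{u} R') : PreservesColimitsOfShape ℕ ((TP φ).obj M) :=
  haveI : (ModuleCat.extendScalars.{u, u, u} φ).IsLeftAdjoint :=
    (ModuleCat.extendRestrictScalarsAdj φ).isLeftAdjoint
  inferInstanceAs (PreservesColimitsOfShape ℕ (ModuleCat.extendScalars φ ⋙ (T R').obj M))

theorem isKFlatCx_extCx {K : DRing.Cx R} (hK : IsKFlatCx R K) : IsKFlatCx R' (extCx φ K) := by
  have hrfl : ∀ E : DRing.Cx R, KFlat.IsKFlat (TP φ) E ↔ KFlat.IsKFlat (T R') (extCx φ E) :=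
    fun E => Iff.rfl
  rw [isKFlatCx_iff, ← hrfl]
  algebraize [φ]
  let q := (resAug R).app K
  have hR := isKFlatCx_iff.1 (res_isKFlat K)
  haveI : QuasiIso q := resAug_quasiIso K
  let C := CochainComplex.mappingCone q
  have hC : KFlat.IsKFlat (T R) C := hR.mappingCone (T R) q (isKFlatCx_iff.1 hK)
  have hac : C.Acyclic := (quasiIso_iff_cone_acyclic q).1 inferInstance
  have hres : KFlat.IsKFlat (TP φ) ((resFunctor R).obj K) :=
    (cover (R := R)).isKFlat_resol (TP φ) (KFlat.Flat (T R))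
      (fun N h S hS => by
        have := moduleFlat_of_flat N h
        haveI : Module.Flat R' ((ModuleCat.extendScalars φ).obj N) :=
          Module.Flat.of_linearEquiv (FlatCxBase.extendEquiv R' N)
        exact flat_of_moduleFlat ((ModuleCat.extendScalars φ).obj N) S hS)
      flat_freeFunctor (fun _ h => KFlat.flat_of_isZero (T R) h) (fun e h => h.of_iso e) flat_sigma K
  have h₂ : KFlat.IsKFlat (TP φ) C := by
    rw [hrfl, ← isKFlatCx_iff]
    refine isKFlatCx_of_forall _ fun M i => ?_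
    letI : Module R M := Module.compHom M φ
    haveI : IsScalarTower R R' M := IsScalarTower.of_algebraMap_smul fun _ _ => rfl
    exact (isZero_extCx_tensor_iff C M i).2 (isZero_tensorCx_of_acyclic_kFlat C hC hac (ModuleCat.of R M) i)
  exact (KFlat.isKFlat_two_of_three (TP φ) (KFlat.coneSC q) fun M p =>
    ((KFlat.coneSplitting q p).map ((TP φ).obj M)).shortExact).2.2 h₂ (hres.shift (TP φ) 1)

end BaseChange

end Groth.DAlg.KFlatMod
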