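import Groth.Agent.DerivedAdj.Basic
import Groth.Agent.DerivedCoh.KInj.Products
import Groth.Agent.DerivedCoh.TriBasic
import Groth.Agent.DerivedCoh.KFlat.Unbounded

/-!
Total right derived functors computed by K-injective complexes preserve distinguished triangles.
-/

universe w₁ w₂ v u₁ u₂

set_option backward.defeqAttrib.useBackward true
set_option backward.isDefEq.respectTransparency false
set_option linter.unusedSectionVars false
set_option linter.style.haveILetI false

open CategoryTheory CategoryTheory.Limits CategoryTheory.Pretriangulated HomologicalComplex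
open Groth.DerivedCoh

namespace Groth.DAlg.RFTriangle

variable {A : Type u₁} [Category.{v} A] [Abelian A] [IsGrothendieckAbelian.{v} A]
  {B : Type u₂} [Category.{v} B] [Abelian B] (G : A ⥤ B) [G.Additive]
  [HasDerivedCategory.{w₁} A] [HasDerivedCategory.{w₂} B]

local notation "up" => ComplexShape.up ℤ
local notation "qA" => HomotopyCategory.quotient A (ComplexShape.up ℤ)
local notation "qB" => HomotopyCategory.quotient B (ComplexShape.up ℤ)

variable (RF : DerivedCategory A ⥤ DerivedCategory B)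
  (β : G.mapHomotopyCategory (ComplexShape.up ℤ) ⋙ DerivedCategory.Qh ⟶ DerivedCategory.Qh ⋙ RF)
  [RF.IsRightDerivedFunctor β (HomotopyCategory.quasiIso A up)]

lemma enoughKInj : Groth.DerivedAdj.EnoughKInj A := fun K => by
  obtain ⟨I, i, -, h1, h2, -⟩ := KInjRes.exists_resolution K
  exact ⟨I, i, h2, h1⟩

lemma comp_map_hom_inv {X Y : DerivedCategory B} {P Q : DerivedCategory B} (a : X ⟶ Y) (b : Y ⟶ P⟦(1 : ℤ)⟧)
    (g : P ≅ Q) : (a ≫ b ≫ g.hom⟦(1 : ℤ)⟧') ≫ g.inv⟦(1 : ℤ)⟧' = a ≫ b := by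
  simp [← Functor.map_comp]

include β in
lemma isIso_β (J : CochainComplex A ℤ) [J.IsKInjective] : IsIso (β.app ((qA).obj J)) :=
  Groth.DerivedAdj.isIso_app_of_bijective
    (HomotopyCategory.quasiIso A up) RF β (Groth.DerivedAdj.exists_good (enoughKInj (A := A))) _
    fun K => CochainComplex.IsKInjective.Qh_map_bijective K J

/-- Every object of the derived category comes from a K-injective complex. -/
lemma exists_model (Y : DerivedCategory A) : ∃ J : CochainComplex A ℤ,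
    J.IsKInjective ∧ Nonempty (DerivedCategory.Qh.obj ((qA).obj J) ≅ Y) := by
  obtain ⟨K, hK⟩ := HomotopyCategory.quotient_obj_surjective ((DerivedCategory.Qh (C := A)).objPreimage Y)
  obtain ⟨J, j, hJ, hj⟩ := enoughKInj (A := A) K
  haveI : IsIso (DerivedCategory.Qh.map ((qA).map j)) :=
    Localization.inverts DerivedCategory.Qh (HomotopyCategory.quasiIso A up) _
      ((HomotopyCategory.quotient_map_mem_quasiIso_iff j).2 hj)
  exact ⟨J, hJ, ⟨(asIso (DerivedCategory.Qh.map ((qA).map j))).symm ≪≫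
    DerivedCategory.Qh.mapIso (eqToIso hK) ≪≫ DerivedCategory.Qh.objObjPreimageIso Y⟩⟩

lemma isKInjective_cone {J₁ J₂ : CochainComplex A ℤ} [J₁.IsKInjective] [J₂.IsKInjective] (f : J₁ ⟶ J₂) :
    (CochainComplex.mappingCone f).IsKInjective := by
  rw [CochainComplex.isKInjective_iff_rightOrthogonal]
  exact ObjectProperty.ext_of_isTriangulatedClosed₃ _ _
    (HomotopyCategory.mappingCone_triangleh_distinguished f)
    (CochainComplex.IsKInjective.rightOrthogonal J₁) (CochainComplex.IsKInjective.rightOrthogonal J₂)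

include β in
/-- The image of a distinguished triangle completes to a distinguished triangle. -/
theorem exists_distinguished (T : Triangle (DerivedCategory A)) (hT : T ∈ distTriang _) :
    ∃ c : RF.obj T.obj₃ ⟶ (RF.obj T.obj₁)⟦(1 : ℤ)⟧,
      Triangle.mk (RF.map T.mor₁) (RF.map T.mor₂) c ∈ distTriang _ := by
  obtain ⟨J₁, hJ₁, ⟨e₁⟩⟩ := exists_model T.obj₁
  obtain ⟨J₂, hJ₂, ⟨e₂⟩⟩ := exists_model T.obj₂
  obtain ⟨φ, hφ⟩ := (CochainComplex.IsKInjective.Qh_map_bijective ((qA).obj J₁) J₂).2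
    (e₁.hom ≫ T.mor₁ ≫ e₂.inv)
  obtain ⟨f, rfl⟩ := (qA).map_surjective φ
  haveI := isKInjective_cone f
  let S := CochainComplex.mappingCone.triangleh f
  have hS : S ∈ distTriang _ := HomotopyCategory.mappingCone_triangleh_distinguished f
  have hQS : DerivedCategory.Qh.mapTriangle.obj S ∈ distTriang _ :=
    DerivedCategory.Qh.map_distinguished _ hS
  have hcomm : DerivedCategory.Qh.map S.mor₁ ≫ e₂.hom = e₁.hom ≫ T.mor₁ := by
    change DerivedCategory.Qh.map ((qA).map f) ≫ e₂.hom = _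
    rw [hφ, Category.assoc, Category.assoc, Iso.inv_hom_id, Category.comp_id]
  let E := isoTriangleOfIso₁₂ (DerivedCategory.Qh.mapTriangle.obj S) T hQS hT e₁ e₂ hcomm
  let e₃ : DerivedCategory.Qh.obj S.obj₃ ≅ T.obj₃ := Triangle.π₃.mapIso E
  have hcomm₂ : DerivedCategory.Qh.map S.mor₂ ≫ e₃.hom = e₂.hom ≫ T.mor₂ := by
    have := E.hom.comm₂
    simp only [E, isoTriangleOfIso₁₂_hom_hom₂] at this
    exact this
  haveI := isIso_β G RF β J₁
  haveI := isIso_β G RF β J₂
  haveI := isIso_β G RF β (CochainComplex.mappingCone f)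
  let K := G.mapHomotopyCategory up
  let U := DerivedCategory.Qh.mapTriangle.obj (K.mapTriangle.obj S)
  have hU : U ∈ distTriang _ :=
    DerivedCategory.Qh.map_distinguished _ (K.map_distinguished _ hS)
  let a₁ : U.obj₁ ≅ RF.obj T.obj₁ := asIso (β.app ((qA).obj J₁)) ≪≫ RF.mapIso e₁
  let a₂ : U.obj₂ ≅ RF.obj T.obj₂ := asIso (β.app ((qA).obj J₂)) ≪≫ RF.mapIso e₂
  let a₃ : U.obj₃ ≅ RF.obj T.obj₃ :=
    asIso (β.app ((qA).obj (CochainComplex.mappingCone f))) ≪≫ RF.mapIso e₃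
  refine ⟨a₃.inv ≫ U.mor₃ ≫ a₁.hom⟦(1 : ℤ)⟧', isomorphic_distinguished _ hU _
    (Triangle.isoMk _ _ a₁.symm a₂.symm a₃.symm ?_ ?_ ?_)⟩
  · change RF.map T.mor₁ ≫ a₂.inv = a₁.inv ≫ U.mor₁
    rw [Iso.comp_inv_eq, Category.assoc, Iso.eq_inv_comp]
    change (β.app _ ≫ RF.map e₁.hom) ≫ RF.map T.mor₁ =
      DerivedCategory.Qh.map (K.map S.mor₁) ≫ β.app _ ≫ RF.map e₂.hom
    rw [Category.assoc, ← Functor.map_comp, ← hcomm, Functor.map_comp]
    exact ((Category.assoc _ _ _).symm.trans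
      (congrArg (· ≫ RF.map e₂.hom) (β.naturality S.mor₁).symm)).trans (Category.assoc _ _ _)
  · change RF.map T.mor₂ ≫ a₃.inv = a₂.inv ≫ U.mor₂
    rw [Iso.comp_inv_eq, Category.assoc, Iso.eq_inv_comp]
    change (β.app _ ≫ RF.map e₂.hom) ≫ RF.map T.mor₂ =
      DerivedCategory.Qh.map (K.map S.mor₂) ≫ β.app _ ≫ RF.map e₃.hom
    rw [Category.assoc, ← Functor.map_comp, ← hcomm₂, Functor.map_comp]
    exact ((Category.assoc _ _ _).symm.trans
      (congrArg (· ≫ RF.map e₃.hom) (β.naturality S.mor₂).symm)).trans (Category.assoc _ _ _)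
  · change (a₃.inv ≫ U.mor₃ ≫ a₁.hom⟦(1 : ℤ)⟧') ≫ a₁.inv⟦(1 : ℤ)⟧' = a₃.inv ≫ U.mor₃
    exact comp_map_hom_inv a₃.inv U.mor₃ a₁

end Groth.DAlg.RFTriangle
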