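import Groth.Agent.DAlg.DCompletionAmp
import Groth.Agent.DAlg.RHomCx
import Groth.Agent.DAlg.RFTriangle
import Mathlib.Algebra.Homology.DerivedCategory.ShortExact

/-!
`RHom_A(K, -)` and derived completion.
-/

universe u

open CategoryTheory CategoryTheory.Limits CategoryTheory.Pretriangulated
open CochainComplex CochainComplex.HomComplex
open Groth.DerComplete Groth.DerivedCoh Groth.DualCore
open Groth.DAlg.DCompletion Groth.DAlg.DCompletionAmp

attribute [local instance] HasDerivedCategory.standard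

namespace Groth.DAlg.DCompletionRHom

variable {A : Type u} [CommRing A]

section PiN

variable (f : A) (L : DRing.Cx A)

lemma sigmaCx_projCx (n : ℕ) : sigmaCx f L ≫ projCx L n = projCx L n - f • projCx L (n + 1) := by
  ext i x
  rfl

/-- Two morphisms into `piN L` agree if their components do. -/
lemma isKInjective_piN [L.IsKInjective] : (piN L).IsKInjective where
  nonempty_homotopy_zero {E} φ hE := by
    have h : ∀ n, Homotopy (φ ≫ projCx L n) 0 := fun n => IsKInjective.homotopyZero _ hE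
    let H : ∀ i j, E.X i ⟶ (piN L).X j := fun i j =>
      (ModuleCat.ofHom (LinearMap.pi fun n => ((h n).hom i j).hom) : E.X i ⟶ (piN L).X j)
    refine ⟨{ hom := H, zero := fun i j hij => ?_, comm := fun i => ?_ }⟩
    · refine ModuleCat.hom_ext (LinearMap.ext fun x => funext fun n => ?_)
      exact congrArg (fun ψ : E.X i ⟶ L.X j => ψ.hom x) ((h n).zero i j hij)
    · refine ModuleCat.hom_ext (LinearMap.ext fun x => funext fun n => ?_)
      have := congrArg (fun ψ : E.X i ⟶ L.X i => ψ.hom x) ((h n).comm i)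
      simp only [dNext_eq _ (show (ComplexShape.up ℤ).Rel i (i + 1) from rfl),
        prevD_eq _ (show (ComplexShape.up ℤ).Rel (i - 1) i by simp)] at this ⊢
      exact this

lemma dc_of_quasiIso_sigmaCx [h : QuasiIso (sigmaCx f L)] (j : ℤ) : DC f (L.homology j) := by
  have hb : Function.Bijective (HomologicalComplex.homologyMap (sigmaCx f L) j).hom :=
    (ConcreteCategory.isIso_iff_bijective _).1 inferInstance
  have hi := (FlatCxBase.homologyMap_injective_iff _ rfl rfl).1 hb.1
  have hs := (FlatCxBase.homologyMap_surjective_iff _ rfl rfl).1 hb.2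
  let cls := FlatCxBase.cls L j
  refine DC.mk (fun ξ hξ => ?_) (fun η => ?_)
  · choose x hx using fun k => FlatCxBase.cls_surjective (K := L) j (ξ k)
    have hd : ∀ k, ∃ w, L.d _ j w = (x k).1 - f • (x (k + 1)).1 := fun k => by
      refine (FlatCxBase.cls_eq_zero_iff (K := L) j rfl (x k - f • x (k + 1))).1 ?_
      rw [map_sub, map_smul, hx, hx, ← hξ k, sub_self]
    choose w hw using hd
    obtain ⟨y, hy⟩ := hi (fun k => (x k).1) (funext fun k => (x k).2) ⟨w, funext hw⟩
    funext k
    rw [← hx k]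
    exact (FlatCxBase.cls_eq_zero_iff (K := L) j rfl _).2 ⟨y k, congrFun hy k⟩
  · choose y hy using fun k => FlatCxBase.cls_surjective (K := L) j (η k)
    obtain ⟨(x : ℕ → L.X j), (w : ℕ → L.X _), hxc, hxw⟩ := hs (fun k => (y k).1) (funext fun k => (y k).2)
    refine ⟨fun k => cls ⟨x k, congrFun hxc k⟩, fun k => ?_⟩
    have h0 : cls (⟨x k, congrFun hxc k⟩ - f • ⟨x (k + 1), congrFun hxc (k + 1)⟩ - y k) = 0 := by
      refine (FlatCxBase.cls_eq_zero_iff (K := L) j rfl _).2 ⟨-(w k), ?_⟩
      have := congrFun hxw k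
      change (x k - f • x (k + 1)) + L.d _ j (w k) = (y k).1 at this
      rw [map_neg]
      change -(L.d _ j (w k)) = x k - f • x (k + 1) - (y k).1
      rw [← this]
      abel
    rw [map_sub, map_sub, map_smul, sub_eq_zero, sub_eq_iff_eq_add] at h0
    rw [← hy k]
    exact h0

variable (K : DRing.Cx A)

/-- Cochains into a countable product. -/
noncomputable def piIso : DRing.homCx K (piN L) ≅ piN (DRing.homCx K L) :=
  HomologicalComplex.Hom.isoOfComponents
    (fun i => LinearEquiv.toModuleIso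
      ({ toFun := fun z => (fun n => (z : Cochain K (piN L) i).comp (Cochain.ofHom (projCx L n)) (add_zero i))
         map_add' := fun z z' => funext fun n => Cochain.add_comp _ _ _ _
         map_smul' := fun a z => funext fun n => Cochain.smul_comp a _ _ _
         invFun := fun w => Cochain.mk fun p q hpq =>
          ModuleCat.ofHom (LinearMap.pi fun n => ((w n : Cochain K L i).v p q hpq).hom)
         left_inv := fun (z : Cochain K (piN L) i) => by
          refine Cochain.ext _ _ fun p q hpq => ModuleCat.hom_ext (LinearMap.ext fun x => funext fun n => ?_)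
          simp only [Cochain.comp_zero_cochain_v, Cochain.ofHom_v]
          rfl
         right_inv := fun w => funext fun n => Cochain.ext _ _ fun p q hpq => by
          rw [Cochain.comp_zero_cochain_v, Cochain.ofHom_v]
          rfl } : Cochain K (piN L) i ≃ₗ[A] (ℕ → Cochain K L i)))
    (fun i j _ => by
      refine ModuleCat.hom_ext (LinearMap.ext fun (z : Cochain K (piN L) i) => funext fun n => ?_)
      exact δ_comp_ofHom z (projCx L n) j)

lemma homCxMap_sigmaCx :
    DRing.homCxMap K (sigmaCx f L) ≫ (piIso L K).hom =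
      (piIso L K).hom ≫ sigmaCx f (DRing.homCx K L) := by
  refine HomologicalComplex.hom_ext _ _ fun i => ModuleCat.hom_ext (LinearMap.ext fun (z : Cochain K (piN L) i) => ?_)
  funext n
  change (z.comp (Cochain.ofHom (sigmaCx f L)) (add_zero i)).comp (Cochain.ofHom (projCx L n)) (add_zero i) =
    z.comp (Cochain.ofHom (projCx L n)) (add_zero i) -
      f • z.comp (Cochain.ofHom (projCx L (n + 1))) (add_zero i)
  rw [Cochain.comp_assoc_of_third_is_zero_cochain, ← Cochain.ofHom_comp, sigmaCx_projCx]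
  ext p q hpq : 3
  simp only [Cochain.comp_zero_cochain_v, Cochain.ofHom_v, Cochain.sub_v, Cochain.smul_v]
  simp only [HomologicalComplex.sub_f_apply, HomologicalComplex.smul_f_apply, Preadditive.comp_sub,
    Linear.comp_smul]

/-- `Hom•(K, L)` is derived complete at `f` when `L` is. -/
theorem dcd_homCx [L.IsKInjective] (h : DCD f (DerivedCategory.Q.obj L)) :
    DCD f (DRing.toD (DRing.homCx K L)) := by
  have := isKInjective_piN L
  have hq : QuasiIso (sigmaCx f L) := quasiIso_sigmaCx f L fun n =>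
    (h n).congr ((DerivedCategory.homologyFunctorFactors _ n).app L).toLinearEquiv
  have : IsIso (DerivedCategory.Q.map (sigmaCx f L)) := (DerivedCategory.isIso_Q_map_iff_quasiIso _ _).2 hq
  have : IsIso (DerivedCategory.Q.map (DRing.homCxMap K (sigmaCx f L))) := by
    have h1 := RHomCx.objIso_naturality K (sigmaCx f L)
    have h2 : IsIso ((RHomCx.objIso K (piN L)).hom ≫ (DRing.RHomCx K).map (DerivedCategory.Q.map (sigmaCx f L))) :=
      inferInstance
    exact @IsIso.of_isIso_comp_right _ _ _ _ _ (DerivedCategory.Q.map (DRing.homCxMap K (sigmaCx f L)))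
      (RHomCx.objIso K (piN L)).hom inferInstance ((congrArg IsIso h1).mpr h2)
  have hq' : QuasiIso (DRing.homCxMap K (sigmaCx f L)) :=
    (DerivedCategory.isIso_Q_map_iff_quasiIso _ _).1 inferInstance
  have : QuasiIso (sigmaCx f (DRing.homCx K L)) := by
    have : sigmaCx f (DRing.homCx K L) =
        (piIso L K).inv ≫ DRing.homCxMap K (sigmaCx f L) ≫ (piIso L K).hom := by
      rw [homCxMap_sigmaCx, Iso.inv_hom_id_assoc]
    rw [this]
    exact quasiIso_comp _ _
  exact fun n => (dc_of_quasiIso_sigmaCx f (DRing.homCx K L) n).congr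
    ((DerivedCategory.homologyFunctorFactors _ n).app _).symm.toLinearEquiv

end PiN

section Complete

variable (K : DRing.Cx A)

/-- `RHom_A(K, -)` preserves derived completeness. -/
theorem isDerivedComplete_rhom [DRing.HasRHomCx K] (I : Ideal A) (C : Dual.D A)
    (hC : DRing.IsDerivedComplete I C) : DRing.IsDerivedComplete I ((DRing.RHomCx K).obj C) := by
  obtain ⟨L, hL, ⟨e⟩⟩ := KInjRes.exists_kInjective_iso C
  refine (isDerivedComplete_iff I _).2 fun f hf => ?_
  exact (dcd_homCx f L K ((dcd_of_isDerivedComplete hf hC).of_iso e.symm)).of_iso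
    (RHomCx.objIso K L ≪≫ (DRing.RHomCx K).mapIso e)

lemma bijective_homCx (g : A) {E : DRing.Cx A} (hE : ∀ i, Function.Bijective fun x : E.X i => g • x) (i : ℤ) :
    Function.Bijective fun z : (DRing.homCx K E).X i => g • z := by
  let eqv : ∀ q, E.X q ≃ₗ[A] E.X q := fun q => LinearEquiv.ofBijective (g • LinearMap.id) (hE q)
  refine ⟨fun (z z' : Cochain K E i) hz => Cochain.ext _ _ fun p q hpq => ?_, fun (w : Cochain K E i) => ?_⟩
  · refine ModuleCat.hom_ext (LinearMap.ext fun x => (hE q).1 ?_)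
    exact congrArg (fun t : Cochain K E i => (t.v p q hpq).hom x) hz
  · refine ⟨Cochain.mk fun p q hpq => w.v p q hpq ≫ ModuleCat.ofHom (eqv q).symm.toLinearMap, ?_⟩
    refine Cochain.ext _ _ fun p q hpq => ModuleCat.hom_ext (LinearMap.ext fun x => ?_)
    change g • (eqv q).symm ((w.v p q hpq).hom x) = _
    exact (eqv q).apply_symm_apply _

/-- `Hom•(K, -)` of a degreewise split short exact sequence. -/
theorem homCx_shortExact (S : ShortComplex (DRing.Cx A))
    (r : ∀ n, S.X₂.X n ⟶ S.X₁.X n) (s : ∀ n, S.X₃.X n ⟶ S.X₂.X n)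
    (hfr : ∀ n, S.f.f n ≫ r n = 𝟙 (S.X₁.X n)) (hsg : ∀ n, s n ≫ S.g.f n = 𝟙 (S.X₃.X n))
    (hid : ∀ n, r n ≫ S.f.f n + S.g.f n ≫ s n = 𝟙 (S.X₂.X n)) :
    ∃ w, (ShortComplex.mk (DRing.homCxMap K S.f) (DRing.homCxMap K S.g) w).ShortExact := by
  have hfg : ∀ n, S.f.f n ≫ S.g.f n = 0 := fun n => by
    rw [← HomologicalComplex.comp_f, S.zero, HomologicalComplex.zero_f]
  have w : DRing.homCxMap K S.f ≫ DRing.homCxMap K S.g = 0 := by
    refine HomologicalComplex.hom_ext _ _ fun i => ModuleCat.hom_ext (LinearMap.ext fun (z : Cochain K S.X₁ i) => ?_)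
    change (z.comp (Cochain.ofHom S.f) (add_zero i)).comp (Cochain.ofHom S.g) (add_zero i) = 0
    refine Cochain.ext _ _ fun p q hpq => ?_
    rw [Cochain.comp_zero_cochain_v, Cochain.comp_zero_cochain_v, Cochain.ofHom_v, Cochain.ofHom_v,
      Category.assoc, hfg, comp_zero, Cochain.zero_v]
  refine ⟨w, HomologicalComplex.shortExact_of_degreewise_shortExact _ fun i => ?_⟩
  refine { exact := ?_, mono_f := ?_, epi_g := ?_ }
  · rw [ShortComplex.moduleCat_exact_iff]
    intro (z : Cochain K S.X₂ i) hz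
    refine ⟨Cochain.mk fun p q hpq => z.v p q hpq ≫ r q, ?_⟩
    refine Cochain.ext _ _ fun p q hpq => ?_
    change (Cochain.comp _ (Cochain.ofHom S.f) (add_zero i)).v p q hpq = z.v p q hpq
    have h0 : z.v p q hpq ≫ S.g.f q = 0 := by
      have h := congrArg (fun t : Cochain K S.X₃ i => t.v p q hpq) hz
      change (z.comp (Cochain.ofHom S.g) (add_zero i)).v p q hpq = (0 : Cochain K S.X₃ i).v p q hpq at h
      rwa [Cochain.comp_zero_cochain_v, Cochain.ofHom_v, Cochain.zero_v] at h
    rw [Cochain.comp_zero_cochain_v, Cochain.ofHom_v, Cochain.mk_v, Category.assoc]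
    conv_rhs => rw [← Category.comp_id (z.v p q hpq), ← hid, Preadditive.comp_add, ← Category.assoc (z.v p q hpq) (S.g.f q), h0,
      zero_comp, add_zero]
  · rw [ModuleCat.mono_iff_injective]
    intro (z : Cochain K S.X₁ i) (z' : Cochain K S.X₁ i) hz
    refine Cochain.ext _ _ fun p q hpq => ?_
    have := congrArg (fun t : Cochain K S.X₂ i => t.v p q hpq ≫ r q) hz
    change ((z.comp (Cochain.ofHom S.f) (add_zero i)).v p q hpq) ≫ _ =
      ((z'.comp (Cochain.ofHom S.f) (add_zero i)).v p q hpq) ≫ _ at this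
    simpa [Cochain.comp_zero_cochain_v, Cochain.ofHom_v, hfr] using this
  · rw [ModuleCat.epi_iff_surjective]
    intro (z : Cochain K S.X₃ i)
    refine ⟨Cochain.mk fun p q hpq => z.v p q hpq ≫ s q, Cochain.ext _ _ fun p q hpq => ?_⟩
    change (Cochain.comp _ (Cochain.ofHom S.g) (add_zero i)).v p q hpq = z.v p q hpq
    rw [Cochain.comp_zero_cochain_v, Cochain.ofHom_v, Cochain.mk_v, Category.assoc, hsg, Category.comp_id]

lemma triangle_mor₃_f {X Y : DRing.Cx A} (φ : X ⟶ Y) (n : ℤ) :
    (mappingCone.triangle φ).mor₃.f n =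
      -((mappingCone.fst φ).1.v n (n + 1) rfl ≫ (X.shiftFunctorObjXIso 1 n (n + 1) rfl).inv) := by
  refine mappingCone.ext_from φ (n + 1) n rfl ?_ ?_
  · refine (mappingCone.inl_v_triangle_mor₃_f φ (n + 1) n (by omega)).trans ?_
    refine Eq.trans ?_ (Preadditive.comp_neg _ _).symm
    exact congrArg Neg.neg (mappingCone.inl_v_fst_v_assoc φ (n + 1) n rfl _).symm
  · refine (mappingCone.inr_f_triangle_mor₃_f φ n).trans ?_
    refine Eq.trans ?_ (Preadditive.comp_neg _ _).symm
    exact neg_zero.symm.trans (congrArg Neg.neg ((mappingCone.inr_f_fst_v_assoc φ n (n + 1) rfl _).trans zero_comp).symm)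

/-- `Hom•(K, -)` of the sequence of a mapping cone. -/
theorem homCx_cone_shortExact {X Y : DRing.Cx A} (φ : X ⟶ Y) :
    ∃ w, (ShortComplex.mk (DRing.homCxMap K (mappingCone.inr φ)) (DRing.homCxMap K (mappingCone.triangle φ).mor₃) w :
      ShortComplex (DRing.Cx A)).ShortExact := by
  refine homCx_shortExact K (ShortComplex.mk _ _ (mappingCone.inr_triangleδ φ) : ShortComplex (DRing.Cx A))
    (fun n => (mappingCone.snd φ).v n n (add_zero n))
    (fun n => -((X.shiftFunctorObjXIso 1 n (n + 1) rfl).hom ≫ (mappingCone.inl φ).v (n + 1) n (by omega)))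
    (fun n => mappingCone.inr_f_snd_v φ n) (fun n => ?_) (fun n => ?_)
  · refine (Preadditive.neg_comp _ _).trans ?_
    refine (congrArg Neg.neg ((Category.assoc _ _ _).trans
      (congrArg (_ ≫ ·) (mappingCone.inl_v_triangle_mor₃_f φ (n + 1) n (by omega))))).trans ?_
    refine (congrArg Neg.neg (Preadditive.comp_neg _ _)).trans ((neg_neg _).trans ?_)
    exact Iso.hom_inv_id _
  · let t : (mappingCone φ).X n ⟶ (mappingCone φ).X n := (mappingCone.triangle φ).mor₃.f n ≫
      (-((X.shiftFunctorObjXIso 1 n (n + 1) rfl).hom ≫ (mappingCone.inl φ).v (n + 1) n (by omega)))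
    have h3 : t = (mappingCone.fst φ).1.v n (n + 1) rfl ≫ (mappingCone.inl φ).v (n + 1) n (by omega) := by
      refine (congrArg (· ≫ _) (triangle_mor₃_f φ n)).trans ?_
      refine (Preadditive.neg_comp_neg _ _).trans ?_
      exact (Category.assoc _ _ _).trans (congrArg (_ ≫ ·) (Iso.inv_hom_id_assoc _ _))
    change (mappingCone.snd φ).v n n (add_zero n) ≫ (mappingCone.inr φ).f n + t = 𝟙 _
    rw [h3]
    exact (add_comm _ _).trans (mappingCone.id_X φ n (n + 1) rfl)

/-- One completion step, compatible with `RHom_A(K, -)`. -/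
theorem exists_step_rhom [DRing.HasRHomCx K] (g : A) (C : Dual.D A) :
    ∃ (C' : Dual.D A) (η : C ⟶ C'), (DCD g C' ∧ (∀ f, DCD f C → DCD f C') ∧
      ∀ Z, DCD g Z → Function.Bijective fun x : C' ⟶ Z => η ≫ x) ∧
      ∀ Z, DCD g Z → Function.Bijective fun x : (DRing.RHomCx K).obj C' ⟶ Z => (DRing.RHomCx K).map η ≫ x := by
  obtain ⟨L, hL, ⟨e⟩⟩ := KInjRes.exists_kInjective_iso C
  let p := counitC (loc g) L
  have hT : DerivedCategory.Q.mapTriangle.obj (mappingCone.triangle p) ∈ distTriang (Dual.D A) := by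
    rw [DerivedCategory.mem_distTriang_iff]
    exact ⟨_, _, p, ⟨Iso.refl _⟩⟩
  refine ⟨DRing.toD (mappingCone p), e.inv ≫ DerivedCategory.Q.map (mappingCone.inr p),
    step_spec g C L e _ _ _ hT, fun Z hZ => ?_⟩
  have := Groth.DAlg.RFTriangle.isKInjective_cone p
  obtain ⟨w, hS⟩ := homCx_cone_shortExact K p
  let T := DerivedCategory.triangleOfSES hS
  have hT' : T ∈ distTriang (Dual.D A) := DerivedCategory.triangleOfSES_distinguished hS
  have hbij : ∀ i, Function.Bijective fun x : ((QL g L)⟦(1 : ℤ)⟧).X i => g • x := fun i =>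
    bijective_resC g ((coextC (loc g)).obj L) (i + 1)
  have h3 : Subsingleton (T.obj₃ ⟶ Z) := subsingleton_hom_of_bijective (bijective_homCx K g hbij) hZ
  have h0 : Subsingleton (T.obj₃⟦(-1 : ℤ)⟧ ⟶ Z) := by
    have h : Subsingleton (DerivedCategory.Q.obj ((DRing.homCx K ((QL g L)⟦(1 : ℤ)⟧))⟦(-1 : ℤ)⟧) ⟶ Z) :=
      subsingleton_hom_of_bijective (fun i => bijective_homCx K g hbij (i + -1)) hZ
    exact ⟨fun a b => (cancel_epi (((DerivedCategory.Q (C := ModuleCat.{u} A)).commShiftIso (-1 : ℤ)).app _).hom).1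
      (h.elim _ _)⟩
  have key : Function.Bijective fun x : T.obj₂ ⟶ Z => T.mor₁ ≫ x := by
    refine ⟨fun a b hab => ?_, fun z => ?_⟩
    · obtain ⟨y, hy⟩ := T.yoneda_exact₂ hT' (a - b) ((Preadditive.comp_sub _ _ _).trans (sub_eq_zero.2 hab))
      rw [← sub_eq_zero]
      exact hy.trans ((congrArg (T.mor₂ ≫ ·) (h3.elim y 0)).trans comp_zero)
    · obtain ⟨x, hx⟩ := T.invRotate.yoneda_exact₂ (inv_rot_of_distTriang _ hT') z (h0.elim _ _)
      exact ⟨x, hx.symm⟩
  have e₁ : DerivedCategory.Q.map (DRing.homCxMap K (mappingCone.inr p)) ≫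
      (RHomCx.objIso K (mappingCone p)).hom =
      (RHomCx.objIso K L).hom ≫ (DRing.RHomCx K).map (DerivedCategory.Q.map (mappingCone.inr p)) :=
    RHomCx.objIso_naturality K _
  refine ⟨fun a b hab => ?_, fun z => ?_⟩
  · simp only [Functor.map_comp, Category.assoc, cancel_epi] at hab
    refine (cancel_epi (RHomCx.objIso K (mappingCone p)).hom).1 (key.1 ?_)
    change DerivedCategory.Q.map _ ≫ _ = DerivedCategory.Q.map _ ≫ _
    rw [reassoc_of% e₁, reassoc_of% e₁, hab]
  · obtain ⟨(x : DRing.toD (DRing.homCx K (mappingCone p)) ⟶ Z), hx⟩ := key.2 ((RHomCx.objIso K L).hom ≫ (DRing.RHomCx K).map e.hom ≫ z)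
    refine ⟨(RHomCx.objIso K (mappingCone p)).inv ≫ x, ?_⟩
    change (DRing.RHomCx K).map (e.inv ≫ DerivedCategory.Q.map (mappingCone.inr p)) ≫
      (RHomCx.objIso K (mappingCone p)).inv ≫ x = z
    have e₂ : (DRing.RHomCx K).map (DerivedCategory.Q.map (mappingCone.inr p)) ≫
        (RHomCx.objIso K (mappingCone p)).inv =
        (RHomCx.objIso K L).inv ≫ DerivedCategory.Q.map (DRing.homCxMap K (mappingCone.inr p)) := by
      rw [Iso.comp_inv_eq, Category.assoc, e₁, Iso.inv_hom_id_assoc]
    have hx' : DerivedCategory.Q.map (DRing.homCxMap K (mappingCone.inr p)) ≫ x =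
        (RHomCx.objIso K L).hom ≫ (DRing.RHomCx K).map e.hom ≫ z := hx
    rw [Functor.map_comp, Category.assoc, reassoc_of% e₂, hx', Iso.inv_hom_id_assoc, ← Category.assoc,
      ← Functor.map_comp, e.inv_hom_id, CategoryTheory.Functor.map_id, Category.id_comp]

/-- A completion at a finite list, compatible with `RHom_A(K, -)`. -/
theorem exists_completion_rhom [DRing.HasRHomCx K] : ∀ (l : List A) (X : Dual.D A),
    ∃ (C : Dual.D A) (η : X ⟶ C), IsComp l η ∧
      ∀ Z, (∀ f ∈ l, DCD f Z) →
        Function.Bijective fun x : (DRing.RHomCx K).obj C ⟶ Z => (DRing.RHomCx K).map η ≫ x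
  | [], X => ⟨X, 𝟙 X, ⟨by simp, fun Z _ => ⟨fun a b h => by simpa using h, fun z => ⟨z, Category.id_comp z⟩⟩⟩,
      fun Z _ => ⟨fun a b h => by simpa using h, fun z => ⟨z, by simp⟩⟩⟩
  | g :: l, X => by
    obtain ⟨C, η, hC, hR⟩ := exists_completion_rhom l X
    obtain ⟨C', η', ⟨hg, hkeep, hu'⟩, hR'⟩ := exists_step_rhom K g C
    refine ⟨C', η ≫ η', ⟨?_, fun Z hZ => ?_⟩, fun Z hZ => ?_⟩
    · intro f hf
      rcases List.mem_cons.1 hf with rfl | hf
      · exact hg
      · exact hkeep f (hC.complete f hf)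
    · simpa [Function.comp_def] using
        (hC.bij Z fun f hf => hZ f (List.mem_cons_of_mem g hf)).comp (hu' Z (hZ g List.mem_cons_self))
    · simpa [Function.comp_def] using
        (hR Z fun f hf => hZ f (List.mem_cons_of_mem g hf)).comp (hR' Z (hZ g List.mem_cons_self))

/-- `RHom_A(K, L^)` is the completion of `RHom_A(K, L)`. -/
theorem rhom_completion [DRing.HasRHomCx K] (I : Ideal A) (hI : I.FG) [DRing.HasDerivedCompletion I]
    (L : Dual.D A) :
    DRing.IsDerivedComplete I ((DRing.RHomCx K).obj ((DRing.derivedCompletion I).obj L).obj) ∧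
      ∀ E : Dual.D A, DRing.IsDerivedComplete I E →
        Function.Bijective (fun φ : (DRing.RHomCx K).obj ((DRing.derivedCompletion I).obj L).obj ⟶ E =>
          (DRing.RHomCx K).map (DRing.toDerivedCompletion I L) ≫ φ) := by
  refine ⟨isDerivedComplete_rhom K I _ ((DRing.derivedCompletion I).obj L).property, fun E hE => ?_⟩
  obtain ⟨s, hs⟩ := hI
  obtain ⟨C, η, hη, hR⟩ := exists_completion_rhom K s.toList L
  obtain ⟨e, he⟩ := hη.exists_iso (isComp_toDerivedCompletion I s hs L)
  have hb := hR E fun f hf => dcd_of_isDerivedComplete (hs ▸ Ideal.subset_span (Finset.mem_toList.1 hf)) hE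
  rw [← he]
  refine ⟨fun a b hab => ?_, fun z => ?_⟩
  · simp only [Functor.map_comp, Category.assoc] at hab
    exact (cancel_epi ((DRing.RHomCx K).map e.hom)).1 (hb.1 hab)
  · obtain ⟨x, hx⟩ := hb.2 z
    refine ⟨(DRing.RHomCx K).map e.inv ≫ x, ?_⟩
    simp only [Functor.map_comp, Category.assoc]
    rw [← (DRing.RHomCx K).map_comp_assoc e.hom, e.hom_inv_id, CategoryTheory.Functor.map_id, Category.id_comp]
    exact hx

end Complete

end Groth.DAlg.DCompletionRHom
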