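import Groth.Prelude.Def_DRing2
import Groth.Agent.FlatCxBase.Core
import Mathlib.Algebra.Homology.HomotopyCategory.KProjective
import Mathlib.LinearAlgebra.Finsupp.LinearCombination

/-!
Semi-free resolutions of arbitrary complexes of modules: a generator is a cell, built from a formal
combination of cells one degree up and an element of the complex being resolved.
-/

universe u

open CategoryTheory CategoryTheory.Limits HomologicalComplex

attribute [local instance] HasDerivedCategory.standard

namespace Groth.DAlg.Semifree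

variable {R : Type u} [CommRing R] (K : DRing.Cx R)

/-- Raw cells of degree `n`. -/
inductive Cell : ℤ → Type u
  | mk {n : ℤ} (k : ℕ) (r : Fin k → R) (t : Fin k → Cell (n + 1)) (w : K.X n) : Cell n

variable {K}

/-- The boundary of a cell. -/
noncomputable def bd {n : ℤ} : Cell K n → (Cell K (n + 1) →₀ R)
  | .mk _ r t _ => ∑ j, Finsupp.single (t j) (r j)

/-- The image of a cell in `K`. -/
def wt {n : ℤ} : Cell K n → K.X n
  | .mk _ _ _ w => w

/-- The height of a cell. -/
def ht : {n : ℤ} → Cell K n → ℕ
  | _, .mk _ _ t _ => Finset.univ.sup (fun j => ht (t j) + 1)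

/-- Admissible cells. -/
def Ok : {n : ℤ} → Cell K n → Prop
  | n, .mk _ r t w => (∀ j, Ok (t j)) ∧ (∑ j, r j • bd (t j)) = 0 ∧ (∑ j, r j • wt (t j)) = K.d n (n + 1) w

variable (K)

/-- The generators. -/
abbrev Gen (n : ℤ) : Type u := {c : Cell K n // Ok c}

variable {K}

/-- The boundary of a generator. -/
noncomputable def bd' {n : ℤ} : Gen K n → (Gen K (n + 1) →₀ R)
  | ⟨.mk _ r t _, h⟩ => ∑ j, Finsupp.single ⟨t j, h.1 j⟩ (r j)

lemma mapDomain_bd' {n : ℤ} (c : Gen K n) :
    Finsupp.lmapDomain R R Subtype.val (bd' c) = bd c.1 := by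
  obtain ⟨⟨k, r, t, w⟩, h⟩ := c
  simp only [bd', bd, map_sum, Finsupp.lmapDomain_apply, Finsupp.mapDomain_single]

lemma bd'_dd {n : ℤ} (c : Gen K n) : Finsupp.linearCombination R bd' (bd' c) = 0 := by
  apply Finsupp.mapDomain_injective (Subtype.val_injective (p := fun c : Cell K (n + 1 + 1) => Ok c))
  obtain ⟨⟨k, r, t, w⟩, h⟩ := c
  rw [Finsupp.mapDomain_zero]
  refine Eq.trans ?_ h.2.1
  rw [← Finsupp.lmapDomain_apply R R]
  simp only [bd', map_sum, Finsupp.linearCombination_single, map_smul]
  exact Finset.sum_congr rfl fun j _ => congrArg _ (mapDomain_bd' ⟨t j, h.1 j⟩)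

variable (K)

/-- The semi-free resolution. -/
noncomputable def res : DRing.Cx R :=
  CochainComplex.of (fun n => ModuleCat.of R (Gen K n →₀ R))
    (fun _ => ModuleCat.ofHom (Finsupp.linearCombination R bd'))
    (fun _ => ModuleCat.hom_ext (Finsupp.lhom_ext fun c r => by
      show Finsupp.linearCombination R bd' (Finsupp.linearCombination R bd' (Finsupp.single c r)) = _
      rw [Finsupp.linearCombination_single, map_smul, bd'_dd, smul_zero]
      rfl))

lemma res_d (n : ℤ) : (res K).d n (n + 1) = ModuleCat.ofHom (Finsupp.linearCombination R bd') := by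
  simp [res]

lemma res_d_single {n : ℤ} (c : Gen K n) :
    (res K).d n (n + 1) (Finsupp.single c 1 : Gen K n →₀ R) = bd' c := by
  rw [res_d]
  exact (Finsupp.linearCombination_single (v := bd') R 1 c).trans (one_smul R (bd' c))

lemma res_free (n : ℤ) : Module.Free R ((res K).X n) :=
  inferInstanceAs (Module.Free R (Gen K n →₀ R))

/-- The augmentation. -/
noncomputable def aug : res K ⟶ K where
  f n := ModuleCat.ofHom (Finsupp.linearCombination R fun c : Gen K n => wt c.1)
  comm' i j hij := by
    change i + 1 = j at hij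
    subst hij
    refine ModuleCat.hom_ext (Finsupp.lhom_ext fun c r => ?_)
    rw [res_d]
    show K.d i (i + 1) (Finsupp.linearCombination R (fun c : Gen K i => wt c.1) (Finsupp.single c r)) =
      Finsupp.linearCombination R (fun c : Gen K (i + 1) => wt c.1)
        (Finsupp.linearCombination R bd' (Finsupp.single c r))
    rw [Finsupp.linearCombination_single, Finsupp.linearCombination_single, map_smul, map_smul]
    congr 1
    obtain ⟨⟨k, r', t, w⟩, h⟩ := c
    simp only [bd', map_sum, Finsupp.linearCombination_single]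
    exact h.2.2.symm

lemma aug_single {n : ℤ} (c : Gen K n) : (aug K).f n (Finsupp.single c 1 : Gen K n →₀ R) = wt c.1 :=
  (Finsupp.linearCombination_single R 1 c).trans (one_smul R _)

/-- The cell of a cycle of `K`. -/
def cycleGen {n : ℤ} (y : K.X n) (hy : K.d n (n + 1) y = 0) : Gen K n :=
  ⟨.mk 0 Fin.elim0 (fun j => j.elim0) y, fun j => j.elim0, by simp, by simp [hy]⟩

lemma bd'_cycleGen {n : ℤ} (y : K.X n) (hy : K.d n (n + 1) y = 0) : bd' (cycleGen K y hy) = 0 := by
  simp [cycleGen, bd']

theorem aug_surjective (n : ℤ) : Function.Surjective ((aug K).f n) := fun x => by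
  have hdd : K.d (n + 1) (n + 1 + 1) (K.d n (n + 1) x) = 0 :=
    ConcreteCategory.congr_hom (K.d_comp_d n (n + 1) (n + 1 + 1)) x
  let c₀ := cycleGen K (K.d n (n + 1) x) hdd
  let c : Gen K n := ⟨.mk 1 (fun _ => 1) (fun _ => c₀.1) x, fun _ => c₀.2, by
    simp [c₀, cycleGen, bd], by simp [c₀, cycleGen, wt]⟩
  exact ⟨_, aug_single K c⟩

theorem quasiIso_aug : QuasiIso (aug K) := by
  refine ⟨fun j => ?_⟩
  rw [quasiIsoAt_iff_isIso_homologyMap, ConcreteCategory.isIso_iff_bijective]
  obtain ⟨n, rfl⟩ : ∃ n : ℤ, j = n + 1 := ⟨j - 1, by omega⟩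
  have hi : (ComplexShape.up ℤ).prev (n + 1) = n := (ComplexShape.up ℤ).prev_eq' (by simp)
  have hk : (ComplexShape.up ℤ).next (n + 1) = n + 1 + 1 := (ComplexShape.up ℤ).next_eq' (by simp)
  refine ⟨(FlatCxBase.homologyMap_injective_iff _ hi hk).2 ?_,
    (FlatCxBase.homologyMap_surjective_iff _ hi hk).2 fun y hy => ?_⟩
  · rintro (z : Gen K (n + 1) →₀ R) hz ⟨w, hw⟩
    let e := z.support.equivFin.symm
    let t : Fin z.support.card → Gen K (n + 1) := fun j => (e j).1
    have hsum : ∑ j, Finsupp.single (t j) (z (t j)) = z := by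
      refine Eq.trans ?_ z.sum_single
      rw [Finsupp.sum, ← Finset.sum_coe_sort z.support]
      exact Fintype.sum_equiv e _ _ fun _ => rfl
    have hz' : Finsupp.linearCombination R bd' z = 0 := by
      rw [res_d] at hz
      exact hz
    let c : Gen K n := ⟨.mk z.support.card (fun j => z (t j)) (fun j => (t j).1) w,
      fun j => (t j).2, by
        have := congrArg (Finsupp.lmapDomain R R Subtype.val) hz'
        rw [← hsum, map_sum, map_sum, map_zero] at this
        refine Eq.trans (Finset.sum_congr rfl fun j _ => ?_) this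
        rw [Finsupp.linearCombination_single, map_smul, mapDomain_bd'], by
        refine Eq.trans ?_ hw.symm
        show _ = Finsupp.linearCombination R (fun c : Gen K (n + 1) => wt c.1) z
        conv_rhs => rw [← hsum]
        rw [map_sum]
        exact Finset.sum_congr rfl fun j _ =>
          (Finsupp.linearCombination_single (v := fun c : Gen K (n + 1) => wt c.1) R (z (t j)) (t j)).symm⟩
    refine ⟨(Finsupp.single c 1 : Gen K n →₀ R), (res_d_single K c).trans ?_⟩
    exact hsum
  · refine ⟨(Finsupp.single (cycleGen K y hy) 1 : Gen K (n + 1) →₀ R), 0, ?_, ?_⟩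
    · exact (res_d_single K _).trans (bd'_cycleGen K y hy)
    · rw [aug_single, map_zero, add_zero]
      rfl

section KProjective

variable {K} {L : DRing.Cx R} (f : res K ⟶ L)

open scoped Classical in
/-- The value of `f` on a raw cell. -/
noncomputable def fval {n : ℤ} (c : Cell K n) : L.X n :=
  if h : Ok c then f.f n (Finsupp.single (⟨c, h⟩ : Gen K n) 1 : Gen K n →₀ R) else 0

open scoped Classical in
/-- A contraction, cell by cell. -/
noncomputable def hval : {n : ℤ} → (c : Cell K n) → (m : ℤ) → m + 1 = n → L.X m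
  | n, .mk k r t w, m, _ =>
    if he : ∃ y, L.d m n y = fval f (.mk k r t w) - ∑ j, r j • hval (t j) n rfl then he.choose else 0

lemma hval_sum {n : ℤ} (k : ℕ) (r : Fin k → R) (t : Fin k → Cell K (n + 1)) :
    ∑ j, r j • hval f (t j) n rfl =
      Finsupp.linearCombination R (fun c => hval f c n rfl) (∑ j, Finsupp.single (t j) (r j)) := by
  rw [map_sum]
  simp only [Finsupp.linearCombination_single]

lemma d_hval (hL : L.Acyclic) : ∀ {n : ℤ} (c : Cell K n), Ok c → ∀ (m : ℤ) (hm : m + 1 = n),
    L.d m n (hval f c m hm) = fval f c - Finsupp.linearCombination R (fun c => hval f c n rfl) (bd c) := by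
  intro n c
  induction c with
  | @mk n k r t w ih =>
    intro h m hm
    show L.d m n (hval f (Cell.mk k r t w) m hm) =
      _ - Finsupp.linearCombination R _ (∑ j, Finsupp.single (t j) (r j))
    rw [← hval_sum]
    have he : ∃ y, L.d m n y = fval f (.mk k r t w) - ∑ j, r j • hval f (t j) n rfl := by
      refine (FlatCxBase.isZero_homology_iff (K := L) (k := n + 1)
        ((ComplexShape.up ℤ).prev_eq' (show (ComplexShape.up ℤ).Rel m n from hm))
        ((ComplexShape.up ℤ).next_eq' (by simp))).1 ((exactAt_iff_isZero_homology _ _).1 (hL n)) _ ?_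
      have hcomm : L.d n (n + 1) (f.f n (Finsupp.single (⟨.mk k r t w, h⟩ : Gen K n) 1 : Gen K n →₀ R)) =
          f.f (n + 1) (bd' (⟨.mk k r t w, h⟩ : Gen K n)) :=
        (ConcreteCategory.congr_hom (f.comm n (n + 1)) _).trans
          (congrArg (f.f (n + 1)) (res_d_single K ⟨Cell.mk k r t w, h⟩))
      rw [map_sub, map_sum, show fval f (.mk k r t w) = _ from dif_pos h, hcomm, bd', sub_eq_zero]
      refine (map_sum (f.f (n + 1)).hom _ _).trans ?_
      refine Eq.trans (Finset.sum_congr rfl fun j _ => ?_) (Eq.symm ?_) (b := ∑ j, r j • fval f (t j))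
      · rw [fval, dif_pos (h.1 j)]
        exact (congrArg _ (Finsupp.smul_single_one (⟨t j, h.1 j⟩ : Gen K (n + 1)) (r j)).symm).trans
          ((f.f (n + 1)).hom.map_smul _ _)
      · have : ∀ j, L.d n (n + 1) (r j • hval f (t j) n rfl) = r j • fval f (t j) -
            Finsupp.linearCombination R (fun c => hval f c (n + 1) rfl) (r j • bd (t j)) := fun j => by
          rw [map_smul, ih j (h.1 j) n rfl, smul_sub, map_smul]
        simp only [this]
        rw [Finset.sum_sub_distrib, ← map_sum, h.2.1, map_zero, sub_zero]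
    rw [hval, dif_pos he]
    exact he.choose_spec

theorem isKProjective_res : (res K).IsKProjective where
  nonempty_homotopy_zero {L} f hL := by
    let hom : ∀ i j, (res K).X i ⟶ L.X j := fun i j =>
      if hij : j + 1 = i then ModuleCat.ofHom (Finsupp.linearCombination R fun c : Gen K i => hval f c.1 j hij)
      else 0
    refine ⟨{ hom := hom, zero := fun i j hij => dif_neg hij, comm := fun i => ?_ }⟩
    rw [dNext_eq hom (show (ComplexShape.up ℤ).Rel i (i + 1) by simp),
      prevD_eq hom (show (ComplexShape.up ℤ).Rel (i - 1) i by simp), zero_f, add_zero]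
    refine ModuleCat.hom_ext (Finsupp.lhom_ext' fun c => LinearMap.ext_ring ?_)
    show f.f i (Finsupp.single c 1 : Gen K i →₀ R) = hom (i + 1) i ((res K).d i (i + 1) (Finsupp.single c 1 : Gen K i →₀ R)) +
      L.d (i - 1) i (hom i (i - 1) (Finsupp.single c 1 : Gen K i →₀ R))
    rw [res_d_single]
    rw [show hom (i + 1) i = _ from dif_pos rfl, show hom i (i - 1) = _ from dif_pos (by omega)]
    show _ = Finsupp.linearCombination R _ (bd' c) + L.d (i - 1) i (Finsupp.linearCombination R _ (Finsupp.single c 1))
    rw [Finsupp.linearCombination_single, one_smul, d_hval f hL c.1 c.2 (i - 1) (by omega), ← mapDomain_bd',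
      Finsupp.lmapDomain_apply, Finsupp.linearCombination_mapDomain, fval, dif_pos c.2]
    exact (add_sub_cancel _ _).symm

end KProjective

end Groth.DAlg.Semifree
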