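import Groth.Prelude.Def_DDual2
import Groth.Agent.DAlg.Semifree
import Groth.Agent.DerivedAdj.Basic
import Mathlib.Algebra.Homology.DerivedCategory.KProjective

/-!
Left derived functors computed by K-projective resolutions: existence, computation on K-projective
complexes, absoluteness and the derived adjunction between base change and restriction.
-/

universe u

open CategoryTheory CategoryTheory.Limits HomologicalComplex

attribute [local instance] HasDerivedCategory.standard

namespace Groth.DAlg

section Absolute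

variable {C D H H' : Type*} [Category* C] [Category* D] [Category* H] [Category* H']
  {F : C ⥤ H} {L : C ⥤ D} (W : MorphismProperty C) [L.IsLocalization W]

/-- A good object gives an initial object in the indexing category of the Kan extension. -/
noncomputable def isInitialOfBijective (P : C)
    (hP : ∀ K : C, Function.Bijective (L.map : (P ⟶ K) → (L.obj P ⟶ L.obj K))) :
    IsInitial (StructuredArrow.mk (𝟙 (L.obj P)) : StructuredArrow (L.obj P) L) :=
  IsInitial.ofUniqueHom
    (fun j => StructuredArrow.homMk ((hP j.right).2 j.hom).choose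
      ((Category.id_comp _).trans ((hP j.right).2 j.hom).choose_spec))
    (fun j g => by
      ext
      exact (hP j.right).1 (((Category.id_comp _).symm.trans (StructuredArrow.w g)).trans
        ((hP j.right).2 j.hom).choose_spec.symm))

include W in
lemma hasPointwiseLeftDerivedFunctor_of_bijective
    (hres : ∀ Y : D, ∃ P : C, Nonempty (L.obj P ≅ Y) ∧
      ∀ K : C, Function.Bijective (L.map : (P ⟶ K) → (L.obj P ⟶ L.obj K))) :
    F.HasPointwiseLeftDerivedFunctor W := fun X => by
  obtain ⟨P, ⟨e⟩, hP⟩ := hres (L.obj X)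
  rw [F.hasPointwiseLeftDerivedFunctorAt_iff L W, ← Functor.hasPointwiseRightKanExtensionAt_iff_of_iso L F e]
  exact HasLimit.mk ⟨_, limitOfDiagramInitial (isInitialOfBijective P hP) _⟩

variable (LF : D ⥤ H) (α : L ⋙ LF ⟶ F) [LF.IsLeftDerivedFunctor α W]

include W in
/-- The counit of a left derived functor is invertible on good objects. -/
lemma isIso_app_of_bijective
    (hres : ∀ Y : D, ∃ P : C, Nonempty (L.obj P ≅ Y) ∧
      ∀ K : C, Function.Bijective (L.map : (P ⟶ K) → (L.obj P ⟶ L.obj K)))
    (P : C) (hP : ∀ K : C, Function.Bijective (L.map : (P ⟶ K) → (L.obj P ⟶ L.obj K))) :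
    IsIso (α.app P) := by
  have := hasPointwiseLeftDerivedFunctor_of_bijective (F := F) W hres
  have hc := Functor.isPointwiseRightKanExtensionOfHasPointwiseLeftDerivedFunctor
    (α := α) (F' := LF) W (L.obj P)
  have h := IsLimit.isIso_π_app_of_isInitial hc _ (isInitialOfBijective P hP)
  change IsIso (LF.map (𝟙 (L.obj P)) ≫ α.app P) at h
  erw [CategoryTheory.Functor.map_id, Category.id_comp] at h
  exact h

/-- A left derived functor computed by good objects is absolute. -/
lemma isLeftDerivedFunctor_comp
    (hres : ∀ Y : D, ∃ P : C, Nonempty (L.obj P ≅ Y) ∧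
      ∀ K : C, Function.Bijective (L.map : (P ⟶ K) → (L.obj P ⟶ L.obj K)))
    (G : H ⥤ H') :
    (LF ⋙ G).IsLeftDerivedFunctor ((Functor.associator _ _ _).inv ≫ Functor.whiskerRight α G) W := by
  let E := Functor.RightExtension.mk (LF ⋙ G) ((Functor.associator L LF G).inv ≫ Functor.whiskerRight α G)
  suffices hE : E.IsPointwiseRightKanExtension from ⟨hE.isRightKanExtension⟩
  intro Y
  choose P e hP using hres
  refine E.isPointwiseRightKanExtensionAtEquivOfIso' (e Y).some ?_
  have := isIso_app_of_bijective W LF α (fun Z => ⟨P Z, e Z, hP Z⟩) (P Y) (hP Y)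
  have ht := isInitialOfBijective (P Y) (hP Y)
  have hπ : IsIso ((E.coneAt (L.obj (P Y))).π.app (StructuredArrow.mk (𝟙 (L.obj (P Y))))) := by
    change IsIso ((LF ⋙ G).map (𝟙 (L.obj (P Y))) ≫ (𝟙 _ ≫ G.map (α.app (P Y))))
    infer_instance
  exact IsLimit.ofIsoLimit (limitOfDiagramInitial ht _)
    (Cone.ext (asIso ((E.coneAt (L.obj (P Y))).π.app _)).symm fun j => by
      rw [Iso.symm_hom, Iso.eq_inv_comp]
      exact (E.coneAt _).w (ht.to j))

end Absolute

variable {R : Type u} [CommRing R]

/-- The Hom sets out of a K-projective complex. -/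
lemma bijective_Qh_map_of_isKProjective (P : DRing.Cx R) [P.IsKProjective]
    (K : HomotopyCategory (ModuleCat.{u} R) (ComplexShape.up ℤ)) :
    Function.Bijective (DerivedCategory.Qh.map :
      ((HomotopyCategory.quotient _ _).obj P ⟶ K) →
        (DerivedCategory.Qh.obj ((HomotopyCategory.quotient _ _).obj P) ⟶ DerivedCategory.Qh.obj K)) :=
  CochainComplex.IsKProjective.Qh_map_bijective P K

/-- Every complex of modules has a semi-free resolution. -/
theorem exists_kProjective_resolution (K : DRing.Cx R) :
    ∃ (P : DRing.Cx R) (q : P ⟶ K), P.IsKProjective ∧ QuasiIso q ∧ (∀ i, Module.Free R (P.X i)) ∧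
      ∀ i, Function.Surjective (q.f i) :=
  ⟨Semifree.res K, Semifree.aug K, Semifree.isKProjective_res, Semifree.quasiIso_aug K, Semifree.res_free K,
    Semifree.aug_surjective K⟩

/-- Every object of `D(R)` is the class of a K-projective complex of free modules. -/
theorem exists_kProjective_rep (K : Dual.D R) :
    ∃ P : DRing.Cx R, P.IsKProjective ∧ (∀ i, Module.Free R (P.X i)) ∧ Nonempty (DRing.toD P ≅ K) := by
  obtain ⟨P, q, hP, hq, hf, -⟩ := exists_kProjective_resolution (DerivedCategory.Q.objPreimage K)
  exact ⟨P, hP, hf, ⟨asIso (DerivedCategory.Q.map q) ≪≫ DerivedCategory.Q.objObjPreimageIso K⟩⟩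

lemma exists_good (Y : Dual.D R) :
    ∃ P : HomotopyCategory (ModuleCat.{u} R) (ComplexShape.up ℤ), Nonempty (DerivedCategory.Qh.obj P ≅ Y) ∧
      ∀ K, Function.Bijective
        (DerivedCategory.Qh.map : (P ⟶ K) → (DerivedCategory.Qh.obj P ⟶ DerivedCategory.Qh.obj K)) := by
  obtain ⟨P, hP, -, ⟨e⟩⟩ := exists_kProjective_rep Y
  exact ⟨(HomotopyCategory.quotient _ _).obj P,
    ⟨(DerivedCategory.quotientCompQhIso _).app P ≪≫ e⟩, bijective_Qh_map_of_isKProjective P⟩

/-- Every functor on `K(R)` has a left derived functor with respect to quasi-isomorphisms. -/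
theorem hasLeftDerivedFunctor {H : Type*} [Category* H]
    (F : HomotopyCategory (ModuleCat.{u} R) (ComplexShape.up ℤ) ⥤ H) :
    F.HasLeftDerivedFunctor (HomotopyCategory.quasiIso (ModuleCat.{u} R) (ComplexShape.up ℤ)) :=
  have := hasPointwiseLeftDerivedFunctor_of_bijective (F := F) (L := DerivedCategory.Qh)
    (HomotopyCategory.quasiIso (ModuleCat.{u} R) (ComplexShape.up ℤ)) exists_good
  Functor.hasLeftDerivedFunctor_of_hasPointwiseLeftDerivedFunctor _ _

theorem hasLTensor (M : ModuleCat.{u} R) : DRing.HasLTensor R M := hasLeftDerivedFunctor _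

theorem hasLBaseChange {S : Type u} [CommRing S] (φ : R →+* S) : DRing.HasLBaseChange φ :=
  hasLeftDerivedFunctor _

section Compute

variable {H : Type*} [Category* H] (F : HomotopyCategory (ModuleCat.{u} R) (ComplexShape.up ℤ) ⥤ H)
  [F.HasLeftDerivedFunctor (HomotopyCategory.quasiIso (ModuleCat.{u} R) (ComplexShape.up ℤ))]

lemma isIso_counit_app (P : DRing.Cx R) [P.IsKProjective] :
    IsIso ((F.totalLeftDerivedCounit DerivedCategory.Qh
      (HomotopyCategory.quasiIso (ModuleCat.{u} R) (ComplexShape.up ℤ))).app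
        ((HomotopyCategory.quotient _ _).obj P)) :=
  isIso_app_of_bijective (L := DerivedCategory.Qh) (HomotopyCategory.quasiIso (ModuleCat.{u} R) (ComplexShape.up ℤ))
    _ _ exists_good _ (bijective_Qh_map_of_isKProjective P)

/-- The value of a left derived functor on a K-projective complex. -/
noncomputable def leftDerivedObjIso (P : DRing.Cx R) [P.IsKProjective] :
    (F.totalLeftDerived DerivedCategory.Qh (HomotopyCategory.quasiIso (ModuleCat.{u} R) (ComplexShape.up ℤ))).obj
      (DRing.toD P) ≅ F.obj ((HomotopyCategory.quotient _ _).obj P) :=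
  haveI := isIso_counit_app F P
  (F.totalLeftDerived DerivedCategory.Qh _).mapIso ((DerivedCategory.quotientCompQhIso _).app P).symm ≪≫
    asIso ((F.totalLeftDerivedCounit DerivedCategory.Qh
      (HomotopyCategory.quasiIso (ModuleCat.{u} R) (ComplexShape.up ℤ))).app
        ((HomotopyCategory.quotient _ _).obj P))

end Compute

/-- `P ⊗^L M` for K-projective `P`. -/
noncomputable def lTensorIso (M : ModuleCat.{u} R) [DRing.HasLTensor R M] (P : DRing.Cx R) [P.IsKProjective] :
    (DRing.LTensor R M).obj (DRing.toD P) ≅ DRing.toD (DRing.tensorCx P M) :=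
  leftDerivedObjIso (DRing.tensorKh R M) P ≪≫
    DerivedCategory.Qh.mapIso
      (((MonoidalCategory.tensorRight M).mapHomotopyCategoryFactors (ComplexShape.up ℤ)).app P) ≪≫
    (DerivedCategory.quotientCompQhIso _).app _

variable {S : Type u} [CommRing S] (φ : R →+* S)

/-- Termwise extension of scalars. -/
noncomputable abbrev extCx (P : DRing.Cx R) : DRing.Cx S :=
  ((ModuleCat.extendScalars φ).mapHomologicalComplex (ComplexShape.up ℤ)).obj P

/-- `P ⊗^L S` for K-projective `P`. -/
noncomputable def lBaseChangeIso [DRing.HasLBaseChange φ] (P : DRing.Cx R) [P.IsKProjective] :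
    (DRing.LBaseChange φ).obj (DRing.toD P) ≅ DRing.toD (extCx φ P) :=
  leftDerivedObjIso (DRing.baseChangeKh φ) P ≪≫
    DerivedCategory.Qh.mapIso
      (((ModuleCat.extendScalars φ).mapHomotopyCategoryFactors (ComplexShape.up ℤ)).app P) ≪≫
    (DerivedCategory.quotientCompQhIso _).app _

/-- The derived adjunction of base change and restriction. -/
noncomputable def lBaseChangeAdj [DRing.HasLBaseChange φ] : DRing.LBaseChange φ ⊣ DRing.restrictD φ :=
  letI e := (ModuleCat.restrictScalars.{u} φ).mapDerivedCategoryFactorsh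
  letI α := (DRing.baseChangeKh φ).totalLeftDerivedCounit
    DerivedCategory.Qh (HomotopyCategory.quasiIso (ModuleCat.{u} R) (ComplexShape.up ℤ))
  haveI : (DRing.restrictD φ).IsRightDerivedFunctor e.inv
      (HomotopyCategory.quasiIso (ModuleCat.{u} S) (ComplexShape.up ℤ)) :=
    Functor.isRightDerivedFunctor_of_inverts (L := DerivedCategory.Qh) _ _ e
  haveI : (DRing.restrictD φ ⋙ DRing.LBaseChange φ).IsRightDerivedFunctor
      (Functor.whiskerRight e.inv (DRing.LBaseChange φ) ≫ (Functor.associator _ _ _).hom)
      (HomotopyCategory.quasiIso (ModuleCat.{u} S) (ComplexShape.up ℤ)) :=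
    Functor.isRightDerivedFunctor_of_inverts (L := DerivedCategory.Qh) _ _
      ((Functor.associator _ _ _).symm ≪≫ Functor.isoWhiskerRight e (DRing.LBaseChange φ))
  haveI : (DRing.LBaseChange φ ⋙ DRing.restrictD φ).IsLeftDerivedFunctor
      ((Functor.associator _ _ _).inv ≫ Functor.whiskerRight α (DRing.restrictD φ))
      (HomotopyCategory.quasiIso (ModuleCat.{u} R) (ComplexShape.up ℤ)) :=
    isLeftDerivedFunctor_comp _ (DRing.LBaseChange φ) α exists_good _
  (DerivedAdj.mapHomotopyCategoryAdj (ModuleCat.extendRestrictScalarsAdj φ) (ComplexShape.up ℤ)).derived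
    (HomotopyCategory.quasiIso (ModuleCat.{u} R) (ComplexShape.up ℤ))
    (HomotopyCategory.quasiIso (ModuleCat.{u} S) (ComplexShape.up ℤ)) α e.inv

end Groth.DAlg
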