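import Groth.Prelude.Def_DRing2
import Groth.Agent.DAlg.LeftDerived
import Groth.Agent.PCohPunctual.Perfect
import Groth.Agent.PCohPunctual.Infinite
import Mathlib.Algebra.Category.ModuleCat.EpiMono
import Mathlib.Algebra.Category.ModuleCat.Products
import Mathlib.Algebra.Category.ModuleCat.Biproducts

/-!
Pseudo-coherent and perfect objects of `D(R)` through the abstract punctual theory.
-/

universe u

open CategoryTheory CategoryTheory.Limits

attribute [local instance] HasDerivedCategory.standard

namespace Groth.DAlg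

open PCohPunctual

variable (R : Type u) [CommRing R]

/-- Free modules. -/
def allFree : ObjectProperty (ModuleCat.{u} R) := fun X => Module.Free R X

/-- Finite free modules. -/
def finFree : ObjectProperty (ModuleCat.{u} R) := fun X => Module.Finite R X ∧ Module.Free R X

/-- Finite projective modules. -/
def finProj : ObjectProperty (ModuleCat.{u} R) := fun X => Module.Finite R X ∧ Module.Projective R X

/-- Projective modules. -/
def allProj : ObjectProperty (ModuleCat.{u} R) := fun X => Module.Projective R X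

variable {R}

lemma prod_iso (X Y : ModuleCat.{u} R) : Nonempty ((X ⨯ Y) ≅ ModuleCat.of R (X × Y)) :=
  ⟨(biprod.isoProd X Y).symm ≪≫ ModuleCat.biprodIsoProd X Y⟩

variable (R)

lemma isAdditiveSub_allFree : IsAdditiveSub (allFree R) where
  closedIso := ⟨fun {X Y} e h => haveI : Module.Free R X := h; Module.Free.of_equiv e.toLinearEquiv⟩
  zero X hX := haveI := ModuleCat.subsingleton_of_isZero hX; Module.Free.of_subsingleton R X
  prod X Y hX hY := by
    obtain ⟨e⟩ := prod_iso X Y
    have : Module.Free R X := hX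
    have : Module.Free R Y := hY
    exact Module.Free.of_equiv e.toLinearEquiv.symm

lemma isAdditiveSub_allProj : IsAdditiveSub (allProj R) where
  closedIso := ⟨fun {X Y} e h => haveI : Module.Projective R X := h; Module.Projective.of_equiv e.toLinearEquiv⟩
  zero X hX := haveI := ModuleCat.subsingleton_of_isZero hX; (inferInstance : Module.Projective R X)
  prod X Y hX hY := by
    obtain ⟨e⟩ := prod_iso X Y
    have : Module.Projective R X := hX
    have : Module.Projective R Y := hY
    exact Module.Projective.of_equiv e.toLinearEquiv.symm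

lemma isAdditiveSub_finFree : IsAdditiveSub (finFree R) where
  closedIso := ⟨fun {X Y} e h => haveI := h.1; haveI := h.2;
    ⟨Module.Finite.equiv e.toLinearEquiv, Module.Free.of_equiv e.toLinearEquiv⟩⟩
  zero X hX := haveI := ModuleCat.subsingleton_of_isZero hX; ⟨inferInstance, Module.Free.of_subsingleton R X⟩
  prod X Y hX hY := by
    obtain ⟨e⟩ := prod_iso X Y
    have := hX.1
    have := hX.2
    have := hY.1
    have := hY.2
    exact ⟨Module.Finite.equiv e.toLinearEquiv.symm, Module.Free.of_equiv e.toLinearEquiv.symm⟩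

lemma isAdditiveSub_finProj : IsAdditiveSub (finProj R) where
  closedIso := ⟨fun {X Y} e h => haveI := h.1; haveI := h.2;
    ⟨Module.Finite.equiv e.toLinearEquiv, Module.Projective.of_equiv e.toLinearEquiv⟩⟩
  zero X hX := haveI := ModuleCat.subsingleton_of_isZero hX; ⟨inferInstance, inferInstance⟩
  prod X Y hX hY := by
    obtain ⟨e⟩ := prod_iso X Y
    have := hX.1
    have := hX.2
    have := hY.1
    have := hY.2
    exact ⟨Module.Finite.equiv e.toLinearEquiv.symm, Module.Projective.of_equiv e.toLinearEquiv.symm⟩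

lemma isLiftable_of_le {P : ObjectProperty (ModuleCat.{u} R)}
    (h : ∀ X, P X → Module.Projective R X) : IsLiftable P := fun E F u hu hF => by
  have := h F hF
  obtain ⟨s, hs⟩ := Module.projective_lifting_property u.hom LinearMap.id ((ModuleCat.epi_iff_surjective u).1 hu)
  exact ⟨⟨⟨ModuleCat.ofHom s, ModuleCat.hom_ext hs⟩⟩⟩

lemma isStableKer_finProj : IsStableKer (finProj R) := fun E F u hu hE hF => by
  have := hE.1
  have := hE.2
  have := hF.2
  have hs := (ModuleCat.epi_iff_surjective u).1 hu
  obtain ⟨s, hs'⟩ := Module.projective_lifting_property u.hom LinearMap.id hs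
  let r : E →ₗ[R] LinearMap.ker u.hom := ((LinearMap.id : E →ₗ[R] E) - s ∘ₗ u.hom).codRestrict _ fun x => by
    have := LinearMap.congr_fun hs' (u x)
    simp only [LinearMap.mem_ker, LinearMap.sub_apply, LinearMap.id_apply, map_sub]
    rw [sub_eq_zero]
    exact this.symm
  have hr : r ∘ₗ (LinearMap.ker u.hom).subtype = LinearMap.id := LinearMap.ext fun x => Subtype.ext (by
    simp [r, show u.hom x.1 = 0 from x.2])
  refine (isAdditiveSub_finProj R).of_iso (ModuleCat.kernelIsoKer u).symm ⟨?_, Module.Projective.of_split _ r hr⟩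
  exact Module.Finite.of_surjective r fun x => ⟨x.1, LinearMap.congr_fun hr x⟩

lemma isQuasiStable_allFree : PCoh.IsQuasiStableUnderKernels (allFree R) := fun K _ _ _ =>
  ⟨ModuleCat.of R (K.X 0 →₀ R), ModuleCat.ofHom (Finsupp.linearCombination R id),
    inferInstanceAs (Module.Free R (K.X 0 →₀ R)),
    (ModuleCat.epi_iff_surjective _).2 fun x => ⟨Finsupp.single x 1, by simp⟩⟩

lemma isQuasiStable_allProj : PCoh.IsQuasiStableUnderKernels (allProj R) := fun K _ _ _ =>
  ⟨ModuleCat.of R (K.X 0 →₀ R), ModuleCat.ofHom (Finsupp.linearCombination R id),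
    inferInstanceAs (Module.Projective R (K.X 0 →₀ R)),
    (ModuleCat.epi_iff_surjective _).2 fun x => ⟨Finsupp.single x 1, by simp⟩⟩

lemma finite_iff_ft (X : ModuleCat.{u} R) : PCoh.IsOfFiniteType (finFree R) X ↔ Module.Finite R X := by
  constructor
  · rintro ⟨E, π, hE, hπ⟩
    have := hE.1
    exact Module.Finite.of_surjective π.hom ((ModuleCat.epi_iff_surjective π).1 hπ)
  · intro h
    obtain ⟨n, f, hf⟩ := Module.Finite.exists_fin' R X
    exact ⟨ModuleCat.of R (Fin n → R), ModuleCat.ofHom f,
      ⟨inferInstanceAs (Module.Finite R (Fin n → R)), inferInstanceAs (Module.Free R (Fin n → R))⟩,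
      (ModuleCat.epi_iff_surjective _).2 hf⟩

lemma isQuasiStable_finFree : PCoh.IsQuasiStableUnderKernels (finFree R) := fun K hex hb hP => by
  obtain ⟨E, π, hE, hπ⟩ := quasiStable_of_stableKer (isAdditiveSub_finProj R) (isStableKer_finProj R) K hex hb
    fun i hi => ⟨(hP i hi).1, have := (hP i hi).2; inferInstance⟩
  have := hE.1
  exact (finite_iff_ft R _).2 (Module.Finite.of_surjective π.hom ((ModuleCat.epi_iff_surjective π).1 hπ))

lemma isQuasiStable_finProj : PCoh.IsQuasiStableUnderKernels (finProj R) :=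
  quasiStable_of_stableKer (isAdditiveSub_finProj R) (isStableKer_finProj R)

lemma isQuasiLiftable_finFree : PCoh.IsQuasiLiftable (finFree R) :=
  quasiLiftable_of_liftable (isLiftable_of_le R fun _ h => haveI := h.2; inferInstance)

lemma isQuasiLiftable_finProj : PCoh.IsQuasiLiftable (finProj R) :=
  quasiLiftable_of_liftable (isLiftable_of_le R fun _ h => h.2)

lemma isQuasiLiftable_allFree : PCoh.IsQuasiLiftable (allFree R) :=
  quasiLiftable_of_liftable (isLiftable_of_le R fun X (h : Module.Free R X) => inferInstance)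

lemma isQuasiLiftable_allProj : PCoh.IsQuasiLiftable (allProj R) :=
  quasiLiftable_of_liftable (isLiftable_of_le R fun _ h => h)

/-- A class of modules closed under first syzygies consists of pseudo-coherent modules. -/
theorem pcn_single_of_syzygy {P Q : ObjectProperty (ModuleCat.{u} R)} (hA : IsAdditiveSub P)
    (hqs : PCoh.IsQuasiStableUnderKernels P) (hql : PCoh.IsQuasiLiftable P)
    (h : ∀ M, Q M → ∃ (F : ModuleCat.{u} R) (π : F ⟶ M), P F ∧ Epi π ∧ Q (kernel π))
    (k : ℕ) (M : ModuleCat.{u} R) (hM : Q M) :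
    PCn P (-(k : ℤ)) ((DerivedCategory.singleFunctor (ModuleCat.{u} R) 0).obj M) := by
  induction k generalizing M with
  | zero =>
    obtain ⟨F, π, hF, hπ, -⟩ := h M hM
    exact pcn_single_of_ft hA hql ⟨F, π, hF, hπ⟩
  | succ k ih =>
    obtain ⟨F, π, hF, hπ, hQ⟩ := h M hM
    have hS : (ShortComplex.mk (kernel.ι π) π (kernel.condition π)).ShortExact :=
      { exact := ShortComplex.exact_of_f_is_kernel _ (kernelIsKernel π) }
    refine PCn.cone hA hqs hql hS.singleTriangle_distinguished ((ih (kernel π) hQ).mono (by omega)) ?_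
    exact ⟨(HomologicalComplex.single _ (ComplexShape.up ℤ) 0).obj F,
      ⟨⟨0, fun i hi => HomologicalComplex.isZero_single_obj_X _ _ _ _ hi.ne'⟩, fun i _ => by
        by_cases hi : i = 0
        · exact hA.of_iso (HomologicalComplex.singleObjXIsoOfEq (ComplexShape.up ℤ) 0 F i hi).symm hF
        · exact hA.zero _ (HomologicalComplex.isZero_single_obj_X _ _ _ _ hi)⟩,
      ⟨((DerivedCategory.singleFunctorIsoCompQ _ 0).app F).symm⟩⟩

theorem isPC_single_of_syzygy {P Q : ObjectProperty (ModuleCat.{u} R)} (hA : IsAdditiveSub P)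
    (hqs : PCoh.IsQuasiStableUnderKernels P) (hql : PCoh.IsQuasiLiftable P)
    (h : ∀ M, Q M → ∃ (F : ModuleCat.{u} R) (π : F ⟶ M), P F ∧ Epi π ∧ Q (kernel π))
    (M : ModuleCat.{u} R) (hM : Q M) :
    PCoh.IsPC P ((DerivedCategory.singleFunctor (ModuleCat.{u} R) 0).obj M) := fun n =>
  (pcn_single_of_syzygy R hA hqs hql h (-n).toNat M hM).mono (by omega)

/-- Objects bounded above are pseudo-coherent relative to all free modules. -/
theorem isPC_allFree {K : Dual.D R} {b : ℤ} (hb : ∀ i, b < i → Subsingleton (Dual.HD R K i)) :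
    PCoh.IsPC (allFree R) K := fun n =>
  pcn_of_homology (isAdditiveSub_allFree R) (isQuasiStable_allFree R) (isQuasiLiftable_allFree R) K b
    (fun i hi => ModuleCat.isZero_iff_subsingleton.2 (hb i hi)) fun i _ =>
      isPC_single_of_syzygy R (Q := ⊤) (isAdditiveSub_allFree R) (isQuasiStable_allFree R)
        (isQuasiLiftable_allFree R) (fun M _ => ⟨ModuleCat.of R (M →₀ R),
          ModuleCat.ofHom (Finsupp.linearCombination R id), inferInstanceAs (Module.Free R (M →₀ R)),
          (ModuleCat.epi_iff_surjective _).2 fun x => ⟨Finsupp.single x 1, by simp⟩, trivial⟩)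
        _ trivial (n - i)

/-- A bounded above object has a representative by free modules with the same upper bound. -/
theorem exists_free_rep {K : Dual.D R} {b : ℤ} (hb : ∀ i, b < i → Subsingleton (Dual.HD R K i)) :
    ∃ E : DRing.Cx R, DRing.VanishesAbove E b ∧ (∀ i, Module.Free R (E.X i)) ∧ Nonempty (DRing.toD E ≅ K) := by
  obtain ⟨E, hE, hz, he⟩ := exists_all_vanishing_above (isAdditiveSub_allFree R) (isQuasiStable_allFree R)
    (isQuasiLiftable_allFree R) (b + 1) (isPC_allFree R hb)
    (fun i hi => ModuleCat.isZero_iff_subsingleton.2 (hb i (by omega)))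
  exact ⟨E, fun i hi => hz i (by omega), hE, he⟩

/-- Over a Noetherian ring finite modules are pseudo-coherent. -/
theorem isPC_single_of_finite [IsNoetherianRing R] (M : ModuleCat.{u} R) (hM : Module.Finite R M) :
    PCoh.IsPC (finFree R) ((DerivedCategory.singleFunctor (ModuleCat.{u} R) 0).obj M) :=
  isPC_single_of_syzygy R (Q := fun M => Module.Finite R M) (isAdditiveSub_finFree R) (isQuasiStable_finFree R)
    (isQuasiLiftable_finFree R) (fun M hM => by
      obtain ⟨E, π, hE, hπ⟩ := (finite_iff_ft R M).2 hM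
      have := hE.1
      exact ⟨E, π, hE, hπ, Module.Finite.equiv (ModuleCat.kernelIsoKer π).toLinearEquiv.symm⟩) M hM

variable {R}

theorem isPseudoCoherent_iff {m : ℤ} {K : Dual.D R} :
    DRing.IsPseudoCoherent R m K ↔ PCn (finFree R) m K := by
  constructor
  · rintro ⟨E, a, b, α, hE, hF, hiso, hepi⟩
    exact pcn_of_dnqis (isAdditiveSub_finFree R) (isQuasiStable_finFree R) (isQuasiLiftable_finFree R)
      ⟨⟨b, fun i hi => hE i (Or.inr hi)⟩, fun i _ => hF i⟩ (α := α) ⟨hiso, hepi⟩
  · intro h
    obtain ⟨b, hb⟩ := h.bddAbove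
    obtain ⟨E, α, hE, hF, hα⟩ := exists_strictPerfect_dnqis (isAdditiveSub_finFree R) (isQuasiStable_finFree R)
      (isQuasiLiftable_finFree R) h (max (b + 1) m) (le_max_right _ _) fun i hi => hb i (by omega)
    exact ⟨E, m, max (b + 1) m, α, fun i hi => hE i (by omega), hF, hα.1, hα.2⟩

theorem isPseudoCoherent'_iff_isPC {K : Dual.D R} :
    DRing.IsPseudoCoherent' R K ↔ PCoh.IsPC (finFree R) K := by
  constructor
  · rintro ⟨E, b, hE, hF, e⟩ n
    exact ⟨E, ⟨⟨b, hE⟩, fun i _ => hF i⟩, e⟩
  · intro h
    obtain ⟨E, ⟨⟨b, hb⟩, hF⟩, e⟩ := exists_resolution (isAdditiveSub_finFree R) (isQuasiStable_finFree R)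
      (isQuasiLiftable_finFree R) h
    exact ⟨E, b, hb, hF, e⟩

theorem isPseudoCoherent'_iff_forall {K : Dual.D R} :
    DRing.IsPseudoCoherent' R K ↔ ∀ m, DRing.IsPseudoCoherent R m K := by
  rw [isPseudoCoherent'_iff_isPC]
  exact forall_congr' fun m => isPseudoCoherent_iff.symm

theorem exists_finFree_rep {K : Dual.D R} (h : DRing.IsPseudoCoherent' R K) {b : ℤ}
    (hb : ∀ i, b < i → Subsingleton (Dual.HD R K i)) :
    ∃ E : DRing.Cx R, DRing.VanishesAbove E b ∧ DRing.TermwiseFiniteFree E ∧ Nonempty (DRing.toD E ≅ K) := by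
  obtain ⟨E, hE, hz, he⟩ := exists_all_vanishing_above (isAdditiveSub_finFree R) (isQuasiStable_finFree R)
    (isQuasiLiftable_finFree R) (b + 1) (isPseudoCoherent'_iff_isPC.1 h)
    (fun i hi => ModuleCat.isZero_iff_subsingleton.2 (hb i (by omega)))
  exact ⟨E, fun i hi => hz i (by omega), hE, he⟩

theorem isPC_finProj_iff {K : Dual.D R} : PCoh.IsPC (finProj R) K ↔ PCoh.IsPC (finFree R) K := by
  refine forall_congr' fun n => pcn_iff_of_intermediate (isAdditiveSub_finFree R) (isQuasiStable_finFree R)
    (isQuasiLiftable_finFree R) (fun X h => ⟨h.1, haveI := h.2; inferInstance⟩) (fun X hX => ?_) n K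
  refine isPC_single_of_syzygy R (Q := finProj R) (isAdditiveSub_finFree R) (isQuasiStable_finFree R)
    (isQuasiLiftable_finFree R) (fun M hM => ?_) X hX
  obtain ⟨E, π, hE, hπ⟩ := (finite_iff_ft R M).2 hM.1
  exact ⟨E, π, hE, hπ, isStableKer_finProj R E M π hπ ⟨hE.1, haveI := hE.2; inferInstance⟩ hM⟩

theorem IsPerfect.isPseudoCoherent' {K : Dual.D R} (h : DRing.IsPerfect R K) : DRing.IsPseudoCoherent' R K := by
  obtain ⟨E, a, b, hE, hP, e⟩ := h
  exact isPseudoCoherent'_iff_isPC.2 (isPC_finProj_iff.1 fun n =>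
    ⟨E, ⟨⟨b, fun i hi => hE i (Or.inr hi)⟩, fun i _ => hP i⟩, e⟩)

/-- A chain map out of a bounded above complex of projectives realising a morphism of `D(R)`. -/
theorem exists_map_of_projective {P E : DRing.Cx R} {b : ℤ} (hb : DRing.VanishesAbove P b)
    (hP : ∀ i, Module.Projective R (P.X i)) (α : DRing.toD P ⟶ DRing.toD E) :
    ∃ g : P ⟶ E, DerivedCategory.Q.map g = α :=
  exists_map_of_liftable (isLiftable_of_le R (P := allProj R) fun _ h => h) b hb hP α

lemma isKProjective_of_bounded {P : DRing.Cx R} {b : ℤ} (hb : DRing.VanishesAbove P b)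
    (hP : ∀ i, Module.Projective R (P.X i)) : P.IsKProjective := by
  have : P.IsStrictlyLE b := (CochainComplex.isStrictlyLE_iff P b).2 hb
  have : ∀ n, Projective (P.X n) := fun n => haveI := hP n; (P.X n).projective_of_categoryTheory_projective
  exact CochainComplex.isKProjective_of_projective P b

end Groth.DAlg
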