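import Groth.Agent.DAlg.DCompletion
import Mathlib.Algebra.Homology.DerivedCategory.HomologySequence
import Mathlib.Algebra.Homology.SingleHomology

/-!
Cohomological amplitude of derived completion.
-/

universe u

open CategoryTheory CategoryTheory.Limits CategoryTheory.Pretriangulated DerivedCategory
open Groth.DualCore Groth.DerComplete Groth.DAlg.DCompletion

attribute [local instance] HasDerivedCategory.standard

namespace Groth.DAlg.DCompletionAmp

variable {A : Type u} [CommRing A]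

/-- `H^n(K) = 0`. -/
def HZ (K : Dual.D A) (n : ℤ) : Prop := Subsingleton (Dual.HD A K n)

lemma HZ.isZero {K : Dual.D A} {n : ℤ} (h : HZ K n) : IsZero ((homologyFunctor (ModuleCat.{u} A) n).obj K) :=
  @ModuleCat.isZero_of_subsingleton _ _ _ h

lemma hz_of_isZero {K : Dual.D A} {n : ℤ} (h : IsZero ((homologyFunctor (ModuleCat.{u} A) n).obj K)) : HZ K n :=
  ModuleCat.subsingleton_of_isZero h

lemma HZ.of_iso {K K' : Dual.D A} {n : ℤ} (h : HZ K n) (e : K ≅ K') : HZ K' n :=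
  hz_of_isZero (h.isZero.of_iso ((homologyFunctor _ n).mapIso e.symm))

/-- `A_g` as an `A`-module. -/
noncomputable def resOfIso (g : A) :
    (res (loc g)).obj (ModuleCat.of (Localization.Away g) (Localization.Away g)) ≅
      ModuleCat.of A (Localization.Away g) :=
  LinearEquiv.toModuleIso
    ({ toFun := fun x => x
       invFun := fun x => x
       map_add' := fun _ _ => rfl
       map_smul' := fun a x => (Algebra.smul_def a (show Localization.Away g from x)).symm } :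
      (res (loc g)).obj (ModuleCat.of (Localization.Away g) (Localization.Away g)) ≃ₗ[A] Localization.Away g)

/-- Pointwise form of the completeness criterion. -/
lemma subsingleton_away (f : A) (K : Dual.D A) (n : ℤ) (h₁ : DC f (Dual.HD A K (n - 1)))
    (h₀ : DC f (Dual.HD A K n)) : Subsingleton (Dual.inD A (Localization.Away f) ⟶ K⟦n⟧) := by
  rw [← bijective_precomp_iff] at h₀ h₁
  let T := (awaySC_shortExact f).singleTriangle
  have hT : T ∈ distTriang (Dual.D A) := (awaySC_shortExact f).singleTriangle_distinguished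
  refine ⟨fun a b => ?_⟩
  rw [← sub_eq_zero]
  obtain ⟨ψ, hψ⟩ := T.yoneda_exact₃ hT (a - b) (by
    apply h₀.1
    exact (comp_distTriang_mor_zero₁₂_assoc _ hT _).trans (zero_comp.trans comp_zero.symm))
  obtain ⟨ψ', rfl⟩ := (Groth.DerComplete.bijective_precomp_shift _ K (n - 1) n (by ring) h₁).2 ψ
  rw [hψ]
  exact (comp_distTriang_mor_zero₃₁_assoc _ hT ψ').trans zero_comp

/-- `Hom_A(A_g, L)` lives at most one degree above `L`. -/
lemma hz_QL (g : A) (L : DRing.Cx A) [L.IsKInjective] (n : ℤ) (h₁ : HZ (Q.obj L) (n - 1)) (h₀ : HZ (Q.obj L) n) :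
    HZ (Q.obj (QL g L)) n := by
  refine hz_of_isZero (IsZero.of_iso ?_ ((homologyFunctorFactors _ n).app _))
  suffices hex : ((coextC (loc g)).obj L).ExactAt n by
    exact (HomologicalComplex.exactAt_iff_isZero_homology _ _).1
      ((((coextC (loc g)).obj L).exactAt_iff n).1 hex |>.map (res (loc g)) |> ((QL g L).exactAt_iff n).2)
  rw [HomologicalComplex.exactAt_iff' _ (n - 1) n (n + 1) (by simp) (by simp), ShortComplex.moduleCat_exact_iff]
  intro c hc
  let Y := (coextC (loc g)).obj L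
  let B := Localization.Away g
  let S₁ := (HomologicalComplex.single (ModuleCat.{u} B) (ComplexShape.up ℤ) n).obj (ModuleCat.of B B)
  let y : S₁ ⟶ Y :=
    HomologicalComplex.mkHomFromSingle (ModuleCat.ofHom (LinearMap.toSpanSingleton B (Y.X n) c)) (fun j hj => by
      obtain rfl : j = n + 1 := hj.symm
      refine ModuleCat.hom_ext (LinearMap.ext_ring ?_)
      change (Y.d n (n + 1)).hom ((LinearMap.toSpanSingleton B (Y.X n) c) 1) = 0
      exact (congrArg (Y.d n (n + 1)).hom (one_smul B (show Y.X n from c))).trans hc)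
  let F := res (loc g)
  let i₁ : Q.obj ((resC (loc g)).obj S₁) ≅ (Dual.inD A B)⟦-n⟧ :=
    Q.mapIso ((HomologicalComplex.singleMapHomologicalComplex F (ComplexShape.up ℤ) n).app (ModuleCat.of B B) ≪≫
      (HomologicalComplex.single (ModuleCat.{u} A) (ComplexShape.up ℤ) n).mapIso
        ((show F.obj (ModuleCat.of B B) ≅ ModuleCat.of A B from resOfIso g)) ) ≪≫
    (singleFunctorIsoCompQ (ModuleCat.{u} A) n).symm.app _ ≪≫
    ((singleFunctors (ModuleCat.{u} A)).shiftIso (-n) n 0 (by omega)).symm.app (ModuleCat.of A B)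
  have hs : Subsingleton (Q.obj ((resC (loc g)).obj S₁) ⟶ Q.obj L) := by
    have h := subsingleton_away g (Q.obj L) n (@dc_of_subsingleton _ _ _ _ _ _ h₁) (@dc_of_subsingleton _ _ _ _ _ _ h₀)
    refine ⟨fun a b => (cancel_epi i₁.inv).1 ((shiftFunctor (Dual.D A) n).map_injective ?_)⟩
    rw [← cancel_epi ((shiftFunctorCompIsoId (Dual.D A) (-n) n (by simp)).inv.app _)]
    exact h.elim _ _
  obtain ⟨H⟩ := DualCore.homotopy_of_Q_map_eq_zero (hs.elim (Q.map ((resC (loc g)).map y ≫ counitC (loc g) L)) 0)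
  obtain ⟨H'⟩ := homotopy_lift (loc g) _ _ y H
  let one : S₁.X n := (HomologicalComplex.singleObjXSelf (ComplexShape.up ℤ) n (ModuleCat.of B B)).inv (1 : B)
  refine ⟨(H'.hom n (n - 1)).hom one, ?_⟩
  have e := congrArg (fun φ : S₁.X n ⟶ Y.X n => φ.hom one) (H'.comm n)
  simp only [HomologicalComplex.zero_f, add_zero,
    dNext_eq _ (show (ComplexShape.up ℤ).Rel n (n + 1) from rfl),
    prevD_eq _ (show (ComplexShape.up ℤ).Rel (n - 1) n by simp)] at e
  rw [show S₁.d n (n + 1) = 0 from HomologicalComplex.single_obj_d _ _ _ _ _, zero_comp, zero_add] at e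
  refine Eq.trans e.symm ?_
  refine (congrArg (fun φ : S₁.X n ⟶ Y.X n => φ.hom one) (HomologicalComplex.mkHomFromSingle_f _ _)).trans ?_
  change (LinearMap.toSpanSingleton B (Y.X n) c)
    ((HomologicalComplex.singleObjXSelf (ComplexShape.up ℤ) n (ModuleCat.of B B)).hom one) = c
  rw [Iso.inv_hom_id_apply]
  exact one_smul B (show Y.X n from c)

/-- A completion map for the elements of `l`. -/
structure IsComp (l : List A) {K C : Dual.D A} (η : K ⟶ C) : Prop where
  complete : ∀ f ∈ l, DCD f C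
  bij : ∀ Z, (∀ f ∈ l, DCD f Z) → Function.Bijective fun x : C ⟶ Z => η ≫ x

lemma hz_obj₃ (T : Triangle (Dual.D A)) (hT : T ∈ distTriang (Dual.D A)) (n : ℤ) (h₂ : HZ T.obj₂ n)
    (h₁ : HZ T.obj₁ (n + 1)) : HZ T.obj₃ n :=
  hz_of_isZero ((HomologySequence.exact₃ T hT n (n + 1)).isZero_of_both_zeros
    (h₂.isZero.eq_of_src _ _) (h₁.isZero.eq_of_tgt _ _))

/-- One step, with amplitude. -/
theorem exists_step_amp (g : A) (C : Dual.D A) :
    ∃ (C' : Dual.D A) (η : C ⟶ C'), (DCD g C' ∧ (∀ f, DCD f C → DCD f C') ∧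
      ∀ Z, DCD g Z → Function.Bijective fun x : C' ⟶ Z => η ≫ x) ∧
      ∀ n : ℤ, HZ C n → HZ C (n + 1) → HZ C' n := by
  obtain ⟨L, hL, ⟨e⟩⟩ := DerivedCoh.KInjRes.exists_kInjective_iso C
  obtain ⟨C', q, δ, hT⟩ := distinguished_cocone_triangle (Q.map (counitC (loc g) L))
  refine ⟨C', e.inv ≫ q, step_spec g C L e C' q δ hT, fun n h₀ h₁ => ?_⟩
  exact hz_obj₃ _ hT n (h₀.of_iso e.symm)
    (hz_QL g L (n + 1) (by rw [add_sub_cancel_right]; exact h₀.of_iso e.symm) (h₁.of_iso e.symm))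

/-- Completion at a list, with amplitude. -/
theorem exists_completion_amp : ∀ (l : List A) (K : Dual.D A),
    ∃ (C : Dual.D A) (η : K ⟶ C), IsComp l η ∧
      ∀ n : ℤ, (∀ i : ℤ, n ≤ i → i ≤ n + (l.length : ℤ) → HZ K i) → HZ C n
  | [], K => ⟨K, 𝟙 K, ⟨by simp, fun Z _ =>
      ⟨fun a b h => by simpa using h, fun z => ⟨z, Category.id_comp z⟩⟩⟩, fun n h => h n le_rfl (by simp)⟩
  | g :: l, K => by
    obtain ⟨C, η, hC, hamp⟩ := exists_completion_amp l K
    obtain ⟨C', η', ⟨hg, hkeep, hu'⟩, hamp'⟩ := exists_step_amp g C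
    refine ⟨C', η ≫ η', ⟨?_, fun Z hZ => ?_⟩, fun n h => hamp' n ?_ ?_⟩
    · intro f hf
      rcases List.mem_cons.1 hf with rfl | hf
      · exact hg
      · exact hkeep f (hC.complete f hf)
    · simpa [Function.comp_def] using
        (hC.bij Z fun f hf => hZ f (List.mem_cons_of_mem g hf)).comp (hu' Z (hZ g List.mem_cons_self))
    all_goals exact hamp _ fun i hi hi' => h i (by omega) (by simp only [List.length_cons]; omega)

/-- The abstract completion satisfies `IsComp`. -/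
lemma isComp_toDerivedCompletion (I : Ideal A) (s : Finset A) (hs : Ideal.span (s : Set A) = I)
    [DRing.HasDerivedCompletion I] (K : Dual.D A) : IsComp s.toList (DRing.toDerivedCompletion I K) where
  complete f hf := dcd_of_isDerivedComplete (hs ▸ Ideal.subset_span (Finset.mem_toList.1 hf))
    ((DRing.derivedCompletion I).obj K).property
  bij Z hZ := by
    have hZ' : DRing.IsDerivedComplete I Z := by
      rw [← hs]
      exact isDerivedComplete_span fun f hf => hZ f (Finset.mem_toList.2 hf)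
    have h := ((DRing.derivedCompletionAdj I).homEquiv K ⟨Z, hZ'⟩).bijective
    refine ⟨fun a b hab => ?_, fun z => ?_⟩
    · exact congrArg InducedCategory.Hom.hom (h.1 (a₁ := ObjectProperty.homMk a) (a₂ := ObjectProperty.homMk b) (by
        rw [Adjunction.homEquiv_unit, Adjunction.homEquiv_unit]
        exact hab))
    · obtain ⟨a, ha⟩ := h.2 z
      rw [Adjunction.homEquiv_unit] at ha
      exact ⟨a.hom, ha⟩

lemma IsComp.exists_iso {l : List A} {K C C' : Dual.D A} {η : K ⟶ C} {η' : K ⟶ C'} (h : IsComp l η)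
    (h' : IsComp l η') : ∃ e : C ≅ C', η ≫ e.hom = η' := by
  obtain ⟨a, ha⟩ := (h.bij C' h'.complete).2 η'
  obtain ⟨b, hb⟩ := (h'.bij C h.complete).2 η
  simp only at ha hb
  refine ⟨⟨a, b, (h.bij C h.complete).1 ?_, (h'.bij C' h'.complete).1 ?_⟩, ha⟩
  · simp only [← Category.assoc, ha, hb, Category.comp_id]
  · simp only [← Category.assoc, ha, hb, Category.comp_id]

/-- Amplitude of any completion. -/
theorem IsComp.hz {l : List A} {K C : Dual.D A} {η : K ⟶ C} (h : IsComp l η) (n : ℤ)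
    (hK : ∀ i : ℤ, n ≤ i → i ≤ n + (l.length : ℤ) → HZ K i) : HZ C n := by
  obtain ⟨C', η', h', hamp⟩ := exists_completion_amp l K
  obtain ⟨e, -⟩ := h'.exists_iso h
  exact (hamp n hK).of_iso e

lemma IsComp.bij_shift {l : List A} {K C : Dual.D A} {η : K ⟶ C} (h : IsComp l η) (Z : Dual.D A)
    (hZ : ∀ f ∈ l, DCD f Z) : Function.Bijective fun x : C⟦(1 : ℤ)⟧ ⟶ Z => η⟦(1 : ℤ)⟧' ≫ x := by
  have h0 := Groth.DerComplete.bijective_precomp_shift η Z (-1) 0 (by norm_num)
    (h.bij _ fun f hf => (hZ f hf).shift (-1))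
  let e := (shiftFunctorZero (Dual.D A) ℤ).app Z
  refine ⟨fun a b hab => (cancel_mono e.inv).1 (h0.1 (by
    simp only at hab
    change η⟦1⟧' ≫ a ≫ e.inv = η⟦1⟧' ≫ b ≫ e.inv
    rw [← Category.assoc, hab, Category.assoc])), fun z => ?_⟩
  obtain ⟨x, hx⟩ := h0.2 (z ≫ e.inv)
  refine ⟨x ≫ e.hom, ?_⟩
  simp only at hx
  change η⟦1⟧' ≫ x ≫ e.hom = z
  exact (reassoc_of% hx) e.hom |>.trans ((congrArg (z ≫ ·) e.inv_hom_id).trans (Category.comp_id z))

/-- Cones of completions are completions of cones. -/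
theorem exists_isComp_cone {l : List A} (T T' : Triangle (Dual.D A)) (hT : T ∈ distTriang (Dual.D A))
    (hT' : T' ∈ distTriang (Dual.D A)) (η₁ : T.obj₁ ⟶ T'.obj₁) (η₂ : T.obj₂ ⟶ T'.obj₂)
    (comm : T.mor₁ ≫ η₂ = η₁ ≫ T'.mor₁) (h₁ : IsComp l η₁) (h₂ : IsComp l η₂) :
    ∃ t : T.obj₃ ⟶ T'.obj₃, IsComp l t := by
  obtain ⟨t, c₂, c₃⟩ := complete_distinguished_triangle_morphism T T' hT hT' η₁ η₂ comm
  refine ⟨t, ⟨fun f hf => dcd_of_van (van_obj₃ f hT' fun E => ?_), fun Z hZ => ?_⟩⟩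
  · have s₁ : Subsingleton (Q.obj ((resC (loc f)).obj E) ⟶ T'.obj₁) := (h₁.complete f hf).van E
    have s₂ : Subsingleton (Q.obj ((resC (loc f)).obj E) ⟶ T'.obj₂) := (h₂.complete f hf).van E
    exact ⟨fun _ _ _ => s₁.elim _ _, fun z => ⟨0, s₂.elim _ _⟩⟩
  constructor
  · intro x x' hx
    rw [← sub_eq_zero]
    have hx0 : t ≫ (x - x') = 0 := (Preadditive.comp_sub _ _ _).trans (sub_eq_zero.2 hx)
    have a0 : T'.mor₂ ≫ (x - x') = 0 := (h₂.bij Z hZ).1 (by
      change η₂ ≫ T'.mor₂ ≫ (x - x') = η₂ ≫ 0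
      rw [← Category.assoc, ← c₂, Category.assoc, hx0, comp_zero, comp_zero])
    obtain ⟨w, hw⟩ := T'.yoneda_exact₃ hT' _ a0
    have a1 : T.mor₃ ≫ η₁⟦(1 : ℤ)⟧' ≫ w = 0 := by
      rw [← Category.assoc, c₃, Category.assoc, ← hw, hx0]
    obtain ⟨v, hv⟩ := T.rotate.yoneda_exact₃ (rot_of_distTriang _ hT) _ a1
    obtain ⟨v', rfl⟩ := (h₂.bij_shift Z hZ).2 v
    have hv' : w = (-T'.mor₁⟦(1 : ℤ)⟧') ≫ v' := (h₁.bij_shift Z hZ).1 (by
      refine hv.trans ?_
      change (-T.mor₁⟦(1 : ℤ)⟧') ≫ η₂⟦(1 : ℤ)⟧' ≫ v' = η₁⟦(1 : ℤ)⟧' ≫ (-T'.mor₁⟦(1 : ℤ)⟧') ≫ v'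
      rw [← Category.assoc, ← Category.assoc, Preadditive.neg_comp, Preadditive.comp_neg, ← Functor.map_comp,
        ← Functor.map_comp, comm])
    rw [hw, hv', ← Category.assoc, Preadditive.comp_neg, comp_distTriang_mor_zero₃₁ _ hT', neg_zero, zero_comp]
  · intro z
    obtain ⟨a, ha⟩ := (h₂.bij Z hZ).2 (T.mor₂ ≫ z)
    simp only at ha
    have a0 : T'.mor₁ ≫ a = 0 := (h₁.bij Z hZ).1 (by
      change η₁ ≫ T'.mor₁ ≫ a = η₁ ≫ 0
      rw [← Category.assoc, ← comm, Category.assoc, ha, comp_distTriang_mor_zero₁₂_assoc _ hT, zero_comp, comp_zero])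
    obtain ⟨x, rfl⟩ := T'.yoneda_exact₂ hT' a a0
    have a1 : T.mor₂ ≫ (z - t ≫ x) = 0 := by
      rw [Preadditive.comp_sub, ← ha, ← Category.assoc, ← Category.assoc, c₂, sub_self]
    obtain ⟨w, hw⟩ := T.yoneda_exact₃ hT _ a1
    obtain ⟨w', rfl⟩ := (h₁.bij_shift Z hZ).2 w
    refine ⟨x + T'.mor₃ ≫ w', ?_⟩
    change t ≫ (x + T'.mor₃ ≫ w') = z
    rw [Preadditive.comp_add, ← Category.assoc t, ← c₃, Category.assoc, ← hw, add_sub_cancel]

lemma hz_cone_iff (T : Triangle (Dual.D A)) (hT : T ∈ distTriang (Dual.D A)) (n : ℤ) :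
    HZ T.obj₃ n ↔ Epi ((homologyFunctor (ModuleCat.{u} A) n).map T.mor₁) ∧
      Mono ((homologyFunctor (ModuleCat.{u} A) (n + 1)).map T.mor₁) := by
  rw [HomologySequence.epi_homologyMap_mor₁_iff T hT, HomologySequence.mono_homologyMap_mor₁_iff T hT n (n + 1)]
  exact ⟨fun h => ⟨h.isZero.eq_of_tgt _ _, h.isZero.eq_of_src _ _⟩,
    fun h => hz_of_isZero ((HomologySequence.exact₃ T hT n (n + 1)).isZero_X₂ h.1 h.2)⟩

/-- Transfer of epimorphisms and monomorphisms to derived completions. -/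
theorem epi_mono_completion (I : Ideal A) (s : Finset A) (hs : Ideal.span (s : Set A) = I)
    [DRing.HasDerivedCompletion I] {K L : Dual.D A} (φ : K ⟶ L) (n : ℤ)
    (h : ∀ i : ℤ, n ≤ i → i ≤ n + (s.card : ℤ) → Epi ((homologyFunctor (ModuleCat.{u} A) i).map φ) ∧
      Mono ((homologyFunctor (ModuleCat.{u} A) (i + 1)).map φ)) :
    Epi ((homologyFunctor (ModuleCat.{u} A) n).map ((DRing.derivedCompletion I).map φ).hom) ∧
      Mono ((homologyFunctor (ModuleCat.{u} A) (n + 1)).map ((DRing.derivedCompletion I).map φ).hom) := by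
  obtain ⟨N, a, b, hT⟩ := distinguished_cocone_triangle φ
  obtain ⟨N', a', b', hT'⟩ := distinguished_cocone_triangle ((DRing.derivedCompletion I).map φ).hom
  obtain ⟨t, ht⟩ := exists_isComp_cone (l := s.toList) _ _ hT hT' (DRing.toDerivedCompletion I K)
    (DRing.toDerivedCompletion I L) ((DRing.derivedCompletionAdj I).unit.naturality φ)
    (isComp_toDerivedCompletion I s hs K) (isComp_toDerivedCompletion I s hs L)
  exact (hz_cone_iff _ hT' n).1 (ht.hz n fun i hi hi' =>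
    (hz_cone_iff _ hT i).2 (h i hi (by simpa using hi')))

end Groth.DAlg.DCompletionAmp
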