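import Groth.Agent.SitesTopoi.Mod.KFlat
import Mathlib.CategoryTheory.Functor.Derived.LeftDerived

/-!
`X ⊗^L P` is `X ⊗ P` when `X` is K-flat on the other side, for every complex `P`.
-/

universe u

open CategoryTheory CategoryTheory.Limits HomologicalComplex

attribute [local instance] HasDerivedCategory.standard

set_option backward.defeqAttrib.useBackward true
set_option backward.isDefEq.respectTransparency false
set_option synthInstance.maxHeartbeats 400000
set_option maxHeartbeats 1000000
set_option linter.style.haveILetI false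

namespace Groth.DAlg

section

variable {C D H : Type*} [Category* C] [Category* D] [Category* H] {F : C ⥤ H} {L : C ⥤ D}
  (W : MorphismProperty C) [L.IsLocalization W] (LF : D ⥤ H) (α : L ⋙ LF ⟶ F) [LF.IsLeftDerivedFunctor α W]

include W in
/-- The counit of a left derived functor computed by a functorial resolution is invertible on the objects on which the
resolution is. -/
lemma isIso_counit_of_resolution (R : C ⥤ C) (ε : R ⟶ 𝟭 C) (hε : ∀ X, W (ε.app X))
    (hR : W.IsInvertedBy (R ⋙ F)) (X : C) (hX : IsIso (F.map (ε.app X))) : IsIso (α.app X) := by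
  let LF' := Localization.lift (R ⋙ F) hR L
  let φ : L ⋙ LF' ≅ R ⋙ F := Localization.fac _ _ _
  let t : L ⋙ LF' ⟶ F := φ.hom ≫ Functor.whiskerRight ε F ≫ F.leftUnitor.hom
  haveI : ∀ Y, IsIso (L.map (ε.app Y)) := fun Y => Localization.inverts L W _ (hε Y)
  haveI := Functor.IsLeftDerivedFunctor.isRightKanExtension LF α W
  let u : LF' ⟶ LF := LF.liftOfIsRightKanExtension α LF' t
  have hu : ∀ Y, u.app (L.obj Y) ≫ α.app Y = t.app Y := fun Y =>
    LF.liftOfIsRightKanExtension_fac_app α LF' t Y
  let τ : L ⋙ LF ⟶ R ⋙ F :=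
    { app := fun Y => inv (LF.map (L.map (ε.app Y))) ≫ α.app (R.obj Y)
      naturality := fun Y Z f => by
        show LF.map (L.map f) ≫ inv (LF.map (L.map (ε.app Z))) ≫ α.app (R.obj Z) =
          (inv (LF.map (L.map (ε.app Y))) ≫ α.app (R.obj Y)) ≫ F.map (R.map f)
        have h1 := α.naturality (R.map f)
        simp only [Functor.comp_map] at h1
        rw [Category.assoc, IsIso.eq_inv_comp, ← h1, ← Category.assoc, ← Category.assoc]
        congr 1
        rw [IsIso.comp_inv_eq, ← Functor.map_comp, ← Functor.map_comp, ← Functor.map_comp, ← Functor.map_comp]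
        exact congrArg (fun g => LF.map (L.map g)) (ε.naturality f).symm }
  let v : LF ⟶ LF' := Localization.liftNatTrans L W (L ⋙ LF) (L ⋙ LF') LF LF' (τ ≫ φ.inv)
  have hv : ∀ Y, v.app (L.obj Y) = τ.app Y ≫ φ.inv.app Y := fun Y => by
    simp [v, Localization.liftNatTrans_app, Localization.Lifting.iso]
  have hvt : ∀ Y, v.app (L.obj Y) ≫ t.app Y = α.app Y := fun Y => by
    have h1 := α.naturality (ε.app Y)
    simp only [Functor.comp_map, Functor.id_obj] at h1
    simp only [hv, t, NatTrans.comp_app, Functor.whiskerRight_app, Functor.leftUnitor_hom_app, Category.assoc,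
      Iso.inv_hom_id_app_assoc, τ]
    rw [IsIso.inv_comp_eq, h1]
    erw [Category.comp_id]
  have hvu : v ≫ u = 𝟙 LF := LF.hom_ext_of_isRightKanExtension α _ _ (NatTrans.ext (funext fun Y => by
    show (v.app (L.obj Y) ≫ u.app (L.obj Y)) ≫ α.app Y = 𝟙 _ ≫ α.app Y
    rw [Category.assoc, hu, hvt, Category.id_comp]))
  haveI : IsIso (t.app X) := by
    simp only [t, NatTrans.comp_app, Functor.whiskerRight_app, Functor.leftUnitor_hom_app]
    haveI := hX
    exact IsIso.comp_isIso' inferInstance (IsIso.comp_isIso' hX ⟨𝟙 _, Category.id_comp _, Category.id_comp _⟩)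
  refine ⟨inv (t.app X) ≫ u.app (L.obj X), ?_, ?_⟩
  · have h : α.app X ≫ inv (t.app X) = v.app (L.obj X) := by rw [IsIso.comp_inv_eq, hvt]
    rw [← Category.assoc, h]
    exact (NatTrans.congr_app hvu (L.obj X)).trans rfl
  · rw [Category.assoc, hu, IsIso.inv_hom_id]

end

namespace SiteLTensorLeft

open Groth.SitesTopoi Groth.DerivedCoh Groth.SitesTopoi.ModH

variable {C : Type u} [SmallCategory C] {J : GrothendieckTopology C} {O : Sheaf J CommRingCat.{u}}

local notation "up" => ComplexShape.up ℤ

lemma quasiIso_map_of_flip {K K' : CochainComplex (ModSite.Mod O) ℤ} (w : K ⟶ K') [QuasiIso w]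
    (hK : KFlat.IsKFlat (KFlatSite.T O).flip K) (hK' : KFlat.IsKFlat (KFlatSite.T O).flip K')
    (P : CochainComplex (ModSite.Mod O) ℤ) : QuasiIso (((ModSite.tensorCx O).flip.obj P).map w) := by
  let P' := (KFlatSite.resolution O).obj P
  let π : P' ⟶ P := (KFlatSite.resolutionAug O).app P
  haveI : QuasiIso π := KFlatSite.resolution_quasiIso P
  have h₁ : QuasiIso ((KFlat.totL (KFlatSite.T O) P').map w) :=
    (KFlatSite.resolution_isKFlat P).quasiIso_totL w
  have h₂ : QuasiIso ((KFlat.totR (KFlatSite.T O) K).map π) := KFlat.quasiIso_totR _ hK π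
  have h₃ : QuasiIso ((KFlat.totR (KFlatSite.T O) K').map π) := KFlat.quasiIso_totR _ hK' π
  have e : (KFlat.totR (KFlatSite.T O) K).map π ≫ (KFlat.totL (KFlatSite.T O) P).map w =
      (KFlat.totL (KFlatSite.T O) P').map w ≫ (KFlat.totR (KFlatSite.T O) K').map π :=
    ((KFlatSite.T O).map₂CochainComplex.map w).naturality π
  have : QuasiIso ((KFlat.totR (KFlatSite.T O) K).map π ≫ (KFlat.totL (KFlatSite.T O) P).map w) :=
    e ▸ inferInstance
  exact quasiIso_of_comp_left ((KFlat.totR (KFlatSite.T O) K).map π) _

variable (P : CochainComplex (ModSite.Mod O) ℤ) [ModSite.HasLTensorCx P]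

/-- The derived tensor product is the tensor product on complexes K-flat on the other side. -/
theorem isIso_counit_app (X : CochainComplex (ModSite.Mod O) ℤ) (hX : KFlat.IsKFlat (KFlatSite.T O).flip X) :
    IsIso (((ModSite.tensorCxQ P).totalLeftDerivedCounit DerivedCategory.Q
      (HomologicalComplex.quasiIso (ModSite.Mod O) up)).app X) := by
  refine isIso_counit_of_resolution (HomologicalComplex.quasiIso (ModSite.Mod O) up) (ModSite.LTensorCx P) _
    (KFlatSite.resolution O) (KFlatSite.resolutionAug O)
    (fun Y => (HomologicalComplex.mem_quasiIso_iff _).2 (KFlatSite.resolution_quasiIso Y)) (fun Y Z f hf => ?_) X ?_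
  · haveI : QuasiIso f := (HomologicalComplex.mem_quasiIso_iff f).1 hf
    haveI := KFlatSite.resolution_quasiIso (O := O) Y
    haveI := KFlatSite.resolution_quasiIso (O := O) Z
    haveI : QuasiIso ((KFlatSite.resolution O).map f ≫ (KFlatSite.resolutionAug O).app Z) := by
      rw [(KFlatSite.resolutionAug O).naturality f]
      exact quasiIso_comp ((KFlatSite.resolutionAug O).app Y) f
    haveI : QuasiIso ((KFlatSite.resolution O).map f) :=
      quasiIso_of_comp_right _ ((KFlatSite.resolutionAug O).app Z)
    exact (DerivedCategory.isIso_Q_map_iff_quasiIso _ _).2 (quasiIso_map_of_flip ((KFlatSite.resolution O).map f)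
      (KFlatSite.resolution_isKFlat_flip Y) (KFlatSite.resolution_isKFlat_flip Z) P)
  · haveI := KFlatSite.resolution_quasiIso (O := O) X
    exact (DerivedCategory.isIso_Q_map_iff_quasiIso _ _).2 (quasiIso_map_of_flip ((KFlatSite.resolutionAug O).app X)
      (KFlatSite.resolution_isKFlat_flip X) hX P)

/-- The derived tensor product with the free module on an object in one degree. -/
lemma isKFlat_single {N : ModSite.Mod O} (hN : ModSite.IsFlat N) (m : ℤ) :
    KFlat.IsKFlat (KFlatSite.T O).flip ((HomologicalComplex.single (ModSite.Mod O) up m).obj N) := by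
  refine KFlat.isKFlat_of_flat _ _ m (fun q hq => HomologicalComplex.isZero_single_obj_X _ m _ q (by lia)) fun q => ?_
  by_cases hq : q = m
  · subst hq
    exact (KFlatSite.flat_flip_of_isFlat hN).of_iso (HomologicalComplex.singleObjXSelf up q N).symm
  · exact KFlat.flat_of_isZero _ (HomologicalComplex.isZero_single_obj_X _ m _ q hq)

end SiteLTensorLeft

end Groth.DAlg
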