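import Groth.Agent.DAlg.KFlatOps
import Groth.Agent.DAlg.SiteLTensorLeft
import Groth.Agent.DAlg.LeftDerived
import Groth.Prelude.Def_DRing4

/-!
The derived tensor product with a complex, computed by K-flat complexes on the other side.
-/

universe u

open CategoryTheory CategoryTheory.Limits HomologicalComplex MonoidalCategory

attribute [local instance] HasDerivedCategory.standard
set_option linter.style.haveILetI false

namespace Groth.DAlg

open DerivedCoh KFlatMod

variable {R : Type u} [CommRing R]

local notation "up" => ComplexShape.up ℤ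

lemma quasiIso_totL_of_kFlat {X Y : DRing.Cx R} (w : X ⟶ Y) [QuasiIso w] (hX : IsKFlatCx R X)
    (hY : IsKFlatCx R Y) (L : DRing.Cx R) : QuasiIso ((KFlat.totL (T R) L).map w) := by
  let π := (resAug R).app L
  haveI : QuasiIso π := resAug_quasiIso L
  have h₁ : QuasiIso ((KFlat.totL (T R) ((resFunctor R).obj L)).map w) :=
    (isKFlatCx_iff.1 (res_isKFlat L)).quasiIso_totL w
  have h₂ : QuasiIso ((KFlat.totR (T R) X).map π) := KFlat.quasiIso_totR _ (isKFlat_flip (isKFlatCx_iff.1 hX)) π
  have h₃ : QuasiIso ((KFlat.totR (T R) Y).map π) := KFlat.quasiIso_totR _ (isKFlat_flip (isKFlatCx_iff.1 hY)) π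
  have e : (KFlat.totR (T R) X).map π ≫ (KFlat.totL (T R) L).map w =
      (KFlat.totL (T R) ((resFunctor R).obj L)).map w ≫ (KFlat.totR (T R) Y).map π :=
    ((T R).map₂CochainComplex.map w).naturality π
  have : QuasiIso ((KFlat.totR (T R) X).map π ≫ (KFlat.totL (T R) L).map w) := e ▸ inferInstance
  exact quasiIso_of_comp_left ((KFlat.totR (T R) X).map π) _

variable (L : DRing.Cx R) [DRing.HasLTensorCx R L]

theorem isIso_lTensorCx_counit (X : DRing.Cx R) (hX : IsKFlatCx R X) :
    IsIso (((DRing.tensorCxQ R L).totalLeftDerivedCounit DerivedCategory.Q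
      (HomologicalComplex.quasiIso (ModuleCat.{u} R) up)).app X) := by
  refine isIso_counit_of_resolution (HomologicalComplex.quasiIso (ModuleCat.{u} R) up) (DRing.LTensorCx R L) _
    (resFunctor R) (resAug R) (fun Y => (HomologicalComplex.mem_quasiIso_iff _).2 (resAug_quasiIso Y))
    (fun Y Z f hf => ?_) X ?_
  · haveI : QuasiIso f := (HomologicalComplex.mem_quasiIso_iff f).1 hf
    haveI := resAug_quasiIso (R := R) Y
    haveI := resAug_quasiIso (R := R) Z
    haveI : QuasiIso ((resFunctor R).map f ≫ (resAug R).app Z) := by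
      rw [(resAug R).naturality f]
      exact quasiIso_comp ((resAug R).app Y) f
    haveI : QuasiIso ((resFunctor R).map f) := quasiIso_of_comp_right _ ((resAug R).app Z)
    exact (DerivedCategory.isIso_Q_map_iff_quasiIso _ _).2
      (quasiIso_totL_of_kFlat ((resFunctor R).map f) (res_isKFlat Y) (res_isKFlat Z) L)
  · haveI := resAug_quasiIso (R := R) X
    exact (DerivedCategory.isIso_Q_map_iff_quasiIso _ _).2
      (quasiIso_totL_of_kFlat ((resAug R).app X) (res_isKFlat X) hX L)

/-- `X ⊗^L L` is `X ⊗ L` for K-flat `X`. -/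
noncomputable def lTensorCxIso (X : DRing.Cx R) (hX : IsKFlatCx R X) :
    (DRing.LTensorCx R L).obj (DRing.toD X) ≅ DRing.toD (KFlat.tot (T R) X L) :=
  haveI := isIso_lTensorCx_counit L X hX
  asIso (((DRing.tensorCxQ R L).totalLeftDerivedCounit DerivedCategory.Q
    (HomologicalComplex.quasiIso (ModuleCat.{u} R) up)).app X)

end Groth.DAlg
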