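import Groth.Agent.DAlg.FlatAmp
import Mathlib.RingTheory.Flat.EquationalCriterion
import Mathlib.Algebra.Module.FinitePresentation

/-!
Closure properties of tor amplitude, and perfect representatives.
-/

universe u

open CategoryTheory CategoryTheory.Limits CategoryTheory.Pretriangulated HomologicalComplex MonoidalCategory
open scoped TensorProduct

attribute [local instance] HasDerivedCategory.standard
set_option linter.style.haveILetI false

namespace Groth.DAlg

open FlatCxBase PCohPunctual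

variable {R : Type u} [CommRing R] {a b : ℤ} {K L : Dual.D R}

lemma TorAmp.of_iso (h : DRing.HasTorAmplitudeIn R a b K) (e : K ≅ L) : DRing.HasTorAmplitudeIn R a b L := by
  obtain ⟨E, hE, hF, ⟨e'⟩⟩ := h
  exact ⟨E, hE, hF, ⟨e' ≪≫ e⟩⟩

lemma TorAmp.mono (h : DRing.HasTorAmplitudeIn R a b K) {a' b' : ℤ} (ha : a' ≤ a) (hb : b ≤ b') :
    DRing.HasTorAmplitudeIn R a' b' K := by
  obtain ⟨E, hE, hF, e⟩ := h
  exact ⟨E, fun i hi => hE i (by omega), hF, e⟩

lemma TorAmp.shift (h : DRing.HasTorAmplitudeIn R a b K) (n : ℤ) :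
    DRing.HasTorAmplitudeIn R (a - n) (b - n) (K⟦n⟧) := by
  obtain ⟨E, hE, hF, ⟨e⟩⟩ := h
  exact ⟨(CategoryTheory.shiftFunctor (DRing.Cx R) n).obj E, fun i hi => hE (i + n) (by omega),
    fun i => hF (i + n), ⟨(DerivedCategory.Q.commShiftIso n).app E ≪≫ (CategoryTheory.shiftFunctor (Dual.D R) n).mapIso e⟩⟩

lemma TorAmp.of_isZero (h : IsZero K) (a b : ℤ) : DRing.HasTorAmplitudeIn R a b K :=
  ⟨HomologicalComplex.zero, fun i _ => isZero_zeroComplex_X i,
    fun i => by
      haveI := ModuleCat.subsingleton_of_isZero (isZero_zeroComplex_X (C := ModuleCat.{u} R) i)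
      infer_instance,
    ⟨(isZero_Q_obj fun i => isZero_zeroComplex_X i).iso h⟩⟩

lemma TorAmp.subsingleton_HD (h : DRing.HasTorAmplitudeIn R a b K) {i : ℤ} (hi : i < a ∨ b < i) :
    Subsingleton (Dual.HD R K i) := by
  obtain ⟨E, hE, -, ⟨e⟩⟩ := h
  exact subsingleton_HD_of_iso e (hE i hi)

/-- A flat module in degree zero has tor amplitude `[0, 0]`. -/
lemma torAmp_mD_of_flat (M : ModuleCat.{u} R) [Module.Flat R M] : DRing.HasTorAmplitudeIn R 0 0 (mD M) :=
  ⟨(single (ModuleCat.{u} R) (ComplexShape.up ℤ) 0).obj M,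
    fun i hi => isZero_single_obj_X _ _ _ _ (by omega), fun i => by
      by_cases h : i = 0
      · exact Module.Flat.of_linearEquiv (singleObjXIsoOfEq (ComplexShape.up ℤ) 0 M i h).toLinearEquiv
      · have := ModuleCat.subsingleton_of_isZero (isZero_single_obj_X (ComplexShape.up ℤ) 0 M i h)
        infer_instance,
    ⟨((DerivedCategory.singleFunctorIsoCompQ _ 0).app M).symm⟩⟩

lemma flat_cone_X {P E : DRing.Cx R} (g : P ⟶ E) (hP : DRing.TermwiseFlat P) (hE : DRing.TermwiseFlat E) :
    DRing.TermwiseFlat (CochainComplex.mappingCone g) := fun i => by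
  have := hP (i + 1)
  have := hE i
  have : Module.Flat R (P.X (i + 1) × E.X i) :=
    flat_of_exact_flat_right (f := LinearMap.inl R (P.X (i + 1)) (E.X i)) (g := LinearMap.snd R _ _)
      LinearMap.inl_injective LinearMap.snd_surjective Function.Exact.inl_snd
  exact Module.Flat.of_linearEquiv (M := P.X (i + 1) × E.X i)
    ((HomologicalComplex.homotopyCofiber.XIsoBiprod g i (i + 1) rfl) ≪≫ ModuleCat.biprodIsoProd _ _).toLinearEquiv

theorem TorAmp.cone {T : Triangle (Dual.D R)} (hT : T ∈ distinguishedTriangles)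
    (h₁ : DRing.HasTorAmplitudeIn R (a + 1) (b + 1) T.obj₁) (h₂ : DRing.HasTorAmplitudeIn R a b T.obj₂) :
    DRing.HasTorAmplitudeIn R a b T.obj₃ := by
  obtain ⟨E, hE, hEf, ⟨e₂⟩⟩ := id h₂
  obtain ⟨P, hP, hfree, ⟨e₁⟩⟩ := exists_free_rep R (K := T.obj₁) (b := b + 1)
    fun i hi => TorAmp.subsingleton_HD h₁ (Or.inr hi)
  have hflat : DRing.TermwiseFlat P := fun i => haveI := hfree i; inferInstance
  obtain ⟨g, hg⟩ := exists_map_of_projective (E := E) hP (fun i => haveI := hfree i; inferInstance)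
    (e₁.hom ≫ T.mor₁ ≫ e₂.inv)
  let C := CochainComplex.mappingCone g
  have hCb : DRing.VanishesAbove C b := fun i hi =>
    (CochainComplex.mappingCone.isZero_X_iff g i).2 ⟨hP _ (by omega), hE i (Or.inr hi)⟩
  have hzC : ∀ (M : ModuleCat.{u} R) (i : ℤ), i < a → IsZero ((DRing.tensorCx C M).homology i) := fun M i hi => by
    let g' := ((tensorRight M).mapHomologicalComplex (ComplexShape.up ℤ)).map g
    refine IsZero.of_iso ?_ ((homologyFunctor _ _ i).mapIso
      (CochainComplex.mappingCone.mapHomologicalComplexIso g (tensorRight M)))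
    have hPz : IsZero ((DRing.tensorCx P M).homology (i + 1)) :=
      isZero_of_torAmplitude P hP hflat (TorAmp.of_iso h₁ e₁.symm) M (i + 1) (Or.inl (by omega))
    have hEz : IsZero ((DRing.tensorCx E M).homology i) :=
      isZero_homology_of_isZero_X (isZero_tensorCx_X (hE i (Or.inl hi)) M)
    exact (isZero_homology₃ (DerivedCategory.mappingCone_triangle_distinguished g') (i := i) (j := i + 1) rfl
      (hEz.of_iso ((DerivedCategory.homologyFunctorFactors (ModuleCat.{u} R) i).app _))
      (hPz.of_iso ((DerivedCategory.homologyFunctorFactors (ModuleCat.{u} R) (i + 1)).app _))).of_iso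
        ((DerivedCategory.homologyFunctorFactors (ModuleCat.{u} R) i).app _).symm
  refine TorAmp.of_iso (torAmplitude_of_isZero C hCb (flat_cone_X g hflat hEf) hzC)
    (Triangle.π₃.mapIso (isoTriangleOfIso₁₂ _ T (DerivedCategory.mappingCone_triangle_distinguished g) hT e₁ e₂ ?_))
  show DerivedCategory.Q.map g ≫ e₂.hom = e₁.hom ≫ T.mor₁
  rw [hg]
  simp

theorem TorAmp.ext {T : Triangle (Dual.D R)} (hT : T ∈ distinguishedTriangles)
    (h₁ : DRing.HasTorAmplitudeIn R a b T.obj₁) (h₃ : DRing.HasTorAmplitudeIn R a b T.obj₃) :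
    DRing.HasTorAmplitudeIn R a b T.obj₂ :=
  TorAmp.cone (inv_rot_of_distTriang T hT)
    (by have := TorAmp.shift h₃ (-1); rwa [sub_neg_eq_add, sub_neg_eq_add] at this) h₁

theorem TorAmp.fiber {T : Triangle (Dual.D R)} (hT : T ∈ distinguishedTriangles)
    (h₂ : DRing.HasTorAmplitudeIn R (a + 1) (b + 1) T.obj₂) (h₃ : DRing.HasTorAmplitudeIn R a b T.obj₃) :
    DRing.HasTorAmplitudeIn R (a + 1) (b + 1) T.obj₁ := by
  have := TorAmp.shift (TorAmp.cone (rot_of_distTriang T hT) h₂ h₃) (-1)
  rw [sub_neg_eq_add, sub_neg_eq_add] at this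
  exact TorAmp.of_iso this ((shiftFunctorCompIsoId (Dual.D R) (1 : ℤ) (-1) (by omega)).app T.obj₁)

/-- Tor amplitude passes to retracts. -/
theorem TorAmp.retract (s : K ⟶ L) (r : L ⟶ K) (hsr : s ≫ r = 𝟙 K) (h : DRing.HasTorAmplitudeIn R a b L) :
    DRing.HasTorAmplitudeIn R a b K := by
  haveI : ∀ M : ModuleCat.{u} R, DRing.HasLTensor R M := hasLTensor
  refine (hasTorAmplitudeIn_iff K a b).2 fun M i hi => ?_
  have hz := (hasTorAmplitudeIn_iff L a b).1 h M i hi
  refine ModuleCat.isZero_iff_subsingleton.1 ?_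
  rw [IsZero.iff_id_eq_zero, ← CategoryTheory.Functor.map_id, ← CategoryTheory.Functor.map_id, ← hsr,
    Functor.map_comp, Functor.map_comp,
    (ModuleCat.isZero_iff_subsingleton.2 hz).eq_of_tgt
      ((DerivedCategory.homologyFunctor _ i).map ((DRing.LTensor R M).map s)) 0, zero_comp]

lemma finitePresentation_coker {P : DRing.Cx R} (i j : ℤ) [Module.Finite R (P.X i)] [Module.Finite R (P.X j)]
    [Module.Projective R (P.X j)] : Module.FinitePresentation R (Coker P i j) :=
  haveI : Module.FinitePresentation R (P.X j) := Module.finitePresentation_of_projective R _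
  Module.finitePresentation_of_surjective (cokerπ P i j) (Submodule.mkQ_surjective _)
    (by rw [Submodule.ker_mkQ]; exact Module.Finite.iff_fg.1 inferInstance)

/-- Finite projective truncation. -/
lemma exists_finProj_truncGE (P : DRing.Cx R) {a b : ℤ} (hb : DRing.VanishesAbove P b)
    (hP : DRing.TermwiseFiniteProjective P) (hQ : Module.Flat R (Coker P (a - 1) a)) :
    DRing.VanishesOutside (P.truncGE a) a b ∧ DRing.TermwiseFiniteProjective (P.truncGE a) := by
  have := (hP (a - 1)).1
  have := (hP a).1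
  have := (hP a).2
  have := finitePresentation_coker (P := P) (a - 1) a
  have hA := isAdditiveSub_finProj R
  haveI : (finProj R).IsClosedUnderIsomorphisms := ⟨fun e h => hA.of_iso e h⟩
  exact ⟨vanishesOutside_truncGE P a hb, truncGE_X_of_prop (finProj R) P a hA.zero (fun i _ => hP i)
    ⟨inferInstance, Module.Flat.projective_of_finitePresentation⟩⟩

/-- A pseudo-coherent object of tor amplitude `[a, b]` has a finite projective representative in `[a, b]`. -/
theorem exists_finProj_rep (hK : DRing.IsPseudoCoherent' R K) (h : DRing.HasTorAmplitudeIn R a b K) :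
    ∃ E : DRing.Cx R, DRing.VanishesOutside E a b ∧ DRing.TermwiseFiniteProjective E ∧
      Nonempty (DRing.toD E ≅ K) := by
  obtain ⟨P, hP, hfree, ⟨e⟩⟩ := exists_finFree_rep hK fun i hi => TorAmp.subsingleton_HD h (Or.inr hi)
  have hproj : DRing.TermwiseFiniteProjective P := fun i =>
    ⟨(hfree i).1, haveI := (hfree i).2; inferInstance⟩
  haveI : ∀ i, Module.Flat R (P.X i) := fun i => haveI := (hproj i).2; inferInstance
  have hz := isZero_of_torAmplitude P hP (fun i => inferInstance) (TorAmp.of_iso h e.symm)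
  obtain ⟨h1, h2⟩ := exists_finProj_truncGE P hP hproj (flat_coker_of_isZero P a fun M => hz M _ (Or.inl (by omega)))
  obtain ⟨e'⟩ := nonempty_truncGE_iso fun i hi => isZero_homology_of_tensor fun M => hz M i (Or.inl hi)
  exact ⟨_, h1, h2, ⟨e' ≪≫ e⟩⟩

lemma TorAmp.of_finProj {E : DRing.Cx R} (hE : DRing.VanishesOutside E a b)
    (hP : DRing.TermwiseFiniteProjective E) (e : DRing.toD E ≅ K) : DRing.HasTorAmplitudeIn R a b K :=
  ⟨E, hE, fun i => haveI := (hP i).2; inferInstance, ⟨e⟩⟩

theorem isPerfect_iff :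
    DRing.IsPerfect R K ↔ DRing.IsPseudoCoherent' R K ∧ DRing.HasFiniteTorDimCx R K := by
  constructor
  · intro h
    refine ⟨IsPerfect.isPseudoCoherent' h, ?_⟩
    obtain ⟨E, a, b, hE, hP, ⟨e⟩⟩ := h
    exact ⟨a, b, TorAmp.of_finProj hE hP e⟩
  · rintro ⟨hK, a, b, h⟩
    obtain ⟨E, hE, hP, e⟩ := exists_finProj_rep hK h
    exact ⟨E, a, b, hE, hP, e⟩

end Groth.DAlg
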