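import Groth.Agent.DAlg.TotDevissage
import Groth.Agent.DAlg.LTensorCxIso
import Groth.Agent.DAlg.TorAmp

/-!
Finiteness properties of the derived tensor product of complexes.
-/

universe u

open CategoryTheory CategoryTheory.Limits CategoryTheory.Pretriangulated HomologicalComplex MonoidalCategory

attribute [local instance] HasDerivedCategory.standard
set_option linter.style.haveILetI false

namespace Groth.DAlg

open DerivedCoh KFlatMod PCohPunctual

variable {C : Type u} [CommRing C]

local notation "up" => ComplexShape.up ℤ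

/-- The tensor product of bounded complexes of flat modules has the sum of the amplitudes. -/
theorem torAmp_tot (G F : DRing.Cx C) {a c a' b' : ℤ} (hG : DRing.VanishesOutside G a c)
    (hGf : DRing.TermwiseFlat G) (hF : DRing.VanishesOutside F a' b') (hFf : DRing.TermwiseFlat F) :
    DRing.HasTorAmplitudeIn C (a + a') (c + b') (DRing.toD (KFlat.tot (T C) G F)) := by
  let Φ : DRing.Cx C → Prop := fun X => DRing.HasTorAmplitudeIn C (a + a') (c + b') (DRing.toD X)
  have hzero : ∀ X : DRing.Cx C, (∀ i, IsZero (X.X i)) → Φ X := fun X hX =>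
    TorAmp.of_isZero (isZero_Q_obj hX) _ _
  have hiso : IsIso (KFlat.geHom G a) := by
    haveI : ∀ p, IsIso ((KFlat.geHom G a).f p) := fun p => by
      by_cases hp : a ≤ p
      · exact KFlat.isIso_geι G hp
      · exact ⟨0, (KFlat.isZero_geX G (by omega)).eq_of_src _ _, (hG p (Or.inl (by omega))).eq_of_src _ _⟩
    exact HomologicalComplex.Hom.isIso_of_components _
  refine TorAmp.of_iso (tot_ge Φ (fun e h => TorAmp.of_iso h (DerivedCategory.Q.mapIso e)) hzero
    (fun S hS h₁ h₃ => TorAmp.ext (DerivedCategory.triangleOfSES_distinguished hS) h₁ h₃) F G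
    (fun i hi => hG i (Or.inr hi)) a fun j hj hjc => ?_)
    (DerivedCategory.Q.mapIso ((KFlat.totL (T C) F).mapIso (@asIso _ _ _ _ (KFlat.geHom G a) hiso)))
  refine ⟨(((T C).obj (G.X j)).mapHomologicalComplex up).obj (F⟦-j⟧), fun i hi => ?_, fun i => ?_,
    ⟨DerivedCategory.Q.mapIso (TensorSingleLeft.objIso (T C) j F (G.X j))⟩⟩
  · exact ((T C).obj (G.X j)).map_isZero (hF (i + -j) (by omega))
  · haveI := hGf j
    haveI := hFf (i + -j)
    exact inferInstanceAs (Module.Flat C (TensorProduct C (G.X j) (F.X (i + -j))))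

/-- Pseudo-coherence of a derived tensor product. -/
theorem isPC_lTensorCx {K : Dual.D C} (hK : DRing.IsPseudoCoherent' C K) (L : DRing.Cx C)
    (hL : DRing.IsPseudoCoherent' C (DRing.toD L)) [DRing.HasLTensorCx C L] :
    DRing.IsPseudoCoherent' C ((DRing.LTensorCx C L).obj K) := by
  obtain ⟨G, c, hG, hGF, ⟨eG⟩⟩ := hK
  obtain ⟨F, b, hF, hFF, ⟨eF⟩⟩ := hL
  obtain ⟨g, hg⟩ := exists_map_of_projective hF (fun i => haveI := (hFF i).2; inferInstance) eF.hom
  haveI : QuasiIso g := by
    rw [← DerivedCategory.isIso_Q_map_iff_quasiIso, hg]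
    infer_instance
  have hGk : IsKFlatCx C G := isKFlatCx_of_flat G hG fun i => haveI := (hGF i).2; inferInstance
  have hgq := KFlat.quasiIso_totR _ (isKFlat_flip (isKFlatCx_iff.1 hGk)) g
  refine isPseudoCoherent'_iff_isPC.2 fun n => ?_
  have hid : PCMap (RingHom.id C) := PCMap.of_bijective Function.bijective_id
  have h := hid.of_res (pcn_tot (RingHom.id C) F G hF hG n (fun j _ => hGF j)
    (hid.res ⟨F, ⟨⟨b, hF⟩, fun i _ => hFF i⟩, ⟨Iso.refl _⟩⟩))
  exact h.of_iso (@asIso _ _ _ _ (DerivedCategory.Q.map ((KFlat.totR (T C) G).map g)) ((DerivedCategory.isIso_Q_map_iff_quasiIso _ _).2 hgq) ≪≫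
    (lTensorCxIso L G hGk).symm ≪≫ (DRing.LTensorCx C L).mapIso eG)

/-- Perfectness of a derived tensor product. -/
theorem isPerfect_lTensorCx {K : Dual.D C} (hK : DRing.IsPerfect C K) (L : DRing.Cx C)
    (hL : DRing.IsPerfect C (DRing.toD L)) [DRing.HasLTensorCx C L] :
    DRing.IsPerfect C ((DRing.LTensorCx C L).obj K) := by
  have hpc := isPC_lTensorCx (IsPerfect.isPseudoCoherent' hK) L (IsPerfect.isPseudoCoherent' hL)
  obtain ⟨G, a, c, hG, hGP, ⟨eG⟩⟩ := hK
  obtain ⟨F, a', b', hF, hFP, ⟨eF⟩⟩ := hL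
  obtain ⟨g, hg⟩ := exists_map_of_projective (fun i hi => hF i (Or.inr hi)) (fun i => (hFP i).2) eF.hom
  haveI : QuasiIso g := by
    rw [← DerivedCategory.isIso_Q_map_iff_quasiIso, hg]
    infer_instance
  have hGf : DRing.TermwiseFlat G := fun i => haveI := (hGP i).2; inferInstance
  have hGk : IsKFlatCx C G := isKFlatCx_of_flat G (fun i hi => hG i (Or.inr hi)) hGf
  have hgq := KFlat.quasiIso_totR _ (isKFlat_flip (isKFlatCx_iff.1 hGk)) g
  exact isPerfect_iff.2 ⟨hpc, _, _, TorAmp.of_iso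
    (torAmp_tot G F hG hGf hF fun i => haveI := (hFP i).2; inferInstance)
    (@asIso _ _ _ _ (DerivedCategory.Q.map ((KFlat.totR (T C) G).map g)) ((DerivedCategory.isIso_Q_map_iff_quasiIso _ _).2 hgq) ≪≫
      (lTensorCxIso L G hGk).symm ≪≫ (DRing.LTensorCx C L).mapIso eG)⟩

end Groth.DAlg
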