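import Mathlib.Algebra.Homology.Bifunctor
import Mathlib.Algebra.Homology.HomotopyCategory.SingleFunctors
import Mathlib.Algebra.Homology.BifunctorHomotopy
import Mathlib.CategoryTheory.Abelian.Basic

/-!
The total complex of a complex and an object in degree zero.
-/

universe v u v₁ u₁ v₂ u₂

set_option backward.defeqAttrib.useBackward true
set_option backward.isDefEq.respectTransparency false

open CategoryTheory CategoryTheory.Limits HomologicalComplex

namespace Groth.DAlg.TensorSingleRight

variable {A₁ : Type u₁} [Category.{v₁} A₁] [Abelian A₁] {A₂ : Type u₂} [Category.{v₂} A₂] [Abelian A₂]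
  {D : Type u} [Category.{v} D] [Abelian D] [∀ J : Type, HasColimitsOfShape (Discrete J) D]
  (F : A₁ ⥤ A₂ ⥤ D) [F.Additive] [∀ X, (F.obj X).Additive]
  [∀ (X : CochainComplex A₁ ℤ) (Y : CochainComplex A₂ ℤ), HasMapBifunctor X Y F (ComplexShape.up ℤ)]
  (N : A₂) [(F.flip.obj N).Additive]

local notation "up" => ComplexShape.up ℤ
/-- The object in degree zero. -/
noncomputable abbrev S₀ : CochainComplex A₂ ℤ := (HomologicalComplex.single A₂ (ComplexShape.up ℤ) 0).obj N

/-- The summand. -/
noncomputable def fwd (X : CochainComplex A₁ ℤ) (n : ℤ) :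
    (F.obj (X.X n)).obj N ⟶ (mapBifunctor X (S₀ N) F up).X n :=
  (F.obj (X.X n)).map (singleObjXSelf up 0 N).inv ≫ ιMapBifunctor X (S₀ N) F up n 0 n (by simp)

open Classical in
/-- The projection. -/
noncomputable def bwd (X : CochainComplex A₁ ℤ) (n : ℤ) :
    (mapBifunctor X (S₀ N) F up).X n ⟶ (F.obj (X.X n)).obj N :=
  mapBifunctorDesc fun p q h =>
    if hq : q = 0 then eqToHom (by rw [hq, show p = n by simp at h; lia]) ≫
      (F.obj (X.X n)).map (singleObjXSelf up 0 N).hom
    else 0

lemma fwd_bwd (X : CochainComplex A₁ ℤ) (n : ℤ) : fwd F N X n ≫ bwd F N X n = 𝟙 _ := by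
  rw [fwd, bwd, Category.assoc, ι_mapBifunctorDesc, dif_pos rfl, eqToHom_refl, Category.id_comp,
    ← Functor.map_comp, Iso.inv_hom_id, CategoryTheory.Functor.map_id]

lemma bwd_fwd (X : CochainComplex A₁ ℤ) (n : ℤ) : bwd F N X n ≫ fwd F N X n = 𝟙 _ := by
  refine mapBifunctor.hom_ext fun p q h => ?_
  rw [bwd, ι_mapBifunctorDesc_assoc, Category.comp_id]
  by_cases hq : q = 0
  · subst hq
    obtain rfl : p = n := by simpa using h
    rw [dif_pos rfl, fwd, eqToHom_refl, Category.id_comp, ← Functor.map_comp_assoc, Iso.hom_inv_id,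
      CategoryTheory.Functor.map_id, Category.id_comp]
  · exact ((F.obj (X.X p)).map_isZero (isZero_single_obj_X up 0 N q hq)).eq_of_src _ _

/-- Tensoring a complex with an object in degree zero. -/
noncomputable def objIso (X : CochainComplex A₁ ℤ) :
    ((F.flip.obj N).mapHomologicalComplex up).obj X ≅ mapBifunctor X (S₀ N) F up :=
  Hom.isoOfComponents (fun n => ⟨fwd F N X n, bwd F N X n, fwd_bwd F N X n, bwd_fwd F N X n⟩) fun n n' hn => by
    obtain rfl : n + 1 = n' := hn
    show fwd F N X n ≫ (mapBifunctor X (S₀ N) F up).d n (n + 1) = (F.map (X.d n (n + 1))).app N ≫ fwd F N X (n + 1)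
    rw [fwd, fwd, Category.assoc, mapBifunctor.d_eq, Preadditive.comp_add, mapBifunctor.ι_D₁, mapBifunctor.ι_D₂,
      mapBifunctor.d₁_eq X (S₀ N) F up (show (ComplexShape.up ℤ).Rel n (n + 1) by simp) 0 (n + 1) (by simp),
      mapBifunctor.d₂_eq' X (S₀ N) F up n (show (ComplexShape.up ℤ).Rel 0 1 by simp) (n + 1), single_obj_d,
      Functor.map_zero, zero_comp, smul_zero, add_zero]
    rw [show ComplexShape.ε₁ up up up (n, 0) = 1 from rfl, one_smul]
    exact (F.map (X.d n (n + 1))).naturality_assoc _ _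

/-- Tensoring complexes with an object in degree zero, naturally. -/
noncomputable def natIso :
    (F.flip.obj N).mapHomologicalComplex up ≅
      (F.map₂CochainComplex).flip.obj (S₀ N) :=
  NatIso.ofComponents (objIso F N) fun {X Y} φ => by
    ext n : 1
    show (F.map (φ.f n)).app N ≫ fwd F N Y n = fwd F N X n ≫ (mapBifunctorMap φ (𝟙 _) F up).f n
    rw [fwd, fwd, Category.assoc, ι_mapBifunctorMap, HomologicalComplex.id_f, CategoryTheory.Functor.map_id, Category.id_comp]
    exact ((F.map (φ.f n)).naturality_assoc _ _).symm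

end Groth.DAlg.TensorSingleRight
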