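import Groth.Agent.DAlg.TotDevissage
import Groth.Agent.DAlg.LTensorCxIso
import Groth.Agent.DAlg.TensorSingleRight
import Groth.Agent.DerivedCoh.KFlat.TotalMap
import Groth.Agent.DerivedCoh.KFlat.SchemePullback

/-!
Restriction of scalars of total tensor products, and derived tensor products with modules.
-/

universe u

open CategoryTheory CategoryTheory.Limits HomologicalComplex MonoidalCategory
open scoped TensorProduct

attribute [local instance] HasDerivedCategory.standard
set_option linter.style.haveILetI false

namespace Groth.DAlg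

open DerivedCoh KFlatMod

local notation "up" => ComplexShape.up ℤ

variable {A B : Type u} [CommRing A] [CommRing B]

instance (φ : A →+* B) (J : Type) :
    PreservesColimitsOfShape (Discrete J) (ModuleCat.restrictScalars.{u} φ) where
  preservesColimit {_} := inferInstance

instance (M : ModuleCat.{u} B) (J : Type) : PreservesColimitsOfShape (Discrete J) ((T B).obj M) :=
  haveI : ((T B).obj M).IsLeftAdjoint := inferInstanceAs (tensorLeft M).IsLeftAdjoint
  inferInstance

lemma baseTensorIsoApp_natural (φ : A →+* B) {P P' : ModuleCat.{u} B} (f : P ⟶ P') (N : ModuleCat.{u} A) :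
    (ModuleCat.restrictScalars φ).map (f ▷ (ModuleCat.extendScalars φ).obj N) ≫
        (KFlat.baseTensorIsoApp φ P' N).hom =
      (KFlat.baseTensorIsoApp φ P N).hom ≫ ((ModuleCat.restrictScalars φ).map f ▷ N) := by
  letI := φ.toAlgebra
  letI : Module A P := Module.compHom P φ
  haveI : IsScalarTower A B P := IsScalarTower.of_algebraMap_smul fun _ _ => rfl
  letI : Module A P' := Module.compHom P' φ
  haveI : IsScalarTower A B P' := IsScalarTower.of_algebraMap_smul fun _ _ => rfl
  ext t
  induction t using TensorProduct.induction_on with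
  | zero => exact (map_zero _).trans (map_zero _).symm
  | add a b ha hb => exact (map_add _ a b).trans ((congrArg₂ (· + ·) ha hb).trans (map_add _ a b).symm)
  | tmul p q =>
    induction q using TensorProduct.induction_on with
    | zero =>
      erw [TensorProduct.tmul_zero]
      exact (map_zero _).trans (map_zero _).symm
    | add a b ha hb =>
      erw [TensorProduct.tmul_add]
      exact (map_add _ _ _).trans ((congrArg₂ (· + ·) ha hb).trans (map_add _ _ _).symm)
    | tmul s n =>
      exact (congrArg (fun z => z ⊗ₜ[A] n) (f.hom.map_smul s p)).symm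

/-- The bicomplex form of `P ⊗_B (B ⊗_A W) = P ⊗_A W`. -/
noncomputable def resBiIso (φ : A →+* B) (X : DRing.Cx B) (W : DRing.Cx A) :
    (KFlat.mapBi (ModuleCat.restrictScalars.{u} φ)).obj (((KFlat.Bi (T B)).obj X).obj (extCx φ W)) ≅
      ((KFlat.Bi (T A)).obj ((DRing.restrictCx φ).obj X)).obj W :=
  Hom.isoOfComponents
    (fun p => Hom.isoOfComponents (fun q => KFlat.baseTensorIsoApp φ (X.X p) (W.X q))
      fun q q' _ => ((KFlat.baseTensorIso φ (X.X p)).hom.naturality (W.d q q')).symm)
    fun p p' _ => by
      ext q : 1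
      exact (baseTensorIsoApp_natural φ (X.d p p') (W.X q)).symm

/-- Restriction of a total tensor product with an extended complex. -/
noncomputable def resTotIso (φ : A →+* B) (X : DRing.Cx B) (W : DRing.Cx A) :
    (DRing.restrictCx φ).obj (KFlat.tot (T B) X (extCx φ W)) ≅ KFlat.tot (T A) ((DRing.restrictCx φ).obj X) W :=
  (KFlat.totalMapIso (ModuleCat.restrictScalars.{u} φ) (((KFlat.Bi (T B)).obj X).obj (extCx φ W))).symm ≪≫
    (HomologicalComplex₂.totalFunctor (ModuleCat.{u} A) up up up).mapIso (resBiIso φ X W)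

/-- Associativity with a module, in bicomplex form. -/
noncomputable def assocBiIso (M : ModuleCat.{u} B) (L V : DRing.Cx B) :
    (KFlat.mapBi ((T B).obj M)).obj (((KFlat.Bi (T B)).obj L).obj V) ≅
      ((KFlat.Bi (T B)).obj ((((T B).obj M).mapHomologicalComplex up).obj L)).obj V :=
  Hom.isoOfComponents
    (fun p => Hom.isoOfComponents (fun q => (α_ M (L.X p) (V.X q)).symm)
      fun q q' _ => (associator_inv_naturality_right M (L.X p) (V.d q q')).symm)
    fun p p' _ => by
      ext q : 1
      exact (associator_inv_naturality_middle M (L.d p p') (V.X q)).symm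

/-- Associativity with a module. -/
noncomputable def assocTotIso (M : ModuleCat.{u} B) (L V : DRing.Cx B) :
    (((T B).obj M).mapHomologicalComplex up).obj (KFlat.tot (T B) L V) ≅
      KFlat.tot (T B) ((((T B).obj M).mapHomologicalComplex up).obj L) V :=
  (KFlat.totalMapIso ((T B).obj M) (((KFlat.Bi (T B)).obj L).obj V)).symm ≪≫
    (HomologicalComplex₂.totalFunctor (ModuleCat.{u} B) up up up).mapIso (assocBiIso M L V)

/-- K-projective complexes are K-flat. -/
theorem isKFlatCx_of_isKProjective (P : DRing.Cx A) [P.IsKProjective] : IsKFlatCx A P := by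
  haveI := resAug_quasiIso (R := A) P
  haveI : IsIso (DerivedCategory.Qh.map ((HomotopyCategory.quotient _ _).map ((resAug A).app P))) :=
    (NatIso.isIso_map_iff (DerivedCategory.quotientCompQhIso (ModuleCat.{u} A)) _).2
      ((DerivedCategory.isIso_Q_map_iff_quasiIso _ _).2 inferInstance)
  let π := (HomotopyCategory.quotient (ModuleCat.{u} A) up).map ((resAug A).app P)
  obtain ⟨s, hs⟩ := (bijective_Qh_map_of_isKProjective P _).2 (inv (DerivedCategory.Qh.map π))
  obtain ⟨s, rfl⟩ := (HomotopyCategory.quotient _ _).map_surjective s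
  have h1 : (HomotopyCategory.quotient (ModuleCat.{u} A) up).map (s ≫ (resAug A).app P) =
      (HomotopyCategory.quotient _ _).map (𝟙 P) := by
    refine (bijective_Qh_map_of_isKProjective P _).1 ?_
    rw [CategoryTheory.Functor.map_comp, CategoryTheory.Functor.map_comp, hs, CategoryTheory.Functor.map_id,
      CategoryTheory.Functor.map_id]
    exact IsIso.inv_hom_id _
  have H := HomotopyCategory.homotopyOfEq _ _ h1
  rw [isKFlatCx_iff]
  intro L hL i
  have hR := (isKFlatCx_iff.1 (res_isKFlat P)) L hL i
  rw [exactAt_iff_isZero_homology] at hR ⊢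
  let G := KFlat.totR (T A) L
  have h2 : Homotopy (G.map (s ≫ (resAug A).app P)) (G.map (𝟙 P)) := mapBifunctorMapHomotopy₂ (𝟙 L) H (T A) up
  rw [IsZero.iff_id_eq_zero]
  have h3 : homologyMap (G.map (s ≫ (resAug A).app P)) i = homologyMap (G.map (𝟙 P)) i := h2.homologyMap_eq i
  rw [CategoryTheory.Functor.map_id, homologyMap_id, Functor.map_comp, homologyMap_comp,
    hR.eq_of_tgt (homologyMap (G.map s) i) 0] at h3
  exact h3.symm.trans zero_comp

/-- `X ⊗^L N` is computed by a K-flat resolution of `N`. -/
theorem subsingleton_lTensor_iff (N : ModuleCat.{u} A) [DRing.HasLTensor A N] {W : DRing.Cx A}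
    (w : W ⟶ (single (ModuleCat.{u} A) up 0).obj N) [QuasiIso w] (hW : IsKFlatCx A W) (X : DRing.Cx A) (i : ℤ) :
    Subsingleton (Dual.HD A ((DRing.LTensor A N).obj (DRing.toD X)) i) ↔
      IsZero ((KFlat.tot (T A) X W).homology i) := by
  obtain ⟨P, q, hP, hq, -, -⟩ := exists_kProjective_resolution X
  haveI := hP
  haveI := hq
  haveI : QuasiIso ((KFlat.totR (T A) P).map w) :=
    KFlat.quasiIso_totR _ (isKFlat_flip (isKFlatCx_iff.1 (isKFlatCx_of_isKProjective P))) w
  haveI : QuasiIso ((KFlat.totL (T A) W).map q) := (isKFlatCx_iff.1 hW).quasiIso_totL q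
  let e : (DRing.LTensor A N).obj (DRing.toD X) ≅ DRing.toD (DRing.tensorCx P N) :=
    (DRing.LTensor A N).mapIso (asIso (DerivedCategory.Q.map q)).symm ≪≫ lTensorIso N P
  have e₂ : (DRing.tensorCx P N).homology i ≅ (KFlat.tot (T A) X W).homology i :=
    (homologyFunctor _ _ i).mapIso (TensorSingleRight.objIso (T A) N P) ≪≫
      (isoOfQuasiIsoAt ((KFlat.totR (T A) P).map w) i).symm ≪≫
        isoOfQuasiIsoAt ((KFlat.totL (T A) W).map q) i
  refine ⟨fun h => (isZero_homology_of_subsingleton ?_).of_iso e₂.symm, fun h => ?_⟩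
  · exact @Equiv.subsingleton _ _ (HDCongr e.symm i).toEquiv h
  · exact @Equiv.subsingleton _ _ (HDCongr e i).toEquiv (subsingleton_HD_toD (h.of_iso e₂))

end Groth.DAlg
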