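import Groth.Agent.DAlg.TorAmp
import Groth.Agent.FlatCxBase.BaseChange
import Mathlib.LinearAlgebra.Matrix.Charpoly.LinearMap
import Mathlib.RingTheory.Finiteness.Nakayama

/-!
Split injectivity from the fibres, and tor amplitude of pseudo-coherent objects from their fibres.
-/

universe u

open CategoryTheory CategoryTheory.Limits CategoryTheory.Pretriangulated HomologicalComplex MonoidalCategory
open scoped TensorProduct

attribute [local instance] HasDerivedCategory.standard
set_option linter.style.haveILetI false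

namespace Groth.DAlg

open FlatCxBase

variable {R : Type u} [CommRing R]

/-- A map out of a finite module which has a retraction modulo every maximal ideal has a retraction. -/
theorem exists_retraction_of_forall_maximal {Q G : Type u} [AddCommGroup Q] [Module R Q] [AddCommGroup G]
    [Module R G] [Module.Finite R Q] (f : Q →ₗ[R] G)
    (h : ∀ m : Ideal R, m.IsMaximal → ∃ r : G →ₗ[R] Q, ∀ x, x - r (f x) ∈ m • (⊤ : Submodule R Q)) :
    ∃ r : G →ₗ[R] Q, r ∘ₗ f = LinearMap.id := by
  let J : Submodule R (Module.End R Q) := LinearMap.range (LinearMap.lcomp R Q f)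
  have hJ : ∀ ψ, ∀ g ∈ J, ψ * g ∈ J := by
    rintro ψ _ ⟨r, rfl⟩
    exact ⟨ψ ∘ₗ r, rfl⟩
  let I : Ideal R := Submodule.comap (LinearMap.toSpanSingleton R (Module.End R Q) 1) J
  suffices I = ⊤ by
    have h1 : (1 : R) ∈ I := this ▸ Submodule.mem_top
    rw [Submodule.mem_comap, LinearMap.toSpanSingleton_apply, one_smul] at h1
    exact h1
  by_contra hI
  obtain ⟨m, hm, hIm⟩ := Ideal.exists_le_maximal I hI
  obtain ⟨r, hr⟩ := h m hm
  let e : Module.End R Q := 1 - r ∘ₗ f
  obtain ⟨p, hp, -, hc, hp0⟩ := LinearMap.exists_monic_and_natDegree_eq_and_coeff_mem_pow_and_aeval_eq_zero R e m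
    (by rintro _ ⟨x, rfl⟩; exact hr x)
  obtain ⟨q, hq⟩ : (Polynomial.X - Polynomial.C 1) ∣ (p - Polynomial.C (p.eval 1)) :=
    Polynomial.X_sub_C_dvd_sub_C_eval
  have hmem : p.eval 1 • (1 : Module.End R Q) ∈ J := by
    have h2 := congrArg (Polynomial.aeval e) hq
    rw [map_sub, hp0, zero_sub, Polynomial.aeval_C, mul_comm (Polynomial.X - _), map_mul, map_sub,
      Polynomial.aeval_X, Polynomial.aeval_C, map_one, Algebra.algebraMap_eq_smul_one,
      show e - 1 = -(r ∘ₗ f) from sub_sub_cancel_left _ _, mul_neg, neg_inj] at h2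
    exact h2 ▸ hJ _ _ ⟨r, rfl⟩
  refine hm.ne_top ((Ideal.eq_top_iff_one m).2 ?_)
  have h1 : p.eval 1 ∈ m := hIm hmem
  rw [Polynomial.eval_eq_sum_range, Finset.sum_range_succ, hp.coeff_natDegree, one_pow, mul_one] at h1
  refine (Ideal.add_mem_iff_right m (sum_mem fun i hi => ?_)).1 h1
  rw [one_pow, mul_one]
  exact Ideal.pow_le_self (Nat.sub_ne_zero_of_lt (Finset.mem_range.1 hi)) (hc i)

variable {S : Type u} [CommRing S] [Algebra R S]

lemma mem_ker_smul_top (hS : Function.Surjective (algebraMap R S)) {Q : Type u} [AddCommGroup Q] [Module R Q]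
    (x : Q) (hx : (1 : S) ⊗ₜ[R] x = 0) : x ∈ RingHom.ker (algebraMap R S) • (⊤ : Submodule R Q) := by
  have hex : Function.Exact (RingHom.ker (algebraMap R S)).subtype (Algebra.linearMap R S) := fun r => by
    simp [RingHom.mem_ker]
  obtain ⟨t, ht⟩ := (rTensor_exact Q hex hS ((1 : R) ⊗ₜ[R] x)).1 (by simpa using hx)
  have key : ∀ t, TensorProduct.lid R Q ((RingHom.ker (algebraMap R S)).subtype.rTensor Q t) ∈
      RingHom.ker (algebraMap R S) • (⊤ : Submodule R Q) := fun t => by
    induction t with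
    | zero => simp
    | tmul i q =>
      simpa using Submodule.smul_mem_smul i.2 (Submodule.mem_top (x := q))
    | add u v hu hv => rw [map_add, map_add]; exact add_mem hu hv
  simpa [ht] using key t

lemma exists_lift_retraction (hS : Function.Surjective (algebraMap R S)) {Q G : Type u} [AddCommGroup Q]
    [Module R Q] [AddCommGroup G] [Module R G] [Module.Projective R G] (f : Q →ₗ[R] G)
    (rb : S ⊗[R] G →ₗ[S] S ⊗[R] Q) (hrb : ∀ z, rb (f.baseChange S z) = z) :
    ∃ r : G →ₗ[R] Q, ∀ x, x - r (f x) ∈ RingHom.ker (algebraMap R S) • (⊤ : Submodule R Q) := by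
  let θ : Q →ₗ[R] S ⊗[R] Q := TensorProduct.mk R S Q 1
  have hθ : Function.Surjective θ := by
    intro z
    induction z with
    | zero => exact ⟨0, map_zero _⟩
    | tmul s q =>
      obtain ⟨c, rfl⟩ := hS s
      exact ⟨c • q, by simp [θ, TensorProduct.smul_tmul', Algebra.algebraMap_eq_smul_one]⟩
    | add u v hu hv =>
      obtain ⟨a, rfl⟩ := hu
      obtain ⟨b, rfl⟩ := hv
      exact ⟨a + b, map_add _ _ _⟩
  obtain ⟨r, hr⟩ := Module.projective_lifting_property θ (rb.restrictScalars R ∘ₗ TensorProduct.mk R S G 1) hθ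
  refine ⟨r, fun x => mem_ker_smul_top hS _ ?_⟩
  rw [TensorProduct.tmul_sub, sub_eq_zero]
  exact ((LinearMap.congr_fun hr (f x)).trans (hrb ((1 : S) ⊗ₜ x))).symm

variable (F : DRing.Cx R) {i j k l : ℤ}

lemma dBar_injective (hi : i + 1 = j) (hk : j + 1 = k) (h : IsZero (F.homology j)) :
    Function.Injective (dBar F i j k) := by
  subst hk
  obtain rfl : i = j - 1 := by omega
  rw [injective_iff_map_eq_zero]
  intro q hq
  obtain ⟨y, rfl⟩ := Submodule.mkQ_surjective _ q
  exact (Submodule.Quotient.mk_eq_zero _).2 (exists_of_isZero_homology F h y hq)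

lemma exists_retraction_dBar (hinj : Function.Injective (dBar F i j k))
    [Module.Projective R (Coker F j k)] :
    ∃ r : F.X k →ₗ[R] Coker F i j, ∀ q, r (dBar F i j k q) = q := by
  obtain ⟨s, hs⟩ := Module.projective_lifting_property (cokerπ F j k) LinearMap.id (Submodule.mkQ_surjective _)
  let e := LinearEquiv.ofInjective _ hinj
  have hmem : ∀ x, (LinearMap.id - s ∘ₗ cokerπ F j k : F.X k →ₗ[R] F.X k) x ∈ LinearMap.range (dBar F i j k) := by
    intro x
    have h1 : cokerπ F j k (x - s (cokerπ F j k x)) = 0 := by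
      rw [map_sub, show cokerπ F j k (s (cokerπ F j k x)) = cokerπ F j k x from LinearMap.congr_fun hs _, sub_self]
    obtain ⟨y, hy⟩ := (exact_cokerπ F j k _).1 h1
    exact ⟨cokerπ F i j y, (LinearMap.congr_fun (dBar_comp F i j k) y).trans hy⟩
  refine ⟨e.symm.toLinearMap ∘ₗ (LinearMap.id - s ∘ₗ cokerπ F j k).codRestrict _ hmem, fun q => ?_⟩
  have hz : cokerπ F j k (dBar F i j k q) = 0 := by
    obtain ⟨y, rfl⟩ := Submodule.mkQ_surjective _ q
    exact (exact_cokerπ F j k).apply_apply_eq_zero y
  apply e.injective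
  rw [LinearMap.comp_apply]
  refine (e.apply_symm_apply _).trans (Subtype.ext ?_)
  simp [e, hz]

/-- A retraction of `dBar` modulo a surjection `R → S`, from the complex over `S`. -/
lemma exists_retraction_mod (hS : Function.Surjective (algebraMap R S)) (hi : i + 1 = j) (hk : j + 1 = k)
    [Module.Projective R (F.X k)] (hz : IsZero ((extCx (algebraMap R S) F).homology j))
    [hp : Module.Projective S (Coker (extCx (algebraMap R S) F) j k)] :
    ∃ r : F.X k →ₗ[R] Coker F i j, ∀ x,
      x - r (dBar F i j k x) ∈ RingHom.ker (algebraMap R S) • (⊤ : Submodule R (Coker F i j)) := by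
  obtain ⟨r, hr⟩ := exists_retraction_dBar (i := i) (extCx (algebraMap R S) F) (dBar_injective _ hi hk hz)
  let eQ := cokerBCEquiv S F i j
  let eX := extendEquiv S (F.X k)
  refine exists_lift_retraction hS _ (eQ.toLinearMap ∘ₗ r ∘ₗ eX.symm.toLinearMap) fun z => ?_
  obtain ⟨q, rfl⟩ := eQ.surjective z
  obtain ⟨y, rfl⟩ := Submodule.mkQ_surjective _ q
  have h1 : (dBar F i j k).baseChange S (eQ (Submodule.mkQ _ y)) =
      eX (dBar (extCx (algebraMap R S) F) i j k (Submodule.mkQ _ y)) := by
    refine Eq.trans ?_ (extendEquiv_bcCx_d S F j k y).symm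
    show (dBar F i j k).baseChange S ((cokerπ F i j).baseChange S (extendEquiv S (F.X j) y)) = _
    rw [← LinearMap.comp_apply, ← LinearMap.baseChange_comp, dBar_comp]
  refine (congrArg (fun v => eQ (r (eX.symm v))) h1).trans (congrArg eQ ?_)
  exact (congrArg r (eX.symm_apply_apply _)).trans (hr _)

/-- A retraction of `dBar` kills the cohomology of every `F ⊗ M`. -/
lemma isZero_tensor_of_retraction (hi : i + 1 = j) (hk : j + 1 = k) (r : F.X k →ₗ[R] Coker F i j)
    (hr : r ∘ₗ dBar F i j k = LinearMap.id) (M : ModuleCat.{u} R) :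
    IsZero ((DRing.tensorCx F M).homology j) := by
  refine (isZero_T_iff F ((ComplexShape.up ℤ).prev_eq' hi) ((ComplexShape.up ℤ).next_eq' hk) M).2 fun x hx => ?_
  apply (rTensor_cokerπ_eq_zero_iff F M i j x).1
  have h1 : r.rTensor M ((dBar F i j k).rTensor M ((cokerπ F i j).rTensor M x)) = (cokerπ F i j).rTensor M x := by
    rw [← LinearMap.rTensor_comp_apply, hr, LinearMap.rTensor_id, LinearMap.id_apply]
  have h2 : (dBar F i j k).rTensor M ((cokerπ F i j).rTensor M x) = 0 := by
    rw [← LinearMap.rTensor_comp_apply, dBar_comp, hx]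
  rw [← h1, h2, map_zero]

/-- `H^j(F ⊗ M) = 0` for all `M` if modulo every maximal ideal the differential out of degree `j` splits. -/
theorem isZero_tensor_of_forall_maximal (hF : DRing.TermwiseFiniteProjective F) (j : ℤ)
    (h : ∀ m : Ideal R, m.IsMaximal → ∃ r : F.X (j + 1) →ₗ[R] Coker F (j - 1) j,
      ∀ x, x - r (dBar F (j - 1) j (j + 1) x) ∈ m • (⊤ : Submodule R (Coker F (j - 1) j)))
    (M : ModuleCat.{u} R) : IsZero ((DRing.tensorCx F M).homology j) := by
  have := (hF j).1
  obtain ⟨r, hr⟩ := exists_retraction_of_forall_maximal _ h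
  exact isZero_tensor_of_retraction F (by omega) rfl r hr M

/-- An object with a flat representative whose tensor products are concentrated in `[a, b]`. -/
theorem torAmp_of_forall_tensor {K : Dual.D R} {a b B : ℤ} (hB : DRing.VanishesAbove F B)
    (hF : DRing.TermwiseFlat F) (e : DRing.toD F ≅ K)
    (h : ∀ (M : ModuleCat.{u} R) (i : ℤ), (i < a ∨ b < i) → IsZero ((DRing.tensorCx F M).homology i)) :
    DRing.HasTorAmplitudeIn R a b K := by
  haveI : ∀ M : ModuleCat.{u} R, DRing.HasLTensor R M := hasLTensor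
  refine (hasTorAmplitudeIn_iff K a b).2 fun M i hi => ?_
  obtain ⟨e₁⟩ := nonempty_lTensorFlatIso F hB hF M
  have := subsingleton_HD_toD (h M i hi)
  exact (HDCongr ((DRing.LTensor R M).mapIso e.symm ≪≫ e₁) i).toEquiv.subsingleton

omit [Algebra R S] in
lemma subsingleton_HD_extCx_iff (φ : R →+* S) [DRing.HasLBaseChange φ] {B : ℤ} (hB : DRing.VanishesAbove F B)
    (hF : ∀ i, Module.Projective R (F.X i)) {K : Dual.D R} (e : DRing.toD F ≅ K) (n : ℤ) :
    Subsingleton (Dual.HD S ((DRing.LBaseChange φ).obj K) n) ↔ IsZero ((extCx φ F).homology n) := by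
  haveI := isKProjective_of_bounded hB hF
  let e' := (DRing.LBaseChange φ).mapIso e.symm ≪≫ lBaseChangeIso φ F
  exact ⟨fun h => isZero_homology_of_subsingleton (HDCongr e' n).symm.toEquiv.subsingleton,
    fun h => have := subsingleton_HD_toD h; (HDCongr e' n).toEquiv.subsingleton⟩

instance finite_extCx_X [∀ i, Module.Finite R (F.X i)] (i : ℤ) :
    Module.Finite S ((extCx (algebraMap R S) F).X i) :=
  Module.Finite.equiv (extendEquiv S (F.X i)).symm

instance projective_extCx_X [∀ i, Module.Projective R (F.X i)] (i : ℤ) :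
    Module.Projective S ((extCx (algebraMap R S) F).X i) :=
  Module.Projective.of_equiv (extendEquiv S (F.X i)).symm

lemma projective_coker_of_flat {E : DRing.Cx R} (hE : DRing.TermwiseFiniteProjective E) (i j : ℤ)
    [Module.Flat R (Coker E i j)] : Module.Projective R (Coker E i j) := by
  have := (hE i).1
  have := (hE j).1
  have := (hE j).2
  have := finitePresentation_coker (P := E) i j
  exact Module.Flat.projective_of_finitePresentation

end Groth.DAlg
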