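import Groth.Agent.DAlg.NilpotentAmp
import Groth.Agent.DAlg.Fibre
import Groth.Agent.Calg2.LBaseChangeKProj

/-!
Perfectness modulo two ideals with zero product.
-/

universe u

open CategoryTheory CategoryTheory.Limits CategoryTheory.Pretriangulated HomologicalComplex MonoidalCategory
open scoped TensorProduct

attribute [local instance] HasDerivedCategory.standard
set_option linter.style.haveILetI false

namespace Groth.DAlg

open FlatCxBase PCohPunctual

variable {R : Type u} [CommRing R]

section Pair

variable {S S' : Type u} [CommRing S] [CommRing S'] [Algebra R S] [Algebra R S']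

/-- Generators modulo the kernel of a surjection. -/
lemma exists_fg_sup_ker_smul (hS : Function.Surjective (algebraMap R S)) (Q : Type u) [AddCommGroup Q] [Module R Q]
    [Module.Finite S (S ⊗[R] Q)] :
    ∃ N : Submodule R Q, N.FG ∧ (⊤ : Submodule R Q) ≤ N ⊔ RingHom.ker (algebraMap R S) • ⊤ := by
  obtain ⟨s, hs⟩ := Module.Finite.fg_top (R := S) (M := S ⊗[R] Q)
  have hθ : Function.Surjective (TensorProduct.mk R S Q 1) := TensorProduct.mk_surjective R Q S hS
  choose l hl using hθ
  classical
  refine ⟨Submodule.span R ((s.image l : Finset Q) : Set Q), Submodule.fg_span (Finset.finite_toSet _), fun x _ => ?_⟩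
  have hx : (1 : S) ⊗ₜ[R] x ∈ (Submodule.span S (s : Set (S ⊗[R] Q))).restrictScalars R := by
    rw [hs]; trivial
  rw [Submodule.restrictScalars_span R S hS] at hx
  have hle : Submodule.span R (s : Set (S ⊗[R] Q)) ≤
      (Submodule.span R ((s.image l : Finset Q) : Set Q)).map (TensorProduct.mk R S Q 1) := by
    rw [Submodule.span_le]
    intro z hz
    exact ⟨l z, Submodule.subset_span (Finset.mem_coe.2 (Finset.mem_image_of_mem l hz)), hl z⟩
  obtain ⟨y, hy, hyx⟩ := hle hx
  refine Submodule.mem_sup.2 ⟨y, hy, x - y, mem_ker_smul_top hS _ ?_, by abel⟩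
  rw [TensorProduct.tmul_sub, sub_eq_zero]
  exact hyx.symm

/-- Finiteness modulo two ideals with zero product. -/
lemma finite_of_tensor_pair (hS : Function.Surjective (algebraMap R S)) (hS' : Function.Surjective (algebraMap R S'))
    (hmul : RingHom.ker (algebraMap R S) * RingHom.ker (algebraMap R S') = ⊥) (Q : Type u) [AddCommGroup Q]
    [Module R Q] [Module.Finite S (S ⊗[R] Q)] [Module.Finite S' (S' ⊗[R] Q)] : Module.Finite R Q := by
  obtain ⟨N, hN, h1⟩ := exists_fg_sup_ker_smul hS Q
  obtain ⟨N', hN', h2⟩ := exists_fg_sup_ker_smul hS' Q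
  refine ⟨?_⟩
  have : (⊤ : Submodule R Q) = N ⊔ N' := top_le_iff.1 (by
    refine h1.trans (sup_le le_sup_left ?_) |>.trans le_rfl
    refine (Submodule.smul_mono le_rfl h2).trans ?_
    rw [Submodule.smul_sup, ← Submodule.smul_assoc, smul_eq_mul, hmul, Submodule.bot_smul, sup_bot_eq]
    exact Submodule.smul_le_right.trans le_sup_right) |>.symm
  rw [this]
  exact hN.sup hN'

/-- If `H^j(P ⊗ M) = 0` for the modules killed by one of two ideals with zero product then for all modules. -/
theorem isZero_tensor_of_pair (P : DRing.Cx R) [∀ i, Module.Flat R (P.X i)] (j : ℤ) {I J : Ideal R} (hIJ : I * J = ⊥)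
    (hI : ∀ (M : Type u) [AddCommGroup M] [Module R M], I • (⊤ : Submodule R M) = ⊥ →
      IsZero ((DRing.tensorCx P (ModuleCat.of R M)).homology j))
    (hJ : ∀ (M : Type u) [AddCommGroup M] [Module R M], J • (⊤ : Submodule R M) = ⊥ →
      IsZero ((DRing.tensorCx P (ModuleCat.of R M)).homology j))
    (M : Type u) [AddCommGroup M] [Module R M] :
    IsZero ((DRing.tensorCx P (ModuleCat.of R M)).homology j) := by
  let N : Submodule R M := J • ⊤
  refine isZero_tensor_ext P j N.subtype N.mkQ Subtype.val_injective (LinearMap.exact_subtype_mkQ N)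
    N.mkQ_surjective (hI N ?_) (hJ _ ?_)
  · refine Submodule.map_injective_of_injective (Submodule.injective_subtype N) ?_
    rw [Submodule.map_smul'', Submodule.map_top, Submodule.range_subtype, Submodule.map_bot]
    show I • (J • (⊤ : Submodule R M)) = ⊥
    rw [← Submodule.smul_assoc, smul_eq_mul, hIJ, Submodule.bot_smul]
  · rw [← Submodule.range_mkQ N, LinearMap.range_eq_map, ← Submodule.map_smul'', Submodule.mkQ_map_self]

end Pair

/-- An object is pseudo-coherent when the top cohomology stays finite while cells are attached. -/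
theorem pcn_of_top' (n : ℤ) (Φ : Dual.D R → Prop)
    (hΦcone : ∀ (V F : DRing.Cx R) (g : V ⟶ F) (b : ℤ), DRing.VanishesOutside V b b → DRing.TermwiseFiniteFree V →
      DRing.VanishesAbove F b → (∀ i, Module.Free R (F.X i)) → Φ (DRing.toD F) →
        Φ (DRing.toD (CochainComplex.mappingCone g)))
    (hΦiso : ∀ {K L : Dual.D R}, (K ≅ L) → Φ K → Φ L)
    (htop : ∀ (F : DRing.Cx R) (c : ℤ), n ≤ c → DRing.VanishesAbove F c → (∀ i, Module.Free R (F.X i)) → Φ (DRing.toD F) →
      Module.Finite R (Coker F (c - 1) c))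
    {K : Dual.D R} {c : ℤ} (hc : ∀ i, c < i → Subsingleton (Dual.HD R K i)) (h : Φ K) :
    PCn (finFree R) n K := by
  have hA := isAdditiveSub_finFree R
  have hqs := isQuasiStable_finFree R
  have hql := isQuasiLiftable_finFree R
  suffices ∀ (k : ℕ) (c : ℤ) (K : Dual.D R), c < n + k → (∀ i, c < i → Subsingleton (Dual.HD R K i)) →
      Φ K → PCn (finFree R) n K from
    this (c + 1 - n).toNat c K (by omega) hc h
  intro k
  induction k with
  | zero =>
    exact fun c K hck hc _ => pcn_of_isZero hA hql fun i hi =>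
      ModuleCat.isZero_iff_subsingleton.2 (hc i (by omega))
  | succ k ih =>
    intro c K hck hc h
    by_cases hcn : c < n
    · exact pcn_of_isZero hA hql fun i hi => ModuleCat.isZero_iff_subsingleton.2 (hc i (by omega))
    obtain ⟨F, hF, hfree, ⟨e⟩⟩ := exists_free_rep R hc
    have hproj : ∀ i, Module.Projective R (F.X i) := fun i => haveI := hfree i; inferInstance
    have := htop F c (not_lt.1 hcn) hF hfree (hΦiso e.symm h)
    obtain ⟨r, φ, hφ⟩ := Module.Finite.exists_fin' R (Coker F (c - 1) c)
    obtain ⟨ψ, hψ⟩ := Module.projective_lifting_property (cokerπ F (c - 1) c) φ (Submodule.mkQ_surjective _)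
    let V : ModuleCat.{u} R := ModuleCat.of R (Fin r → R)
    let V₀ := (single (ModuleCat.{u} R) (ComplexShape.up ℤ) c).obj V
    let g : V₀ ⟶ F := mkHomFromSingle (ModuleCat.ofHom ψ) (by
      rintro j rfl
      exact (hF _ (by omega)).eq_of_tgt _ _)
    have hV : DRing.VanishesOutside V₀ c c := fun i hi => isZero_single_obj_X _ _ _ _ (by omega)
    have hVF : DRing.TermwiseFiniteFree V₀ := fun i => by
      by_cases hi : i = c
      · exact hA.of_iso (singleObjXIsoOfEq (ComplexShape.up ℤ) c V i hi).symm
          ⟨inferInstanceAs (Module.Finite R (Fin r → R)), inferInstanceAs (Module.Free R (Fin r → R))⟩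
      · exact hA.zero _ (isZero_single_obj_X _ _ _ _ hi)
    let C := CochainComplex.mappingCone g
    have hCz : ∀ i, c - 1 < i → Subsingleton (Dual.HD R (DRing.toD C) i) := fun i hi => by
      refine subsingleton_HD_toD ?_
      have hT := DerivedCategory.mappingCone_triangle_distinguished g
      refine (IsZero.of_iso ?_ ((DerivedCategory.homologyFunctorFactors (ModuleCat.{u} R) i).app C).symm)
      refine (DerivedCategory.HomologySequence.exact₃ _ hT i (i + 1) rfl).isZero_of_both_zeros ?_
        ((IsZero.of_iso (isZero_homology_of_isZero_X (hV (i + 1) (Or.inr (by omega))))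
          ((DerivedCategory.homologyFunctorFactors (ModuleCat.{u} R) (i + 1)).app V₀)).eq_of_tgt _ _)
      refine (DerivedCategory.HomologySequence.epi_homologyMap_mor₁_iff _ hT i).1 ?_
      show Epi ((DerivedCategory.homologyFunctor (ModuleCat.{u} R) i).map (DerivedCategory.Q.map g))
      haveI : Epi (homologyMap g i) := by
        rw [ModuleCat.epi_iff_surjective, homologyMap_surjective_iff g (cochain_prev i) (cochain_next i)]
        intro y _
        rcases eq_or_lt_of_le (show c ≤ i by omega) with rfl | hlt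
        · obtain ⟨v, hv⟩ := hφ (cokerπ F (c - 1) c y)
          have hsub : cokerπ F (c - 1) c (y - ψ v) = 0 := by
            rw [map_sub, show cokerπ F (c - 1) c (ψ v) = φ v from LinearMap.congr_fun hψ v, hv, sub_self]
          obtain ⟨w, hw⟩ := (exact_cokerπ F (c - 1) c _).1 hsub
          refine ⟨(singleObjXSelf (ComplexShape.up ℤ) c V).inv v, w, ?_, ?_⟩
          · have := ModuleCat.subsingleton_of_isZero (hV (c + 1) (Or.inr (by omega)))
            exact Subsingleton.elim _ _
          · simp only [g, mkHomFromSingle_f]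
            change ψ ((singleObjXSelf (ComplexShape.up ℤ) c V).hom ((singleObjXSelf (ComplexShape.up ℤ) c V).inv v)) + _ = y
            rw [Iso.inv_hom_id_apply, hw]
            exact add_sub_cancel _ _
        · have := ModuleCat.subsingleton_of_isZero (hF i hlt)
          exact ⟨0, 0, map_zero _, Subsingleton.elim _ _⟩
      haveI : Epi ((homologyFunctor (ModuleCat.{u} R) (ComplexShape.up ℤ) i).map g) :=
        ‹Epi (homologyMap g i)›
      erw [← NatIso.naturality_2 (DerivedCategory.homologyFunctorFactors (ModuleCat.{u} R) i) g]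
      infer_instance
    have hC := ih (c - 1) (DRing.toD C) (by omega) hCz (hΦcone V₀ F g c hV hVF hF hfree (hΦiso e.symm h))
    exact (PCn.ext hA hqs hql (DerivedCategory.mappingCone_triangle_distinguished g)
      (show PCn (finFree R) n (DRing.toD V₀) from
        ⟨V₀, ⟨⟨c, fun i hi => hV i (Or.inr hi)⟩, fun i _ => hVF i⟩, ⟨Iso.refl _⟩⟩) hC).of_iso e

/-- As `pcn_of_top'`: an object is pseudo-coherent when the top cohomology stays finite while cells are attached. -/
theorem pcn_of_top (Φ : Dual.D R → Prop)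
    (hΦcone : ∀ (V F : DRing.Cx R) (g : V ⟶ F) (b : ℤ), DRing.VanishesOutside V b b → DRing.TermwiseFiniteFree V →
      DRing.VanishesAbove F b → (∀ i, Module.Free R (F.X i)) → Φ (DRing.toD F) →
        Φ (DRing.toD (CochainComplex.mappingCone g)))
    (hΦiso : ∀ {K L : Dual.D R}, (K ≅ L) → Φ K → Φ L)
    (htop : ∀ (F : DRing.Cx R) (c : ℤ), DRing.VanishesAbove F c → (∀ i, Module.Free R (F.X i)) → Φ (DRing.toD F) →
      Module.Finite R (Coker F (c - 1) c))
    {K : Dual.D R} {c : ℤ} (hc : ∀ i, c < i → Subsingleton (Dual.HD R K i)) (h : Φ K) (n : ℤ) :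
    PCn (finFree R) n K :=
  pcn_of_top' n Φ hΦcone hΦiso (fun F c _ => htop F c) hc h

variable {S : Type u} [CommRing S] [Algebra R S]

/-- Finite top cokernel after base change. -/
lemma finite_baseChange_top [DRing.HasLBaseChange (algebraMap R S)] (F : DRing.Cx R) (c : ℤ)
    (hF : DRing.VanishesAbove F c) (hfree : ∀ i, Module.Free R (F.X i))
    (h : DRing.IsPseudoCoherent' S ((DRing.LBaseChange (algebraMap R S)).obj (DRing.toD F))) :
    Module.Finite S (S ⊗[R] Coker F (c - 1) c) := by
  obtain ⟨eb⟩ := nonempty_lBaseChangeFlatIso (algebraMap R S) F hF fun i => haveI := hfree i; inferInstance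
  let Fb := extCx (algebraMap R S) F
  have hFb : DRing.VanishesAbove Fb c := fun i hi => (ModuleCat.extendScalars (algebraMap R S)).map_isZero (hF i hi)
  have hpc : PCoh.IsPC (finFree S) (DRing.toD Fb) := fun m => PCn.of_iso (isPseudoCoherent'_iff_isPC.1 h m) eb
  obtain ⟨G, hG, hGF, ⟨eG⟩⟩ := exists_finFree_rep (isPseudoCoherent'_iff_isPC.2 hpc) (b := c)
    fun i hi => subsingleton_HD_of_iso (Iso.refl _) (hFb i hi)
  have topEquiv : ∀ {T : Type u} [CommRing T] (E : DRing.Cx T), DRing.VanishesAbove E c →
      Nonempty (Coker E (c - 1) c ≃ₗ[T] E.homology c) := fun {T} _ E hE => by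
    have hk : LinearMap.ker (E.d c (c + 1)).hom = ⊤ := eq_top_iff.2 fun x _ => by
      have := ModuleCat.subsingleton_of_isZero (hE (c + 1) (by omega))
      exact Subsingleton.elim _ _
    refine ⟨(Submodule.Quotient.equiv _ _ (LinearEquiv.ofTop _ hk).symm ?_).trans
      (homologyEquivQuot E (cochain_prev c) (cochain_next c))⟩
    exact (LinearMap.range _).map_equiv_eq_comap_symm _
  have : Module.Finite S (Coker Fb (c - 1) c) := by
    obtain ⟨e₁⟩ := topEquiv Fb hFb
    obtain ⟨e₂⟩ := topEquiv G hG
    have : Module.Finite S (G.X c) := (hGF c).1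
    have : Module.Finite S (G.homology c) := Module.Finite.equiv e₂
    exact Module.Finite.equiv (((HDEquiv G c).symm.trans ((HDCongr eG c).trans (HDEquiv Fb c))).trans e₁.symm)
  exact Module.Finite.equiv (cokerBCEquiv S F (c - 1) c)

/-- Pseudo-coherence of the base change is stable under attaching cells. -/
lemma isPC_baseChange_cone [DRing.HasLBaseChange (algebraMap R S)] (V F : DRing.Cx R) (g : V ⟶ F) (b : ℤ)
    (hV : DRing.VanishesOutside V b b) (hVF : DRing.TermwiseFiniteFree V) (hF : DRing.VanishesAbove F b)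
    (hfree : ∀ i, Module.Free R (F.X i))
    (h : DRing.IsPseudoCoherent' S ((DRing.LBaseChange (algebraMap R S)).obj (DRing.toD F))) :
    DRing.IsPseudoCoherent' S ((DRing.LBaseChange (algebraMap R S)).obj (DRing.toD (CochainComplex.mappingCone g))) := by
  obtain ⟨eF⟩ := nonempty_lBaseChangeFlatIso (algebraMap R S) F hF fun i => haveI := hfree i; inferInstance
  obtain ⟨eC⟩ := nonempty_lBaseChangeFlatIso (algebraMap R S) (CochainComplex.mappingCone g) (b := b)
    (fun i hi => (CochainComplex.mappingCone.isZero_X_iff g i).2 ⟨hV _ (Or.inr (by omega)), hF i hi⟩)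
    (flat_cone_X g (fun i => haveI := (hVF i).2; inferInstance) (fun i => haveI := hfree i; inferInstance))
  rw [isPseudoCoherent'_iff_isPC] at h ⊢
  intro m
  let gb := ((ModuleCat.extendScalars (algebraMap R S)).mapHomologicalComplex (ComplexShape.up ℤ)).map g
  refine ((PCn.cone (isAdditiveSub_finFree S) (isQuasiStable_finFree S) (isQuasiLiftable_finFree S)
    (DerivedCategory.mappingCone_triangle_distinguished gb) ?_ (PCn.of_iso (h m) eF)).of_iso ?_)
  · refine isPseudoCoherent'_iff_isPC.1 (IsPerfect.isPseudoCoherent' (R := S)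
      ⟨extCx (algebraMap R S) V, b, b, fun i hi => (ModuleCat.extendScalars (algebraMap R S)).map_isZero (hV i hi),
        fun i => ⟨?_, ?_⟩, ⟨Iso.refl _⟩⟩) (m + 1)
    · have := (hVF i).1
      exact Module.Finite.equiv (extendEquiv S (V.X i)).symm
    · have := (hVF i).2
      exact Module.Projective.of_equiv (extendEquiv S (V.X i)).symm
  · exact (DerivedCategory.Q.mapIso
      (CochainComplex.mappingCone.mapHomologicalComplexIso g (ModuleCat.extendScalars (algebraMap R S)))).symm ≪≫
        eC.symm

/-- Vanishing of `P ⊗ M` for the modules of a quotient. -/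
lemma isZero_tensor_of_killed [DRing.HasLBaseChange (algebraMap R S)] (hS : Function.Surjective (algebraMap R S))
    [∀ N : ModuleCat.{u} S, DRing.HasLTensor S N]
    (P : DRing.Cx R) [P.IsKProjective] [∀ i, Module.Flat R (P.X i)] (j : ℤ)
    (h : ∀ N : ModuleCat.{u} S,
      Subsingleton (Dual.HD S ((DRing.LTensor S N).obj ((DRing.LBaseChange (algebraMap R S)).obj (DRing.toD P))) j))
    (M : Type u) [AddCommGroup M] [Module R M] (hM : RingHom.ker (algebraMap R S) • (⊤ : Submodule R M) = ⊥) :
    IsZero ((DRing.tensorCx P (ModuleCat.of R M)).homology j) := by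
  haveI := isKProjective_extCx (algebraMap R S) P
  obtain ⟨_, _⟩ := exists_module_of_killed hS M hM
  have h1 := h (ModuleCat.of S M)
  exact (isZero_extCx_tensor_iff P M j).1 (isZero_homology_of_subsingleton
    (HDCongr ((DRing.LTensor S _).mapIso (lBaseChangeIso (algebraMap R S) P) ≪≫
      lTensorIso (ModuleCat.of S M) (extCx (algebraMap R S) P)) j).symm.toEquiv.subsingleton)

variable {S' : Type u} [CommRing S'] [Algebra R S']

/-- Perfectness modulo two ideals with zero product. -/
theorem isPerfect_of_pair [DRing.HasLBaseChange (algebraMap R S)] [DRing.HasLBaseChange (algebraMap R S')]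
    (hS : Function.Surjective (algebraMap R S)) (hS' : Function.Surjective (algebraMap R S'))
    (hmul : RingHom.ker (algebraMap R S) * RingHom.ker (algebraMap R S') = ⊥) (K : Dual.D R)
    (h : DRing.IsPerfect S ((DRing.LBaseChange (algebraMap R S)).obj K))
    (h' : DRing.IsPerfect S' ((DRing.LBaseChange (algebraMap R S')).obj K)) : DRing.IsPerfect R K := by
  obtain ⟨hpc, a, b, hamp⟩ := isPerfect_iff.1 h
  obtain ⟨hpc', a', b', hamp'⟩ := isPerfect_iff.1 h'
  obtain ⟨P, hP, hfree, ⟨e⟩⟩ := exists_kProjective_rep K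
  haveI := hP
  haveI : ∀ i, Module.Flat R (P.X i) := fun i => haveI := hfree i; inferInstance
  haveI : ∀ M : ModuleCat.{u} S, DRing.HasLTensor S M := hasLTensor
  haveI : ∀ M : ModuleCat.{u} S', DRing.HasLTensor S' M := hasLTensor
  haveI : ∀ M : ModuleCat.{u} R, DRing.HasLTensor R M := hasLTensor
  have hK : DRing.HasTorAmplitudeIn R (min a a') (max b b') K := (hasTorAmplitudeIn_iff K _ _).2 fun M j hj => by
    have := subsingleton_HD_toD (isZero_tensor_of_pair P j hmul
      (isZero_tensor_of_killed hS P j fun N => (hasTorAmplitudeIn_iff _ a b).1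
        (TorAmp.of_iso hamp ((DRing.LBaseChange (algebraMap R S)).mapIso e.symm)) N j (by omega))
      (isZero_tensor_of_killed hS' P j fun N => (hasTorAmplitudeIn_iff _ a' b').1
        (TorAmp.of_iso hamp' ((DRing.LBaseChange (algebraMap R S')).mapIso e.symm)) N j (by omega)) M)
    exact (HDCongr ((DRing.LTensor R M).mapIso e.symm ≪≫ lTensorIso M P) j).toEquiv.subsingleton
  refine isPerfect_iff.2 ⟨isPseudoCoherent'_iff_isPC.2 fun n => pcn_of_top
    (fun L => DRing.IsPseudoCoherent' S ((DRing.LBaseChange (algebraMap R S)).obj L) ∧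
      DRing.IsPseudoCoherent' S' ((DRing.LBaseChange (algebraMap R S')).obj L))
    (fun V F g b hV hVF hF hfree hh => ⟨isPC_baseChange_cone V F g b hV hVF hF hfree hh.1,
      isPC_baseChange_cone V F g b hV hVF hF hfree hh.2⟩)
    (fun {K L} i hh => ⟨?_, ?_⟩)
    (fun F c hF hfree hh => by
      have := finite_baseChange_top F c hF hfree hh.1
      have := finite_baseChange_top F c hF hfree hh.2
      exact finite_of_tensor_pair hS hS' hmul _)
    (fun i hi => TorAmp.subsingleton_HD hK (Or.inr hi)) ⟨hpc, hpc'⟩ n, _, _, hK⟩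
  · obtain ⟨E, b, hb, hf, ⟨e⟩⟩ := hh.1
    exact ⟨E, b, hb, hf, ⟨e ≪≫ (DRing.LBaseChange (algebraMap R S)).mapIso i⟩⟩
  · obtain ⟨E, b, hb, hf, ⟨e⟩⟩ := hh.2
    exact ⟨E, b, hb, hf, ⟨e ≪≫ (DRing.LBaseChange (algebraMap R S')).mapIso i⟩⟩

/-- Derived base change is transitive. -/
theorem nonempty_lBaseChange_comp {S T : Type u} [CommRing S] [CommRing T] (f : R →+* S) (g : S →+* T)
    [DRing.HasLBaseChange f] [DRing.HasLBaseChange g] [DRing.HasLBaseChange (g.comp f)] (K : Dual.D R) :
    Nonempty ((DRing.LBaseChange g).obj ((DRing.LBaseChange f).obj K) ≅ (DRing.LBaseChange (g.comp f)).obj K) := by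
  obtain ⟨P, hP, -, ⟨e⟩⟩ := exists_kProjective_rep K
  haveI := hP
  haveI := isKProjective_extCx f P
  exact ⟨(DRing.LBaseChange g).mapIso ((DRing.LBaseChange f).mapIso e.symm ≪≫ lBaseChangeIso f P) ≪≫
    lBaseChangeIso g (extCx f P) ≪≫ DerivedCategory.Q.mapIso
      (((NatIso.mapHomologicalComplex (ModuleCat.extendScalarsComp f g).symm (ComplexShape.up ℤ)).app P :
        extCx g (extCx f P) ≅ extCx (g.comp f) P)) ≪≫
    (lBaseChangeIso (g.comp f) P).symm ≪≫ (DRing.LBaseChange (g.comp f)).mapIso e⟩

end Groth.DAlg
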