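import Groth.Agent.DAlg.PCoh
import Groth.Agent.DAlg.NilpotentPair
import Groth.Agent.DerComplete.ChangeRing
import Groth.Prelude.Def_DRing2

/-!
Pseudo-coherence along a pseudo-coherent ring map.
-/

universe u

open CategoryTheory CategoryTheory.Limits CategoryTheory.Pretriangulated HomologicalComplex

attribute [local instance] HasDerivedCategory.standard
set_option linter.style.haveILetI false

namespace Groth.DAlg

open PCohPunctual FlatCxBase

variable {A B C : Type u} [CommRing A] [CommRing B] [CommRing C]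

/-- Restriction of a complex. -/
noncomputable def resQIso (φ : A →+* B) (E : DRing.Cx B) :
    (DRing.restrictD φ).obj (DerivedCategory.Q.obj E) ≅ DerivedCategory.Q.obj ((DRing.restrictCx φ).obj E) :=
  (ModuleCat.restrictScalars.{u} φ).mapDerivedCategoryFactors.app E

/-- Restriction of a module. -/
noncomputable def resMDIso (φ : A →+* B) (M : ModuleCat.{u} B) :
    (DRing.restrictD φ).obj (mD M) ≅ mD ((ModuleCat.restrictScalars φ).obj M) :=
  (DRing.restrictD φ).mapIso ((DerivedCategory.singleFunctorIsoCompQ _ 0).app M) ≪≫ resQIso φ _ ≪≫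
    DerivedCategory.Q.mapIso (((ModuleCat.restrictScalars.{u} φ).mapCochainComplexSingleFunctor 0).app M) ≪≫
    ((DerivedCategory.singleFunctorIsoCompQ _ 0).app _).symm

/-- Restriction along a composite. -/
theorem nonempty_res_comp (φ : A →+* B) (ψ : B →+* C) (K : Dual.D C) :
    Nonempty ((DRing.restrictD φ).obj ((DRing.restrictD ψ).obj K) ≅ (DRing.restrictD (ψ.comp φ)).obj K) := by
  let E := (DerivedCategory.Q (C := ModuleCat.{u} C)).objPreimage K
  let e : DerivedCategory.Q.obj E ≅ K := (DerivedCategory.Q (C := ModuleCat.{u} C)).objObjPreimageIso K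
  exact ⟨(DRing.restrictD φ).mapIso ((DRing.restrictD ψ).mapIso e.symm ≪≫ resQIso ψ E) ≪≫
    resQIso φ _ ≪≫ DerivedCategory.Q.mapIso
      ((NatIso.mapHomologicalComplex (ModuleCat.restrictScalarsComp'.{u} φ ψ (ψ.comp φ) rfl).symm
        (ComplexShape.up ℤ)).app E :
          (DRing.restrictCx φ).obj ((DRing.restrictCx ψ).obj E) ≅ (DRing.restrictCx (ψ.comp φ)).obj E) ≪≫
    (resQIso (ψ.comp φ) E).symm ≪≫ (DRing.restrictD (ψ.comp φ)).mapIso e⟩

lemma resHD_subsingleton_iff (φ : A →+* B) (K : Dual.D B) (i : ℤ) :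
    Subsingleton (Dual.HD A ((DRing.restrictD φ).obj K) i) ↔ Subsingleton (Dual.HD B K i) := by
  obtain ⟨e⟩ := DerComplete.nonempty_HD_restrictD_iso φ K i
  exact ⟨fun h => @Equiv.subsingleton _ _ e.symm.toLinearEquiv.toEquiv h,
    fun h => @Equiv.subsingleton _ _ e.toLinearEquiv.toEquiv h⟩

/-- A finite free module is pseudo-coherent. -/
lemma pcn_single_strict {X : ModuleCat.{u} A} (hX : finFree A X) (n : ℤ) : PCn (finFree A) n (mD X) :=
  ⟨(CochainComplex.singleFunctor (ModuleCat.{u} A) 0).obj X,
    ⟨⟨0, fun i hi => isZero_single_obj_X _ _ _ _ (by omega)⟩, fun i _ => by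
      by_cases h : i = 0
      · exact (isAdditiveSub_finFree A).of_iso (singleObjXIsoOfEq (ComplexShape.up ℤ) 0 X i h).symm hX
      · exact (isAdditiveSub_finFree A).zero _ (isZero_single_obj_X _ _ _ _ h)⟩,
    ⟨((DerivedCategory.singleFunctorIsoCompQ _ 0).app X).symm⟩⟩

/-- A ring map making the target a pseudo-coherent module. -/
def PCMap (φ : A →+* B) : Prop :=
  ∀ n, PCn (finFree A) n ((DRing.restrictD φ).obj (mD (ModuleCat.of B B)))

theorem PCMap.free {φ : A →+* B} (hφ : PCMap φ) {M : ModuleCat.{u} B} (hM : finFree B M) (n : ℤ) :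
    PCn (finFree A) n (mD ((ModuleCat.restrictScalars φ).obj M)) := by
  suffices key : ∀ r : ℕ, PCn (finFree A) n ((DRing.restrictD φ).obj (mD (ModuleCat.of B (Fin r → B)))) by
    have := hM.1; have := hM.2
    let b := Module.Free.chooseBasis B M
    let e : M ≅ ModuleCat.of B (Fin (Fintype.card (Module.Free.ChooseBasisIndex B M)) → B) :=
      (b.reindex (Fintype.equivFin _)).equivFun.toModuleIso
    exact (key (Fintype.card (Module.Free.ChooseBasisIndex B M))).of_iso ((DRing.restrictD φ).mapIso ((DerivedCategory.singleFunctor _ 0).mapIso e.symm) ≪≫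
      resMDIso φ M)
  intro r
  induction r with
  | zero =>
    refine pcn_of_isZero (isAdditiveSub_finFree A) (isQuasiLiftable_finFree A) fun i _ => ?_
    exact Functor.map_isZero _ (Functor.map_isZero _ (Functor.map_isZero _
      (ModuleCat.isZero_of_subsingleton (ModuleCat.of B (Fin 0 → B)))))
  | succ r ih =>
    let S : ShortComplex (ModuleCat.{u} B) := ShortComplex.mk
      (ModuleCat.ofHom (LinearMap.single B (fun _ : Fin (r + 1) => B) 0) : ModuleCat.of B B ⟶ ModuleCat.of B (Fin (r + 1) → B))
      (ModuleCat.ofHom (LinearMap.funLeft B B Fin.succ) : _ ⟶ ModuleCat.of B (Fin r → B))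
      (ModuleCat.hom_ext (LinearMap.ext fun x => funext fun i => by simp [LinearMap.funLeft, Fin.succ_ne_zero]; rfl))
    have hS : S.ShortExact :=
      { exact := (ShortComplex.moduleCat_exact_iff S).2 fun v hv => ⟨v 0, funext fun i => by
          refine Fin.cases ?_ (fun j => ?_) i
          · simp [S]
          · have := congrFun hv j
            simp [S, LinearMap.funLeft] at this ⊢
            exact this.symm⟩
        mono_f := (ModuleCat.mono_iff_injective _).2 fun x y h => by simpa [S] using congrFun h 0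
        epi_g := (ModuleCat.epi_iff_surjective _).2 fun v => ⟨Fin.cons 0 v, funext fun j => by simp [S, LinearMap.funLeft]⟩ }
    exact PCn.ext (isAdditiveSub_finFree A) (isQuasiStable_finFree A) (isQuasiLiftable_finFree A)
      ((DRing.restrictD φ).map_distinguished _ hS.singleTriangle_distinguished) (hφ n) ih

/-- Restriction preserves pseudo-coherence. -/
theorem PCMap.res {φ : A →+* B} (hφ : PCMap φ) {n : ℤ} {K : Dual.D B} (hK : PCn (finFree B) n K) :
    PCn (finFree A) n ((DRing.restrictD φ).obj K) := by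
  obtain ⟨E, ⟨⟨b, hb⟩, hE⟩, ⟨e⟩⟩ := hK
  refine PCn.of_iso ?_ ((resQIso φ E).symm ≪≫ (DRing.restrictD φ).mapIso e)
  exact pcn_of_termwise (isAdditiveSub_finFree A) (isQuasiStable_finFree A) (isQuasiLiftable_finFree A) _ b
    (fun i hi => (ModuleCat.restrictScalars φ).map_isZero (hb i hi)) fun i hi => hφ.free (hE i hi) _

/-- Pseudo-coherence is detected after restriction. -/
theorem PCMap.of_res {φ : A →+* B} (hφ : PCMap φ) {n : ℤ} {K : Dual.D B}
    (hK : PCn (finFree A) n ((DRing.restrictD φ).obj K)) : PCn (finFree B) n K := by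
  obtain ⟨b, hb⟩ := hK.bddAbove
  refine pcn_of_top' n (fun L => PCn (finFree A) n ((DRing.restrictD φ).obj L))
    (fun V F g c hV hVF _ _ hF => PCn.cone (isAdditiveSub_finFree A) (isQuasiStable_finFree A) (isQuasiLiftable_finFree A)
      ((DRing.restrictD φ).map_distinguished _ (DerivedCategory.mappingCone_triangle_distinguished g))
      (hφ.res ⟨V, ⟨⟨c, fun i hi => hV i (Or.inr hi)⟩, fun i _ => hVF i⟩, ⟨Iso.refl _⟩⟩) hF)
    (fun e h => h.of_iso ((DRing.restrictD φ).mapIso e))
    (fun F c hnc hF _ h => ?_) (c := b)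
    (fun i hi => (resHD_subsingleton_iff φ K i).1 (ModuleCat.subsingleton_of_isZero (hb i hi))) hK
  have hft := ft_of_pcn (isQuasiStable_finFree A) (fun i hi => ModuleCat.isZero_iff_subsingleton.2
    ((resHD_subsingleton_iff φ (DRing.toD F) i).2 (subsingleton_HD_of_iso (Iso.refl _) (hF i hi)))) (h.mono hnc)
  have h1 : Module.Finite A (Dual.HD A ((DRing.restrictD φ).obj (DRing.toD F)) c) := (finite_iff_ft A _).1 hft
  obtain ⟨e⟩ := DerComplete.nonempty_HD_restrictD_iso φ (DRing.toD F) c
  have h2 : Module.Finite A ((ModuleCat.restrictScalars φ).obj ((DerivedCategory.homologyFunctor _ c).obj (DRing.toD F))) :=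
    Module.Finite.equiv e.toLinearEquiv
  have h3 : Module.Finite B (Dual.HD B (DRing.toD F) c) := by
    obtain ⟨s, hs⟩ := h2.fg_top
    refine ⟨⟨s, eq_top_iff.2 fun x hxt => ?_⟩⟩
    clear hxt
    have hx : x ∈ Submodule.span A (s : Set ((ModuleCat.restrictScalars φ).obj
        ((DerivedCategory.homologyFunctor _ c).obj (DRing.toD F)))) := by rw [hs]; trivial
    induction hx using Submodule.span_induction with
    | mem y hy => exact Submodule.subset_span hy
    | zero => exact zero_mem _
    | add y z _ _ hy hz => exact add_mem hy hz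
    | smul a y _ hy => exact Submodule.smul_mem _ (φ a) hy
  have h4 : Module.Finite B (F.homology c) := Module.Finite.equiv (HDEquiv F c)
  have hk : LinearMap.ker (F.d c (c + 1)).hom = ⊤ := eq_top_iff.2 fun x _ => by
    have := ModuleCat.subsingleton_of_isZero (hF (c + 1) (by omega))
    exact Subsingleton.elim _ _
  exact Module.Finite.equiv ((Submodule.Quotient.equiv _ _ (LinearEquiv.ofTop _ hk).symm
    ((LinearMap.range _).map_equiv_eq_comap_symm _)).trans
      (homologyEquivQuot F (cochain_prev c) (cochain_next c))).symm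

theorem PCMap.iff {φ : A →+* B} (hφ : PCMap φ) {n : ℤ} {K : Dual.D B} :
    PCn (finFree A) n ((DRing.restrictD φ).obj K) ↔ PCn (finFree B) n K :=
  ⟨hφ.of_res, hφ.res⟩

theorem PCMap.comp {φ : A →+* B} {ψ : B →+* C} (hφ : PCMap φ) (hψ : PCMap ψ) : PCMap (ψ.comp φ) := fun n => by
  obtain ⟨e⟩ := nonempty_res_comp φ ψ (mD (ModuleCat.of C C))
  exact (hφ.res (hψ n)).of_iso e

theorem pcMap_algebraMap_iff [Algebra A B] :
    PCMap (algebraMap A B) ↔ DRing.IsPseudoCoherentModule' A B := by
  obtain ⟨e⟩ := DerComplete.nonempty_restrictD_inD_iso (A := A) (B := B)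
  exact ⟨fun h => isPseudoCoherent'_iff_isPC.2 fun n => (h n).of_iso e,
    fun h n => PCn.of_iso (isPseudoCoherent'_iff_isPC.1 h n) e.symm⟩

/-- A bijective ring map. -/
theorem PCMap.of_bijective {φ : A →+* B} (hφ : Function.Bijective φ) : PCMap φ := by
  letI := φ.toAlgebra
  refine pcMap_algebraMap_iff.2 (isPseudoCoherent'_iff_isPC.2 fun n => ?_)
  let e : ModuleCat.of A A ≅ ModuleCat.of A B := (LinearEquiv.ofBijective (Algebra.linearMap A B) hφ).toModuleIso
  exact (pcn_single_strict (X := ModuleCat.of A A)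
    ⟨inferInstanceAs (Module.Finite A A), inferInstanceAs (Module.Free A A)⟩ n).of_iso
      ((DerivedCategory.singleFunctor _ 0).mapIso e)

/-- A finite free algebra. -/
theorem PCMap.of_free [Algebra A B] [Module.Finite A B] [Module.Free A B] : PCMap (algebraMap A B) :=
  pcMap_algebraMap_iff.2 (isPseudoCoherent'_iff_isPC.2 fun n =>
    pcn_single_strict (X := ModuleCat.of A B) ⟨inferInstance, inferInstance⟩ n)

/-- The quotient by a non-zero-divisor. -/
theorem PCMap.of_regular {φ : A →+* B} (hφ : Function.Surjective φ) (g : A) (hg : IsSMulRegular A g)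
    (hker : RingHom.ker φ = Ideal.span {g}) : PCMap φ := by
  letI := φ.toAlgebra
  refine pcMap_algebraMap_iff.2 (isPseudoCoherent'_iff_isPC.2 fun n => ?_)
  let S : ShortComplex (ModuleCat.{u} A) := ShortComplex.mk
    (ModuleCat.ofHom (LinearMap.lsmul A A g) : ModuleCat.of A A ⟶ ModuleCat.of A A)
    (ModuleCat.ofHom (Algebra.linearMap A B) : ModuleCat.of A A ⟶ ModuleCat.of A B)
    (ModuleCat.hom_ext (LinearMap.ext fun x => show φ (g * x) = 0 from
      RingHom.mem_ker.1 (hker ▸ Ideal.mem_span_singleton'.2 ⟨x, mul_comm x g⟩)))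
  have hS : S.ShortExact :=
    { exact := (ShortComplex.moduleCat_exact_iff S).2 fun x (hx : φ x = 0) => by
        obtain ⟨a, rfl⟩ := Ideal.mem_span_singleton'.1 (hker ▸ RingHom.mem_ker.2 hx)
        exact ⟨a, mul_comm g a⟩
      mono_f := (ModuleCat.mono_iff_injective _).2 hg
      epi_g := (ModuleCat.epi_iff_surjective _).2 hφ }
  exact PCn.cone (isAdditiveSub_finFree A) (isQuasiStable_finFree A) (isQuasiLiftable_finFree A)
    hS.singleTriangle_distinguished
    (pcn_single_strict (X := ModuleCat.of A A) ⟨inferInstanceAs (Module.Finite A A), inferInstanceAs (Module.Free A A)⟩ _)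
    (pcn_single_strict (X := ModuleCat.of A A) ⟨inferInstanceAs (Module.Finite A A), inferInstanceAs (Module.Free A A)⟩ _)

end Groth.DAlg
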