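import Groth.Agent.DAlg.TorDim
import Groth.Agent.DAlg.PCRestrict

/-!
Tor amplitude after restriction of scalars.
-/

universe u

open CategoryTheory CategoryTheory.Limits CategoryTheory.Pretriangulated
open scoped TensorProduct

attribute [local instance] HasDerivedCategory.standard
set_option linter.style.haveILetI false

namespace Groth.DAlg

open Calg7

variable {A B : Type u} [CommRing A] [CommRing B] [Algebra A B]

/-- `M ⊗_A -` preserves an injection preserved by `B ⊗_A -`, for a flat `B`-module `M`. -/
lemma lTensor_injective_of_flat_res (M : Type u) [AddCommGroup M] [Module A M] [Module B M] [IsScalarTower A B M]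
    [Module.Flat B M] {X Y : Type u} [AddCommGroup X] [Module A X] [AddCommGroup Y] [Module A Y] (f : X →ₗ[A] Y)
    (hf : Function.Injective (f.lTensor B)) : Function.Injective (f.lTensor M) := by
  let g : B ⊗[A] X →ₗ[B] B ⊗[A] Y := f.baseChange B
  have hg : Function.Injective (g.lTensor M) :=
    Module.Flat.lTensor_preserves_injective_linearMap g hf
  have comm : ∀ z : M ⊗[B] (B ⊗[A] X),
      f.lTensor M (TensorProduct.AlgebraTensorModule.cancelBaseChange A B B M X z) =
        TensorProduct.AlgebraTensorModule.cancelBaseChange A B B M Y (g.lTensor M z) := by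
    intro z
    induction z with
    | zero => simp
    | add a b ha hb => simp only [map_add, ha, hb]
    | tmul m w =>
      induction w with
      | zero => simp
      | add a b ha hb => simp only [TensorProduct.tmul_add, map_add, ha, hb]
      | tmul b x => simp [g]
  intro x y h
  obtain ⟨x', rfl⟩ := (TensorProduct.AlgebraTensorModule.cancelBaseChange A B B M X).surjective x
  obtain ⟨y', rfl⟩ := (TensorProduct.AlgebraTensorModule.cancelBaseChange A B B M X).surjective y
  rw [comm, comm] at h
  exact congrArg _ (hg ((TensorProduct.AlgebraTensorModule.cancelBaseChange A B B M Y).injective h))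

/-- Tor of a flat `B`-module vanishes where that of `B` does. -/
lemma isZero_tor_flat_res (M : Type u) [AddCommGroup M] [Module A M] [Module B M] [IsScalarTower A B M]
    [Module.Flat B M] (p : ℕ) (N : ModuleCat.{u} A) (h : IsZero (Tor.T (p + 1) (ModuleCat.of A B) N)) :
    IsZero (Tor.T (p + 1) (ModuleCat.of A M) N) := by
  have hS := Tor.presentation_shortExact N
  have h2 : ∀ (W : ModuleCat.{u} A) (q : ℕ), IsZero (Tor.T (q + 1) W (Tor.presentation N).X₂) :=
    fun W q => Tor.isZero_of_flat_right W _ q
  induction p generalizing N with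
  | zero =>
    have h1 : Function.Injective ((Tor.presentation N).f.hom.lTensor B) :=
      (Tor.isZero_one_iff (ModuleCat.of A B) hS (h2 (ModuleCat.of A B) 0)).1 h
    exact (Tor.isZero_one_iff (ModuleCat.of A M) hS (h2 (ModuleCat.of A M) 0)).2
      (lTensor_injective_of_flat_res (B := B) M (Tor.presentation N).f.hom h1)
  | succ p ih =>
    have h1 : IsZero (Tor.T (p + 1) (ModuleCat.of A B) (Tor.presentation N).X₁) :=
      Tor.isZero_R₁ (ModuleCat.of A B) hS (p + 1) h (h2 (ModuleCat.of A B) p)
    exact Tor.isZero_R₃ (ModuleCat.of A M) hS (p + 1) (h2 (ModuleCat.of A M) (p + 1))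
      (ih _ h1 (Tor.presentation_shortExact _) (fun W q => Tor.isZero_of_flat_right W _ q))

variable {d : ℕ}

/-- A flat `B`-module has the tor amplitude of `B`. -/
theorem torAmp_res_flat (hB : DRing.HasTorAmplitudeIn A (-(d : ℤ)) 0 (mD (ModuleCat.of A B)))
    (M : ModuleCat.{u} B) [Module.Flat B M] :
    DRing.HasTorAmplitudeIn A (-(d : ℤ)) 0 ((DRing.restrictD (algebraMap A B)).obj (mD M)) := by
  refine TorAmp.of_iso ?_ (resMDIso (algebraMap A B) M).symm
  letI : Module A M := Module.compHom M (algebraMap A B)
  haveI : IsScalarTower A B M := ⟨fun a b x => by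
    change (a • b) • x = algebraMap A B a • (b • x)
    rw [Algebra.smul_def, mul_smul]⟩
  refine (isZero_tor_iff_torAmp _ d).1 fun N p hp => ?_
  obtain ⟨q, rfl⟩ := Nat.exists_eq_add_of_le' (show 1 ≤ p by omega)
  exact isZero_tor_flat_res (B := B) M q N ((isZero_tor_iff_torAmp _ d).2 hB N (q + 1) hp)

/-- Tor amplitude after restriction along a ring map of finite tor dimension. -/
theorem TorAmp.restrict (hB : DRing.HasTorAmplitudeIn A (-(d : ℤ)) 0 (mD (ModuleCat.of A B))) {K : Dual.D B}
    {a b : ℤ} (hK : DRing.HasTorAmplitudeIn B a b K) :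
    DRing.HasTorAmplitudeIn A (a - d) b ((DRing.restrictD (algebraMap A B)).obj K) := by
  obtain ⟨E, hE, hEf, ⟨e⟩⟩ := hK
  refine TorAmp.of_iso ?_ ((DRing.restrictD (algebraMap A B)).mapIso e)
  refine bounded_induction (fun X => DRing.HasTorAmplitudeIn A (a - d) b ((DRing.restrictD (algebraMap A B)).obj X))
    (fun X Y i h => TorAmp.of_iso h ((DRing.restrictD (algebraMap A B)).mapIso i))
    (fun T hT h1 h3 => TorAmp.ext ((DRing.restrictD (algebraMap A B)).map_distinguished T hT) h1 h3)
    (fun X hX => TorAmp.of_isZero (Functor.map_isZero _ hX) _ _) E a b hE fun i => ?_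
  by_cases hi : i < a ∨ b < i
  · exact TorAmp.of_isZero (Functor.map_isZero _ (Functor.map_isZero _ (hE i hi))) _ _
  · haveI := hEf i
    refine TorAmp.of_iso (TorAmp.mono (TorAmp.shift (torAmp_res_flat hB (E.X i)) (-i)) (by omega) (by omega))
      (((DRing.restrictD (algebraMap A B)).commShiftIso (-i)).symm.app _ ≪≫
        (DRing.restrictD (algebraMap A B)).mapIso (singleShift _ i))

end Groth.DAlg
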