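import Groth.Agent.DAlg.ResTot
import Groth.Agent.DAlg.TotFinite
import Groth.Agent.DAlg.TorAmpRestrict

/-!
Tor amplitude over the base of derived tensor products.
-/

universe u

open CategoryTheory CategoryTheory.Limits CategoryTheory.Pretriangulated HomologicalComplex MonoidalCategory

attribute [local instance] HasDerivedCategory.standard
set_option linter.style.haveILetI false

namespace Groth.DAlg

open DerivedCoh KFlatMod

variable {A B : Type u} [CommRing A] [CommRing B]

local notation "up" => ComplexShape.up ℤ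

lemma exactAt_restrictCx_iff (φ : A →+* B) (X : DRing.Cx B) (i : ℤ) :
    ((DRing.restrictCx φ).obj X).ExactAt i ↔ X.ExactAt i := by
  rw [exactAt_iff, exactAt_iff]
  exact ShortComplex.exact_map_iff_of_faithful (X.sc i) (ModuleCat.restrictScalars.{u} φ)

lemma exactAt_tensor_flat (M : ModuleCat.{u} B) [Module.Flat B M] (X : DRing.Cx B) (i : ℤ) (h : X.ExactAt i) :
    ((((T B).obj M).mapHomologicalComplex up).obj X).ExactAt i :=
  (exactAt_iff _ i).2 (Module.Flat.lTensor_shortComplex_exact M (X.sc i) h)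

/-- Vanishing of `tot (res (M ⊗ L)) W` for a flat module `M`. -/
theorem exactAt_tot_res_tensor (φ : A →+* B) (M : ModuleCat.{u} B) [Module.Flat B M] (L : DRing.Cx B)
    (W : DRing.Cx A) (i : ℤ) (h : (KFlat.tot (T A) ((DRing.restrictCx φ).obj L) W).ExactAt i) :
    (KFlat.tot (T A) ((DRing.restrictCx φ).obj ((((T B).obj M).mapHomologicalComplex up).obj L)) W).ExactAt i := by
  rw [exactAt_iff_isZero_homology] at h ⊢
  have h₁ : IsZero (((DRing.restrictCx φ).obj (KFlat.tot (T B) L (extCx φ W))).homology i) :=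
    h.of_iso ((homologyFunctor _ _ i).mapIso (resTotIso φ L W))
  rw [← exactAt_iff_isZero_homology, exactAt_restrictCx_iff] at h₁
  have h₂ := exactAt_tensor_flat M _ i h₁
  rw [← exactAt_restrictCx_iff φ, exactAt_iff_isZero_homology] at h₂
  exact h₂.of_iso ((homologyFunctor _ _ i).mapIso
    ((DRing.restrictCx φ).mapIso (assocTotIso M L (extCx φ W)) ≪≫ resTotIso φ _ W)).symm

/-- Tensoring with a flat `B`-module preserves tor amplitude over `A`. -/
theorem torAmp_res_tensor_flat (φ : A →+* B) (M : ModuleCat.{u} B) [Module.Flat B M] (L : DRing.Cx B) {c d : ℤ}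
    (hL : DRing.HasTorAmplitudeIn A c d (DRing.toD ((DRing.restrictCx φ).obj L))) :
    DRing.HasTorAmplitudeIn A c d
      (DRing.toD ((DRing.restrictCx φ).obj ((((T B).obj M).mapHomologicalComplex up).obj L))) := by
  haveI : ∀ N : ModuleCat.{u} A, DRing.HasLTensor A N := hasLTensor
  refine (hasTorAmplitudeIn_iff _ c d).2 fun N i hi => ?_
  haveI := resAug_quasiIso (R := A) ((single (ModuleCat.{u} A) up 0).obj N)
  have hW := res_isKFlat (R := A) ((single (ModuleCat.{u} A) up 0).obj N)
  let w := (resAug A).app ((single (ModuleCat.{u} A) up 0).obj N)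
  rw [subsingleton_lTensor_iff N w hW, ← exactAt_iff_isZero_homology]
  refine exactAt_tot_res_tensor φ M L _ i ?_
  rw [exactAt_iff_isZero_homology, ← subsingleton_lTensor_iff N w hW]
  exact (hasTorAmplitudeIn_iff _ c d).1 hL N i hi

/-- Tor amplitude over the base of a derived tensor product. -/
theorem torAmp_res_lTensorCx (φ : A →+* B) (K : Dual.D B) (a b c d : ℤ) (hK : DRing.HasTorAmplitudeIn B a b K)
    (L : DRing.Cx B) (hL : DRing.HasTorAmplitudeIn A c d (DRing.toD ((DRing.restrictCx φ).obj L)))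
    [DRing.HasLTensorCx B L] :
    DRing.HasTorAmplitudeIn A (a + c) (b + d) ((DRing.restrictD φ).obj ((DRing.LTensorCx B L).obj K)) := by
  obtain ⟨E, hE, hEf, ⟨e⟩⟩ := hK
  have hEk : IsKFlatCx B E := isKFlatCx_of_flat E (fun i hi => hE i (Or.inr hi)) hEf
  let Φ : DRing.Cx B → Prop := fun X =>
    DRing.HasTorAmplitudeIn A (a + c) (b + d) ((DRing.restrictD φ).obj (DRing.toD X))
  have hiso : IsIso (KFlat.geHom E a) := by
    haveI : ∀ p, IsIso ((KFlat.geHom E a).f p) := fun p => by
      by_cases hp : a ≤ p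
      · exact KFlat.isIso_geι E hp
      · exact ⟨0, (KFlat.isZero_geX E (by omega)).eq_of_src _ _, (hE p (Or.inl (by omega))).eq_of_src _ _⟩
    exact HomologicalComplex.Hom.isIso_of_components _
  refine TorAmp.of_iso (tot_ge Φ (fun e h => TorAmp.of_iso h ((DRing.restrictD φ).mapIso (DerivedCategory.Q.mapIso e)))
    (fun X hX => TorAmp.of_isZero (Functor.map_isZero _ (isZero_Q_obj hX)) _ _)
    (fun S hS h₁ h₃ => TorAmp.ext ((DRing.restrictD φ).map_distinguished _
      (DerivedCategory.triangleOfSES_distinguished hS)) h₁ h₃) L E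
    (fun i hi => hE i (Or.inr hi)) a fun j hj hjc => ?_)
    ((DRing.restrictD φ).mapIso ((DerivedCategory.Q.mapIso ((KFlat.totL (T B) L).mapIso
      (@asIso _ _ _ _ (KFlat.geHom E a) hiso))) ≪≫ (lTensorCxIso L E hEk).symm ≪≫ (DRing.LTensorCx B L).mapIso e))
  haveI := hEf j
  have hs : DRing.HasTorAmplitudeIn A (c + j) (d + j) (DRing.toD ((DRing.restrictCx φ).obj (L⟦-j⟧))) := by
    have h := TorAmp.of_iso (TorAmp.shift (TorAmp.of_iso hL (resQIso φ L).symm) (-j))
      (((DRing.restrictD φ).commShiftIso (-j)).symm.app _ ≪≫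
        (DRing.restrictD φ).mapIso ((DerivedCategory.Q.commShiftIso (-j)).symm.app L) ≪≫ resQIso φ (L⟦-j⟧))
    rwa [sub_neg_eq_add, sub_neg_eq_add] at h
  exact TorAmp.of_iso (TorAmp.mono (torAmp_res_tensor_flat φ (E.X j) _ hs) (by omega) (by omega))
    ((resQIso φ _).symm ≪≫ (DRing.restrictD φ).mapIso
      (DerivedCategory.Q.mapIso (TensorSingleLeft.objIso (T B) j L (E.X j))))

end Groth.DAlg
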