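import Groth.Agent.DAlg.BaseChange
import Mathlib.RingTheory.Flat.FaithfullyFlat.Basic
import Mathlib.RingTheory.Localization.Away.Basic
import Mathlib.RingTheory.Flat.Localization
import Mathlib.RingTheory.Localization.BaseChange

/-!
Descent of tor amplitude along jointly faithful families of flat ring maps.
-/

universe u

open CategoryTheory CategoryTheory.Limits CategoryTheory.Pretriangulated HomologicalComplex MonoidalCategory
open scoped TensorProduct

attribute [local instance] HasDerivedCategory.standard
set_option linter.style.haveILetI false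

namespace Groth.DAlg

open FlatCxBase

variable {R : Type u} [CommRing R]

/-- A family of algebras detecting zero modules. -/
def JointlyFaithful {ι : Type} (A : ι → Type u) [∀ i, CommRing (A i)] [∀ i, Algebra R (A i)] : Prop :=
  ∀ (N : Type u) [AddCommGroup N] [Module R N], (∀ i, Subsingleton (A i ⊗[R] N)) → Subsingleton N

lemma jointlyFaithful_away {r : ℕ} (f : Fin r → R) (hf : Ideal.span (Set.range f) = ⊤) :
    JointlyFaithful (R := R) fun i => Localization.Away (f i) := by
  intro N _ _ h
  refine ⟨fun x y => sub_eq_zero.1 ?_⟩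
  generalize x - y = z
  let J : Ideal R := Submodule.comap (LinearMap.toSpanSingleton R N z) ⊥
  have hJ : J.radical = ⊤ := by
    rw [eq_top_iff, ← hf, Ideal.span_le]
    rintro _ ⟨i, rfl⟩
    have hz : TensorProduct.mk R (Localization.Away (f i)) N 1 z = 0 :=
      (h i).elim _ _
    obtain ⟨⟨_, n, rfl⟩, hn⟩ := (IsLocalizedModule.eq_zero_iff (Submonoid.powers (f i))
      (TensorProduct.mk R (Localization.Away (f i)) N 1)).1 hz
    exact ⟨n, by simpa [J, Submonoid.smul_def] using hn⟩
  rw [Ideal.radical_eq_top, Ideal.eq_top_iff_one] at hJ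
  simpa [J] using hJ

lemma jointlyFaithful_of_faithfullyFlat (S : Type u) [CommRing S] [Algebra R S] [Module.FaithfullyFlat R S] :
    JointlyFaithful (R := R) fun _ : Unit => S := fun N _ _ h =>
  have := h ()
  Module.FaithfullyFlat.lTensor_reflects_triviality R S N

lemma rTensor_comm {X Y T : Type u} [AddCommGroup X] [Module R X] [AddCommGroup Y] [Module R Y] [AddCommGroup T]
    [Module R T] (f : X →ₗ[R] Y) (z : T ⊗[R] X) :
    f.rTensor T (TensorProduct.comm R T X z) = TensorProduct.comm R T Y (f.lTensor T z) := by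
  induction z with
  | zero => simp
  | add a b ha hb => simp only [map_add, ha, hb]
  | tmul t x => simp

lemma assoc_comm_naturality {X Y M T : Type u} [AddCommGroup X] [Module R X] [AddCommGroup Y] [Module R Y]
    [AddCommGroup M] [Module R M] [AddCommGroup T] [Module R T] (f : X →ₗ[R] Y) (x : (X ⊗[R] M) ⊗[R] T) :
    (TensorProduct.comm R M T).lTensor Y (TensorProduct.assoc R Y M T ((f.rTensor M).rTensor T x)) =
      f.rTensor (T ⊗[R] M) ((TensorProduct.comm R M T).lTensor X (TensorProduct.assoc R X M T x)) := by
  induction x with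
  | zero => simp
  | add a b ha hb => simp only [map_add, ha, hb]
  | tmul y t =>
    induction y with
    | zero => simp
    | add a b ha hb => simp only [TensorProduct.add_tmul, map_add, ha, hb]
    | tmul p m => simp

lemma isZero_of_tensor {ι : Type} {A : ι → Type u} [∀ i, CommRing (A i)] [∀ i, Algebra R (A i)]
    [∀ i, Module.Flat R (A i)] (hA : JointlyFaithful (R := R) A) (C : DRing.Cx R) (j : ℤ)
    (h : ∀ i, IsZero ((DRing.tensorCx C (ModuleCat.of R (A i))).homology j)) : IsZero (C.homology j) := by
  let Z := LinearMap.ker (C.d j (j + 1)).hom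
  let d' : C.X (j - 1) →ₗ[R] Z := (C.d (j - 1) j).hom.codRestrict _ fun w =>
    ConcreteCategory.congr_hom (C.d_comp_d (j - 1) j (j + 1)) w
  have hq : Subsingleton (Z ⧸ LinearMap.range d') := hA _ fun i => by
    refine subsingleton_of_forall_eq 0 fun q => ?_
    obtain ⟨z, rfl⟩ := LinearMap.lTensor_surjective (A i) (Submodule.mkQ_surjective (LinearMap.range d')) q
    obtain ⟨w, hw⟩ := (isZero_T_iff C (cochain_prev j) (cochain_next j) _).1 (h i)
      (TensorProduct.comm R (A i) (C.X j) (Z.subtype.lTensor (A i) z)) (by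
        refine (rTensor_comm _ _).trans ?_
        rw [← LinearMap.lTensor_comp_apply,
          show (C.d j (j + 1)).hom ∘ₗ Z.subtype = 0 from LinearMap.ext fun x => x.2]
        simp)
    refine (lTensor_exact (A i) (LinearMap.exact_map_mkQ_range d') (Submodule.mkQ_surjective _) z).2
      ⟨TensorProduct.comm R _ _ w, ?_⟩
    apply Module.Flat.lTensor_preserves_injective_linearMap Z.subtype Subtype.val_injective
    rw [← LinearMap.lTensor_comp_apply, show Z.subtype ∘ₗ d' = (C.d (j - 1) j).hom from
      LinearMap.subtype_comp_codRestrict ..]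
    apply (TensorProduct.comm R (A i) (C.X j)).injective
    rw [← hw]
    refine (rTensor_comm _ _).symm.trans (congrArg _ ?_)
    rw [← LinearEquiv.eq_symm_apply, TensorProduct.comm_symm]
  refine (isZero_homology_iff (cochain_prev j) (cochain_next j)).2 fun x hx => ?_
  obtain ⟨w, hw⟩ := (Submodule.Quotient.mk_eq_zero (LinearMap.range d')).1
    (hq.elim (Submodule.Quotient.mk (⟨x, hx⟩ : Z)) 0)
  exact ⟨w, congrArg Subtype.val hw⟩

lemma isZero_tensor_assoc_iff (P : DRing.Cx R) (M : ModuleCat.{u} R) (S : Type u) [CommRing S] [Algebra R S]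
    (j : ℤ) :
    IsZero ((DRing.tensorCx (DRing.tensorCx P M) (ModuleCat.of R S)).homology j) ↔
      IsZero ((DRing.tensorCx P (ModuleCat.of R (S ⊗[R] M))).homology j) := by
  refine isZero_homology_iff_of_addEquiv (fun i => ((TensorProduct.assoc R (P.X i) M S).trans
    ((TensorProduct.comm R M S).lTensor (P.X i))).toAddEquiv) (fun i k x => assoc_comm_naturality (P.d i k).hom x) j

/-- Tor amplitude descends along a jointly faithful family of flat algebras. -/
theorem torAmp_of_jointlyFaithful {ι : Type} {A : ι → Type u} [∀ i, CommRing (A i)] [∀ i, Algebra R (A i)]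
    [∀ i, Module.Flat R (A i)] (hA : JointlyFaithful (R := R) A) (K : DRing.Cx R) (a b : ℤ)
    (hK : ∀ i, DRing.HasTorAmplitudeIn (A i) a b (DRing.toD (extCx (algebraMap R (A i)) K))) :
    DRing.HasTorAmplitudeIn R a b (DRing.toD K) := by
  have hb : ∀ j, b < j → Subsingleton (Dual.HD R (DRing.toD K) j) := fun j hj =>
    subsingleton_HD_toD (isZero_of_tensor hA K j fun i => (isZero_extCx_iff K j).1
      (isZero_homology_of_subsingleton (TorAmp.subsingleton_HD (hK i) (Or.inr hj))))
  obtain ⟨P, hP, hfree, ⟨e⟩⟩ := exists_free_rep R hb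
  have hproj : ∀ i, Module.Projective R (P.X i) := fun i => haveI := hfree i; inferInstance
  have hflat : DRing.TermwiseFlat P := fun i => haveI := hproj i; inferInstance
  obtain ⟨g, hg⟩ := exists_map_of_projective hP hproj e.hom
  haveI : QuasiIso g := by
    rw [← DerivedCategory.isIso_Q_map_iff_quasiIso, hg]
    infer_instance
  obtain ⟨E, hE, hEf, ⟨e'⟩⟩ := torAmplitude_of_isZero P (a := a) hP hflat fun M j hj =>
    isZero_of_tensor hA _ j fun i => by
      let F := ModuleCat.extendScalars (algebraMap R (A i))
      haveI : PreservesFiniteLimits F :=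
        ModuleCat.preservesFiniteLimits_extendScalars_of_flat (RingHom.flat_algebraMap_iff.2 inferInstance)
      have hq : IsIso (DerivedCategory.Q.map ((F.mapHomologicalComplex (ComplexShape.up ℤ)).map g)) := inferInstance
      have h : DRing.HasTorAmplitudeIn (A i) a b (DRing.toD (extCx (algebraMap R (A i)) P)) :=
        TorAmp.of_iso (hK i) (@asIso _ _ _ _ (DerivedCategory.Q.map
          ((F.mapHomologicalComplex (ComplexShape.up ℤ)).map g)) hq).symm
      have hz := isZero_of_torAmplitude _
        (fun k hk => F.map_isZero (hP k hk)) (termwiseFlat_extCx _ hflat) h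
        (ModuleCat.of (A i) (A i ⊗[R] M)) j (Or.inl hj)
      exact (isZero_tensor_assoc_iff P M (A i) j).2 ((isZero_extCx_tensor_iff P (A i ⊗[R] M) j).1 hz)
  exact ⟨E, hE, hEf, ⟨e' ≪≫ e⟩⟩

end Groth.DAlg
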