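import Groth.Agent.DAlg.NilpotentPair
import Groth.Agent.DAlg.Descent
import Groth.Agent.DAlg.TorAmp

/-!
Descent of pseudo-coherence along jointly faithful families of flat algebras.
-/

universe u

open CategoryTheory CategoryTheory.Limits CategoryTheory.Pretriangulated HomologicalComplex MonoidalCategory
open scoped TensorProduct

attribute [local instance] HasDerivedCategory.standard
set_option linter.style.haveILetI false

namespace Groth.DAlg

open FlatCxBase PCohPunctual

variable {R : Type u} [CommRing R]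

/-- Finite generation descends along a jointly faithful finite family. -/
theorem finite_of_jointlyFaithful {ι : Type} [Finite ι] {A : ι → Type u} [∀ i, CommRing (A i)]
    [∀ i, Algebra R (A i)] (hA : JointlyFaithful (R := R) A) (M : Type u) [AddCommGroup M] [Module R M]
    (h : ∀ i, Module.Finite (A i) (A i ⊗[R] M)) : Module.Finite R M := by
  classical
  have key : ∀ i, ∃ T : Finset M, Submodule.span (A i) ((fun m : M => (1 : A i) ⊗ₜ[R] m) '' (T : Set M)) = ⊤ := by
    intro i
    obtain ⟨s, hs⟩ := (h i).fg_top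
    choose T hT using fun x : A i ⊗[R] M => TensorProduct.exists_finset x
    refine ⟨s.biUnion fun x => (T x).image Prod.snd, eq_top_iff.2 (hs ▸ Submodule.span_le.2 fun x hx => ?_)⟩
    rw [hT x]
    refine Submodule.sum_mem _ fun p hp => ?_
    rw [show p.1 ⊗ₜ[R] p.2 = p.1 • ((1 : A i) ⊗ₜ[R] p.2) by simp [TensorProduct.smul_tmul']]
    exact Submodule.smul_mem _ _ (Submodule.subset_span ⟨p.2, Finset.mem_biUnion.2
      ⟨x, hx, Finset.mem_image.2 ⟨p, hp, rfl⟩⟩, rfl⟩)
  choose T hT using key
  let N : Submodule R M := Submodule.span R (⋃ i, (T i : Set M))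
  have hN : N.FG := Submodule.fg_span (Set.finite_iUnion fun i => (T i).finite_toSet)
  suffices Subsingleton (M ⧸ N) by
    rw [Submodule.Quotient.subsingleton_iff] at this
    exact ⟨this ▸ hN⟩
  refine hA _ fun i => subsingleton_of_forall_eq 0 fun q => ?_
  obtain ⟨x, rfl⟩ := LinearMap.lTensor_surjective (A i) N.mkQ_surjective q
  have hx : x ∈ Submodule.span (A i) ((fun m : M => (1 : A i) ⊗ₜ[R] m) '' (T i : Set M)) := hT i ▸ trivial
  induction hx using Submodule.span_induction with
  | mem x hx =>
    obtain ⟨m, hm, rfl⟩ := hx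
    rw [LinearMap.lTensor_tmul, show N.mkQ m = 0 from (Submodule.Quotient.mk_eq_zero N).2
      (Submodule.subset_span (Set.mem_iUnion.2 ⟨i, hm⟩)), TensorProduct.tmul_zero]
  | zero => simp
  | add a b _ _ ha hb => rw [map_add, ha, hb, add_zero]
  | smul r a _ ha =>
    simp only [← LinearMap.baseChange_eq_ltensor] at ha ⊢
    rw [map_smul, ha, smul_zero]

/-- For a flat ring map the derived base change is computed termwise on any complex. -/
theorem nonempty_lBaseChange_extCx {S : Type u} [CommRing S] (φ : R →+* S) (hφ : φ.Flat) [DRing.HasLBaseChange φ]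
    (K : DRing.Cx R) : Nonempty ((DRing.LBaseChange φ).obj (DRing.toD K) ≅ DRing.toD (extCx φ K)) := by
  obtain ⟨P, q, hP, hq, -, -⟩ := exists_kProjective_resolution K
  haveI := hP
  haveI := hq
  haveI : PreservesFiniteLimits (ModuleCat.extendScalars.{u, u, u} φ) :=
    ModuleCat.preservesFiniteLimits_extendScalars_of_flat hφ
  haveI : IsIso (DerivedCategory.Q.map
      (((ModuleCat.extendScalars φ).mapHomologicalComplex (ComplexShape.up ℤ)).map q)) := inferInstance
  exact ⟨(DRing.LBaseChange φ).mapIso (asIso (DerivedCategory.Q.map q)).symm ≪≫ lBaseChangeIso φ P ≪≫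
    asIso (DerivedCategory.Q.map
      (((ModuleCat.extendScalars φ).mapHomologicalComplex (ComplexShape.up ℤ)).map q))⟩

section

variable {S : Type u} [CommRing S] [Algebra R S] [DRing.HasLBaseChange (algebraMap R S)]

/-- The top cokernel of a flat complex with `n`-pseudo-coherent base change. -/
lemma finite_top_of_pcn (n : ℤ) (F : DRing.Cx R) (c : ℤ) (hnc : n ≤ c)
    (hF : DRing.VanishesAbove F c) (hfree : ∀ i, Module.Free R (F.X i))
    (h : PCn (finFree S) n ((DRing.LBaseChange (algebraMap R S)).obj (DRing.toD F))) :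
    Module.Finite S (S ⊗[R] Coker F (c - 1) c) := by
  obtain ⟨eb⟩ := nonempty_lBaseChangeFlatIso (algebraMap R S) F hF fun i => haveI := hfree i; inferInstance
  let Fb := extCx (algebraMap R S) F
  have hFb : DRing.VanishesAbove Fb c := fun i hi => (ModuleCat.extendScalars (algebraMap R S)).map_isZero (hF i hi)
  have hft : Module.Finite S (Dual.HD S (DRing.toD Fb) c) := (finite_iff_ft S _).1
    (ft_of_pcn (isQuasiStable_finFree S) (fun i hi => ModuleCat.isZero_iff_subsingleton.2
      (subsingleton_HD_of_iso (Iso.refl _) (hFb i hi))) ((h.of_iso eb).mono hnc))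
  have hk : LinearMap.ker (Fb.d c (c + 1)).hom = ⊤ := eq_top_iff.2 fun x _ => by
    have := ModuleCat.subsingleton_of_isZero (hFb (c + 1) (by omega))
    exact Subsingleton.elim _ _
  have e₁ : Coker Fb (c - 1) c ≃ₗ[S] Fb.homology c := by
    refine (Submodule.Quotient.equiv _ _ (LinearEquiv.ofTop _ hk).symm ?_).trans
      (homologyEquivQuot Fb (cochain_prev c) (cochain_next c))
    exact (LinearMap.range _).map_equiv_eq_comap_symm _
  have : Module.Finite S (Coker Fb (c - 1) c) := Module.Finite.equiv ((HDEquiv Fb c).trans e₁.symm)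
  exact Module.Finite.equiv (cokerBCEquiv S F (c - 1) c)

/-- `n`-pseudo-coherence of the base change is stable under attaching cells. -/
lemma pcn_baseChange_cone (n : ℤ) (V F : DRing.Cx R) (g : V ⟶ F) (b : ℤ)
    (hV : DRing.VanishesOutside V b b) (hVF : DRing.TermwiseFiniteFree V) (hF : DRing.VanishesAbove F b)
    (hfree : ∀ i, Module.Free R (F.X i))
    (h : PCn (finFree S) n ((DRing.LBaseChange (algebraMap R S)).obj (DRing.toD F))) :
    PCn (finFree S) n ((DRing.LBaseChange (algebraMap R S)).obj (DRing.toD (CochainComplex.mappingCone g))) := by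
  obtain ⟨eF⟩ := nonempty_lBaseChangeFlatIso (algebraMap R S) F hF fun i => haveI := hfree i; inferInstance
  obtain ⟨eC⟩ := nonempty_lBaseChangeFlatIso (algebraMap R S) (CochainComplex.mappingCone g) (b := b)
    (fun i hi => (CochainComplex.mappingCone.isZero_X_iff g i).2 ⟨hV _ (Or.inr (by omega)), hF i hi⟩)
    (flat_cone_X g (fun i => haveI := (hVF i).2; inferInstance) (fun i => haveI := hfree i; inferInstance))
  let gb := ((ModuleCat.extendScalars (algebraMap R S)).mapHomologicalComplex (ComplexShape.up ℤ)).map g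
  refine (PCn.cone (isAdditiveSub_finFree S) (isQuasiStable_finFree S) (isQuasiLiftable_finFree S)
    (DerivedCategory.mappingCone_triangle_distinguished gb) ?_ (h.of_iso eF)).of_iso ?_
  · refine isPseudoCoherent'_iff_isPC.1 (IsPerfect.isPseudoCoherent' (R := S)
      ⟨extCx (algebraMap R S) V, b, b, fun i hi => (ModuleCat.extendScalars (algebraMap R S)).map_isZero (hV i hi),
        fun i => ⟨?_, ?_⟩, ⟨Iso.refl _⟩⟩) (n + 1)
    · have := (hVF i).1
      exact Module.Finite.equiv (extendEquiv S (V.X i)).symm
    · have := (hVF i).2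
      exact Module.Projective.of_equiv (extendEquiv S (V.X i)).symm
  · exact (DerivedCategory.Q.mapIso
      (CochainComplex.mappingCone.mapHomologicalComplexIso g (ModuleCat.extendScalars (algebraMap R S)))).symm ≪≫
        eC.symm

end

variable {ι : Type} {A : ι → Type u} [∀ i, CommRing (A i)] [∀ i, Algebra R (A i)]
  [∀ i, DRing.HasLBaseChange (algebraMap R (A i))]

/-- Pseudo-coherence of an object bounded above descends. -/
theorem pcn_of_lBaseChange [Finite ι] (hA : JointlyFaithful (R := R) A) {n : ℤ} {K : Dual.D R} {c : ℤ}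
    (hc : ∀ j, c < j → Subsingleton (Dual.HD R K j))
    (h : ∀ i, PCn (finFree (A i)) n ((DRing.LBaseChange (algebraMap R (A i))).obj K)) : PCn (finFree R) n K :=
  pcn_of_top' n (fun L => ∀ i, PCn (finFree (A i)) n ((DRing.LBaseChange (algebraMap R (A i))).obj L))
    (fun V F g b hV hVF hF hfree hh i => pcn_baseChange_cone n V F g b hV hVF hF hfree (hh i))
    (fun e hh i => (hh i).of_iso ((DRing.LBaseChange (algebraMap R (A i))).mapIso e))
    (fun F c hnc hF hfree hh => finite_of_jointlyFaithful hA _ fun i => finite_top_of_pcn n F c hnc hF hfree (hh i))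
    hc h

omit [∀ i, DRing.HasLBaseChange (algebraMap R (A i))]

/-- Termwise descent of `n`-pseudo-coherence. -/
theorem pcn_of_extCx [Finite ι] [∀ i, Module.Flat R (A i)] (hA : JointlyFaithful (R := R) A) (K : DRing.Cx R)
    {n : ℤ} (h : ∀ i, PCn (finFree (A i)) n (DRing.toD (extCx (algebraMap R (A i)) K))) :
    PCn (finFree R) n (DRing.toD K) := by
  haveI : ∀ i, DRing.HasLBaseChange (algebraMap R (A i)) := fun i => hasLBaseChange _
  choose b hb using fun i => (h i).bddAbove
  obtain ⟨c, hc⟩ := Finite.exists_le b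
  refine pcn_of_lBaseChange (K := DRing.toD K) hA (c := c) (fun j hj => subsingleton_HD_toD (isZero_of_tensor hA K j
    fun i => (isZero_extCx_iff K j).1 (isZero_homology_of_subsingleton
      (ModuleCat.isZero_iff_subsingleton.1 (hb i j (lt_of_le_of_lt (hc i) hj)))))) fun i => ?_
  obtain ⟨e⟩ := nonempty_lBaseChange_extCx (algebraMap R (A i)) (RingHom.flat_algebraMap_iff.2 inferInstance) K
  exact (h i).of_iso e.symm

/-- Termwise descent of pseudo-coherence. -/
theorem isPseudoCoherent'_of_extCx [Finite ι] [∀ i, Module.Flat R (A i)] (hA : JointlyFaithful (R := R) A)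
    (K : DRing.Cx R) (h : ∀ i, DRing.IsPseudoCoherent' (A i) (DRing.toD (extCx (algebraMap R (A i)) K))) :
    DRing.IsPseudoCoherent' R (DRing.toD K) :=
  isPseudoCoherent'_iff_isPC.2 fun _ => pcn_of_extCx hA K fun i => isPseudoCoherent'_iff_isPC.1 (h i) _

/-- Termwise descent of perfectness. -/
theorem isPerfect_of_extCx [Finite ι] [∀ i, Module.Flat R (A i)] (hA : JointlyFaithful (R := R) A)
    (K : DRing.Cx R) (h : ∀ i, DRing.IsPerfect (A i) (DRing.toD (extCx (algebraMap R (A i)) K))) :
    DRing.IsPerfect R (DRing.toD K) := by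
  refine isPerfect_iff.2 ⟨isPseudoCoherent'_of_extCx hA K fun i => (isPerfect_iff.1 (h i)).1, ?_⟩
  choose a b hab using fun i => (isPerfect_iff.1 (h i)).2
  obtain ⟨a', ha'⟩ := Finite.exists_ge a
  obtain ⟨b', hb'⟩ := Finite.exists_le b
  exact ⟨a', b', torAmp_of_jointlyFaithful hA K a' b' fun i => TorAmp.mono (hab i) (ha' i) (hb' i)⟩

end Groth.DAlg
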