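import Groth.Agent.DAlg.PCRestrict
import Groth.Agent.DAlg.PCDescent
import Groth.Agent.S2137
import Mathlib.RingTheory.IsTensorProduct

/-!
Restriction commutes with flat base change in a cocartesian square.
-/

universe u

open CategoryTheory CategoryTheory.Limits HomologicalComplex
open scoped TensorProduct

attribute [local instance] HasDerivedCategory.standard
set_option linter.style.haveILetI false

namespace Groth.DAlg

open FlatCxBase

variable (R A R' A' : Type u) [CommRing R] [CommRing A] [CommRing R'] [CommRing A'] [Algebra R A] [Algebra R R']
  [Algebra A A'] [Algebra R' A'] [Algebra R A'] [IsScalarTower R A A'] [IsScalarTower R R' A']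
  [Algebra.IsPushout R R' A A']

/-- `R' ⊗_R M = A' ⊗_A M`. -/
noncomputable def resExtEquiv (M : ModuleCat.{u} A) :
    (ModuleCat.extendScalars (algebraMap R R')).obj ((ModuleCat.restrictScalars (algebraMap R A)).obj M) ≅
      (ModuleCat.restrictScalars (algebraMap R' A')).obj ((ModuleCat.extendScalars (algebraMap A A')).obj M) :=
  letI : Module R M := Module.compHom M (algebraMap R A)
  haveI : IsScalarTower R A M := IsScalarTower.of_algebraMap_smul fun _ _ => rfl
  let f : R' ⊗[R] M →ₗ[R'] (ModuleCat.restrictScalars (algebraMap R' A')).obj ((ModuleCat.extendScalars (algebraMap A A')).obj M) :=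
    { toFun := fun z => (extendEquiv A' M).symm ((Algebra.IsPushout.cancelBaseChange R R' A A' M).symm z)
      map_add' := fun x y => by rw [map_add, map_add]; rfl
      map_smul' := fun r z => by
        rw [map_smul, ← IsScalarTower.algebraMap_smul A' r, map_smul]
        rfl }
  (extendEquiv R' ((ModuleCat.restrictScalars (algebraMap R A)).obj M)).toModuleIso ≪≫
    (LinearEquiv.ofBijective f
      ((extendEquiv A' M).symm.bijective.comp
        (Algebra.IsPushout.cancelBaseChange R R' A A' M).symm.bijective)).toModuleIso

lemma cancelBaseChange_symm_natural {M N : Type u} [AddCommGroup M] [hM : Module R M] [Module A M] [tM : IsScalarTower R A M]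
    [AddCommGroup N] [hN : Module R N] [Module A N] [tN : IsScalarTower R A N] (f : M →ₗ[A] N) (w : R' ⊗[R] M) :
    (Algebra.IsPushout.cancelBaseChange R R' A A' N).symm ((f.restrictScalars R).baseChange R' w) =
      f.baseChange A' ((Algebra.IsPushout.cancelBaseChange R R' A A' M).symm w) := by
  induction w with
  | zero => simp
  | add a b ha hb => simp only [map_add, ha, hb]
  | tmul r m => simp

/-- Restriction commutes with base change. -/
noncomputable def resExtNatIso :
    ModuleCat.restrictScalars.{u} (algebraMap R A) ⋙ ModuleCat.extendScalars.{u, u, u} (algebraMap R R') ≅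
      ModuleCat.extendScalars.{u, u, u} (algebraMap A A') ⋙ ModuleCat.restrictScalars.{u} (algebraMap R' A') :=
  NatIso.ofComponents (resExtEquiv R A R' A') fun {M N} g => by
    letI : Module R M := Module.compHom M (algebraMap R A)
    haveI hTM : IsScalarTower R A M := IsScalarTower.of_algebraMap_smul fun _ _ => rfl
    letI : Module R N := Module.compHom N (algebraMap R A)
    haveI hTN : IsScalarTower R A N := IsScalarTower.of_algebraMap_smul fun _ _ => rfl
    apply ModuleCat.hom_ext
    apply LinearMap.ext
    intro z
    obtain ⟨w, rfl⟩ := (extendEquiv R' ((ModuleCat.restrictScalars (algebraMap R A)).obj M)).symm.surjective z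
    apply (extendEquiv A' N).injective
    show extendEquiv A' N ((extendEquiv A' N).symm ((Algebra.IsPushout.cancelBaseChange R R' A A' N).symm
        (extendEquiv R' ((ModuleCat.restrictScalars (algebraMap R A)).obj N)
          ((ModuleCat.extendScalars (algebraMap R R')).map ((ModuleCat.restrictScalars (algebraMap R A)).map g)
            ((extendEquiv R' ((ModuleCat.restrictScalars (algebraMap R A)).obj M)).symm w))))) =
      extendEquiv A' N ((ModuleCat.extendScalars (algebraMap A A')).map g ((extendEquiv A' M).symm
        ((Algebra.IsPushout.cancelBaseChange R R' A A' M).symm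
          (extendEquiv R' ((ModuleCat.restrictScalars (algebraMap R A)).obj M)
            ((extendEquiv R' ((ModuleCat.restrictScalars (algebraMap R A)).obj M)).symm w)))))
    rw [extendEquiv_map, extendEquiv_map, LinearEquiv.apply_symm_apply, LinearEquiv.apply_symm_apply,
      LinearEquiv.apply_symm_apply]
    exact cancelBaseChange_symm_natural (R := R) (A := A) (R' := R') (A' := A') (M := ↑M) (N := ↑N)
      (hM := Module.compHom M (algebraMap R A)) (hN := Module.compHom N (algebraMap R A))
      (tM := hTM) (tN := hTN) g.hom w

variable {R A R' A'}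

/-- Termwise base change of a restricted complex. -/
noncomputable def resExtCxIso (E : DRing.Cx A) :
    extCx (algebraMap R R') ((DRing.restrictCx (algebraMap R A)).obj E) ≅
      (DRing.restrictCx (algebraMap R' A')).obj (extCx (algebraMap A A') E) :=
  (NatIso.mapHomologicalComplex (resExtNatIso R A R' A') (ComplexShape.up ℤ)).app E

open PCohPunctual in
/-- Pseudo-coherence of a restriction is preserved by flat base change. -/
theorem pcn_res_extCx [Module.Flat R R'] (E : DRing.Cx A) {n : ℤ}
    (h : PCn (finFree R) n ((DRing.restrictD (algebraMap R A)).obj (DRing.toD E))) :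
    PCn (finFree R') n ((DRing.restrictD (algebraMap R' A')).obj (DRing.toD (extCx (algebraMap A A') E))) := by
  haveI := hasLBaseChange (algebraMap R R')
  have h1 := isPseudoCoherent_iff.1 (Groth.Agent.S2137.result (algebraMap R R') _ n
    (isPseudoCoherent_iff.2 (h.of_iso (resQIso _ E))))
  obtain ⟨e⟩ := nonempty_lBaseChange_extCx (algebraMap R R') (RingHom.flat_algebraMap_iff.2 inferInstance)
    ((DRing.restrictCx (algebraMap R A)).obj E)
  exact h1.of_iso (e ≪≫ DerivedCategory.Q.mapIso (resExtCxIso E) ≪≫ (resQIso _ _).symm)

end Groth.DAlg
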