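import Groth.Agent.DAlg.TorDim
import Groth.Agent.FlatCxBase.BoundedFlat

/-!
Tensoring bounded above complexes of Tor-acyclic modules.
-/

universe u

open CategoryTheory CategoryTheory.Limits HomologicalComplex MonoidalCategory
open scoped TensorProduct

set_option linter.style.haveILetI false

namespace Groth.DAlg.TorAcyclic

open Calg7 FlatCxBase

variable {R : Type u} [CommRing R] {N : ModuleCat.{u} R}

/-- No higher Tor against `N`. -/
def Ac (N M : ModuleCat.{u} R) : Prop := ∀ p : ℕ, IsZero (Tor.T (p + 1) M N)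

lemma of_iso {M M' : ModuleCat.{u} R} (h : Ac N M) (e : M ≅ M') : Ac N M' := fun p =>
  (h p).of_iso (((CategoryTheory.Tor (ModuleCat.{u} R) (p + 1)).mapIso e).app N).symm

lemma of_flat (M : ModuleCat.{u} R) [Module.Flat R M] : Ac N M := fun p => Tor.isZero_of_flat_left N p

lemma of_isZero {M : ModuleCat.{u} R} (h : IsZero M) : Ac N M :=
  haveI := ModuleCat.subsingleton_of_isZero h
  of_flat M

lemma ext {S : ShortComplex (ModuleCat.{u} R)} (hS : S.ShortExact) (h₁ : Ac N S.X₁) (h₃ : Ac N S.X₃) : Ac N S.X₂ :=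
  fun p => (Tor.exactL₂ hS N (p + 1)).isZero_of_both_zeros ((h₁ p).eq_of_src _ _) ((h₃ p).eq_of_tgt _ _)

lemma ker {S : ShortComplex (ModuleCat.{u} R)} (hS : S.ShortExact) (h₂ : Ac N S.X₂) (h₃ : Ac N S.X₃) : Ac N S.X₁ :=
  fun p => (Tor.exactL₁ hS N (p + 1)).isZero_of_both_zeros ((h₃ (p + 1)).eq_of_src _ _) ((h₂ p).eq_of_tgt _ _)

lemma rTensor_injective {S : ShortComplex (ModuleCat.{u} R)} (hS : S.ShortExact) (h₃ : Ac N S.X₃) :
    Function.Injective (S.f.hom.rTensor N) := by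
  haveI : Mono (Tor.mapL 0 S.f N) := (Tor.exactL₁ hS N 0).mono_g ((h₃ 0).eq_of_src _ _)
  haveI : Mono ((Tor.zeroIso S.X₁).hom.app N ≫ (S.f ▷ N)) := by
    rw [← Tor.mapL_zeroIso]
    infer_instance
  haveI : Mono (S.f ▷ N) := by
    have h : S.f ▷ N = (Tor.zeroIso S.X₁).inv.app N ≫ (Tor.zeroIso S.X₁).hom.app N ≫ (S.f ▷ N) := by
      rw [Iso.inv_hom_id_app_assoc]
    rw [h]
    infer_instance
  exact (ModuleCat.mono_iff_injective (S.f ▷ N)).1 inferInstance

variable (F : CochainComplex (ModuleCat.{u} R) ℤ)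

/-- The cocycles. -/
noncomputable abbrev Z (i : ℤ) : ModuleCat.{u} R := ModuleCat.of R (LinearMap.ker (F.d i (i + 1)).hom)

lemma exists_cocycleSC (hac : ∀ p, IsZero (F.homology p)) (i : ℤ) :
    ∃ S : ShortComplex (ModuleCat.{u} R), S.ShortExact ∧ ∃ (e₁ : S.X₁ ≅ Z F i) (e₂ : S.X₂ ≅ F.X i),
      Nonempty (S.X₃ ≅ Z F (i + 1)) ∧ S.f ≫ e₂.hom = e₁.hom ≫ ModuleCat.ofHom (LinearMap.ker (F.d i (i + 1)).hom).subtype := by
  let d' : F.X i →ₗ[R] LinearMap.ker (F.d (i + 1) (i + 1 + 1)).hom :=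
    (F.d i (i + 1)).hom.codRestrict _ fun x => ConcreteCategory.congr_hom (F.d_comp_d i (i + 1) (i + 1 + 1)) x
  let S : ShortComplex (ModuleCat.{u} R) := ShortComplex.mk
    (ModuleCat.ofHom (LinearMap.ker (F.d i (i + 1)).hom).subtype : Z F i ⟶ F.X i)
    (ModuleCat.ofHom d' : F.X i ⟶ Z F (i + 1))
    (ModuleCat.hom_ext (LinearMap.ext fun x => Subtype.ext x.2))
  refine ⟨S, { exact := ?_, mono_f := ?_, epi_g := ?_ }, Iso.refl _, Iso.refl _, ⟨Iso.refl _⟩, by simp [S]⟩
  · exact (ShortComplex.moduleCat_exact_iff _).2 fun x hx => ⟨⟨x, congrArg Subtype.val hx⟩, rfl⟩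
  · exact (ModuleCat.mono_iff_injective _).2 Subtype.val_injective
  · refine (ModuleCat.epi_iff_surjective _).2 fun y => ?_
    obtain ⟨w, hw⟩ := (range_eq_ker_of_isZero F (i := i) (j := i + 1) rfl rfl (hac (i + 1))).ge y.2
    exact ⟨w, Subtype.ext hw⟩

lemma ac_cocycles {b : ℤ} (hb : ∀ i, b < i → IsZero (F.X i)) (hac : ∀ p, IsZero (F.homology p))
    (hF : ∀ i, Ac N (F.X i)) (i : ℤ) : Ac N (Z F i) := by
  suffices ∀ n : ℕ, ∀ i : ℤ, b < i + n → Ac N (Z F i) from this (b + 1 - i).toNat i (by omega)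
  intro n
  induction n with
  | zero =>
    intro i hi
    have := ModuleCat.subsingleton_of_isZero (hb i (by omega))
    exact of_isZero (ModuleCat.isZero_of_subsingleton _)
  | succ n ih =>
    intro i hi
    obtain ⟨S, hS, e₁, e₂, ⟨e₃⟩, -⟩ := exists_cocycleSC F hac i
    exact of_iso (ker hS (of_iso (hF i) e₂.symm) (of_iso (ih (i + 1) (by omega)) e₃.symm)) e₁

/-- Tensoring a bounded above acyclic complex of acyclic modules. -/
theorem isZero_tensor {b : ℤ} (hb : ∀ i, b < i → IsZero (F.X i)) (hac : ∀ p, IsZero (F.homology p))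
    (hF : ∀ i, Ac N (F.X i)) (j : ℤ) : IsZero ((DRing.tensorCx F N).homology j) := by
  refine (isZero_T_iff F (cochain_prev j) (cochain_next j) N).2 fun x hx => ?_
  obtain ⟨S, hS, e₁, e₂, ⟨e₃⟩, hf⟩ := exists_cocycleSC F hac (j + 1)
  have hi : Function.Injective ((LinearMap.ker (F.d (j + 1) (j + 1 + 1)).hom).subtype.rTensor N) := by
    have h := rTensor_injective hS (N := N) (of_iso (ac_cocycles F hb hac hF _) e₃.symm)
    have he : (LinearMap.ker (F.d (j + 1) (j + 1 + 1)).hom).subtype =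
        e₂.hom.hom ∘ₗ S.f.hom ∘ₗ e₁.inv.hom := by
      have := congrArg (fun g => (e₁.inv ≫ g).hom) hf
      simpa [LinearMap.comp_assoc] using this.symm
    rw [he, LinearMap.rTensor_comp, LinearMap.rTensor_comp]
    exact (LinearEquiv.rTensor N e₂.toLinearEquiv).injective.comp
      (h.comp (LinearEquiv.rTensor N e₁.symm.toLinearEquiv).injective)
  let d' : F.X j →ₗ[R] LinearMap.ker (F.d (j + 1) (j + 1 + 1)).hom :=
    (F.d j (j + 1)).hom.codRestrict _ fun x => ConcreteCategory.congr_hom (F.d_comp_d j (j + 1) (j + 1 + 1)) x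
  have hsur : Function.Surjective d' := fun y => by
    obtain ⟨w, hw⟩ := (range_eq_ker_of_isZero F (i := j) (j := j + 1) rfl rfl (hac (j + 1))).ge y.2
    exact ⟨w, Subtype.ext hw⟩
  have hex : Function.Exact (F.d (j - 1) j).hom d' := by
    rw [LinearMap.exact_iff, show LinearMap.ker d' = LinearMap.ker (F.d j (j + 1)).hom from LinearMap.ker_codRestrict ..]
    exact (range_eq_ker_of_isZero F (by omega) rfl (hac j)).symm
  refine (rTensor_exact N hex hsur x).1 (hi ?_)
  rw [map_zero, ← LinearMap.rTensor_comp_apply,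
    show (LinearMap.ker (F.d (j + 1) (j + 1 + 1)).hom).subtype ∘ₗ d' = (F.d j (j + 1)).hom from
      LinearMap.subtype_comp_codRestrict ..]
  exact hx

end Groth.DAlg.TorAcyclic
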