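import Groth.Agent.DAlg.ResTot
import Groth.Agent.DAlg.TorAmpTot
import Groth.Agent.DAlg.TorAcyclic
import Groth.Agent.DAlg.TensorSingleRight
import Groth.Agent.HTopHyper.HTor.Balance

/-!
Base change of K-flat resolutions of restricted K-flat complexes along Tor-independent algebras.
-/

universe u

open CategoryTheory CategoryTheory.Limits HomologicalComplex MonoidalCategory
open scoped TensorProduct

attribute [local instance] HasDerivedCategory.standard
set_option linter.style.haveILetI false

namespace Groth.DAlg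

open DerivedCoh KFlatMod FlatCxBase

local notation "up" => ComplexShape.up ℤ

variable {R : Type u} [CommRing R]

lemma acyclic_X₂ {S : ShortComplex (DRing.Cx R)} (hS : S.ShortExact) (h₁ : S.X₁.Acyclic) (h₃ : S.X₃.Acyclic) :
    S.X₂.Acyclic := fun i => (exactAt_iff_isZero_homology _ _).2
  ((hS.homology_exact₂ i).isZero_of_both_zeros ((h₁ i).isZero_homology.eq_of_src _ _)
    ((h₃ i).isZero_homology.eq_of_tgt _ _))

lemma acyclic_X₁ {S : ShortComplex (DRing.Cx R)} (hS : S.ShortExact) (h₂ : S.X₂.Acyclic) (h₃ : S.X₃.Acyclic) :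
    S.X₁.Acyclic := fun i => (exactAt_iff_isZero_homology _ _).2
  ((hS.homology_exact₁ (i - 1) i (by simp)).isZero_of_both_zeros ((h₃ (i - 1)).isZero_homology.eq_of_src _ _)
    ((h₂ i).isZero_homology.eq_of_tgt _ _))

variable {A R' : Type u} [CommRing A] [CommRing R'] [Algebra R A] [Algebra R R']

/-- Base change of a K-flat resolution of a restricted K-flat complex. -/
theorem quasiIso_extCx_resolution_torIndep (htor : ∀ p : ℕ, 1 ≤ p → Subsingleton (DRing.Tor R p A R'))
    {P : DRing.Cx A} (hP : IsKFlatCx A P) {Q : DRing.Cx R} (hQ : IsKFlatCx R Q)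
    (q : Q ⟶ (DRing.restrictCx (algebraMap R A)).obj P) [QuasiIso q] :
    QuasiIso (((ModuleCat.extendScalars (algebraMap R R')).mapHomologicalComplex up).map q) := by
  rw [quasiIso_iff_cone_acyclic]
  intro j
  refine ExactAt.of_iso ?_
    (CochainComplex.mappingCone.mapHomologicalComplexIso q (ModuleCat.extendScalars (algebraMap R R')))
  rw [exactAt_iff_isZero_homology]
  refine (isZero_extCx_iff (S := R') (CochainComplex.mappingCone q) j).2 ?_
  let N : ModuleCat.{u} R := ModuleCat.of R R'
  let S₀ := (single (ModuleCat.{u} R) up 0).obj N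
  obtain ⟨W, hW, hWfree, ⟨eW⟩⟩ := exists_free_rep R (K := DRing.toD S₀) (b := 0) fun i hi =>
    subsingleton_HD_of_iso (Iso.refl _) (isZero_single_obj_X up 0 N i (by omega))
  obtain ⟨w, hw⟩ := exists_map_of_projective hW (fun i => haveI := hWfree i; inferInstance) eW.hom
  haveI : QuasiIso w := by
    rw [← DerivedCategory.isIso_Q_map_iff_quasiIso, hw]
    infer_instance
  have hWflat : DRing.TermwiseFlat W := fun i => haveI := hWfree i; inferInstance
  have hWk := isKFlatCx_iff.1 (isKFlatCx_of_flat W hW hWflat)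
  let Cw := CochainComplex.mappingCone w
  let Cq := CochainComplex.mappingCone q
  have hCw : Cw.Acyclic := (quasiIso_iff_cone_acyclic w).1 inferInstance
  have hCq : Cq.Acyclic := (quasiIso_iff_cone_acyclic q).1 inferInstance
  -- the base change of the cone of the resolution of `R'`
  have hext : (extCx (algebraMap R A) Cw).Acyclic := fun i => by
    rw [exactAt_iff_isZero_homology]
    refine (isZero_extCx_iff (S := A) Cw i).2 (TorAcyclic.isZero_tensor Cw (b := 0) (fun k hk =>
      (CochainComplex.mappingCone.isZero_X_iff w k).2 ⟨hW _ (by omega), isZero_single_obj_X up 0 N k (by omega)⟩)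
      (fun k => (hCw k).isZero_homology) (fun k => ?_) i)
    have hS₀ : TorAcyclic.Ac (ModuleCat.of R A) (S₀.X k) := by
      by_cases hk : k = 0
      · refine TorAcyclic.of_iso (M := N) (fun p => ?_) (singleObjXIsoOfEq up 0 N k hk).symm
        obtain ⟨e⟩ := HTorLib.tor_symm (A := R) (p + 1) A R'
        haveI := htor (p + 1) (Nat.succ_pos p)
        exact ModuleCat.isZero_iff_subsingleton.2 e.symm.toEquiv.subsingleton
      · exact TorAcyclic.of_isZero (isZero_single_obj_X up 0 N k hk)
    haveI := hWflat (k + 1)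
    exact TorAcyclic.of_iso
      (TorAcyclic.ext (ShortComplex.Splitting.ofHasBinaryBiproduct (W.X (k + 1)) (S₀.X k)).shortExact
        (TorAcyclic.of_flat _) hS₀)
      (HomologicalComplex.homotopyCofiber.XIsoBiprod w k (k + 1) rfl).symm
  -- tensoring the restriction of `P` with it
  have h₁ : (KFlat.tot (T R) ((DRing.restrictCx (algebraMap R A)).obj P) Cw).Acyclic := fun i =>
    ((exactAt_restrictCx_iff (algebraMap R A) _ i).2
      (acyclic_tot_left (isKFlatCx_iff.1 hP) hext i)).of_iso (resTotIso (algebraMap R A) P Cw)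
  have hQs : KFlat.IsKFlat (T R) (Q⟦(1 : ℤ)⟧) := (isKFlatCx_iff.1 hQ).shift (T R) 1
  have h₂ : (KFlat.tot (T R) Cq Cw).Acyclic :=
    acyclic_X₂ (KFlat.shortExact_totL (T R) Cw (KFlat.coneSC q)
      fun p k => ((KFlat.coneSplitting q p).map ((T R).flip.obj (Cw.X k))).shortExact)
      h₁ (acyclic_tot_left hQs hCw)
  have h₃ : (KFlat.tot (T R) Cq S₀).Acyclic :=
    acyclic_X₁ (KFlat.shortExact_totR (T R) Cq (KFlat.coneSC w)
      fun p k => ((KFlat.coneSplitting w k).map ((T R).obj (Cq.X p))).shortExact)
      h₂ ((hWk.shift (T R) 1) Cq hCq)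
  exact ((h₃ j).of_iso (TensorSingleRight.objIso (T R) N Cq).symm).isZero_homology

end Groth.DAlg
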