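import Groth.Agent.DAlg.UnivArrow
import Groth.Agent.DAlg.TorIndepResolution
import Groth.Agent.DAlg.PushoutRestrict
import Groth.Agent.KTheory.BaseCmpKFlat
import Groth.Prelude.Def_TrivBC

/-!
The base change comparison map of a Tor-independent cocartesian square.
-/

universe u

open CategoryTheory CategoryTheory.Limits HomologicalComplex
open scoped TensorProduct

attribute [local instance] HasDerivedCategory.standard
set_option linter.style.haveILetI false

namespace Groth.DAlg

open KFlatMod BaseCmpKFlat FlatCxBase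

local notation "up" => ComplexShape.up ℤ

section

variable {R S : Type u} [CommRing R] [CommRing S] (φ : R →+* S) [DTen.HasLBase φ]

/-- For K-flat complexes the termwise unit is a universal arrow to restriction. -/
theorem isUnivArrow_baseγ (P : DRing.Cx R) (hP : IsKFlatCx R P) :
    IsUnivArrow (DRing.restrictD φ) ((DTen.baseγ φ).app P) := by
  have := isIso_baseCmp_of_isKFlat φ P hP
  exact DTen.baseCmp_fac φ P ▸
    (isUnivArrow_unit (DTen.baseAdj φ) (DerivedCategory.Q.obj P)).comp_right ((DTen.baseCmp φ).app P)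

end

variable {R A R' A' : Type u} [CommRing R] [CommRing A] [CommRing R'] [CommRing A']
  {φ : R →+* A} {ρ : R →+* R'} {α : A →+* A'} {φ' : R' →+* A'}

lemma map_comp_inv_hom {C D : Type*} [Category* C] [Category* D] (F : C ⥤ D) {X Y Z : C} {W : D} (a : X ⟶ Y)
    (b : Y ⟶ Z) (c : Z ⟶ Y) (hbc : b ≫ c = 𝟙 Y) (d : F.obj Y ⟶ W) :
    F.map (a ≫ b) ≫ F.map c ≫ d = F.map a ≫ d := by
  rw [← Category.assoc, ← F.map_comp, Category.assoc, hbc, Category.comp_id]

lemma liftingRes₂_hom_app {B C E : Type u} [CommRing B] [CommRing C] [CommRing E] (g : C →+* E) (f : B →+* C)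
    (X : DRing.Cx E) :
    (TrivBC.liftingRes₂ g f).iso.hom.app X =
      (DRing.restrictD f).map ((DTen.resFactors g).hom.app X) ≫ (DTen.resFactors f).hom.app _ := by
  unfold TrivBC.liftingRes₂
  simp

lemma liftingRes₂_inv_app {B C E : Type u} [CommRing B] [CommRing C] [CommRing E] (g : C →+* E) (f : B →+* C)
    (X : DRing.Cx E) :
    (TrivBC.liftingRes₂ g f).iso.inv.app X =
      (DTen.resFactors f).inv.app _ ≫ (DRing.restrictD f).map ((DTen.resFactors g).inv.app X) := by
  unfold TrivBC.liftingRes₂
  simp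

/-- The canonical commutation on the image of a complex. -/
lemma resComm_app_Q (h : α.comp φ = φ'.comp ρ) (X : DRing.Cx A') :
    (TrivBC.resComm h).hom.app (DerivedCategory.Q.obj X) =
      ((DRing.restrictD φ).map ((DTen.resFactors α).hom.app X) ≫ (DTen.resFactors φ).hom.app _) ≫
        (TrivBC.resCommCx h).hom.app X ≫
          (DTen.resFactors ρ).inv.app _ ≫ (DRing.restrictD ρ).map ((DTen.resFactors φ').inv.app X) := by
  rw [TrivBC.resComm, Localization.liftNatIso_hom, Localization.liftNatTrans_app]
  exact congrArg₂ (· ≫ ·) (liftingRes₂_hom_app α φ X)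
    (congrArg (_ ≫ ·) (liftingRes₂_inv_app φ' ρ X))

variable [Algebra R A] [Algebra R R'] [Algebra A A'] [Algebra R' A'] [Algebra R A'] [IsScalarTower R A A']
  [IsScalarTower R R' A']

/-- The comparison map of a Tor-independent cocartesian square is an isomorphism. -/
theorem isIso_cmp [Algebra.IsPushout R A R' A']
    (htor : ∀ p : ℕ, 1 ≤ p → Subsingleton (DRing.Tor R p A R'))
    [DRing.HasLBaseChange (algebraMap R R')] [DRing.HasLBaseChange (algebraMap A A')]
    (adjρ : DRing.LBaseChange (algebraMap R R') ⊣ DRing.restrictD (algebraMap R R'))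
    (adjα : DRing.LBaseChange (algebraMap A A') ⊣ DRing.restrictD (algebraMap A A'))
    (h : (algebraMap A A').comp (algebraMap R A) = (algebraMap R' A').comp (algebraMap R R'))
    (K : Dual.D A) : IsIso (TrivBC.cmp adjρ adjα h K) := by
  haveI : Algebra.IsPushout R R' A A' := Algebra.IsPushout.symm inferInstance
  let φ := algebraMap R A
  let ρ := algebraMap R R'
  let α := algebraMap A A'
  let φ' := algebraMap R' A'
  haveI : DTen.HasLBase ρ := ⟨adjρ.isRightAdjoint⟩
  haveI : DTen.HasLBase α := ⟨adjα.isRightAdjoint⟩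
  obtain ⟨P, hPp, -, ⟨e⟩⟩ := exists_kProjective_rep K
  haveI := hPp
  have hP : IsKFlatCx A P := isKFlatCx_of_isKProjective P
  obtain ⟨i, hi, hη⟩ :=
    ((isUnivArrow_baseγ α P hP).comp_left e.inv).exists_iso (isUnivArrow_unit adjα K)
  refine isIso_homEquiv_symm adjρ ?_
  rw [← hη]
  simp only [Functor.map_comp, Category.assoc]
  have hnat := (TrivBC.resComm h).hom.naturality i
  dsimp at hnat
  rw [hnat]
  -- the restricted unit, transported to the other side
  let Y : DRing.Cx R' := (DRing.restrictCx φ').obj (extCx α P)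
  let v₀ : (DRing.restrictCx φ).obj P ⟶ (DRing.restrictCx ρ).obj Y :=
    (DRing.restrictCx φ).map ((DTen.unitCx α).app P) ≫
      (NatTrans.mapHomologicalComplex (TrivBC.resCommMod h).hom up).app (extCx α P)
  have hv : DerivedCategory.Q.map ((DRing.restrictCx φ).map ((DTen.unitCx α).app P)) ≫
      (TrivBC.resCommCx h).hom.app (extCx α P) = DerivedCategory.Q.map v₀ := by
    rw [show (TrivBC.resCommCx h).hom.app (extCx α P) =
      DerivedCategory.Q.map ((NatTrans.mapHomologicalComplex (TrivBC.resCommMod h).hom up).app (extCx α P)) from ?_]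
    · exact (DerivedCategory.Q.map_comp _ _).symm
    simp only [TrivBC.resCommCx, Iso.trans_hom, NatTrans.comp_app, Iso.symm_hom, Functor.associator_inv_app,
      Functor.associator_hom_app, Functor.isoWhiskerRight_hom, Functor.whiskerRight_app, Category.id_comp,
      Category.comp_id]
    congr 1
  let Q₀ := (resFunctor R).obj ((DRing.restrictCx φ).obj P)
  let q : Q₀ ⟶ (DRing.restrictCx φ).obj P := (resAug R).app _
  haveI : QuasiIso q := resAug_quasiIso _
  have hQ₀ : IsKFlatCx R Q₀ := res_isKFlat _
  haveI := quasiIso_extCx_resolution_torIndep (R' := R') htor hP hQ₀ q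
  let t : (DTen.extCx ρ).obj Q₀ ⟶ Y :=
    ((ModuleCat.extendScalars ρ).mapHomologicalComplex up).map q ≫ (resExtCxIso P).hom
  have ht : adjunct ρ t = q ≫ v₀ := by
    ext k : 1
    refine ModuleCat.hom_ext (LinearMap.ext fun x => ?_)
    letI : Module R (P.X k) := Module.compHom (P.X k) φ
    haveI : IsScalarTower R A (P.X k) := IsScalarTower.of_algebraMap_smul fun _ _ => rfl
    exact congrArg (extendEquiv A' (P.X k)).symm
      (Algebra.IsPushout.cancelBaseChange_symm_tmul R R' A A' (P.X k) 1 (q.f k x))
      |>.trans (by simp; rfl)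
  have hU : IsUnivArrow (DRing.restrictD ρ) (DerivedCategory.Q.map v₀ ≫ (DTen.resFactors ρ).inv.app Y) := by
    haveI : QuasiIso t := inferInstanceAs
      (QuasiIso (((ModuleCat.extendScalars ρ).mapHomologicalComplex up).map q ≫ (resExtCxIso P).hom))
    haveI : IsIso (DerivedCategory.Q.map t) := (DerivedCategory.isIso_Q_map_iff_quasiIso _ _).2 inferInstance
    haveI : IsIso (DerivedCategory.Q.map q) := (DerivedCategory.isIso_Q_map_iff_quasiIso _ _).2 inferInstance
    have h1 := (isUnivArrow_baseγ ρ Q₀ hQ₀).comp_right (DerivedCategory.Q.map t)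
    rw [baseγ_comp, ht] at h1
    have h2 := h1.comp_left (inv (DerivedCategory.Q.map q))
    refine cast (congrArg (IsUnivArrow (DRing.restrictD ρ)) ?_) h2
    exact (congrArg (fun z => inv (DerivedCategory.Q.map q) ≫ z ≫ (DTen.resFactors ρ).inv.app Y)
      (DerivedCategory.Q.map_comp q v₀)).trans
        ((congrArg (inv (DerivedCategory.Q.map q) ≫ ·) (Category.assoc _ _ _)).trans (IsIso.inv_hom_id_assoc _ _))
  haveI := hi
  refine IsUnivArrow.comp_left ?_ _
  rw [← Category.assoc]
  refine IsUnivArrow.comp_right ?_ _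
  have key : (DRing.restrictD φ).map ((DTen.baseγ α).app P) ≫
      (TrivBC.resComm h).hom.app (DerivedCategory.Q.obj ((DTen.extCx α).obj P)) =
      (DTen.resFactors φ).hom.app P ≫ (DerivedCategory.Q.map v₀ ≫ (DTen.resFactors ρ).inv.app Y) ≫
        (DRing.restrictD ρ).map ((DTen.resFactors φ').inv.app ((DTen.extCx α).obj P)) := by
    rw [resComm_app_Q]
    simp only [DTen.baseγ, Category.assoc]
    have hnat' := (DTen.resFactors φ).hom.naturality ((DTen.unitCx α).app P)
    dsimp at hnat'
    refine (map_comp_inv_hom (DRing.restrictD φ) _ _ _ (Iso.inv_hom_id_app (DTen.resFactors α) _) _).trans ?_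
    refine ((reassoc_of% hnat') _).trans ?_
    exact congrArg ((DTen.resFactors φ).hom.app P ≫ ·) ((reassoc_of% hv) _)
  rw [key]
  refine @IsUnivArrow.comp_left _ _ _ _ _ _ _ _ _ (@IsUnivArrow.comp_right _ _ _ _ _ _ _ _ _ hU _ ?_) _ ?_
  · exact ((DTen.resFactors φ').app ((DTen.extCx α).obj P)).isIso_inv
  · exact ((DTen.resFactors φ).app P).isIso_hom

end Groth.DAlg
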