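import Mathlib.Algebra.Homology.CochainComplexOpposite
import Mathlib.Algebra.Homology.Embedding.RestrictionHomology
import Mathlib.Algebra.Homology.QuasiIso
import Mathlib.CategoryTheory.Abelian.Refinements
import Mathlib.CategoryTheory.ObjectProperty.ClosedUnderIsomorphisms

/-!
# Replacing complexes by complexes with terms in a class of objects
-/

set_option autoImplicit false
set_option backward.isDefEq.respectTransparency.types false

universe v u

open CategoryTheory CategoryTheory.Limits HomologicalComplex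

namespace Groth.DAlg.ClassLeftRes

variable {C : Type u} [Category.{v} C] [Abelian C] (K' : ObjectProperty C) (P : ChainComplex C ℤ)

/-- One degree of the replacement. -/
structure Stage (i : ℤ) where
  /-- the term -/
  Y : C
  /-- its cycles -/
  Z : C
  /-- the inclusion of the cycles -/
  ι : Z ⟶ Y
  /-- the map to the complex -/
  φ : Y ⟶ P.X i
  /-- the map on cycles -/
  ψ : Z ⟶ P.cycles i
  comm : ψ ≫ P.iCycles i = ι ≫ φ
  mem : K' Z
  mono : Mono ι
  epi : Epi (ψ ≫ P.homologyπ i)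

/-- The compatibility of two consecutive degrees. -/
def IsNext {i j : ℤ} (s : Stage K' P i) (t : Stage K' P j) (δ : t.Y ⟶ s.Y) : Prop :=
  ∃ (δ' : t.Y ⟶ s.Z), δ' ≫ s.ι = δ ∧ δ ≫ s.φ = t.φ ≫ P.d j i ∧
    (∃ w : t.ι ≫ δ = 0, (ShortComplex.mk t.ι δ w).Exact) ∧
    ∃ w : δ' ≫ (s.ψ ≫ P.homologyπ i) = 0, (ShortComplex.mk δ' (s.ψ ≫ P.homologyπ i) w).Exact

variable {K' P} (K'' : ObjectProperty C)
  (h1 : ∀ ⦃A A' : C⦄ (u : A ⟶ A'), K' A' → Epi u → ∃ (B : C) (v : B ⟶ A), K'' B ∧ Epi (v ≫ u))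
  (h2 : ∀ ⦃A B : C⦄ (u : A ⟶ B), K' A → K' B → Epi u → K' (kernel u))
  (h3 : ∀ ⦃B B' : C⦄, K'' B → K'' B' → K'' (B ⨯ B'))
  (hsub : K'' ≤ K') (hP : ∀ i, K' (P.homology i))

include h1 h2 h3 hsub hP in
/-- The construction in the next degree. -/
theorem exists_next {i : ℤ} (s : Stage K' P i) (j : ℤ) (hij : i + 1 = j) :
    ∃ t : Stage K' P j, K'' t.Y ∧ ∃ δ, IsNext K' P s t δ := by
  have := s.epi
  let u := s.ψ ≫ P.homologyπ i
  have hB : K' (kernel u) := h2 u s.mem (hP i) s.epi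
  have hji : (ComplexShape.down ℤ).prev i = j := by
    apply ComplexShape.prev_eq'
    exact hij
  have hjn : (ComplexShape.down ℤ).next j = i := by
    apply ComplexShape.next_eq'
    exact hij
  let f := P.toCycles j i
  have hfπ : f ≫ P.homologyπ i = 0 := P.toCycles_comp_homologyπ j i
  let a : pullback f s.ψ ⟶ kernel u :=
    kernel.lift u (pullback.snd f s.ψ) (by
      show pullback.snd f s.ψ ≫ s.ψ ≫ P.homologyπ i = 0
      rw [← pullback.condition_assoc, hfπ, comp_zero])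
  have ha : Epi a := by
    rw [epi_iff_surjective_up_to_refinements]
    intro T x
    have hex : (ShortComplex.mk f (P.homologyπ i) hfπ).Exact :=
      ShortComplex.exact_of_g_is_cokernel _ (P.homologyIsCokernel j i hji)
    obtain ⟨T', π, hπ, y, hy⟩ := hex.exact_up_to_refinements (x ≫ kernel.ι u ≫ s.ψ) (by
      simp only [Category.assoc]
      rw [show s.ψ ≫ P.homologyπ i = u from rfl, kernel.condition, comp_zero])
    refine ⟨T', π, hπ, pullback.lift y (π ≫ x ≫ kernel.ι u) (by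
      simpa only [Category.assoc] using hy.symm), ?_⟩
    rw [← cancel_mono (kernel.ι u)]
    simp only [a, Category.assoc, kernel.lift_ι, pullback.lift_snd]
  obtain ⟨B₁, v₁, hB₁, he₁⟩ := h1 (P.homologyπ j) (hP j) inferInstance
  obtain ⟨B₂, v₂, hB₂, he₂⟩ := h1 a hB ha
  let Y := B₁ ⨯ B₂
  let φ : Y ⟶ P.X j := prod.fst ≫ v₁ ≫ P.iCycles j + prod.snd ≫ v₂ ≫ pullback.fst f s.ψ
  let δ' : Y ⟶ s.Z := prod.snd ≫ v₂ ≫ pullback.snd f s.ψ
  let q : Y ⟶ kernel u := prod.snd ≫ v₂ ≫ a
  have hq : q ≫ kernel.ι u = δ' := by simp [q, δ', a]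
  have hqe : Epi q := by
    have : Epi ((prod.lift (0 : B₂ ⟶ B₁) (𝟙 B₂)) ≫ q) := by
      simp only [q, prod.lift_snd_assoc, Category.id_comp]
      exact he₂
    exact epi_of_epi (prod.lift (0 : B₂ ⟶ B₁) (𝟙 B₂)) q
  have hcomm : (δ' ≫ s.ι) ≫ s.φ = φ ≫ P.d j i := by
    simp only [φ, δ', Preadditive.add_comp, Category.assoc, iCycles_d, comp_zero, zero_add]
    rw [← s.comm, ← pullback.condition_assoc, P.toCycles_i]
  let ψ : kernel q ⟶ P.cycles j := P.liftCycles (kernel.ι q ≫ φ) i hjn (by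
    rw [Category.assoc, ← hcomm, ← hq, Category.assoc, Category.assoc, kernel.condition_assoc,
      zero_comp])
  refine ⟨⟨Y, kernel q, kernel.ι q, φ, ψ, P.liftCycles_i _ i hjn _, ?_, inferInstance, ?_⟩,
    h3 hB₁ hB₂, δ' ≫ s.ι, δ', rfl, hcomm, ?_, ?_⟩
  · exact h2 q (hsub _ (h3 hB₁ hB₂)) hB hqe
  · let l : B₁ ⟶ kernel q := kernel.lift q (prod.lift (𝟙 B₁) 0) (by
      rw [show q = prod.snd ≫ v₂ ≫ a from rfl]
      erw [prod.lift_snd_assoc]
      rw [zero_comp])
    have hl : l ≫ ψ = v₁ := by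
      rw [← cancel_mono (P.iCycles j), Category.assoc]
      simp [l, ψ, φ, prod.lift_fst_assoc, prod.lift_snd_assoc]
    have : Epi (l ≫ ψ ≫ P.homologyπ j) := by
      rw [← Category.assoc, hl]
      exact he₁
    exact epi_of_epi l _
  · have := s.mono
    refine ⟨?_, ?_⟩
    · show kernel.ι q ≫ δ' ≫ s.ι = 0
      rw [← hq]
      simp
    · let e : ShortComplex.mk (kernel.ι q) q (kernel.condition q) ⟶
          ShortComplex.mk (kernel.ι q) (δ' ≫ s.ι) (by rw [← hq]; simp) :=
        { τ₁ := 𝟙 _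
          τ₂ := 𝟙 _
          τ₃ := kernel.ι u ≫ s.ι
          comm₁₂ := (Category.id_comp _).trans (Category.comp_id _).symm
          comm₂₃ := by
            show 𝟙 Y ≫ δ' ≫ s.ι = q ≫ kernel.ι u ≫ s.ι
            rw [Category.id_comp, reassoc_of% hq] }
      have : Epi e.τ₁ := inferInstanceAs (Epi (𝟙 _))
      have : IsIso e.τ₂ := inferInstanceAs (IsIso (𝟙 _))
      have : Mono e.τ₃ := inferInstanceAs (Mono (kernel.ι u ≫ s.ι))
      exact (ShortComplex.exact_iff_of_epi_of_isIso_of_mono e).1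
        (ShortComplex.exact_of_f_is_kernel _ (kernelIsKernel q))
  · have w : δ' ≫ u = 0 := by rw [← hq, Category.assoc, kernel.condition, comp_zero]
    refine ⟨w, ?_⟩
    rw [ShortComplex.exact_iff_exact_up_to_refinements]
    intro T x hx
    obtain ⟨T', π, hπ, y, hy⟩ := surjective_up_to_refinements_of_epi q (kernel.lift u x hx)
    refine ⟨T', π, hπ, y, ?_⟩
    refine Eq.trans ?_ (congrArg (y ≫ ·) hq)
    exact ((congrArg (π ≫ ·) (kernel.lift_ι u x hx)).symm.trans (Category.assoc _ _ _).symm).trans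
      ((congrArg (· ≫ kernel.ι u) hy).trans (Category.assoc _ _ _))

variable {K''} (d : ℤ) (hd : ∀ i < d, IsZero (P.homology i))

include hP in
/-- The degrees below the bound. -/
noncomputable def zeroStage (i : ℤ) (h : i < d) : Stage K' P i where
  Y := P.homology i
  Z := P.homology i
  ι := 𝟙 _
  φ := 0
  ψ := 0
  comm := by simp
  mem := hP i
  mono := inferInstance
  epi := ⟨fun _ _ _ => (hd i h).eq_of_src _ _⟩

/-- The stages from the bound on. -/
noncomputable def seq : ∀ (k : ℕ) (i : ℤ), i = d - 1 + k → Stage K' P i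
  | 0, i, h => zeroStage hP d hd i (by omega)
  | k + 1, i, h => (exists_next K'' h1 h2 h3 hsub hP (seq k (i - 1) (by omega)) i (by omega)).choose

/-- The stage in every degree. -/
noncomputable def stage (i : ℤ) : Stage K' P i :=
  if h : i < d then zeroStage hP d hd i h else seq h1 h2 h3 hsub hP d hd (i - (d - 1)).toNat i (by omega)

lemma stage_of_lt (i : ℤ) (h : i < d) : stage h1 h2 h3 hsub hP d hd i = zeroStage hP d hd i h :=
  dif_pos h

lemma seq_congr {k k' : ℕ} (e : k = k') (i : ℤ) (h : i = d - 1 + k) (h' : i = d - 1 + k') :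
    seq h1 h2 h3 hsub hP d hd k i h = seq h1 h2 h3 hsub hP d hd k' i h' := by
  subst e; rfl

lemma stage_eq_seq (i : ℤ) (k : ℕ) (h : i = d - 1 + k) :
    stage h1 h2 h3 hsub hP d hd i = seq h1 h2 h3 hsub hP d hd k i h := by
  unfold stage
  by_cases hi : i < d
  · rw [dif_pos hi]
    obtain rfl : k = 0 := by omega
    rfl
  · rw [dif_neg hi]
    exact seq_congr h1 h2 h3 hsub hP d hd (by omega) i _ _

lemma mem_stage (i : ℤ) (h : d ≤ i) : K'' (stage h1 h2 h3 hsub hP d hd i).Y := by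
  obtain ⟨k, hk⟩ : ∃ k : ℕ, i = d - 1 + ((k + 1 : ℕ) : ℤ) := ⟨(i - d).toNat, by omega⟩
  rw [stage_eq_seq h1 h2 h3 hsub hP d hd i (k + 1) hk]
  exact (exists_next K'' h1 h2 h3 hsub hP (seq h1 h2 h3 hsub hP d hd k (i - 1) (by omega)) i (by omega)).choose_spec.1

lemma exists_isNext (i j : ℤ) (h : i + 1 = j) : ∃ δ, IsNext K' P (stage h1 h2 h3 hsub hP d hd i)
    (stage h1 h2 h3 hsub hP d hd j) δ := by
  obtain rfl : i = j - 1 := by omega
  by_cases hj : j < d
  · rw [stage_of_lt h1 h2 h3 hsub hP d hd j hj, stage_of_lt h1 h2 h3 hsub hP d hd (j - 1) (by omega)]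
    exact ⟨0, 0, zero_comp, by simp [zeroStage],
      ⟨(hd j hj).eq_of_src _ _, ShortComplex.exact_of_isZero_X₂ _ (hd j hj)⟩,
      ⟨zero_comp, ShortComplex.exact_of_isZero_X₂ _ (hd (j - 1) (by omega))⟩⟩
  · obtain ⟨k, hk⟩ : ∃ k : ℕ, j = d - 1 + ((k + 1 : ℕ) : ℤ) := ⟨(j - d).toNat, by omega⟩
    rw [stage_eq_seq h1 h2 h3 hsub hP d hd j (k + 1) hk,
      stage_eq_seq h1 h2 h3 hsub hP d hd (j - 1) k (by omega)]
    exact (exists_next K'' h1 h2 h3 hsub hP (seq h1 h2 h3 hsub hP d hd k (j - 1) (by omega)) j (by omega)).choose_spec.2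

include h1 h2 h3 hsub hP hd in
/-- A chain complex with homology in `K'`, bounded below, receives a quasi-isomorphism from a
complex with terms in `K''`. -/
theorem exists_chain :
    ∃ (Q : ChainComplex C ℤ) (u : Q ⟶ P),
      (∀ i, d ≤ i → K'' (Q.X i)) ∧ (∀ i < d, IsZero (Q.X i)) ∧ QuasiIso u := by
  let S := stage h1 h2 h3 hsub hP d hd
  choose δ δ' hδ' hcomm hker hex using fun i : ℤ => exists_isNext h1 h2 h3 hsub hP d hd i (i + 1) rfl
  have hsq : ∀ i, δ (i + 1) ≫ δ i = 0 := fun i => by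
    obtain ⟨w, -⟩ := hker i
    rw [← hδ' (i + 1), Category.assoc, w, comp_zero]
  let Q : ChainComplex C ℤ := ChainComplex.of (fun i => (S i).Y) δ hsq
  let u : Q ⟶ P :=
    { f := fun i => (S i).φ
      comm' := fun i j hij => by
        obtain rfl : j + 1 = i := hij
        show (S (j + 1)).φ ≫ P.d (j + 1) j = Q.d (j + 1) j ≫ (S j).φ
        rw [show Q.d (j + 1) j = δ j from ChainComplex.of_d (fun i => (S i).Y) δ j]
        exact (hcomm j).symm }
  refine ⟨Q, u, fun i hi => mem_stage h1 h2 h3 hsub hP d hd i hi, fun i hi => ?_, ⟨fun i => ?_⟩⟩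
  · show IsZero (stage h1 h2 h3 hsub hP d hd i).Y
    rw [stage_of_lt h1 h2 h3 hsub hP d hd i hi]
    exact hd i hi
  · obtain ⟨l, hl⟩ : ∃ l, i = l + 1 := ⟨i - 1, by omega⟩
    subst hl
    have hn : (ComplexShape.down ℤ).next (l + 1) = l := by
      apply ComplexShape.next_eq'
      rfl
    have hp : (ComplexShape.down ℤ).prev (l + 1) = l + 1 + 1 := by
      apply ComplexShape.prev_eq'
      rfl
    have hQd : Q.d (l + 1) l = δ l := ChainComplex.of_d (fun i => (S i).Y) δ l
    have hQd' : Q.d (l + 1 + 1) (l + 1) = δ (l + 1) := ChainComplex.of_d (fun i => (S i).Y) δ (l + 1)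
    obtain ⟨w, hw⟩ := hker l
    have hz : (S (l + 1)).ι ≫ Q.d (l + 1) l = 0 := by rw [hQd]; exact w
    let z := Q.liftCycles (S (l + 1)).ι l hn hz
    have hzu : z ≫ cyclesMap u (l + 1) = (S (l + 1)).ψ := by
      rw [← cancel_mono (P.iCycles (l + 1)), Category.assoc, cyclesMap_i,
        Q.liftCycles_i_assoc]
      exact (S (l + 1)).comm.symm
    have hze : Epi z := by
      rw [epi_iff_surjective_up_to_refinements]
      intro T x
      obtain ⟨T', π, hπ, y, hy⟩ := hw.exact_up_to_refinements (x ≫ Q.iCycles (l + 1))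
        (by
          show (x ≫ Q.iCycles (l + 1)) ≫ δ l = 0
          rw [← hQd, Category.assoc, iCycles_d, comp_zero])
      refine ⟨T', π, hπ, y, ?_⟩
      rw [← cancel_mono (Q.iCycles (l + 1)), Category.assoc, Category.assoc, Q.liftCycles_i]
      exact hy
    have hkey : z ≫ Q.homologyπ (l + 1) ≫ homologyMap u (l + 1) =
        (S (l + 1)).ψ ≫ P.homologyπ (l + 1) := by
      rw [homologyπ_naturality, reassoc_of% hzu]
    rw [quasiIsoAt_iff_isIso_homologyMap]
    have : Epi (homologyMap u (l + 1)) := by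
      have : Epi ((z ≫ Q.homologyπ (l + 1)) ≫ homologyMap u (l + 1)) := by
        rw [Category.assoc, hkey]
        exact (S (l + 1)).epi
      exact epi_of_epi (z ≫ Q.homologyπ (l + 1)) _
    have : Mono (homologyMap u (l + 1)) := by
      refine Preadditive.mono_of_cancel_zero _ fun {T} x hx => ?_
      obtain ⟨T₁, π₁, hπ₁, c, hc⟩ := surjective_up_to_refinements_of_epi (Q.homologyπ (l + 1)) x
      obtain ⟨T₂, π₂, hπ₂, b, hb⟩ := surjective_up_to_refinements_of_epi z c
      obtain ⟨w', hw'⟩ := hex (l + 1)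
      have hb0 : b ≫ ((S (l + 1)).ψ ≫ P.homologyπ (l + 1)) = 0 := by
        rw [← hkey, ← Category.assoc, ← hb, Category.assoc, ← Category.assoc c, ← hc, Category.assoc,
          hx, comp_zero, comp_zero]
      obtain ⟨T₃, π₃, hπ₃, y, hy⟩ := hw'.exact_up_to_refinements b hb0
      have hy' : π₃ ≫ π₂ ≫ c = y ≫ Q.toCycles (l + 1 + 1) (l + 1) := by
        rw [← cancel_mono (Q.iCycles (l + 1))]
        simp only [Category.assoc, toCycles_i]
        rw [hQd', ← hδ' (l + 1), reassoc_of% hb, Q.liftCycles_i, reassoc_of% hy]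
      have : π₃ ≫ π₂ ≫ π₁ ≫ x = 0 := by
        rw [hc, reassoc_of% hy', toCycles_comp_homologyπ, comp_zero]
      rw [← cancel_epi π₁, ← cancel_epi π₂, ← cancel_epi π₃]
      simpa using this
    exact isIso_of_mono_of_epi _

end Groth.DAlg.ClassLeftRes
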