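import Groth.Agent.DAlg.ClassLeftRes

/-!
# Cochain complexes with cohomology in a class as complexes with terms in a class
-/

set_option autoImplicit false
set_option backward.isDefEq.respectTransparency.types false

universe v u

open CategoryTheory CategoryTheory.Limits HomologicalComplex

namespace Groth.DAlg.ClassLeftRes

variable {C : Type u} [Category.{v} C] [Abelian C]

/-- Restriction along negation preserves quasi-isomorphisms. -/
theorem quasiIso_restrictionMap_down {K L : ChainComplex C ℤ} (φ : K ⟶ L) [QuasiIso φ] :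
    QuasiIso (restrictionMap φ ComplexShape.embeddingUpIntDownInt) := by
  constructor
  intro j
  rw [quasiIsoAt_iff' _ (j - 1) j (j + 1) (by simp) (by simp)]
  have h : QuasiIsoAt φ (-j) := inferInstance
  rw [quasiIsoAt_iff' _ (-(j - 1)) (-j) (-(j + 1))
    (by apply ComplexShape.prev_eq'; show -j + 1 = -(j - 1); omega)
    (by apply ComplexShape.next_eq'; show -(j + 1) + 1 = -j; omega)] at h
  exact h

/-- A cochain complex with homology in `K'`, bounded above, receives a quasi-isomorphism from a
complex with terms in `K''`. -/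
theorem exists_cochain (K' K'' : ObjectProperty C) [K'.IsClosedUnderIsomorphisms]
    (h1 : ∀ ⦃A A' : C⦄ (u : A ⟶ A'), K' A' → Epi u → ∃ (B : C) (v : B ⟶ A), K'' B ∧ Epi (v ≫ u))
    (h2 : ∀ ⦃A B : C⦄ (u : A ⟶ B), K' A → K' B → Epi u → K' (kernel u))
    (h3 : ∀ ⦃B B' : C⦄, K'' B → K'' B' → K'' (B ⨯ B')) (hsub : K'' ≤ K')
    (P : CochainComplex C ℤ) (hP : ∀ i, K' (P.homology i)) (n : ℤ)
    (hn : ∀ i, n < i → IsZero (P.homology i)) :
    ∃ (Q : CochainComplex C ℤ) (u : Q ⟶ P),
      (∀ i, i ≤ n → K'' (Q.X i)) ∧ (∀ i, n < i → IsZero (Q.X i)) ∧ QuasiIso u := by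
  let e := ComplexShape.embeddingDownIntUpInt
  let P₀ : ChainComplex C ℤ := P.restriction e
  have iso : ∀ i, P₀.homology i ≅ P.homology (-i) := fun i =>
    P.restrictionHomologyIso e (i + 1) i (i - 1)
      (i' := -(i + 1)) (j' := -i) (k' := -(i - 1)) (by simp) (by simp) rfl rfl rfl
      (by apply ComplexShape.prev_eq'; show -(i + 1) + 1 = -i; omega)
      (by apply ComplexShape.next_eq'; show -i + 1 = -(i - 1); omega)
  obtain ⟨Q₀, u₀, hQ, hQz, hu⟩ := exists_chain h1 h2 h3 hsub (P := P₀)
    (fun i => K'.prop_of_iso (iso i).symm (hP (-i))) (-n)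
    fun i hi => (hn (-i) (by omega)).of_iso (iso i)
  refine ⟨Q₀.restriction ComplexShape.embeddingUpIntDownInt,
    restrictionMap u₀ ComplexShape.embeddingUpIntDownInt ≫
      ((ChainComplex.cochainComplexEquivalence C).counitIso.app P).hom,
    fun i hi => hQ (-i) (by omega), fun i hi => hQz (-i) (by omega), ?_⟩
  have := quasiIso_restrictionMap_down u₀
  let c : P₀.restriction ComplexShape.embeddingUpIntDownInt ≅ P :=
    (ChainComplex.cochainComplexEquivalence C).counitIso.app P
  show QuasiIso (restrictionMap u₀ ComplexShape.embeddingUpIntDownInt ≫ c.hom)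
  infer_instance

end Groth.DAlg.ClassLeftRes
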