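import Groth.Agent.DAlg.CompactPerfect
import Groth.Agent.Misc1.Telescope2

/-!
Maps from a countably compact object into a homotopy colimit.
-/

universe u

open CategoryTheory CategoryTheory.Limits CategoryTheory.Pretriangulated

attribute [local instance] HasDerivedCategory.standard
set_option linter.style.haveILetI false

namespace Groth.DAlg.CompactPerf

variable {R : Type u} [CommRing R]

/-- The finiteness of maps into countable coproducts. -/
lemma mem_fin_nat {K : Dual.D R}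
    (hK : ∀ (E : ℕ → Dual.D R) [HasCoproduct fun i : ULift.{u + 1} ℕ => E i.down],
      Function.Bijective (CohDer.homSumToHomCoprod K (fun i : ULift.{u + 1} ℕ => E i.down)))
    (E : ℕ → Dual.D R) [HasCoproduct E] (z : K ⟶ ∐ E) : z ∈ fin E K := by
  classical
  haveI : HasCoproduct fun i : ULift.{u + 1} ℕ => E i.down :=
    ⟨⟨⟨Cofan.mk (∐ E) fun i => Sigma.ι E i.down, Cofan.IsColimit.mk _
      (fun s => Sigma.desc fun n => s.inj ⟨n⟩) (fun s i => (Sigma.ι_desc (f := E) (fun n => s.inj ⟨n⟩) i.down : _))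
      (fun s m hm => Sigma.hom_ext (f := E) _ _ fun n => (hm ⟨n⟩).trans (Sigma.ι_desc (f := E) (fun n => s.inj ⟨n⟩) n).symm)⟩⟩⟩
  let φ : (∐ fun i : ULift.{u + 1} ℕ => E i.down) ⟶ ∐ E := Sigma.desc fun i => Sigma.ι E i.down
  obtain ⟨x, hx⟩ := (hK E).2 (z ≫ Sigma.desc fun n => Sigma.ι (fun i : ULift.{u + 1} ℕ => E i.down) ⟨n⟩)
  have hz : z = CohDer.homSumToHomCoprod K _ x ≫ φ := by
    rw [hx, Category.assoc, show Sigma.desc (fun n => Sigma.ι (fun i : ULift.{u + 1} ℕ => E i.down) ⟨n⟩) ≫ φ = 𝟙 _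
      from Sigma.hom_ext _ _ fun n => by simp [φ], Category.comp_id]
  rw [hz]
  clear hx hz
  induction x using DirectSum.induction_on with
  | zero => rw [map_zero, zero_comp]; exact zero_mem _
  | of i g =>
    rw [CohDer.homSumToHomCoprod]
    have h1 : DirectSum.toAddMonoid (fun i => Preadditive.rightComp K (Sigma.ι (fun i : ULift.{u + 1} ℕ => E i.down) i))
        (DirectSum.of (fun i : ULift.{u + 1} ℕ => K ⟶ E i.down) i g) = g ≫ Sigma.ι (fun i : ULift.{u + 1} ℕ => E i.down) i := by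
      convert DirectSum.toAddMonoid_of (β := fun i : ULift.{u + 1} ℕ => K ⟶ E i.down) _ i g
      rfl
    convert! mem_fin E i.down g using 1
    refine (congrArg (· ≫ φ) h1).trans ?_
    simp [φ]
  | add x y hx hy => rw [map_add, Preadditive.add_comp]; exact add_mem hx hy

variable {L : ℕ → Dual.D R} (f : ∀ n, L n ⟶ L (n + 1))

/-- A telescope cone: maps out of the terms compatible with the transition maps up to `N`. -/
theorem exists_factor_of_hocolim [HasCoproduct L] {K : Dual.D R}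
    (hK : ∀ (E : ℕ → Dual.D R) [HasCoproduct fun i : ULift.{u + 1} ℕ => E i.down],
      Function.Bijective (CohDer.homSumToHomCoprod K (fun i : ULift.{u + 1} ℕ => E i.down)))
    {T : Dual.D R} (i : ∀ n, L n ⟶ T) (hT : DerLim.IsHocolim L f T i)
    (t : ∀ n m, n ≤ m → (L n ⟶ L m)) (ht : ∀ n m (h : n + 1 ≤ m), f n ≫ t (n + 1) m h = t n m (by omega))
    (ht0 : ∀ n, t n n le_rfl = 𝟙 _) (hti : ∀ n m h, t n m h ≫ i m = i n) :
    (∀ x : K ⟶ T, ∃ (n : ℕ) (y : K ⟶ L n), y ≫ i n = x) ∧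
      (∀ (n : ℕ) (y : K ⟶ L n), y ≫ i n = 0 → ∃ (m : ℕ) (h : n ≤ m), y ≫ t n m h = 0) := by
  classical
  obtain ⟨c, hc⟩ := hT
  set u₀ := 𝟙 (∐ L) - DerLim.shiftMap L f with hu₀
  let σ : ∀ N, (∐ L) ⟶ L N := fun N => Sigma.desc fun m => if h : m ≤ N then t m N h else 0
  have hσ : ∀ N m (h : m ≤ N), Sigma.ι L m ≫ σ N = t m N h := fun N m h => by simp [σ, h]
  have hσu : ∀ N m, m < N → Sigma.ι L m ≫ u₀ ≫ σ N = 0 := fun N m h => by
    simp only [hu₀, Preadditive.sub_comp, Category.id_comp, Preadditive.comp_sub, DerLim.shiftMap,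
      Sigma.ι_desc_assoc, Category.assoc]
    rw [hσ N m h.le, hσ N (m + 1) h, ht, sub_self]
  have key : ∀ z : K ⟶ (∐ L)⟦(1 : ℤ)⟧, z ≫ u₀⟦(1 : ℤ)⟧' = 0 → z = 0 := fun z hz => by
    haveI : PreservesColimit (Discrete.functor L) (shiftFunctor (Dual.D R) (1 : ℤ)) := inferInstance
    haveI : HasCoproduct fun n => (L n)⟦(1 : ℤ)⟧ :=
      ⟨⟨⟨_, isColimitCofanMkObjOfIsColimit (shiftFunctor (Dual.D R) (1 : ℤ)) _ _ (coproductIsCoproduct L)⟩⟩⟩
    let ψ : (∐ fun n => (L n)⟦(1 : ℤ)⟧) ≅ (∐ L)⟦(1 : ℤ)⟧ := asIso (sigmaComparison (shiftFunctor (Dual.D R) (1 : ℤ)) L)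
    obtain ⟨S, hS⟩ := exists_proj_eq _ (mem_fin_nat hK _ (z ≫ ψ.inv))
    have hw : ∀ n, z ≫ (π L n)⟦(1 : ℤ)⟧' = 0 := by
      have hr : ∀ n, z ≫ (u₀ ≫ π L n)⟦(1 : ℤ)⟧' = 0 := fun n => by
        rw [Functor.map_comp, ← Category.assoc, hz, zero_comp]
      have h0 : u₀ ≫ π L 0 = π L 0 := Sigma.hom_ext _ _ fun m => by
        simp only [hu₀, Preadditive.sub_comp, Category.id_comp, Preadditive.comp_sub, DerLim.shiftMap,
          Sigma.ι_desc_assoc, Category.assoc]
        rw [ι_π_ne L (Nat.succ_ne_zero m), comp_zero, sub_zero]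
      have h1 : ∀ n, u₀ ≫ π L (n + 1) = π L (n + 1) - π L n ≫ f n := fun n => Sigma.hom_ext _ _ fun m => by
        simp only [hu₀, Preadditive.sub_comp, Category.id_comp, Preadditive.comp_sub, DerLim.shiftMap,
          Sigma.ι_desc_assoc, Category.assoc]
        by_cases hm : m = n
        · subst hm
          rw [ι_π_self, ι_π_self_assoc, Category.comp_id]
        · rw [ι_π_ne L (fun h => hm (Nat.succ_injective h)), ι_π_ne_assoc L hm, zero_comp, comp_zero]
      intro n
      induction n with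
      | zero => rw [← h0]; exact hr 0
      | succ n ih =>
        have := hr (n + 1)
        rw [h1, Functor.map_sub, Preadditive.comp_sub, Functor.map_comp, ← Category.assoc, ih, zero_comp,
          sub_zero] at this
        exact this
    have h2 : ∀ n, ψ.hom ≫ (π L n)⟦(1 : ℤ)⟧' = π (fun n => (L n)⟦(1 : ℤ)⟧) n := fun n => Sigma.hom_ext _ _ fun m => by
      show Sigma.ι (fun n => (L n)⟦(1 : ℤ)⟧) m ≫ sigmaComparison _ L ≫ _ = _
      rw [ι_comp_sigmaComparison_assoc, ← Functor.map_comp]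
      by_cases hm : m = n
      · subst hm
        rw [ι_π_self, ι_π_self]
        exact CategoryTheory.Functor.map_id _ _
      · rw [ι_π_ne _ hm, ι_π_ne _ hm, Functor.map_zero]
    have h3 : z ≫ ψ.inv = 0 := by
      rw [← hS S Finset.Subset.rfl, proj, Preadditive.comp_sum]
      refine Finset.sum_eq_zero fun n _ => ?_
      rw [← h2]
      simp only [Category.assoc, Iso.inv_hom_id_assoc]
      rw [← Category.assoc z, hw, zero_comp]
    simpa using congrArg (· ≫ ψ.hom) h3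
  refine ⟨fun x => ?_, fun n y hy => ?_⟩
  · have hxc : x ≫ c = 0 := key _ (by
      rw [Category.assoc]
      exact (congrArg (x ≫ ·) (comp_distTriang_mor_zero₃₁ _ hc)).trans comp_zero)
    obtain ⟨y', hy⟩ := Triangle.coyoneda_exact₃ _ hc x hxc
    let y : K ⟶ ∐ L := y'
    replace hy : x = y ≫ Sigma.desc i := hy
    obtain ⟨S, hS⟩ := exists_proj_eq _ (mem_fin_nat hK L y)
    refine ⟨S.sup id, ∑ m ∈ S.attach, y ≫ π L m ≫ t m _ (Finset.le_sup (f := id) m.2), ?_⟩
    rw [hy, Preadditive.sum_comp]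
    conv_rhs => rw [← hS S Finset.Subset.rfl, proj, Preadditive.comp_sum, Preadditive.sum_comp, ← Finset.sum_attach]
    refine Finset.sum_congr rfl fun m _ => ?_
    simp [hti]
  · obtain ⟨w', hw⟩ := Triangle.coyoneda_exact₂ _ hc (y ≫ Sigma.ι L n) (by
      show (y ≫ Sigma.ι L n) ≫ Sigma.desc i = 0
      rw [Category.assoc, Sigma.ι_desc, hy])
    let w : K ⟶ ∐ L := w'
    replace hw : y ≫ Sigma.ι L n = w ≫ u₀ := hw
    obtain ⟨S, hS⟩ := exists_proj_eq _ (mem_fin_nat hK L w)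
    let N := max n (S.sup id + 1)
    refine ⟨N, le_max_left _ _, ?_⟩
    have h1 := congrArg (· ≫ σ N) hw
    simp only [Category.assoc, hσ N n (le_max_left _ _)] at h1
    refine h1.trans ?_
    show w ≫ u₀ ≫ σ N = 0
    rw [← hS S Finset.Subset.rfl, proj, Preadditive.comp_sum, Preadditive.sum_comp]
    refine Finset.sum_eq_zero fun m hm => ?_
    rw [Category.assoc, Category.assoc, hσu N m (lt_of_lt_of_le (Nat.lt_succ_of_le (Finset.le_sup (f := id) hm))
      (le_max_right _ _)), comp_zero, comp_zero]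

end Groth.DAlg.CompactPerf
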