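import Groth.Agent.DAlg.FlatAmp
import Groth.Agent.DAlg.Fibre
import Groth.Agent.Calg3.PcHom
import Mathlib.CategoryTheory.Triangulated.TStructure.TruncLTGE

/-!
Projective amplitude via the vanishing of `Hom(K, N[i])`, and splitting of truncations.
-/

universe u

open CategoryTheory CategoryTheory.Limits CategoryTheory.Pretriangulated HomologicalComplex

attribute [local instance] HasDerivedCategory.standard
set_option linter.style.haveILetI false

namespace Groth.DAlg

open FlatCxBase Calg3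

variable {R : Type u} [CommRing R]

/-- `K` is isomorphic to a complex of projectives in degrees `[a, b]`. -/
def ProjAmp (a b : ℤ) (K : Dual.D R) : Prop :=
  ∃ P : DRing.Cx R, DRing.VanishesOutside P a b ∧ (∀ i : ℤ, Module.Projective R (P.X i)) ∧
    Nonempty (DRing.toD P ≅ K)

lemma ProjAmp.of_iso {a b : ℤ} {K L : Dual.D R} (h : ProjAmp a b K) (e : K ≅ L) : ProjAmp a b L := by
  obtain ⟨P, hP, hp, ⟨e'⟩⟩ := h
  exact ⟨P, hP, hp, ⟨e' ≪≫ e⟩⟩

section Criterion

variable {P : DRing.Cx R} {K : Dual.D R} (e : DRing.toD P ≅ K) {p q : ℤ} (hpq : p + q = 0)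

/-- A cocycle with zero class is a coboundary. -/
lemma exists_of_classMap_eq_zero [P.IsKProjective] {M : Type u} [AddCommGroup M] [Module R M] (φ : Zc P M q)
    (h : classMap e hpq φ = 0) : ∃ ψ : P.X (q + 1) →ₗ[R] M, φ.1 = predif P M q (q + 1) ψ := by
  have h' : DerivedCategory.Q.map (cocycleMap P φ) = 0 := by
    have h2 : e.inv ≫ DerivedCategory.Q.map (cocycleMap P φ) ≫ (Calg3.singleShift hpq _).hom = 0 := h
    exact (cancel_mono _).1 (((cancel_epi e.inv).1 (h2.trans comp_zero.symm)).trans zero_comp.symm)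
  have h'' : (HomotopyCategory.quotient _ _).map (cocycleMap P φ) = 0 := by
    apply (CochainComplex.IsKProjective.Qh_map_bijective P _).injective
    have hn := (DerivedCategory.quotientCompQhIso (ModuleCat.{u} R)).hom.naturality (cocycleMap P φ)
    rw [Functor.comp_map, h', comp_zero] at hn
    rw [Functor.map_zero]
    exact (cancel_mono ((DerivedCategory.quotientCompQhIso (ModuleCat.{u} R)).hom.app _)).1
      (hn.trans zero_comp.symm)
  obtain ⟨H⟩ := (HomotopyCategory.quotient_map_eq_zero_iff _).1 h''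
  let sx := singleObjXSelf (ComplexShape.up ℤ) q (ModuleCat.of R M)
  refine ⟨(H.hom (q + 1) q ≫ sx.hom).hom, ?_⟩
  have hc := H.comm q
  rw [dNext_eq _ (show (ComplexShape.up ℤ).Rel q (q + 1) from rfl),
    prevD_eq _ (show (ComplexShape.up ℤ).Rel (q - 1) q by simp), HomologicalComplex.zero_f, add_zero,
    cocycleMap_f] at hc
  have hd : ((single (ModuleCat.{u} R) (ComplexShape.up ℤ) q).obj (ModuleCat.of R M)).d (q - 1) q = 0 := by
    simp
  rw [hd, comp_zero, add_zero] at hc
  have h3 : mh P φ.1 = P.d q (q + 1) ≫ H.hom (q + 1) q ≫ sx.hom := by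
    rw [← Category.assoc, ← hc, Category.assoc, Iso.inv_hom_id, Category.comp_id]
  exact congrArg ModuleCat.Hom.hom h3

include e hpq in
/-- Vanishing of `Hom(K, N[-q])` for all `N` splits the differential out of degree `q`. -/
lemma exists_retraction_of_subsingleton [P.IsKProjective]
    (h : ∀ (N : Type u) [AddCommGroup N] [Module R N], Subsingleton (K ⟶ (Dual.inD R N)⟦p⟧)) :
    ∃ r : P.X (q + 1) →ₗ[R] Coker P (q - 1) q, r ∘ₗ dBar P (q - 1) q (q + 1) = LinearMap.id := by
  have hφ : cokerπ P (q - 1) q ∈ Zc P (Coker P (q - 1) q) q :=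
    LinearMap.ext fun x => (Submodule.Quotient.mk_eq_zero _).2 ⟨x, rfl⟩
  obtain ⟨ψ, hψ⟩ := exists_of_classMap_eq_zero e hpq ⟨_, hφ⟩ ((h _).elim _ _)
  refine ⟨ψ, Submodule.linearMap_qext _ ?_⟩
  rw [LinearMap.comp_assoc, dBar_comp, LinearMap.id_comp]
  exact hψ.symm

include e in
lemma subsingleton_HD_of_retraction {q : ℤ}
    (h : ∃ r : P.X (q + 1) →ₗ[R] Coker P (q - 1) q, r ∘ₗ dBar P (q - 1) q (q + 1) = LinearMap.id) :
    Subsingleton (Dual.HD R K q) := by
  obtain ⟨r, hr⟩ := h
  have := subsingleton_HD_toD (E := P) (i := q) ((isZero_homology_iff (cochain_prev q) (cochain_next q)).2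
    fun x hx => (Submodule.Quotient.mk_eq_zero _).1 (by
      have h1 := LinearMap.congr_fun hr (cokerπ P (q - 1) q x)
      rw [LinearMap.comp_apply, show dBar P (q - 1) q (q + 1) (cokerπ P (q - 1) q x) = 0 from
        (LinearMap.congr_fun (dBar_comp P (q - 1) q (q + 1)) x).trans hx, map_zero] at h1
      exact h1.symm))
  exact (HDCongr e q).symm.toEquiv.subsingleton

lemma projective_coker_of_retraction {q : ℤ} [Module.Projective R (P.X (q + 1))]
    (r : P.X (q + 1) →ₗ[R] Coker P (q - 1) q) (hr : r ∘ₗ dBar P (q - 1) q (q + 1) = LinearMap.id) :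
    Module.Projective R (Coker P q (q + 1)) := by
  let s : Coker P q (q + 1) →ₗ[R] P.X (q + 1) := (LinearMap.range (P.d q (q + 1)).hom).liftQ
    (LinearMap.id - dBar P (q - 1) q (q + 1) ∘ₗ r) (by
      rintro _ ⟨x, rfl⟩
      have h2 : dBar P (q - 1) q (q + 1) (cokerπ P (q - 1) q x) = P.d q (q + 1) x :=
        LinearMap.congr_fun (dBar_comp P (q - 1) q (q + 1)) x
      rw [LinearMap.mem_ker, LinearMap.sub_apply, LinearMap.id_apply, LinearMap.comp_apply]
      show P.d q (q + 1) x - dBar P (q - 1) q (q + 1) (r (P.d q (q + 1) x)) = 0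
      rw [← h2, show r (dBar P (q - 1) q (q + 1) (cokerπ P (q - 1) q x)) = cokerπ P (q - 1) q x from
        LinearMap.congr_fun hr _, sub_self])
  refine Module.Projective.of_split s (cokerπ P q (q + 1)) (Submodule.linearMap_qext _ (LinearMap.ext fun y => ?_))
  show cokerπ P q (q + 1) (y - dBar P (q - 1) q (q + 1) (r y)) = cokerπ P q (q + 1) y
  obtain ⟨x, hx⟩ := Submodule.mkQ_surjective _ (r y)
  rw [map_sub, ← hx, show cokerπ P q (q + 1) (dBar P (q - 1) q (q + 1) (cokerπ P (q - 1) q x)) = 0 from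
    (congrArg _ (LinearMap.congr_fun (dBar_comp P (q - 1) q (q + 1)) x)).trans
      ((exact_cokerπ P q (q + 1)).apply_apply_eq_zero x), sub_zero]

end Criterion

/-- `Hom(K, N[i]) = 0` outside `[-b, -a]`. -/
theorem ProjAmp.subsingleton_hom {a b : ℤ} {K : Dual.D R} (h : ProjAmp a b K) (N : Type u) [AddCommGroup N]
    [Module R N] {i : ℤ} (hi : i < -b ∨ -a < i) : Subsingleton (K ⟶ (Dual.inD R N)⟦i⟧) := by
  obtain ⟨P, hP, hp, ⟨e⟩⟩ := h
  have := ModuleCat.subsingleton_of_isZero (hP (-i) (by omega))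
  refine subsingleton_of_forall_eq 0 fun f => ?_
  obtain ⟨φ, rfl⟩ := classMap_surjective e (add_neg_cancel i) (b := b) (fun j hj => hP j (Or.inr hj)) hp f
  rw [show φ = 0 from Subtype.ext (Subsingleton.elim _ _), map_zero]

/-- Maps from an object of projective amplitude `[a, b]` to objects with cohomology below `a` vanish. -/
theorem ProjAmp.subsingleton_hom_of_below {a b : ℤ} {L K : Dual.D R} (hL : ProjAmp a b L)
    (hK : ∀ i : ℤ, a ≤ i → Subsingleton (Dual.HD R K i)) : Subsingleton (L ⟶ K) := by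
  obtain ⟨P, hP, hp, ⟨e⟩⟩ := hL
  obtain ⟨E, hE, -, ⟨e'⟩⟩ := exists_free_rep R (K := K) (b := a - 1) fun i hi => hK i (by omega)
  refine subsingleton_of_forall_eq 0 fun f => ?_
  obtain ⟨g, hg⟩ := exists_map_of_projective (E := E) (b := b) (fun j hj => hP j (Or.inr hj)) hp
    (e.hom ≫ f ≫ e'.inv)
  have hg0 : g = 0 := by
    ext j : 1
    rcases lt_or_ge j a with hj | hj
    · exact (hP j (Or.inl hj)).eq_of_src _ _
    · exact (hE j (by omega)).eq_of_tgt _ _
  rw [hg0, Functor.map_zero] at hg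
  rw [← cancel_epi e.hom, ← cancel_mono e'.inv, comp_zero, zero_comp, Category.assoc]
  exact hg.symm

/-- The criterion of projective amplitude. -/
theorem projAmp_of_subsingleton {a b : ℤ} {K : Dual.D R}
    (hH : ∀ n : ℤ, (n < a - 1 ∨ b < n) → Subsingleton (Dual.HD R K n))
    (hExt : ∀ (N : Type u) [AddCommGroup N] [Module R N], Subsingleton (K ⟶ (Dual.inD R N)⟦-a + 1⟧)) :
    ProjAmp a b K := by
  obtain ⟨F, hF, hfree, ⟨e⟩⟩ := exists_free_rep R (K := K) (b := b) fun i hi => hH i (Or.inr hi)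
  have hproj : ∀ i, Module.Projective R (F.X i) := fun i => haveI := hfree i; inferInstance
  haveI := isKProjective_of_bounded hF hproj
  have hret := exists_retraction_of_subsingleton e (show (-a + 1) + (a - 1) = 0 by omega) hExt
  have hproj' : Module.Projective R (Coker F (a - 1) a) := by
    obtain ⟨r, hr⟩ := hret
    have := projective_coker_of_retraction r hr
    rwa [sub_add_cancel] at this
  have h0 := subsingleton_HD_of_retraction e hret
  obtain ⟨e'⟩ := nonempty_truncGE_iso (P := F) (a := a) fun i hi => by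
    refine isZero_homology_of_subsingleton ?_
    rcases eq_or_lt_of_le (show i ≤ a - 1 by omega) with rfl | hlt
    · exact (HDCongr e _).toEquiv.subsingleton
    · have := hH i (Or.inl hlt)
      exact (HDCongr e i).toEquiv.subsingleton
  let Φ : ObjectProperty (ModuleCat.{u} R) := fun X => Module.Projective R X
  haveI : Φ.IsClosedUnderIsomorphisms :=
    ⟨fun {X Y} e (hX : Module.Projective R X) => Module.Projective.of_equiv e.toLinearEquiv⟩
  exact ⟨F.truncGE a, vanishesOutside_truncGE F a hF, truncGE_X_of_prop Φ F a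
    (fun X hX => haveI := ModuleCat.subsingleton_of_isZero hX; show Module.Projective R X from inferInstance)
    (fun i _ => hproj i) hproj', ⟨e' ≪≫ e⟩⟩

/-- The four descriptions of projective amplitude. -/
theorem projAmp_tfae (K : Dual.D R) (a b : ℤ) :
    [ProjAmp a b K,
      ∀ (N : Type u) [AddCommGroup N] [Module R N] (i : ℤ), (i < -b ∨ -a < i) →
        Subsingleton (DRing.ExtD R K (Dual.inD R N) i),
      (∀ n : ℤ, b < n → Subsingleton (Dual.HD R K n)) ∧
        ∀ (N : Type u) [AddCommGroup N] [Module R N] (i : ℤ), -a < i → Subsingleton (DRing.ExtD R K (Dual.inD R N) i),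
      (∀ n : ℤ, (n < a - 1 ∨ b < n) → Subsingleton (Dual.HD R K n)) ∧
        ∀ (N : Type u) [AddCommGroup N] [Module R N],
          Subsingleton (DRing.ExtD R K (Dual.inD R N) (-a + 1))].TFAE := by
  tfae_have 1 → 2 := fun h N _ _ i hi => h.subsingleton_hom N hi
  tfae_have 2 → 3 := fun h => by
    refine ⟨fun n hn => ?_, fun N _ _ i hi => h N i (Or.inr hi)⟩
    obtain ⟨P, hP, -, ⟨e⟩⟩ := exists_kProjective_rep K
    haveI := hP
    exact subsingleton_HD_of_retraction e (exists_retraction_of_subsingleton e (neg_add_cancel n)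
      fun N _ _ => h N (-n) (Or.inl (by omega)))
  tfae_have 3 → 4 := fun ⟨h1, h2⟩ => by
    refine ⟨fun n hn => hn.elim (fun hn => ?_) (h1 n), fun N _ _ => h2 N _ (by omega)⟩
    obtain ⟨P, hP, -, ⟨e⟩⟩ := exists_kProjective_rep K
    haveI := hP
    exact subsingleton_HD_of_retraction e (exists_retraction_of_subsingleton e (neg_add_cancel n)
      fun N _ _ => h2 N (-n) (by omega))
  tfae_have 4 → 1 := fun ⟨h1, h2⟩ => projAmp_of_subsingleton h1 h2
  tfae_finish

/-- Extensions of objects of projective amplitude `≥ a` by objects below split. -/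
theorem exists_iso_biprod {a b : ℤ} {T : Triangle (Dual.D R)} (hT : T ∈ distinguishedTriangles)
    (h₃ : ProjAmp a b T.obj₃) (h₁ : ∀ i : ℤ, a + 1 ≤ i → Subsingleton (Dual.HD R T.obj₁ i))
    [HasBinaryBiproduct T.obj₁ T.obj₃] :
    ∃ e : T.obj₂ ≅ T.obj₁ ⊞ T.obj₃, T.mor₁ ≫ e.hom = biprod.inl ∧ e.hom ≫ biprod.snd = T.mor₂ := by
  have h0 : Subsingleton (T.obj₃ ⟶ T.obj₁⟦(1 : ℤ)⟧) := h₃.subsingleton_hom_of_below fun i hi =>
    have := h₁ (1 + i) (by omega)
    (PCohPunctual.hShiftIso T.obj₁ 1 i).toLinearEquiv.toEquiv.subsingleton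
  obtain ⟨e, he1, he2⟩ := exists_iso_binaryBiproduct_of_distTriang T hT (h0.elim _ _)
  exact ⟨e, he1, he2.symm⟩

section Splitting

variable {a : ℤ} {K : Dual.D R}

variable (R) in
/-- The standard t-structure on `D(R)`. -/
noncomputable abbrev tD : Triangulated.TStructure (Dual.D R) := DerivedCategory.TStructure.t

lemma subsingleton_HD_truncLT (i : ℤ) (hi : a < i) :
    Subsingleton (Dual.HD R (((tD R).truncLT (a + 1)).obj K) i) :=
  haveI : DerivedCategory.IsLE (((tD R).truncLT (a + 1)).obj K) a := (tD R).isLE_truncLT_obj _ _ _ (by omega)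
  ModuleCat.subsingleton_of_isZero (DerivedCategory.isZero_of_isLE _ a i hi)

lemma subsingleton_HD_truncGE {i : ℤ} (hi : i ≤ a) :
    Subsingleton (Dual.HD R (((tD R).truncGE (a + 1)).obj K) i) :=
  haveI : DerivedCategory.IsGE (((tD R).truncGE (a + 1)).obj K) (a + 1) := (tD R).isGE_truncGE_obj _ _ _ le_rfl
  ModuleCat.subsingleton_of_isZero (DerivedCategory.isZero_of_isGE _ (a + 1) i (by omega))

/-- `Hom(τ≥a+1 K, M[-a])` injects into `Hom(K, M[-a])`. -/
lemma eq_zero_of_π_comp (M : Type u) [AddCommGroup M] [Module R M]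
    (x : ((tD R).truncGE (a + 1)).obj K ⟶ (Dual.inD R M)⟦-a⟧) (hx : ((tD R).truncGEπ (a + 1)).app K ≫ x = 0) : x = 0 := by
  obtain ⟨g, rfl⟩ := Triangle.yoneda_exact₃ _ ((tD R).triangleLTGE_distinguished (a + 1) K) x hx
  haveI : (tD R).IsLE (((tD R).truncLT (a + 1)).obj K) a := (tD R).isLE_truncLT_obj _ _ _ (by omega)
  rw [(tD R).zero_of_isLE_of_isGE g (a - 1) a (by omega)
    ((tD R).isLE_shift (((tD R).truncLT (a + 1)).obj K) a 1 (a - 1) (by omega))
    ((tD R).isGE_shift (Dual.inD R M) 0 (-a) a (by omega))]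
  exact comp_zero

lemma projAmp_truncGE {b : ℤ} (hb : ∀ i : ℤ, b < i → Subsingleton (Dual.HD R K i))
    (h : ∀ (M : Type u) [AddCommGroup M] [Module R M],
      Subsingleton (((tD R).truncGE (a + 1)).obj K ⟶ (Dual.inD R M)⟦-a⟧)) :
    ProjAmp (a + 1) (max b a) (((tD R).truncGE (a + 1)).obj K) := by
  refine projAmp_of_subsingleton (fun n hn => ?_) fun N _ _ => ?_
  · rcases hn with hn | hn
    · exact subsingleton_HD_truncGE (by omega)
    · have := hb n (by omega)
      have : DerivedCategory.IsLE (((tD R).truncLT (a + 1)).obj K) a := (tD R).isLE_truncLT_obj _ _ _ (by omega)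
      exact ModuleCat.subsingleton_of_isZero (PCohPunctual.isZero_homology₃
        ((tD R).triangleLTGE_distinguished (a + 1) K) (i := n) (j := n + 1) rfl
        (ModuleCat.isZero_iff_subsingleton.2 (hb n (by omega))) (DerivedCategory.isZero_of_isLE ((tD R).truncLT (a + 1) |>.obj K) a _ (by omega)))
  · have := h N
    rwa [show -(a + 1) + 1 = -a by omega]

/-- The splitting at `a` when `Hom(τ≥a+1 K, M[-a]) = 0`. -/
theorem exists_splitting {b : ℤ} (hb : ∀ i : ℤ, b < i → Subsingleton (Dual.HD R K i))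
    (h : ∀ (M : Type u) [AddCommGroup M] [Module R M],
      Subsingleton (((tD R).truncGE (a + 1)).obj K ⟶ (Dual.inD R M)⟦-a⟧))
    [HasBinaryBiproduct (((tD R).truncLT (a + 1)).obj K) (((tD R).truncGE (a + 1)).obj K)] :
    ∃ e : K ≅ ((tD R).truncLT (a + 1)).obj K ⊞ ((tD R).truncGE (a + 1)).obj K,
      ((tD R).truncLTι (a + 1)).app K ≫ e.hom = biprod.inl ∧ e.hom ≫ biprod.snd = ((tD R).truncGEπ (a + 1)).app K :=
  exists_iso_biprod (T := ((tD R).triangleLTGE (a + 1)).obj K) ((tD R).triangleLTGE_distinguished (a + 1) K)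
    (projAmp_truncGE hb h) fun i hi => subsingleton_HD_truncLT i (by omega)

end Splitting

end Groth.DAlg
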