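import Groth.Prelude.Def_CohDer
import Groth.Agent.DAlg.ProjAmp
import Groth.Agent.DAlg.PCoh
import Groth.Agent.DAlg.TorAmp
import Groth.Agent.DerivedCoh.KInj.Products
import Groth.Agent.S7019
import Mathlib.Algebra.Category.ModuleCat.AB
import Mathlib.Algebra.Category.Grp.AB

/-!
Perfect objects are the compact objects of `D(R)`.
-/

universe u

open CategoryTheory CategoryTheory.Limits CategoryTheory.Pretriangulated HomologicalComplex

attribute [local instance] HasDerivedCategory.standard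
set_option linter.style.haveILetI false

namespace Groth.DAlg.CompactPerf

open FlatCxBase Calg3

variable {R : Type u} [CommRing R]

section Coproduct

variable {ι : Type*} {D : Type*} [Category D] [Preadditive D] (E : ι → D) [HasCoproduct E]

open Classical in
/-- The projection of a coproduct onto a summand. -/
noncomputable def π (i : ι) : ∐ E ⟶ E i :=
  Sigma.desc fun j => if h : j = i then eqToHom (by rw [h]) else 0

@[reassoc (attr := simp)]
lemma ι_π_self (i : ι) : Sigma.ι E i ≫ π E i = 𝟙 (E i) := by simp [π]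

@[reassoc]
lemma ι_π_ne {i j : ι} (h : j ≠ i) : Sigma.ι E j ≫ π E i = 0 := by simp [π, h]

/-- The projection onto finitely many summands. -/
noncomputable def proj (S : Finset ι) : ∐ E ⟶ ∐ E := ∑ i ∈ S, π E i ≫ Sigma.ι E i

lemma ι_proj {S : Finset ι} {i : ι} (h : i ∈ S) : Sigma.ι E i ≫ proj E S = Sigma.ι E i := by
  classical
  rw [proj, Preadditive.comp_sum, Finset.sum_eq_single i
    (fun j _ hj => by rw [ι_π_ne_assoc E hj.symm, zero_comp]) (fun h' => absurd h h'), ι_π_self_assoc]

/-- Finite sums of maps into the summands. -/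
noncomputable def fin (C : D) : AddSubgroup (C ⟶ ∐ E) :=
  AddSubgroup.closure (⋃ i, Set.range fun g : C ⟶ E i => g ≫ Sigma.ι E i)

lemma mem_fin {C : D} (i : ι) (g : C ⟶ E i) : g ≫ Sigma.ι E i ∈ fin E C :=
  AddSubgroup.subset_closure (Set.mem_iUnion.2 ⟨i, g, rfl⟩)

lemma comp_proj_mem {C : D} (f : C ⟶ ∐ E) (S : Finset ι) : f ≫ proj E S ∈ fin E C := by
  rw [proj, Preadditive.comp_sum]
  exact AddSubgroup.sum_mem _ fun i _ => Category.assoc f _ _ ▸ mem_fin E i (f ≫ π E i)

lemma comp_mem {C C' : D} (g : C' ⟶ C) {f : C ⟶ ∐ E} (h : f ∈ fin E C) : g ≫ f ∈ fin E C' := by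
  induction h using AddSubgroup.closure_induction with
  | mem f hf =>
    obtain ⟨i, x, rfl⟩ := Set.mem_iUnion.1 hf
    exact Category.assoc g x _ ▸ mem_fin E i (g ≫ x)
  | zero => rw [comp_zero]; exact zero_mem _
  | add x y _ _ hx hy => rw [Preadditive.comp_add]; exact add_mem hx hy
  | neg x _ hx => rw [Preadditive.comp_neg]; exact neg_mem hx

lemma exists_proj_eq {C : D} {f : C ⟶ ∐ E} (h : f ∈ fin E C) :
    ∃ S : Finset ι, ∀ S' : Finset ι, S ⊆ S' → f ≫ proj E S' = f := by
  classical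
  induction h using AddSubgroup.closure_induction with
  | mem f hf =>
    obtain ⟨i, x, rfl⟩ := Set.mem_iUnion.1 hf
    exact ⟨{i}, fun S' hS => by
      show (x ≫ _) ≫ _ = x ≫ _
      rw [Category.assoc, ι_proj E (hS (Finset.mem_singleton_self i))]⟩
  | zero => exact ⟨∅, fun _ _ => zero_comp⟩
  | add x y _ _ hx hy =>
    obtain ⟨S, hS⟩ := hx
    obtain ⟨T, hT⟩ := hy
    exact ⟨S ∪ T, fun S' h => by
      rw [Preadditive.add_comp, hS S' (Finset.subset_union_left.trans h),
        hT S' (Finset.subset_union_right.trans h)]⟩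
  | neg x _ hx =>
    obtain ⟨S, hS⟩ := hx
    exact ⟨S, fun S' h => by rw [Preadditive.neg_comp, hS S' h]⟩

end Coproduct

/-- Every map into a small coproduct is a finite sum of maps into summands. -/
def Cpt (C : Dual.D R) : Prop :=
  ∀ (T : Type u) (E : T → Dual.D R) [HasCoproduct fun i : ULift.{u + 1} T => E i.down] (f : C ⟶ ∐ fun i : ULift.{u + 1} T => E i.down),
    f ∈ fin _ C

theorem cpt_iff (K : Dual.D R) :
    (∀ (I : Type u) (E : I → Dual.D R) [HasCoproduct fun i : ULift.{u + 1} I => E i.down],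
        Function.Bijective (CohDer.homSumToHomCoprod K (fun i : ULift.{u + 1} I => E i.down))) ↔ Cpt K := by
  classical
  have hof : ∀ {I : Type u} (E : I → Dual.D R) [HasCoproduct fun i : ULift.{u + 1} I => E i.down]
      (i : ULift.{u + 1} I) (g : K ⟶ E i.down),
      CohDer.homSumToHomCoprod K (fun i : ULift.{u + 1} I => E i.down)
        (DirectSum.of (fun i : ULift.{u + 1} I => K ⟶ E i.down) i g) = g ≫ Sigma.ι (fun i : ULift.{u + 1} I => E i.down) i := by
    intro I E _ i g
    rw [CohDer.homSumToHomCoprod]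
    convert DirectSum.toAddMonoid_of (β := fun i : ULift.{u + 1} I => K ⟶ E i.down) _ i g
    rfl
  constructor
  · intro h T E _ f
    obtain ⟨x, rfl⟩ := (h T E).2 f
    induction x using DirectSum.induction_on with
    | zero => rw [map_zero]; exact zero_mem _
    | of i g => rw [hof]; exact mem_fin (fun i : ULift.{u + 1} T => E i.down) i g
    | add x y hx hy => rw [map_add]; exact add_mem hx hy
  · intro h I E _
    refine ⟨(injective_iff_map_eq_zero _).2 fun x hx => DFinsupp.ext fun i => ?_, fun f => ?_⟩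
    · have : CohDer.homSumToHomCoprod K _ x ≫ π (fun i : ULift.{u + 1} I => E i.down) i = x i := by
        clear hx
        induction x using DirectSum.induction_on with
        | zero => rw [map_zero, zero_comp]; rfl
        | of j g =>
          rw [hof, Category.assoc]
          by_cases hji : j = i
          · subst hji
            rw [ι_π_self, DirectSum.of_eq_same]
            exact Category.comp_id g
          · rw [ι_π_ne _ hji, DirectSum.of_eq_of_ne _ _ _ (Ne.symm hji)]
            exact comp_zero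
        | add x y hx hy => rw [map_add, Preadditive.add_comp, hx, hy]; rfl
      rw [hx, zero_comp] at this
      exact this.symm
    · show f ∈ (CohDer.homSumToHomCoprod K _).range
      refine (AddSubgroup.closure_le _).2 ?_ (h I E f)
      rintro _ hg
      obtain ⟨i, g, rfl⟩ := Set.mem_iUnion.1 hg
      exact ⟨_, hof E i g⟩

/-- Compactness is inherited by extensions. -/
theorem Cpt.ext {T : Triangle (Dual.D R)} (hT : T ∈ distinguishedTriangles) (h₁ : Cpt T.obj₁)
    (h₃ : Cpt T.obj₃) : Cpt T.obj₂ := fun J E _ f => by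
  obtain ⟨S, hS⟩ := exists_proj_eq _ (h₁ J E (T.mor₁ ≫ f))
  obtain ⟨k, hk⟩ := Triangle.yoneda_exact₂ T hT (f - f ≫ proj _ S) (by
    rw [Preadditive.comp_sub, ← Category.assoc, hS S Finset.Subset.rfl, sub_self])
  rw [← sub_add_cancel f (f ≫ proj _ S), hk]
  exact add_mem (comp_mem _ _ (h₃ J E k)) (comp_proj_mem _ f S)

/-- Coproducts of complexes are coproducts in the derived category. -/
theorem nonempty_isColimit_Q {T : Type u} (X : T → DRing.Cx R) (c : Cofan X) (hc : IsColimit c) :
    Nonempty (IsColimit (Cofan.mk (DerivedCategory.Q.obj c.pt)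
      fun t : ULift.{u + 1} T => DerivedCategory.Q.map (c.inj t.down) :
        Cofan fun t : ULift.{u + 1} T => DerivedCategory.Q.obj (X t.down))) := by
  have hex : ∀ s : Cofan (fun t : ULift.{u + 1} T => DerivedCategory.Q.obj (X t.down)),
      ∃! l : DerivedCategory.Q.obj c.pt ⟶ s.pt,
        ∀ t : ULift.{u + 1} T, DerivedCategory.Q.map (c.inj t.down) ≫ l = s.inj t := fun s => by
    obtain ⟨J, hJ, ⟨ε⟩⟩ := DerivedCoh.KInjRes.exists_kInjective_iso s.pt
    haveI := hJ
    choose v hv using fun t => DerivedCoh.KInjRes.Q_map_surjective (X t) J (s.inj ⟨t⟩ ≫ ε.inv)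
    refine ⟨DerivedCategory.Q.map (Cofan.IsColimit.desc hc v) ≫ ε.hom, fun t => ?_, fun l hl => ?_⟩
    · rw [← Functor.map_comp_assoc, Cofan.IsColimit.fac, hv, Category.assoc, Iso.inv_hom_id, Category.comp_id]
    · obtain ⟨a, ha⟩ := DerivedCoh.KInjRes.Q_map_surjective c.pt J (l ≫ ε.inv)
      rw [← cancel_mono ε.inv, Category.assoc, Iso.hom_inv_id, Category.comp_id, ← ha,
        DerivedCoh.KInjRes.Q_map_eq_iff]
      let e := (coproductIsCoproduct X).coconePointUniqueUpToIso hc
      have he : ∀ t, Sigma.ι X t ≫ e.hom = c.inj t := fun t =>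
        (coproductIsCoproduct X).comp_coconePointUniqueUpToIso_hom hc ⟨t⟩
      obtain ⟨H⟩ := DerivedCoh.KInjRes.homotopic_sigma X (e.hom ≫ a) (e.hom ≫ Cofan.IsColimit.desc hc v)
        fun t => by
          rw [← DerivedCoh.KInjRes.Q_map_eq_iff, ← Category.assoc, ← Category.assoc, he,
            Cofan.IsColimit.fac, Functor.map_comp, ha, hv, ← Category.assoc, hl ⟨t⟩]
      exact ⟨(Homotopy.ofEq (Iso.inv_hom_id_assoc e a).symm).trans ((H.compLeft e.inv).trans
        (Homotopy.ofEq (Iso.inv_hom_id_assoc e _)))⟩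
  exact ⟨Cofan.IsColimit.mk _ (fun s => (hex s).choose)
    (fun s t => (hex s).choose_spec.1 t)
    (fun s m hm => (hex s).choose_spec.2 m hm)⟩

/-- Perfect objects are compact. -/
theorem cpt_of_isPerfect {K : Dual.D R} (h : DRing.IsPerfect R K) : Cpt K := fun T E _ f => by
  classical
  obtain ⟨P, a, b, hP, hPf, ⟨e⟩⟩ := h
  let X := fun t => (DerivedCategory.Q (C := ModuleCat.{u} R)).objPreimage (E t)
  let eX : ∀ t, DerivedCategory.Q.obj (X t) ≅ E t :=
    fun t => (DerivedCategory.Q (C := ModuleCat.{u} R)).objObjPreimageIso (E t)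
  obtain ⟨hW⟩ := nonempty_isColimit_Q X (Cofan.mk (∐ X) (Sigma.ι X)) (coproductIsCoproduct X)
  let W : DerivedCategory.Q.obj (∐ X) ⟶ ∐ fun i : ULift.{u + 1} T => E i.down :=
    Cofan.IsColimit.desc hW fun t => (eX t.down).hom ≫ Sigma.ι (fun i : ULift.{u + 1} T => E i.down) t
  let W' : (∐ fun i : ULift.{u + 1} T => E i.down) ⟶ DerivedCategory.Q.obj (∐ X) :=
    Sigma.desc fun t => (eX t.down).inv ≫ DerivedCategory.Q.map (Sigma.ι X t.down)
  have hW1 : ∀ t : ULift.{u + 1} T, DerivedCategory.Q.map (Sigma.ι X t.down) ≫ W =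
      (eX t.down).hom ≫ Sigma.ι (fun i : ULift.{u + 1} T => E i.down) t := fun t => Cofan.IsColimit.fac hW _ t
  have hWW : W' ≫ W = 𝟙 _ := Sigma.hom_ext _ _ fun t => by
    rw [Sigma.ι_desc_assoc, Category.assoc, hW1, Iso.inv_hom_id_assoc, Category.comp_id]
  obtain ⟨φ, hφ⟩ := exists_map_of_projective (E := ∐ X) (b := b) (fun i hi => hP i (Or.inr hi))
    (fun i => (hPf i).2) (e.hom ≫ f ≫ W')
  have hf : f = e.inv ≫ DerivedCategory.Q.map φ ≫ W := by
    rw [hφ, Category.assoc, Category.assoc, hWW, Category.comp_id, Iso.inv_hom_id_assoc]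
  have helt : ∀ (j : ℤ) (y : (∐ X : DRing.Cx R).X j), ∃ S : Finset T, ∀ S' : Finset T, S ⊆ S' →
      (proj X S').f j y = y := fun j y => by
    let hC := isColimitCofanMkObjOfIsColimit (eval (ModuleCat.{u} R) (ComplexShape.up ℤ) j) _ _
      (coproductIsCoproduct X)
    let N : Submodule R ((∐ X : DRing.Cx R).X j) := ⨆ t, LinearMap.range ((Sigma.ι X t).f j).hom
    have hN : N = ⊤ := by
      have h0 : (ModuleCat.ofHom N.mkQ : (∐ X : DRing.Cx R).X j ⟶ _) = 0 :=
        Cofan.IsColimit.hom_ext hC _ _ fun t => ModuleCat.hom_ext (LinearMap.ext fun x =>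
          (Submodule.Quotient.mk_eq_zero N).2 (Submodule.mem_iSup_of_mem t ⟨x, rfl⟩))
      refine eq_top_iff.2 fun x _ => (Submodule.Quotient.mk_eq_zero N).1 ?_
      exact LinearMap.congr_fun (congrArg ModuleCat.Hom.hom h0) x
    have hy : y ∈ N := hN ▸ trivial
    obtain ⟨S, hS⟩ := Submodule.exists_finset_of_mem_iSup _ hy
    refine ⟨S, fun S' hSS => ?_⟩
    refine (iSup₂_le fun t ht => ?_ : (⨆ t ∈ S, LinearMap.range ((Sigma.ι X t).f j).hom) ≤
      LinearMap.eqLocus ((proj X S').f j).hom LinearMap.id) hS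
    rintro _ ⟨x, rfl⟩
    show (proj X S').f j ((Sigma.ι X t).f j x) = (Sigma.ι X t).f j x
    have := congrArg (fun g => (g.f j).hom x) (ι_proj X (hSS ht))
    exact this
  choose Sg hSg using helt
  have hgen : ∀ j, ∃ S : Finset T, ∀ S' : Finset T, S ⊆ S' → φ.f j ≫ (proj X S').f j = φ.f j := fun j => by
    haveI := (hPf j).1
    obtain ⟨s, hs⟩ := Module.Finite.fg_top (R := R) (M := P.X j)
    refine ⟨s.biUnion fun x => Sg j (φ.f j x), fun S' h => ModuleCat.hom_ext
      (LinearMap.ext_on hs fun x hx => ?_)⟩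
    exact hSg j _ S' fun t ht => h (Finset.mem_biUnion.2 ⟨x, hx, ht⟩)
  choose Sd hSd using hgen
  let S := (Finset.Icc a b).biUnion Sd
  have hS : φ ≫ proj X S = φ := by
    ext j : 1
    by_cases hj : j ∈ Finset.Icc a b
    · exact hSd j S (Finset.subset_biUnion_of_mem Sd hj)
    · exact (hP j (by rw [Finset.mem_Icc] at hj; omega)).eq_of_src _ _
  rw [hf, ← hS, proj, Preadditive.comp_sum, Functor.map_sum, Preadditive.sum_comp, Preadditive.comp_sum]
  refine AddSubgroup.sum_mem _ fun t _ => ?_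
  rw [Functor.map_comp, Functor.map_comp, Category.assoc, Category.assoc, hW1 ⟨t⟩]
  simp only [← Category.assoc]
  exact mem_fin _ _ _

/-- A map factors through a perfect object. -/
def Fact {C X : Dual.D R} (f : C ⟶ X) : Prop :=
  ∃ G : Dual.D R, DRing.IsPerfect R G ∧ ∃ (a : C ⟶ G) (b : G ⟶ X), a ≫ b = f

lemma Fact.comp {C X Y : Dual.D R} {f : C ⟶ X} (h : Fact f) (g : X ⟶ Y) : Fact (f ≫ g) := by
  obtain ⟨G, hG, a, b, rfl⟩ := h
  exact ⟨G, hG, a, b ≫ g, (Category.assoc _ _ _).symm⟩

lemma Fact.zero {C X : Dual.D R} : Fact (0 : C ⟶ X) :=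
  ⟨DRing.toD HomologicalComplex.zero, IsPerfect.of_isZero (isZero_Q_obj fun i => PCohPunctual.isZero_zeroComplex_X i), 0, 0, zero_comp⟩

lemma Fact.neg {C X : Dual.D R} {f : C ⟶ X} (h : Fact f) : Fact (-f) := by
  obtain ⟨G, hG, a, b, rfl⟩ := h
  exact ⟨G, hG, -a, b, Preadditive.neg_comp _ _⟩

lemma Fact.add {C X : Dual.D R} {f g : C ⟶ X} (hf : Fact f) (hg : Fact g) : Fact (f + g) := by
  obtain ⟨G, hG, a, b, rfl⟩ := hf
  obtain ⟨G', hG', a', b', rfl⟩ := hg
  exact ⟨G ⊞ G', IsPerfect.ext (binaryBiproductTriangle_distinguished G G') hG hG',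
    biprod.lift a a', biprod.desc b b', biprod.lift_desc⟩

/-- Every map from a compact object factors through a perfect object. -/
def Good (X : Dual.D R) : Prop := ∀ (C : Dual.D R), Cpt C → ∀ f : C ⟶ X, Fact f

lemma Good.retract {X Y : Dual.D R} (h : Good Y) (s : X ⟶ Y) (r : Y ⟶ X) (hsr : s ≫ r = 𝟙 X) :
    Good X := fun C hC f => by
  simpa [hsr] using (h C hC (f ≫ s)).comp r

lemma Good.of_iso {X Y : Dual.D R} (h : Good Y) (e : X ≅ Y) : Good X :=
  h.retract e.hom e.inv e.hom_inv_id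

lemma Good.of_isZero {X : Dual.D R} (h : IsZero X) : Good X := fun C _ f => by
  rw [h.eq_of_tgt f 0]; exact Fact.zero

/-- Extensions of good objects are good. -/
theorem Good.ext {T : Triangle (Dual.D R)} (hT : T ∈ distinguishedTriangles) (h₁ : Good T.obj₁)
    (h₃ : Good T.obj₃) : Good T.obj₂ := fun C hC f => by
  obtain ⟨F, hF, h, w, hw⟩ := h₃ C hC (f ≫ T.mor₂)
  obtain ⟨C', k, δ, hC'⟩ := distinguished_cocone_triangle₁ h
  have hCc : Cpt C' :=
    Cpt.ext (inv_rot_of_distTriang _ hC') (cpt_of_isPerfect (IsPerfect.shift hF _)) hC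
  obtain ⟨f', hf'⟩ := Triangle.coyoneda_exact₂ T hT (k ≫ f) (by
    have := comp_distTriang_mor_zero₁₂ _ hC'
    rw [Category.assoc, ← hw, ← Category.assoc, show k ≫ h = 0 from this, zero_comp])
  obtain ⟨G, hG, a, b, hab⟩ := h₁ C' hCc f'
  obtain ⟨W, j, q, hW⟩ := distinguished_cocone_triangle₂ (δ ≫ a⟦(1 : ℤ)⟧')
  obtain ⟨v, hv1, hv2⟩ := complete_distinguished_triangle_morphism₂ _ _ hC' hW a (𝟙 F) (Category.id_comp _).symm
  obtain ⟨w', hw1, hw2⟩ := complete_distinguished_triangle_morphism _ T hC' hT f' f hf'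
  obtain ⟨v', hv1', hv2'⟩ := complete_distinguished_triangle_morphism₂ _ T hW hT b w' (by
    show (δ ≫ a⟦(1 : ℤ)⟧') ≫ b⟦(1 : ℤ)⟧' = w' ≫ T.mor₃
    rw [Category.assoc, ← Functor.map_comp, hab]
    exact hw2)
  replace hv1 : k ≫ v = a ≫ j := hv1
  change C ⟶ W at v
  change W ⟶ T.obj₂ at v'
  have hk : k ≫ (f - v ≫ v') = 0 := by
    rw [Preadditive.comp_sub, hf', show k ≫ v ≫ v' = f' ≫ T.mor₁ from ?_, sub_self]
    rw [← Category.assoc, show k ≫ v = a ≫ j from hv1, Category.assoc,
      show j ≫ v' = b ≫ T.mor₁ from hv1', ← Category.assoc, hab]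
  obtain ⟨z, hz⟩ := Triangle.yoneda_exact₂ _ hC' (f - v ≫ v') hk
  rw [← sub_add_cancel f (v ≫ v')]
  exact Fact.add ⟨F, hF, h, z, hz.symm⟩ ⟨W, IsPerfect.ext hW hG hF, v, v', rfl⟩

/-- The free cells in one degree. -/
theorem good_single_free (n : ℤ) (B : Type u) :
    Good (DerivedCategory.Q.obj ((single (ModuleCat.{u} R) (ComplexShape.up ℤ) n).obj
      (ModuleCat.of R (B →₀ R)))) := fun C hC f => by
  classical
  let sR := (single (ModuleCat.{u} R) (ComplexShape.up ℤ) n).obj (ModuleCat.of R R)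
  let c : Cofan fun _ : B => sR := Cofan.mk _ fun b => (single (ModuleCat.{u} R) (ComplexShape.up ℤ) n).map
    (ModuleCat.ofHom (Finsupp.lsingle b) : ModuleCat.of R R ⟶ ModuleCat.of R (B →₀ R))
  let cls : ∀ (s : Cofan fun _ : B => sR) (b : B), ModuleCat.of R R ⟶ s.pt.X n := fun s b =>
    (singleObjXSelf (ComplexShape.up ℤ) n (ModuleCat.of R R)).inv ≫ (s.inj b).f n
  have hcl : ∀ s b (j : ℤ), (ComplexShape.up ℤ).Rel n j → cls s b ≫ s.pt.d n j = 0 := fun s b j _ => by
    simp [cls, sR]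
  let dl : ∀ s : Cofan fun _ : B => sR, ModuleCat.of R (B →₀ R) ⟶ s.pt.X n := fun s =>
    ModuleCat.ofHom (Finsupp.lsum R fun b => (cls s b).hom)
  have hdl : ∀ s b, (ModuleCat.ofHom (Finsupp.lsingle b) : ModuleCat.of R R ⟶ ModuleCat.of R (B →₀ R)) ≫ dl s =
      cls s b := fun s b => by ext; simp [dl]
  have hdl0 : ∀ s (j : ℤ), (ComplexShape.up ℤ).Rel n j → dl s ≫ s.pt.d n j = 0 := fun s j hj =>
    ModuleCat.hom_ext (Finsupp.lhom_ext' fun b => congrArg ModuleCat.Hom.hom
      ((Category.assoc _ _ _).symm.trans ((congrArg (· ≫ _) (hdl s b)).trans ((hcl s b j hj).trans comp_zero.symm))))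
  have hc : IsColimit c := Cofan.IsColimit.mk _ (fun s => mkHomFromSingle (dl s) (hdl0 s))
    (fun s b => by
      apply from_single_hom_ext
      simp only [c, cofan_mk_inj, comp_f, single_map_f_self, mkHomFromSingle_f, Category.assoc,
        Iso.inv_hom_id_assoc, hdl, cls, Iso.hom_inv_id_assoc])
    (fun s m hm => by
      apply from_single_hom_ext
      rw [mkHomFromSingle_f, ← cancel_epi (singleObjXSelf (ComplexShape.up ℤ) n (ModuleCat.of R (B →₀ R))).inv,
        Iso.inv_hom_id_assoc]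
      refine ModuleCat.hom_ext (Finsupp.lhom_ext' fun b => congrArg ModuleCat.Hom.hom
        (show (ModuleCat.ofHom (Finsupp.lsingle b) : ModuleCat.of R R ⟶ ModuleCat.of R (B →₀ R)) ≫ _ =
          (ModuleCat.ofHom (Finsupp.lsingle b) : ModuleCat.of R R ⟶ ModuleCat.of R (B →₀ R)) ≫ dl s from ?_))
      rw [hdl]
      simp only [cls, ← hm b, c, cofan_mk_inj, comp_f, single_map_f_self, Category.assoc,
        Iso.inv_hom_id_assoc])
  obtain ⟨hW⟩ := nonempty_isColimit_Q _ c hc
  haveI : HasCoproduct fun _ : ULift.{u + 1} B => DerivedCategory.Q.obj sR := ⟨⟨⟨_, hW⟩⟩⟩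
  let e := (coproductIsCoproduct fun _ : ULift.{u + 1} B => DerivedCategory.Q.obj sR).coconePointUniqueUpToIso hW
  have hperf : DRing.IsPerfect R (DerivedCategory.Q.obj sR) :=
    ⟨sR, n, n, fun i hi => isZero_single_obj_X _ _ _ _ (by omega), fun i => by
      by_cases hi : i = n
      · exact (isAdditiveSub_finProj R).of_iso (singleObjXIsoOfEq (ComplexShape.up ℤ) n _ i hi).symm
          ⟨inferInstanceAs (Module.Finite R R), inferInstanceAs (Module.Projective R R)⟩
      · exact (isAdditiveSub_finProj R).zero _ (isZero_single_obj_X _ _ _ _ hi),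
      ⟨Iso.refl _⟩⟩
  have key : f ≫ e.inv ∈ fin _ C := hC B (fun _ => DerivedCategory.Q.obj sR) _
  suffices ∀ g ∈ fin (fun _ : ULift.{u + 1} B => DerivedCategory.Q.obj sR) C, Fact (g ≫ e.hom) by
    have h := this _ key
    rwa [Category.assoc, Iso.inv_hom_id, Category.comp_id] at h
  intro g hg
  induction hg using AddSubgroup.closure_induction with
  | mem g hg =>
    obtain ⟨i, x, rfl⟩ := Set.mem_iUnion.1 hg
    exact ⟨_, hperf, x, _, (Category.assoc x _ _).symm⟩
  | zero => rw [zero_comp]; exact Fact.zero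
  | add x y _ _ hx hy => rw [Preadditive.add_comp]; exact hx.add hy
  | neg x _ hx => rw [Preadditive.neg_comp]; exact hx.neg

theorem good_single (n : ℤ) (M : ModuleCat.{u} R) [Module.Projective R M] :
    Good (DerivedCategory.Q.obj ((single (ModuleCat.{u} R) (ComplexShape.up ℤ) n).obj M)) := by
  obtain ⟨s, hs⟩ := Module.projective_def.1 (inferInstance : Module.Projective R M)
  refine (good_single_free n M).retract
    (DerivedCategory.Q.map ((single (ModuleCat.{u} R) (ComplexShape.up ℤ) n).map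
      (ModuleCat.ofHom s : M ⟶ ModuleCat.of R (M →₀ R))))
    (DerivedCategory.Q.map ((single (ModuleCat.{u} R) (ComplexShape.up ℤ) n).map
      (ModuleCat.ofHom (Finsupp.linearCombination R id) : ModuleCat.of R (M →₀ R) ⟶ M))) ?_
  rw [← Functor.map_comp, ← Functor.map_comp,
    show (ModuleCat.ofHom s : M ⟶ ModuleCat.of R (M →₀ R)) ≫ ModuleCat.ofHom (Finsupp.linearCombination R id) = 𝟙 M
      from ModuleCat.hom_ext (LinearMap.ext hs)]
  simp

lemma ProjAmp.shift {a b : ℤ} {K : Dual.D R} (h : ProjAmp a b K) (m : ℤ) : ProjAmp (a - m) (b - m) (K⟦m⟧) := by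
  obtain ⟨E, hE, hP, ⟨e⟩⟩ := h
  exact ⟨(CategoryTheory.shiftFunctor (DRing.Cx R) m).obj E,
    fun i hi => hE (i + m) (by omega), fun i => hP (i + m),
    ⟨(DerivedCategory.Q.commShiftIso m).app E ≪≫ (CategoryTheory.shiftFunctor (Dual.D R) m).mapIso e⟩⟩

theorem good_of_projAmp : ∀ (k : ℕ) (a b : ℤ) (K : Dual.D R), ProjAmp a b K → b - a < k → Good K := by
  intro k
  induction k with
  | zero =>
    intro a b K ⟨P, hP, _, ⟨e⟩⟩ hk
    exact Good.of_isZero (IsZero.of_iso (isZero_Q_obj fun i => hP i (by omega)) e.symm)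
  | succ k ih =>
    intro a b K hK hk
    obtain ⟨P, hP, hp, ⟨e⟩⟩ := hK
    refine Good.of_iso ?_ e.symm
    let V := (single (ModuleCat.{u} R) (ComplexShape.up ℤ) b).obj (P.X b)
    let g : V ⟶ P := mkHomFromSingle (𝟙 _) (by
      rintro j rfl
      exact (hP _ (Or.inr (by omega))).eq_of_tgt _ _)
    have hVout : DRing.VanishesOutside V b b := fun i hi => isZero_single_obj_X _ _ _ _ (by omega)
    have hV : ProjAmp b b (DRing.toD V) := ⟨V, hVout, fun i => by
      by_cases hi : i = b
      · haveI := hp b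
        exact Module.Projective.of_equiv
          (singleObjXIsoOfEq (ComplexShape.up ℤ) b (P.X b) i hi).symm.toLinearEquiv
      · have := ModuleCat.subsingleton_of_isZero (hVout i (by omega))
        infer_instance, ⟨Iso.refl _⟩⟩
    haveI := hp b
    by_cases hab : b ≤ a
    · -- one degree
      haveI : IsIso g := by
        suffices ∀ i, IsIso (g.f i) from HomologicalComplex.Hom.isIso_of_components g
        intro i
        by_cases hi : i = b
        · subst hi
          simp only [g, mkHomFromSingle_f, Category.comp_id]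
          infer_instance
        · exact isIso_of_source_target_iso_zero _ (isZero_single_obj_X _ _ _ _ hi).isoZero (hP i (by omega)).isoZero
      exact Good.of_iso (good_single b (P.X b)) (DerivedCategory.Q.mapIso (asIso g).symm)
    let Cn := CochainComplex.mappingCone g
    have hT := DerivedCategory.mappingCone_triangle_distinguished g
    refine Good.ext hT (good_single b (P.X b)) (ih a (b - 1) _ (projAmp_of_subsingleton ?_ ?_) (by omega))
    · intro n hn
      refine subsingleton_HD_toD ((isZero_homology_iff (cochain_prev n) (cochain_next n)).2 fun x hx => ?_)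
      have hz : ∀ i, (i + 1 ≠ b ∧ (i < a ∨ b < i)) → Subsingleton (Cn.X i) := fun i hi =>
        ModuleCat.subsingleton_of_isZero ((CochainComplex.mappingCone.isZero_X_iff g i).2
          ⟨hVout _ (by omega), hP i hi.2⟩)
      by_cases hnb : n = b
      · subst hnb
        have hd := ConcreteCategory.congr_hom (CochainComplex.mappingCone.inl_v_d g n (n - 1) (n + 1)
          (by omega) (by omega))
        have hx' : ∃ y, (CochainComplex.mappingCone.inr g).f n y = x := by
          refine ⟨(CochainComplex.mappingCone.snd g).v n n (add_zero n) x, ?_⟩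
          have h1 := ConcreteCategory.congr_hom (CochainComplex.mappingCone.id_X g n (n + 1) rfl) x
          have h2 : Subsingleton (V.X (n + 1)) := ModuleCat.subsingleton_of_isZero (hVout _ (by omega))
          have h5 : ((CochainComplex.mappingCone.fst g).1.v n (n + 1) rfl).hom x = 0 := Subsingleton.elim _ _
          change (CochainComplex.mappingCone.inl g).v (n + 1) n (by omega)
              (((CochainComplex.mappingCone.fst g).1.v n (n + 1) rfl).hom x) + _ = x at h1
          rw [h5, map_zero, zero_add] at h1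
          exact h1
        obtain ⟨y, rfl⟩ := hx'
        refine ⟨(CochainComplex.mappingCone.inl g).v n (n - 1) (by omega)
          ((singleObjXSelf (ComplexShape.up ℤ) n (P.X n)).inv y), ?_⟩
        have h3 := hd ((singleObjXSelf (ComplexShape.up ℤ) n (P.X n)).inv y)
        refine h3.trans ?_
        have h4 : V.d n (n + 1) = 0 := (hVout _ (Or.inr (by omega))).eq_of_tgt _ _
        simp [h4, g]
      · have := hz n (by omega)
        exact ⟨0, this.elim _ _⟩
    · intro N _ _
      refine subsingleton_of_forall_eq 0 fun f => ?_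
      obtain ⟨y, hy⟩ := Triangle.yoneda_exact₃ _ hT f
        ((ProjAmp.subsingleton_hom (K := DRing.toD P) ⟨P, hP, hp, ⟨Iso.refl _⟩⟩ N (Or.inr (by omega))).elim _ _)
      rw [hy, ((CompactPerf.ProjAmp.shift hV 1).subsingleton_hom N (Or.inr (by omega))).elim y 0]
      exact comp_zero

/-- Compactness splits almost all differentials. -/
theorem exists_retractions {K : Dual.D R} (hK : Cpt K) (P : DRing.Cx R) [P.IsKProjective]
    (e : DRing.toD P ≅ K) :
    ∃ S : Finset ℤ, ∀ q ∉ S,
      ∃ r : P.X (q + 1) →ₗ[R] Coker P (q - 1) q, r ∘ₗ dBar P (q - 1) q (q + 1) = LinearMap.id := by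
  classical
  let M : ℤ → ModuleCat.{u} R := fun q => ModuleCat.of R (Coker P (q - 1) q)
  let Y : DRing.Cx R :=
    { X := M, d := fun _ _ => 0 }
  let X : ULift.{u} ℤ → DRing.Cx R := fun t => (single (ModuleCat.{u} R) (ComplexShape.up ℤ) t.down).obj (M t.down)
  let c : Cofan X := Cofan.mk Y fun t => mkHomFromSingle (𝟙 (M t.down)) (fun j _ => comp_zero)
  have hc : IsColimit c := Cofan.IsColimit.mk _
    (fun s => { f := fun q => (singleObjXSelf (ComplexShape.up ℤ) q (M q)).inv ≫ (s.inj ⟨q⟩).f q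
                comm' := fun q q' _ => by
                  show _ = (0 : M q ⟶ M q') ≫ _
                  rw [zero_comp, Category.assoc, (s.inj ⟨q⟩).comm q q']
                  simp [X] })
    (fun s t => by
      obtain ⟨t⟩ := t
      apply from_single_hom_ext
      simp [c, X, mkHomFromSingle_f])
    (fun s m hm => by
      ext q : 1
      have := congrArg (fun φ => φ.f q) (hm ⟨q⟩)
      simp only [c, cofan_mk_inj, comp_f, mkHomFromSingle_f, Category.comp_id] at this
      show m.f q = _ ≫ _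
      exact ((congrArg ((singleObjXSelf (ComplexShape.up ℤ) q (M q)).inv ≫ ·) this.symm).trans
        (Iso.inv_hom_id_assoc _ _)).symm)
  obtain ⟨hW⟩ := nonempty_isColimit_Q X c hc
  haveI : HasCoproduct fun t : ULift.{u + 1} (ULift.{u} ℤ) => DerivedCategory.Q.obj (X t.down) :=
    ⟨⟨⟨_, hW⟩⟩⟩
  let ψ := (coproductIsCoproduct fun t : ULift.{u + 1} (ULift.{u} ℤ) =>
    DerivedCategory.Q.obj (X t.down)).coconePointUniqueUpToIso hW
  let φ : P ⟶ Y :=
    { f := fun q => ModuleCat.ofHom (cokerπ P (q - 1) q)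
      comm' := fun q q' hq => by
        obtain rfl : q + 1 = q' := hq
        show _ ≫ (0 : M q ⟶ M (q + 1)) = _
        rw [comp_zero]
        refine ModuleCat.hom_ext (LinearMap.ext fun x => ?_)
        show 0 = cokerπ P (q + 1 - 1) (q + 1) (P.d q (q + 1) x)
        exact ((exact_cokerπ P (q + 1 - 1) (q + 1) _).2 (by
          rw [add_sub_cancel_right]; exact ⟨x, rfl⟩)).symm }
  let f := e.inv ≫ DerivedCategory.Q.map φ ≫ ψ.inv
  obtain ⟨S, hS⟩ := exists_proj_eq _ (hK (ULift.{u} ℤ) (fun t => DerivedCategory.Q.obj (X t)) f)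
  refine ⟨S.image fun t => t.down.down, fun q hq => ?_⟩
  have hq' : (⟨⟨q⟩⟩ : ULift.{u + 1} (ULift.{u} ℤ)) ∉ S := fun h => hq (Finset.mem_image_of_mem _ h)
  have hf0 : f ≫ π (fun t : ULift.{u + 1} (ULift.{u} ℤ) => DerivedCategory.Q.obj (X t.down)) ⟨⟨q⟩⟩ = 0 := by
    rw [← hS S Finset.Subset.rfl, proj, Category.assoc, Preadditive.sum_comp,
      Finset.sum_eq_zero fun t ht => by
        rw [Category.assoc, ι_π_ne _ (fun (h : t = ⟨⟨q⟩⟩) => hq' (h ▸ ht)), comp_zero],
      comp_zero]
  let pY : Y ⟶ X ⟨q⟩ := mkHomToSingle (𝟙 (M q)) (fun j _ => zero_comp)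
  have hπ : ψ.inv ≫ π (fun t : ULift.{u + 1} (ULift.{u} ℤ) => DerivedCategory.Q.obj (X t.down)) ⟨⟨q⟩⟩ =
      DerivedCategory.Q.map pY := by
    rw [Iso.inv_comp_eq]
    refine Sigma.hom_ext _ _ fun t => ?_
    have h1 : Sigma.ι _ t ≫ ψ.hom = DerivedCategory.Q.map (c.inj t.down) :=
      (coproductIsCoproduct _).comp_coconePointUniqueUpToIso_hom hW ⟨t⟩
    rw [reassoc_of% h1, ← Functor.map_comp]
    by_cases ht : t = ⟨⟨q⟩⟩
    · subst ht
      rw [ι_π_self]
      have : c.inj ⟨q⟩ ≫ pY = 𝟙 _ := by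
        apply from_single_hom_ext
        simp [c, pY, X, mkHomFromSingle_f, mkHomToSingle_f]
        exact Iso.hom_inv_id _
      exact ((congrArg DerivedCategory.Q.map this).trans (DerivedCategory.Q.map_id _)).symm
    · rw [ι_π_ne _ ht]
      have : c.inj t.down ≫ pY = 0 := by
        obtain ⟨⟨t⟩⟩ := t
        apply from_single_hom_ext
        exact (isZero_single_obj_X _ _ _ _ fun (h : t = q) => ht (h ▸ rfl)).eq_of_tgt _ _
      rw [this, Functor.map_zero]
  have hz : cokerπ P (q - 1) q ∈ Zc P (Coker P (q - 1) q) q :=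
    LinearMap.ext fun x => (Submodule.Quotient.mk_eq_zero _).2 ⟨x, rfl⟩
  have hcm : cocycleMap P ⟨_, hz⟩ = φ ≫ pY := by
    apply to_single_hom_ext
    rw [cocycleMap_f]
    simp [pY, φ, mkHomToSingle_f]
    rfl
  obtain ⟨r, hr⟩ := exists_of_classMap_eq_zero e (neg_add_cancel q) ⟨_, hz⟩ (by
    show e.inv ≫ DerivedCategory.Q.map (cocycleMap P ⟨_, hz⟩) ≫ _ = 0
    simp only [f, Category.assoc, hπ] at hf0
    rw [hcm, ← Category.assoc, Functor.map_comp, hf0, zero_comp])
  refine ⟨r, Submodule.linearMap_qext _ ?_⟩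
  rw [LinearMap.comp_assoc, dBar_comp, LinearMap.id_comp]
  exact hr.symm

/-- Compact objects have finite projective amplitude. -/
theorem exists_projAmp {K : Dual.D R} (hK : Cpt K) : ∃ a b : ℤ, ProjAmp a b K := by
  obtain ⟨P, hP, -, ⟨e⟩⟩ := exists_kProjective_rep K
  haveI := hP
  obtain ⟨S, hS⟩ := exists_retractions hK P e
  obtain ⟨b, hb⟩ := (S.bddAbove : BddAbove (S : Set ℤ))
  have hKb : ∀ i, b < i → Subsingleton (Dual.HD R K i) := fun i hi =>
    subsingleton_HD_of_retraction e (hS i fun h => absurd (hb h) (by omega))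
  obtain ⟨F, hF, hfree, ⟨eF⟩⟩ := exists_free_rep R hKb
  have hproj : ∀ i, Module.Projective R (F.X i) := fun i => haveI := hfree i; inferInstance
  haveI := isKProjective_of_bounded hF hproj
  obtain ⟨S', hS'⟩ := exists_retractions hK F eF
  obtain ⟨a, ha⟩ := (S'.bddBelow : BddBelow (S' : Set ℤ))
  refine ⟨a, b, projAmp_of_subsingleton (fun n hn => hn.elim
    (fun h => subsingleton_HD_of_retraction eF (hS' n fun h' => absurd (ha h') (by omega))) (hKb n))
    fun N _ _ => subsingleton_of_forall_eq 0 fun f => ?_⟩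
  obtain ⟨r, hr⟩ := hS' (a - 1) fun h' => absurd (ha h') (by omega)
  obtain ⟨φ, rfl⟩ := classMap_surjective eF (show (-a + 1) + (a - 1) = 0 by omega) (b := b) hF hproj f
  refine classMap_predif eF _ (((LinearMap.range (F.d (a - 1 - 1) (a - 1)).hom).liftQ φ.1 ?_) ∘ₗ r) φ ?_
  · rintro _ ⟨x, rfl⟩
    exact LinearMap.congr_fun (LinearMap.mem_ker.1 φ.2) x
  · refine LinearMap.ext fun x => ?_
    have h1 : dBar F (a - 1 - 1) (a - 1) (a - 1 + 1) (cokerπ F (a - 1 - 1) (a - 1) x) = F.d (a - 1) (a - 1 + 1) x :=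
      LinearMap.congr_fun (dBar_comp F (a - 1 - 1) (a - 1) (a - 1 + 1)) x
    simp only [predif, LinearMap.lcomp_apply, LinearMap.comp_apply]
    rw [← h1, show r (dBar F (a - 1 - 1) (a - 1) (a - 1 + 1) (cokerπ F (a - 1 - 1) (a - 1) x)) =
      cokerπ F (a - 1 - 1) (a - 1) x from LinearMap.congr_fun hr _]
    rfl

/-- Perfect objects are the compact objects. -/
theorem isPerfect_iff_cpt (K : Dual.D R) : DRing.IsPerfect R K ↔ Cpt K := by
  refine ⟨cpt_of_isPerfect, fun hK => ?_⟩
  obtain ⟨a, b, h⟩ := exists_projAmp hK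
  obtain ⟨G, hG, s, r, hsr⟩ := good_of_projAmp (b - a).toNat.succ a b K h (by omega) K hK (𝟙 K)
  obtain ⟨Z, p, δ, hT⟩ := distinguished_cocone_triangle s
  have hδ : δ = 0 := by
    have h0 : δ ≫ s⟦(1 : ℤ)⟧' = 0 := comp_distTriang_mor_zero₃₁ _ hT
    have h1 : (δ ≫ s⟦(1 : ℤ)⟧') ≫ r⟦(1 : ℤ)⟧' = δ := by
      rw [Category.assoc, ← Functor.map_comp, hsr, CategoryTheory.Functor.map_id]
      exact Category.comp_id δ
    rw [← h1, h0, zero_comp]
  obtain ⟨i, -⟩ := exists_iso_binaryBiproduct_of_distTriang _ hT hδ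
  haveI : ∀ M : ModuleCat.{u} R, DRing.HasLTensor R M := hasLTensor
  exact (Groth.Agent.S7019.result R K Z (IsPerfect.of_iso hG i)).1

end Groth.DAlg.CompactPerf
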