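import Groth.Agent.DerComplete.ChangeRing
import Groth.Agent.DerComplete.Module
import Groth.Agent.DerivedCoh.KInj.Products
import Groth.Agent.DualCore.Coextend
import Groth.Agent.SiteCohomology.ShriekExact
import Mathlib.Algebra.Category.ModuleCat.Descent

/-!
Existence of derived completion with respect to a finitely generated ideal.

For a K-injective complex `L` the completion at `g` is the cone of `Hom_A(A_g, L) → L`.
-/

universe u

open CategoryTheory CategoryTheory.Limits CategoryTheory.Pretriangulated DerivedCategory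
open Groth.DualCore Groth.DerComplete
open scoped ChangeOfRings

attribute [local instance] HasDerivedCategory.standard

namespace Groth.DAlg.DCompletion

variable {A : Type u} [CommRing A]

/-- The localisation map. -/
abbrev loc (g : A) : A →+* Localization.Away g := algebraMap A (Localization.Away g)

/-- Every cohomology module of `K` is derived complete at `f`. -/
def DCD (f : A) (K : Dual.D A) : Prop := ∀ n, DC f (Dual.HD A K n)

/-- No morphism into `K` from a complex over `A_f`. -/
def Van (f : A) (K : Dual.D A) : Prop :=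
  ∀ E : DRing.Cx (Localization.Away f), Subsingleton (Q.obj ((resC (loc f)).obj E) ⟶ K)

lemma bijective_resC (f : A) (E : DRing.Cx (Localization.Away f)) (i : ℤ) :
    Function.Bijective fun x : ((resC (loc f)).obj E).X i => f • x :=
  show Function.Bijective fun x : E.X i => algebraMap A (Localization.Away f) f • x from
    IsUnit.smul_bijective (IsLocalization.Away.algebraMap_isUnit f)

lemma DCD.van {f : A} {K : Dual.D A} (h : DCD f K) : Van f K := fun E =>
  subsingleton_hom_of_bijective (bijective_resC f E) h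

lemma dcd_of_van {f : A} {K : Dual.D A} (h : Van f K) : DCD f K := by
  refine (hom_away_iff f K).1 ((hom_restrictD_iff f K).2 fun E => ?_)
  let e := (res (loc f)).mapDerivedCategory.mapIso (Q.objObjPreimageIso E).symm ≪≫
    (res (loc f)).mapDerivedCategoryFactors.app (Q.objPreimage E)
  have := h (Q.objPreimage E)
  exact ⟨fun a b => (cancel_epi e.inv).1 (this.elim _ _)⟩

lemma DCD.of_iso {f : A} {K K' : Dual.D A} (h : DCD f K) (e : K ≅ K') : DCD f K' := fun n =>
  (h n).congr ((homologyFunctor _ n).mapIso e).toLinearEquiv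

lemma DCD.shift {f : A} {K : Dual.D A} (h : DCD f K) (m : ℤ) : DCD f (K⟦m⟧) := fun n =>
  (h (m + n)).congr (((homologyFunctor (ModuleCat.{u} A) 0).shiftIso m n (m + n) rfl).app K).symm.toLinearEquiv

lemma isDerivedComplete_span {s : Set A} {K : Dual.D A} (h : ∀ f ∈ s, DCD f K) :
    DRing.IsDerivedComplete (Ideal.span s) K :=
  (isDerivedComplete_iff _ K).2 fun f hf n => dc_forall_mem_span (fun t ht => h t ht n) f hf

lemma dcd_of_isDerivedComplete {I : Ideal A} {f : A} (hf : f ∈ I) {K : Dual.D A}
    (h : DRing.IsDerivedComplete I K) : DCD f K :=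
  (isDerivedComplete_iff I K).1 h f hf

section Shift

variable (f : A)

/-- Restriction commutes with shifting. -/
noncomputable def shiftResIso (E : DRing.Cx (Localization.Away f)) (m : ℤ) :
    (Q.obj ((resC (loc f)).obj E))⟦m⟧ ≅ Q.obj ((resC (loc f)).obj (E⟦m⟧)) :=
  ((Q (C := ModuleCat.{u} A)).commShiftIso m).symm.app _ ≪≫
    Q.mapIso (((resC (loc f)).commShiftIso m).symm.app E)

lemma bijective_post_shift {X Y : Dual.D A} (v : X ⟶ Y) (m : ℤ)
    (h : ∀ E : DRing.Cx (Localization.Away f),
      Function.Bijective fun y : Q.obj ((resC (loc f)).obj E) ⟶ X => y ≫ v)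
    (E : DRing.Cx (Localization.Away f)) :
    Function.Bijective fun y : Q.obj ((resC (loc f)).obj E) ⟶ X⟦m⟧ => y ≫ v⟦m⟧' := by
  let P := Q.obj ((resC (loc f)).obj E)
  let c : (Q.obj ((resC (loc f)).obj (E⟦-m⟧)))⟦m⟧ ≅ P :=
    (shiftFunctor _ m).mapIso (shiftResIso f E (-m)).symm ≪≫ (shiftFunctorCompIsoId _ (-m) m (by simp)).app P
  constructor
  · intro y₁ y₂ hy
    obtain ⟨a₁, ha₁⟩ := (shiftFunctor (Dual.D A) m).map_surjective (c.hom ≫ y₁)
    obtain ⟨a₂, ha₂⟩ := (shiftFunctor (Dual.D A) m).map_surjective (c.hom ≫ y₂)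
    rw [← cancel_epi c.hom, ← ha₁, ← ha₂]
    refine congrArg _ ((h _).1 ((shiftFunctor (Dual.D A) m).map_injective ?_))
    simp only [Functor.map_comp, ha₁, ha₂, Category.assoc]
    exact congrArg (c.hom ≫ ·) hy
  · intro z
    obtain ⟨a, ha⟩ := (shiftFunctor (Dual.D A) m).map_surjective (c.hom ≫ z)
    obtain ⟨y, hy⟩ := (h _).2 a
    refine ⟨c.inv ≫ y⟦m⟧', ?_⟩
    simp only [Category.assoc, ← Functor.map_comp]
    simp only at hy
    rw [hy, ha, Iso.inv_hom_id_assoc]

/-- The third vertex is vanishing as soon as `mor₁` is seen bijective. -/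
lemma van_obj₃ {T : Triangle (Dual.D A)} (hT : T ∈ distTriang (Dual.D A))
    (h : ∀ E : DRing.Cx (Localization.Away f),
      Function.Bijective fun y : Q.obj ((resC (loc f)).obj E) ⟶ T.obj₁ => y ≫ T.mor₁) : Van f T.obj₃ := by
  refine fun E => subsingleton_of_forall_eq 0 fun x => ?_
  have h0 : x ≫ T.mor₃ = 0 := (bijective_post_shift f T.mor₁ 1 h E).1 (by
    simp only [zero_comp, Category.assoc, comp_distTriang_mor_zero₃₁ _ hT, comp_zero])
  obtain ⟨y, rfl⟩ := T.coyoneda_exact₃ hT x h0
  obtain ⟨z, rfl⟩ := (h E).2 y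
  simp [comp_distTriang_mor_zero₁₂ _ hT]

end Shift

section HomAway

variable (g : A) (L : DRing.Cx A)

/-- `Hom_A(A_g, L)`. -/
noncomputable abbrev QL : DRing.Cx A := (resC (loc g)).obj ((coextC (loc g)).obj L)

instance isKInjective_QL [L.IsKInjective] : (QL g L).IsKInjective := by
  have := (ModuleCat.restrictCoextendScalarsAdj.{u, u, u} (loc g)).right_adjoint_additive
  have h1 : ((coextC (loc g)).obj L).IsKInjective :=
    SiteCohomology.isKInjective_map_of_adjunction (rAdj (loc g)) L ‹_›
  have : PreservesFiniteLimits (ModuleCat.extendScalars.{u, u, u} (loc g)) :=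
    ModuleCat.preservesFiniteLimits_extendScalars_of_flat (RingHom.flat_algebraMap_iff.2 inferInstance)
  exact SiteCohomology.isKInjective_map_of_adjunction (ModuleCat.extendRestrictScalarsAdj.{u, u, u} (loc g)) _ h1

instance full_res : (res (loc g)).Full where
  map_surjective {M N} φ := by
    refine ⟨ModuleCat.ofHom { toFun := φ.hom, map_add' := φ.hom.map_add, map_smul' := fun b x => ?_ }, rfl⟩
    obtain ⟨⟨a, s⟩, hb⟩ := IsLocalization.surj (Submonoid.powers g) b
    have hu : IsUnit (algebraMap A (Localization.Away g) s) := IsLocalization.map_units _ s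
    refine (IsUnit.smul_bijective (β := N) hu).1 ?_
    change algebraMap A _ (s : A) • φ.hom (b • x) = algebraMap A _ (s : A) • (b • φ.hom x)
    have h1 : ∀ (r : A) (y : M), φ.hom (algebraMap A (Localization.Away g) r • y) =
        algebraMap A (Localization.Away g) r • φ.hom y := fun r y => φ.hom.map_smul r y
    have h2 : ∀ {P : ModuleCat.{u} (Localization.Away g)} (y : P),
        algebraMap A (Localization.Away g) (s : A) • b • y = algebraMap A (Localization.Away g) a • y := fun y => by
      rw [smul_smul, mul_comm _ b, hb]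
    exact (h1 s (b • x)).symm.trans ((congrArg φ.hom (h2 x)).trans ((h1 a x).trans (h2 (φ.hom x : N)).symm))

lemma bijective_counit [L.IsKInjective] (E : DRing.Cx (Localization.Away g)) :
    Function.Bijective fun y : Q.obj ((resC (loc g)).obj E) ⟶ Q.obj (QL g L) =>
      y ≫ Q.map (counitC (loc g) L) := by
  constructor
  · intro y₁ y₂ hy
    rw [← sub_eq_zero]
    obtain ⟨a, ha⟩ := DualCore.Q_map_surjective (y₁ - y₂)
    obtain ⟨a', rfl⟩ : ∃ a', (resC (loc g)).map a' = a :=
      ⟨{ f := fun n => (res (loc g)).preimage (a.f n)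
         comm' := fun i j _ => (res (loc g)).map_injective (by
           refine ((res (loc g)).map_comp _ _).trans (Eq.trans ?_ ((res (loc g)).map_comp _ _).symm)
           exact (congrArg (· ≫ _) ((res (loc g)).map_preimage (a.f i))).trans
             ((a.comm i j).trans (congrArg (_ ≫ ·) ((res (loc g)).map_preimage (a.f j))).symm)) },
        by ext n : 1; exact (res (loc g)).map_preimage _⟩
    rw [← ha]
    have h0 : Q.map ((resC (loc g)).map a' ≫ counitC (loc g) L) = 0 := by
      rw [Functor.map_comp, ha, Preadditive.sub_comp]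
      exact sub_eq_zero.2 hy
    obtain ⟨H⟩ := homotopy_of_Q_map_eq_zero h0
    obtain ⟨H'⟩ := homotopy_lift (loc g) _ _ a' H
    exact Q_map_eq_zero_of_homotopy (((res (loc g)).mapHomotopy H').trans (Homotopy.ofEq (Functor.map_zero _ _ _)))
  · intro z
    obtain ⟨a, rfl⟩ := DualCore.Q_map_surjective z
    obtain ⟨a', ha'⟩ := exists_lift (loc g) E L a
    exact ⟨Q.map ((resC (loc g)).map a'), by simp only [← Functor.map_comp, ha']⟩

lemma bijective_res_ext (f : A) (M : ModuleCat.{u} A) (hM : Function.Bijective fun x : M => f • x) :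
    Function.Bijective fun x : (res (loc g)).obj ((ModuleCat.extendScalars.{u, u, u} (loc g)).obj M) => f • x := by
  let G := ModuleCat.extendScalars.{u, u, u} (loc g) ⋙ res (loc g)
  let e : M ≅ M := (LinearEquiv.ofBijective (f • LinearMap.id) hM).toModuleIso
  have h : ⇑(G.mapIso e).toLinearEquiv = fun x : G.obj M => f • x := by
    funext x
    let v := G.map e.hom
    change v x = f • x
    induction x using TensorProduct.induction_on with
    | zero => exact (map_zero v.hom).trans (smul_zero f).symm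
    | tmul b m =>
      refine (ModuleCat.ExtendScalars.map_tmul (loc g) e.hom b m).trans ?_
      refine Eq.trans ?_ (ModuleCat.ExtendScalars.smul_tmul (f := loc g) (M := M) (loc g f) b m).symm
      let S₀ := (ModuleCat.restrictScalars.{u} (loc g)).obj (ModuleCat.of (Localization.Away g) (Localization.Away g))
      have : TensorProduct.CompatibleSMul A A S₀ M := TensorProduct.CompatibleSMul.isScalarTower
      exact (TensorProduct.smul_tmul (R := A) (R' := A) (M := S₀) f b m).symm
    | add x y hx hy => exact (map_add v.hom x y).trans ((congrArg₂ (· + ·) hx hy).trans (smul_add f x y).symm)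
  have hb := (G.mapIso e).toLinearEquiv.bijective
  rw [h] at hb
  exact hb

lemma subsingleton_QL [L.IsKInjective] {f : A} (hL : DCD f (Q.obj L)) (E : DRing.Cx A)
    (hE : ∀ i, Function.Bijective fun x : E.X i => f • x) : Subsingleton (Q.obj E ⟶ Q.obj (QL g L)) := by
  refine subsingleton_of_forall_eq 0 fun y => ?_
  obtain ⟨a, rfl⟩ := DualCore.Q_map_surjective y
  let adj := ModuleCat.extendRestrictScalarsAdj.{u, u, u} (loc g)
  have := adj.left_adjoint_additive
  let W := ((ModuleCat.extendScalars.{u, u, u} (loc g)).mapHomologicalComplex (ComplexShape.up ℤ)).obj E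
  let a' : W ⟶ (coextC (loc g)).obj L :=
    { f := fun n => (adj.homEquiv _ _).symm (a.f n)
      comm' := fun i j _ => by
        change (adj.homEquiv _ _).symm (a.f i) ≫ ((coextC (loc g)).obj L).d i j =
          (ModuleCat.extendScalars.{u, u, u} (loc g)).map (E.d i j) ≫ (adj.homEquiv _ _).symm (a.f j)
        exact (adj.homEquiv_naturality_right_symm (a.f i) _).symm.trans
          ((congrArg _ (a.comm i j)).trans (adj.homEquiv_naturality_left_symm (E.d i j) (a.f j))) }
  let η : E ⟶ (resC (loc g)).obj W :=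
    { f := fun n => adj.unit.app (E.X n), comm' := fun i j _ => (adj.unit.naturality (E.d i j)).symm }
  have he : η ≫ (resC (loc g)).map a' = a := by
    ext n : 1
    exact (adj.homEquiv_unit _ _ _).symm.trans ((adj.homEquiv _ _).apply_symm_apply _)
  have hsub : Subsingleton (Q.obj ((resC (loc g)).obj W) ⟶ Q.obj L) :=
    subsingleton_hom_of_bijective (fun i => bijective_res_ext g f (E.X i) (hE i)) hL
  obtain ⟨H⟩ := homotopy_of_Q_map_eq_zero (hsub.elim (Q.map ((resC (loc g)).map a' ≫ counitC (loc g) L)) 0)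
  obtain ⟨H'⟩ := homotopy_lift (loc g) _ _ a' H
  rw [← he, Functor.map_comp,
    Q_map_eq_zero_of_homotopy (((res (loc g)).mapHomotopy H').trans (Homotopy.ofEq (Functor.map_zero _ _ _))),
    comp_zero]

end HomAway

/-- The cone of the counit is a completion step. -/
theorem step_spec (g : A) (C : Dual.D A) (L : DRing.Cx A) [L.IsKInjective] (e : Q.obj L ≅ C) (C' : Dual.D A)
    (q : Q.obj L ⟶ C') (δ : C' ⟶ (Q.obj (QL g L))⟦(1 : ℤ)⟧)
    (hT : Triangle.mk (Q.map (counitC (loc g) L)) q δ ∈ distTriang (Dual.D A)) :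
    DCD g C' ∧ (∀ f, DCD f C → DCD f C') ∧
      ∀ Z, DCD g Z → Function.Bijective fun x : C' ⟶ Z => (e.inv ≫ q) ≫ x := by
  let T := Triangle.mk (Q.map (counitC (loc g) L)) q δ
  refine ⟨dcd_of_van (van_obj₃ g (T := T) hT (bijective_counit g L)), fun f hf => ?_, fun Z hZ => ?_⟩
  · have hfL : DCD f (Q.obj L) := hf.of_iso e.symm
    refine dcd_of_van (van_obj₃ f (T := T) hT fun E => ?_)
    have h1 : Subsingleton (Q.obj ((resC (loc f)).obj E) ⟶ Q.obj (QL g L)) :=
      subsingleton_QL g L hfL _ (bijective_resC f E)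
    have h2 : Subsingleton (Q.obj ((resC (loc f)).obj E) ⟶ Q.obj L) := hfL.van E
    exact ⟨fun _ _ _ => h1.elim _ _, fun z => ⟨0, h2.elim _ _⟩⟩
  · have h1 : Subsingleton (Q.obj (QL g L) ⟶ Z) :=
      subsingleton_hom_of_bijective (bijective_resC g _) hZ
    have h2 : Subsingleton ((Q.obj (QL g L))⟦(1 : ℤ)⟧ ⟶ Z) := by
      have := hZ.van (((coextC (loc g)).obj L)⟦(1 : ℤ)⟧)
      exact ⟨fun a b => (cancel_epi (shiftResIso g ((coextC (loc g)).obj L) 1).inv).1 (this.elim _ _)⟩
    refine ⟨fun a b hab => ?_, fun z => ?_⟩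
    · simp only [Category.assoc, cancel_epi] at hab
      rw [← sub_eq_zero]
      obtain ⟨w, hw⟩ := T.yoneda_exact₃ hT (a - b) (by
        change q ≫ (a - b) = 0
        rw [Preadditive.comp_sub, hab, sub_self])
      exact hw.trans ((congrArg (δ ≫ ·) (h2.elim w 0)).trans comp_zero)
    · obtain ⟨x, hx⟩ := T.yoneda_exact₂ hT (e.hom ≫ z) (h1.elim _ _)
      refine ⟨x, ?_⟩
      refine (Category.assoc e.inv q x).trans ?_
      exact (congrArg (e.inv ≫ ·) hx.symm).trans (e.inv_hom_id_assoc z)

/-- One step of the completion. -/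
theorem exists_step (g : A) (C : Dual.D A) :
    ∃ (C' : Dual.D A) (η : C ⟶ C'), DCD g C' ∧ (∀ f, DCD f C → DCD f C') ∧
      ∀ Z, DCD g Z → Function.Bijective fun x : C' ⟶ Z => η ≫ x := by
  obtain ⟨L, hL, ⟨e⟩⟩ := DerivedCoh.KInjRes.exists_kInjective_iso C
  obtain ⟨C', q, δ, hT⟩ := distinguished_cocone_triangle (Q.map (counitC (loc g) L))
  exact ⟨C', e.inv ≫ q, step_spec g C L e C' q δ hT⟩

/-- The completion at a finite list. -/
theorem exists_completion : ∀ (l : List A) (K : Dual.D A),
    ∃ (C : Dual.D A) (η : K ⟶ C), (∀ f ∈ l, DCD f C) ∧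
      ∀ Z, (∀ f ∈ l, DCD f Z) → Function.Bijective fun x : C ⟶ Z => η ≫ x
  | [], K => ⟨K, 𝟙 K, by simp, fun Z _ =>
      ⟨fun a b h => by simpa using h, fun z => ⟨z, Category.id_comp z⟩⟩⟩
  | g :: l, K => by
    obtain ⟨C, η, hC, hu⟩ := exists_completion l K
    obtain ⟨C', η', hg, hkeep, hu'⟩ := exists_step g C
    refine ⟨C', η ≫ η', ?_, fun Z hZ => ?_⟩
    · intro f hf
      rcases List.mem_cons.1 hf with rfl | hf
      · exact hg
      · exact hkeep f (hC f hf)
    · have h := (hu Z fun f hf => hZ f (List.mem_cons_of_mem g hf)).comp (hu' Z (hZ g List.mem_cons_self))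
      simpa [Function.comp_def] using h

/-- Derived completion exists. -/
theorem hasDerivedCompletion (I : Ideal A) (hI : I.FG) : DRing.HasDerivedCompletion I := by
  obtain ⟨s, hs⟩ := hI
  choose C η hC hu using exists_completion s.toList
  have hCc : ∀ K, DRing.IsDerivedComplete I (C K) := fun K => by
    rw [← hs]
    exact isDerivedComplete_span fun f hf => hC K f (Finset.mem_toList.2 hf)
  let e : ∀ (K : Dual.D A) (Z : DRing.DComp I),
      ((⟨C K, hCc K⟩ : DRing.DComp I) ⟶ Z) ≃ (K ⟶ (ObjectProperty.ι (DRing.IsDerivedComplete I)).obj Z) :=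
    fun K Z => (ObjectProperty.fullyFaithfulι _).homEquiv.trans
      (Equiv.ofBijective _ (hu K Z.obj fun f hf =>
        dcd_of_isDerivedComplete (hs ▸ Ideal.subset_span (Finset.mem_toList.1 hf)) Z.property))
  exact (Adjunction.adjunctionOfEquivLeft e fun K Z Z' g h => by
    change η K ≫ (h ≫ g).hom = (η K ≫ h.hom) ≫ g.hom
    exact (Category.assoc _ _ _).symm).isRightAdjoint

end Groth.DAlg.DCompletion
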