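import Groth.Agent.DAlg.DCompletionAmp
import Groth.Agent.DAlg.RHomCx
import Mathlib.Algebra.Homology.HomotopyCategory.HomComplexSingle
import Mathlib.RingTheory.Localization.BaseChange
import Mathlib.LinearAlgebra.TensorProduct.Basic

/-!
`RHom_A(A_g, -)` on K-injective complexes, and its composition laws.
-/

universe u

open CategoryTheory CategoryTheory.Limits CochainComplex CochainComplex.HomComplex
open Groth.DerivedCoh Groth.DualCore Groth.DAlg.DCompletion
open scoped TensorProduct

attribute [local instance] HasDerivedCategory.standard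

namespace Groth.DAlg.RHomAway

variable {A : Type u} [CommRing A]

/-- `Hom_A(M, -)`. -/
noncomputable def homFrom (M : ModuleCat.{u} A) : ModuleCat.{u} A ⥤ ModuleCat.{u} A where
  obj N := ModuleCat.of A (M →ₗ[A] N)
  map φ := ModuleCat.ofHom (LinearMap.compRight A φ.hom)

instance (M : ModuleCat.{u} A) : (homFrom M).Additive where
  map_add {N N'} {φ ψ} := by
    ext f
    rfl

/-- Cochains from a single complex. -/
noncomputable def cochainLin (M : ModuleCat.{u} A) (L : DRing.Cx A) (i : ℤ) :
    (M →ₗ[A] L.X i) ≃ₗ[A] Cochain ((CochainComplex.singleFunctor (ModuleCat.{u} A) 0).obj M) L i :=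
  let E := (ModuleCat.homAddEquiv (M := M) (N := L.X i)).symm.trans
    (Cochain.fromSingleEquiv (X := M) (K := L) (show 0 + i = i from zero_add i)).symm
  { E with
    map_smul' := fun a φ => by
      apply (Cochain.fromSingleEquiv (X := M) (K := L) (show 0 + i = i from zero_add i)).injective
      refine ((Cochain.fromSingleEquiv _).apply_symm_apply _).trans ?_
      change _ = (HomologicalComplex.singleObjXSelf (.up ℤ) 0 M).inv ≫ (a • E φ).v 0 i (zero_add i)
      rw [Cochain.smul_v]
      refine ModuleCat.hom_ext (LinearMap.ext fun x => ?_)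
      change a • φ x = a • _
      refine congrArg (a • ·) ?_
      exact (congrArg (fun t : M ⟶ L.X i => t.hom x) ((Cochain.fromSingleEquiv (X := M) (K := L)
        (show 0 + i = i from zero_add i)).apply_symm_apply (ModuleCat.ofHom φ))).symm }

/-- `Hom•(M[0], L)` is `Hom(M, L)` termwise. -/
noncomputable def homSingleIso (M : ModuleCat.{u} A) (L : DRing.Cx A) :
    ((homFrom M).mapHomologicalComplex (ComplexShape.up ℤ)).obj L ≅
      DRing.homCx ((HomologicalComplex.single (ModuleCat.{u} A) (ComplexShape.up ℤ) 0).obj M) L :=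
  HomologicalComplex.Hom.isoOfComponents (fun i => (cochainLin M L i).toModuleIso) fun i j _ => by
    refine ModuleCat.hom_ext (LinearMap.ext fun (φ : M →ₗ[A] L.X i) => ?_)
    exact Cochain.δ_fromSingleMk (ModuleCat.ofHom φ) (zero_add i) j j (zero_add j)

/-- `Hom_A(A_g, -)` as coextension followed by restriction. -/
noncomputable def awayNatIso (g : A) :
    ModuleCat.coextendScalars.{u, u, u} (loc g) ⋙ ModuleCat.restrictScalars.{u} (loc g) ≅
      homFrom (ModuleCat.of A (Localization.Away g)) :=
  NatIso.ofComponents
    (fun N => LinearEquiv.toModuleIso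
      ({ toFun := fun φ => LinearMap.comp (show (ModuleCat.restrictScalars.{u} (loc g)).obj
              (ModuleCat.of (Localization.Away g) (Localization.Away g)) →ₗ[A] N from φ)
            (DCompletionAmp.resOfIso g).inv.hom
         map_add' := fun _ _ => rfl
         map_smul' := fun a φ => LinearMap.ext fun x => by
          let ψ : (ModuleCat.restrictScalars.{u} (loc g)).obj
            (ModuleCat.of (Localization.Away g) (Localization.Away g)) →ₗ[A] N := φ
          change ψ ((show Localization.Away g from x) * loc g a) = a • ψ x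
          exact (congrArg ψ (mul_comm (show Localization.Away g from x) (loc g a))).trans (ψ.map_smul a x)
         invFun := fun φ => (LinearMap.comp φ (DCompletionAmp.resOfIso g).hom.hom :
          (ModuleCat.restrictScalars.{u} (loc g)).obj
              (ModuleCat.of (Localization.Away g) (Localization.Away g)) →ₗ[A] N)
         left_inv := fun _ => rfl
         right_inv := fun _ => rfl } :
        (ModuleCat.coextendScalars.{u, u, u} (loc g) ⋙ ModuleCat.restrictScalars.{u} (loc g)).obj N ≃ₗ[A]
          (Localization.Away g →ₗ[A] N)))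
    (fun _ => rfl)

/-- `Hom_A(A_g, L)`. -/
noncomputable def qlIso (g : A) (L : DRing.Cx A) :
    QL g L ≅ ((homFrom (ModuleCat.of A (Localization.Away g))).mapHomologicalComplex (ComplexShape.up ℤ)).obj L :=
  HomologicalComplex.Hom.isoOfComponents (fun i => (awayNatIso g).app (L.X i))
    (fun i j _ => ((awayNatIso g).hom.naturality (L.d i j)).symm)

lemma isKInjective_homFrom (g : A) (L : DRing.Cx A) [L.IsKInjective] :
    CochainComplex.IsKInjective
      (((homFrom (ModuleCat.of A (Localization.Away g))).mapHomologicalComplex (ComplexShape.up ℤ)).obj L) :=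
  CochainComplex.isKInjective_of_iso (qlIso g L)

/-- `RHom_A(A_g[0], L)`. -/
noncomputable def rhomAwayIso (g : A)
    [DRing.HasRHomCx ((HomologicalComplex.single (ModuleCat.{u} A) (ComplexShape.up ℤ) 0).obj
      (ModuleCat.of A (Localization.Away g)))] (L : DRing.Cx A) [L.IsKInjective] :
    DRing.toD (((homFrom (ModuleCat.of A (Localization.Away g))).mapHomologicalComplex (ComplexShape.up ℤ)).obj L) ≅
      (DRing.RHomCx ((HomologicalComplex.single (ModuleCat.{u} A) (ComplexShape.up ℤ) 0).obj
        (ModuleCat.of A (Localization.Away g)))).obj (DRing.toD L) :=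
  DerivedCategory.Q.mapIso (homSingleIso _ L) ≪≫ RHomCx.objIso _ L

/-- Currying. -/
noncomputable def curryNatIso (f g : A) :
    homFrom (ModuleCat.of A (Localization.Away g)) ⋙ homFrom (ModuleCat.of A (Localization.Away f)) ≅
      homFrom (ModuleCat.of A (Localization.Away f ⊗[A] Localization.Away g)) :=
  NatIso.ofComponents
    (fun N => (TensorProduct.lift.equiv (RingHom.id A) (Localization.Away f) (Localization.Away g) N).toModuleIso)
    (fun {N N'} φ => by
      refine ModuleCat.hom_ext (LinearMap.ext fun (ψ : Localization.Away f →ₗ[A] Localization.Away g →ₗ[A] N) => ?_)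
      refine TensorProduct.ext' fun x y => ?_
      rfl)

/-- `A_f ⊗ A_g = A_fg`. -/
noncomputable def awayTensor (f g : A) :
    (Localization.Away f ⊗[A] Localization.Away g) ≃ₗ[A] Localization.Away (f * g) :=
  haveI : IsLocalization.Away (f * g) (Localization.Away f ⊗[A] Localization.Away g) :=
    IsLocalization.Away.mul' (Localization.Away f) _ f g
  (IsLocalization.algEquiv (Submonoid.powers (f * g)) _ _).toLinearEquiv

/-- Precomposition with an isomorphism. -/
noncomputable def homFromIso {M M' : ModuleCat.{u} A} (e : M ≃ₗ[A] M') : homFrom M ≅ homFrom M' :=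
  NatIso.ofComponents (fun N => (LinearEquiv.congrLeft N A e).toModuleIso) (fun _ => rfl)

/-- `RHom(A_f, RHom(A_g, K)) = RHom(A_fg, K)`. -/
theorem nonempty_rhom_away_away (f g : A)
    [DRing.HasRHomCx ((HomologicalComplex.single (ModuleCat.{u} A) (ComplexShape.up ℤ) 0).obj
      (ModuleCat.of A (Localization.Away f)))]
    [DRing.HasRHomCx ((HomologicalComplex.single (ModuleCat.{u} A) (ComplexShape.up ℤ) 0).obj
      (ModuleCat.of A (Localization.Away g)))]
    [DRing.HasRHomCx ((HomologicalComplex.single (ModuleCat.{u} A) (ComplexShape.up ℤ) 0).obj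
      (ModuleCat.of A (Localization.Away (f * g))))]
    (K : Dual.D A) :
    Nonempty ((DRing.RHomCx ((HomologicalComplex.single (ModuleCat.{u} A) (ComplexShape.up ℤ) 0).obj
        (ModuleCat.of A (Localization.Away f)))).obj
      ((DRing.RHomCx ((HomologicalComplex.single (ModuleCat.{u} A) (ComplexShape.up ℤ) 0).obj
        (ModuleCat.of A (Localization.Away g)))).obj K) ≅
      (DRing.RHomCx ((HomologicalComplex.single (ModuleCat.{u} A) (ComplexShape.up ℤ) 0).obj
        (ModuleCat.of A (Localization.Away (f * g))))).obj K) := by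
  obtain ⟨L, hL, ⟨e⟩⟩ := KInjRes.exists_kInjective_iso K
  have := isKInjective_homFrom g L
  let G := homFrom (ModuleCat.of A (Localization.Away g))
  let F := homFrom (ModuleCat.of A (Localization.Away f))
  let n : G ⋙ F ≅ homFrom (ModuleCat.of A (Localization.Away (f * g))) :=
    curryNatIso f g ≪≫ homFromIso (M := ModuleCat.of A (Localization.Away f ⊗[A] Localization.Away g))
      (M' := ModuleCat.of A (Localization.Away (f * g))) (awayTensor f g)
  let c : (F.mapHomologicalComplex (ComplexShape.up ℤ)).obj ((G.mapHomologicalComplex (ComplexShape.up ℤ)).obj L) ≅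
      ((homFrom (ModuleCat.of A (Localization.Away (f * g)))).mapHomologicalComplex (ComplexShape.up ℤ)).obj L :=
    HomologicalComplex.Hom.isoOfComponents (fun i => n.app (L.X i))
      (fun i j _ => (n.hom.naturality (L.d i j)).symm)
  exact ⟨(DRing.RHomCx _).mapIso ((DRing.RHomCx _).mapIso e.symm ≪≫ (rhomAwayIso g L).symm) ≪≫
    (rhomAwayIso f _).symm ≪≫ DerivedCategory.Q.mapIso c ≪≫ rhomAwayIso (f * g) L ≪≫ (DRing.RHomCx _).mapIso e⟩

end Groth.DAlg.RHomAway
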