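import Groth.Agent.DAlg.DCompletionRHom
import Groth.Agent.DAlg.RHomAway
import Groth.Agent.LocCohTransform.ExtCechBase
import Mathlib.Algebra.Homology.HomotopyCategory.MappingCocone

/-!
Derived completion as `RHom_A(Č, -)` for the extended alternating Čech complex `Č`.
-/

universe u

open CategoryTheory CategoryTheory.Limits CategoryTheory.Pretriangulated
open CochainComplex CochainComplex.HomComplex
open Groth.DerComplete Groth.DerivedCoh Groth.DualCore
open Groth.DAlg.DCompletion Groth.DAlg.DCompletionAmp Groth.DAlg.DCompletionRHom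

attribute [local instance] HasDerivedCategory.standard

namespace Groth.DAlg.DCompletionCech

variable {A : Type u} [CommRing A]

/-- Precomposition. -/
noncomputable def homCxPre {K K' : DRing.Cx A} (φ : K ⟶ K') (L : DRing.Cx A) :
    DRing.homCx K' L ⟶ DRing.homCx K L where
  f i := ModuleCat.ofHom
    { toFun := fun z => ((Cochain.ofHom φ).comp (z : Cochain K' L i) (zero_add i) : Cochain K L i)
      map_add' := fun z z' => Cochain.comp_add _ _ _ _
      map_smul' := fun a z => Cochain.ext _ _ fun p q hpq => by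
        change ((Cochain.ofHom φ).comp (a • (z : Cochain K' L i)) (zero_add i)).v p q hpq = _
        rw [Cochain.zero_cochain_comp_v, Cochain.smul_v, Linear.comp_smul, ← Cochain.zero_cochain_comp_v]
        rfl }
  comm' i j _ := by
    refine ModuleCat.hom_ext (LinearMap.ext fun (z : Cochain K' L i) => ?_)
    exact δ_ofHom_comp φ z j

/-- Sources on which `g` is bijective give cochains on which `g` is bijective. -/
lemma bijective_homCx_source (g : A) {K : DRing.Cx A} (L : DRing.Cx A)
    (hK : ∀ i, Function.Bijective fun x : K.X i => g • x) (i : ℤ) :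
    Function.Bijective fun z : (DRing.homCx K L).X i => g • z := by
  let eqv : ∀ q, K.X q ≃ₗ[A] K.X q := fun q => LinearEquiv.ofBijective (g • LinearMap.id) (hK q)
  refine ⟨fun (z z' : Cochain K L i) hz => Cochain.ext _ _ fun p q hpq => ?_, fun (w : Cochain K L i) => ?_⟩
  · refine ModuleCat.hom_ext (LinearMap.ext fun x => ?_)
    obtain ⟨y, rfl⟩ := (hK p).2 x
    change (z.v p q hpq).hom (g • y) = (z'.v p q hpq).hom (g • y)
    rw [map_smul, map_smul]
    exact congrArg (fun t : Cochain K L i => (t.v p q hpq).hom y) hz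
  · refine ⟨Cochain.mk fun p q hpq => ModuleCat.ofHom (eqv p).symm.toLinearMap ≫ w.v p q hpq, ?_⟩
    refine Cochain.ext _ _ fun p q hpq => ModuleCat.hom_ext (LinearMap.ext fun x => ?_)
    change g • (w.v p q hpq).hom ((eqv p).symm x) = _
    rw [← map_smul]
    exact congrArg _ ((eqv p).apply_symm_apply x)

/-- `Hom•(-, L)` of a degreewise split short exact sequence. -/
theorem homCxPre_shortExact (L : DRing.Cx A) (S : ShortComplex (DRing.Cx A))
    (r : ∀ n, S.X₂.X n ⟶ S.X₁.X n) (s : ∀ n, S.X₃.X n ⟶ S.X₂.X n)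
    (hfr : ∀ n, S.f.f n ≫ r n = 𝟙 (S.X₁.X n)) (hsg : ∀ n, s n ≫ S.g.f n = 𝟙 (S.X₃.X n))
    (hid : ∀ n, r n ≫ S.f.f n + S.g.f n ≫ s n = 𝟙 (S.X₂.X n)) :
    ∃ w, (ShortComplex.mk (homCxPre S.g L) (homCxPre S.f L) w).ShortExact := by
  have hfg : ∀ n, S.f.f n ≫ S.g.f n = 0 := fun n => by
    rw [← HomologicalComplex.comp_f, S.zero, HomologicalComplex.zero_f]
  have w : homCxPre S.g L ≫ homCxPre S.f L = 0 := by
    refine HomologicalComplex.hom_ext _ _ fun i => ModuleCat.hom_ext (LinearMap.ext fun (z : Cochain S.X₃ L i) => ?_)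
    change (Cochain.ofHom S.f).comp ((Cochain.ofHom S.g).comp z (zero_add i)) (zero_add i) = 0
    refine Cochain.ext _ _ fun p q hpq => ?_
    rw [Cochain.zero_cochain_comp_v, Cochain.zero_cochain_comp_v, Cochain.ofHom_v, Cochain.ofHom_v,
      ← Category.assoc, hfg, zero_comp, Cochain.zero_v]
  refine ⟨w, HomologicalComplex.shortExact_of_degreewise_shortExact _ fun i => ?_⟩
  refine { exact := ?_, mono_f := ?_, epi_g := ?_ }
  · rw [ShortComplex.moduleCat_exact_iff]
    intro (z : Cochain S.X₂ L i) hz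
    refine ⟨Cochain.mk fun p q hpq => s p ≫ z.v p q hpq, ?_⟩
    refine Cochain.ext _ _ fun p q hpq => ?_
    change (Cochain.comp (Cochain.ofHom S.g) _ (zero_add i)).v p q hpq = z.v p q hpq
    have h0 : S.f.f p ≫ z.v p q hpq = 0 := by
      have h := congrArg (fun t : Cochain S.X₁ L i => t.v p q hpq) hz
      change ((Cochain.ofHom S.f).comp z (zero_add i)).v p q hpq = (0 : Cochain S.X₁ L i).v p q hpq at h
      rwa [Cochain.zero_cochain_comp_v, Cochain.ofHom_v, Cochain.zero_v] at h
    rw [Cochain.zero_cochain_comp_v, Cochain.ofHom_v, Cochain.mk_v]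
    conv_rhs => rw [← Category.id_comp (z.v p q hpq), ← hid, Preadditive.add_comp, Category.assoc, h0,
      comp_zero, zero_add, Category.assoc]
  · rw [ModuleCat.mono_iff_injective]
    intro (z : Cochain S.X₃ L i) (z' : Cochain S.X₃ L i) hz
    refine Cochain.ext _ _ fun p q hpq => ?_
    have := congrArg (fun t : Cochain S.X₂ L i => s p ≫ t.v p q hpq) hz
    change s p ≫ ((Cochain.ofHom S.g).comp z (zero_add i)).v p q hpq =
      s p ≫ ((Cochain.ofHom S.g).comp z' (zero_add i)).v p q hpq at this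
    simpa [Cochain.zero_cochain_comp_v, Cochain.ofHom_v, reassoc_of% hsg] using this
  · rw [ModuleCat.epi_iff_surjective]
    intro (z : Cochain S.X₁ L i)
    refine ⟨Cochain.mk fun p q hpq => r p ≫ z.v p q hpq, Cochain.ext _ _ fun p q hpq => ?_⟩
    change (Cochain.comp (Cochain.ofHom S.f) _ (zero_add i)).v p q hpq = z.v p q hpq
    rw [Cochain.zero_cochain_comp_v, Cochain.ofHom_v, Cochain.mk_v, ← Category.assoc, hfr, Category.id_comp]

section Torsion

variable (g : A) (C : DRing.Cx A)

/-- Extension to `A_g` kills a complex with `g`-power torsion cohomology. -/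
lemma acyclic_ext (hC : ∀ (n : ℤ) (x : C.homology n), ∃ k : ℕ, g ^ k • x = 0) :
    HomologicalComplex.Acyclic
      (((ModuleCat.extendScalars.{u, u, u} (loc g)).mapHomologicalComplex (ComplexShape.up ℤ)).obj C) := by
  intro n
  have : PreservesFiniteLimits (ModuleCat.extendScalars.{u, u, u} (loc g)) :=
    ModuleCat.preservesFiniteLimits_extendScalars_of_flat (RingHom.flat_algebraMap_iff.2 inferInstance)
  have : PreservesFiniteColimits (ModuleCat.extendScalars.{u, u, u} (loc g)) :=
    (ModuleCat.extendRestrictScalarsAdj.{u, u, u} (loc g)).leftAdjoint_preservesColimits.{0, 0}.preservesFiniteColimits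
  rw [HomologicalComplex.exactAt_iff, ShortComplex.exact_iff_isZero_homology]
  refine IsZero.of_iso ?_ ((C.sc n).mapHomologyIso (ModuleCat.extendScalars.{u, u, u} (loc g)))
  refine @ModuleCat.isZero_of_subsingleton _ _ _ (subsingleton_of_forall_eq 0 fun y => ?_)
  induction y using TensorProduct.induction_on with
  | zero => rfl
  | tmul b m =>
    obtain ⟨k, hk⟩ : ∃ k, g ^ k • (m : (C.sc n).homology) = 0 := hC n m
    have hu : IsUnit (algebraMap A (Localization.Away g) (g ^ k)) := by
      rw [map_pow]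
      exact (IsLocalization.Away.algebraMap_isUnit g).pow k
    let S₀ := (ModuleCat.restrictScalars.{u} (loc g)).obj (ModuleCat.of (Localization.Away g) (Localization.Away g))
    have hc : TensorProduct.CompatibleSMul A A S₀ (C.sc n).homology := TensorProduct.CompatibleSMul.isScalarTower
    obtain ⟨c, rfl⟩ : ∃ c : S₀, (g ^ k) • c = b := by
      obtain ⟨c, hc⟩ := (IsUnit.smul_bijective (β := Localization.Away g) hu).2 b
      exact ⟨c, hc⟩
    refine (TensorProduct.smul_tmul (R := A) (R' := A) (M := S₀) (g ^ k) c m).trans ?_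
    exact (congrArg (fun t => c ⊗ₜ[A] t) hk).trans (TensorProduct.tmul_zero _ _)
  | add x y hx hy => exact (congrArg₂ (· + ·) hx hy).trans (add_zero _)

/-- Maps from a torsion complex to a coextended one are null homotopic. -/
lemma nonempty_homotopy_zero (hC : ∀ (n : ℤ) (x : C.homology n), ∃ k : ℕ, g ^ k • x = 0)
    (Y : DRing.Cx (Localization.Away g)) [Y.IsKInjective] (a : C ⟶ (resC (loc g)).obj Y) :
    Nonempty (Homotopy a 0) := by
  let adj := ModuleCat.extendRestrictScalarsAdj.{u, u, u} (loc g)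
  have := adj.left_adjoint_additive
  let W := ((ModuleCat.extendScalars.{u, u, u} (loc g)).mapHomologicalComplex (ComplexShape.up ℤ)).obj C
  let a' : W ⟶ Y :=
    { f := fun n => (adj.homEquiv _ _).symm (a.f n)
      comm' := fun i j _ => by
        exact (adj.homEquiv_naturality_right_symm (a.f i) _).symm.trans
          ((congrArg _ (a.comm i j)).trans (adj.homEquiv_naturality_left_symm (C.d i j) (a.f j))) }
  let η : C ⟶ (resC (loc g)).obj W :=
    { f := fun n => adj.unit.app (C.X n), comm' := fun i j _ => (adj.unit.naturality (C.d i j)).symm }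
  have he : η ≫ (resC (loc g)).map a' = a := by
    ext n : 1
    exact (adj.homEquiv_unit _ _ _).symm.trans ((adj.homEquiv _ _).apply_symm_apply _)
  obtain ⟨H⟩ := CochainComplex.IsKInjective.nonempty_homotopy_zero a' (acyclic_ext g C hC)
  exact ⟨(Homotopy.ofEq he.symm).trans ((((res (loc g)).mapHomotopy H).compLeft η).trans
    (Homotopy.ofEq (by simp)))⟩

/-- The Hom complex into a coextended complex is acyclic. -/
lemma acyclic_homCx (hC : ∀ (n : ℤ) (x : C.homology n), ∃ k : ℕ, g ^ k • x = 0)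
    (Y : DRing.Cx (Localization.Away g)) [Y.IsKInjective] :
    (DRing.homCx C ((resC (loc g)).obj Y)).Acyclic := by
  intro n
  rw [HomologicalComplex.exactAt_iff' _ (n - 1) n (n + 1) (by simp) (by simp), ShortComplex.moduleCat_exact_iff]
  intro (z : Cochain C ((resC (loc g)).obj Y) n) hz
  let zc : Cocycle C ((resC (loc g)).obj Y) n := Cocycle.mk z (n + 1) rfl hz
  have h0 : CohomologyClass.toHom (CohomologyClass.mk zc) = 0 := by
    obtain ⟨b, hb⟩ := (HomotopyCategory.quotient _ _).map_surjective (CohomologyClass.toHom (CohomologyClass.mk zc))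
    rw [← hb]
    let i := ((resC (loc g)).commShiftIso n).app Y
    obtain ⟨H⟩ := nonempty_homotopy_zero g C hC (Y⟦n⟧) (b ≫ i.inv)
    have hb0 : (HomotopyCategory.quotient _ _).map (b ≫ i.inv) = 0 :=
      (HomotopyCategory.eq_of_homotopy _ _ H).trans (Functor.map_zero _ _ _)
    rw [Functor.map_comp] at hb0
    exact (cancel_mono ((HomotopyCategory.quotient _ _).map i.inv)).1 (hb0.trans zero_comp.symm)
  have h1 : CohomologyClass.mk zc = 0 :=
    (CohomologyClass.toHom_bijective _ _ _).1 (h0.trans (map_zero _).symm)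
  rw [CohomologyClass.mk_eq_zero_iff] at h1
  obtain ⟨m, hm, β, hβ⟩ := h1
  obtain rfl : m = n - 1 := by omega
  exact ⟨β, hβ⟩

/-- `Hom•(C, L)` is derived complete at `g` when the cohomology of `C` is `g`-power torsion. -/
theorem dcd_homCx_torsion (hC : ∀ (n : ℤ) (x : C.homology n), ∃ k : ℕ, g ^ k • x = 0)
    (L : DRing.Cx A) [L.IsKInjective] : DCD g (DRing.toD (DRing.homCx C L)) := by
  let p := counitC (loc g) L
  have hT : DerivedCategory.Q.mapTriangle.obj (mappingCone.triangle p) ∈ distTriang (Dual.D A) := by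
    rw [DerivedCategory.mem_distTriang_iff]
    exact ⟨_, _, p, ⟨Iso.refl _⟩⟩
  have := Groth.DAlg.RFTriangle.isKInjective_cone p
  have hcone : DCD g (DerivedCategory.Q.obj (mappingCone p)) :=
    dcd_of_van (van_obj₃ g hT (bijective_counit g L))
  obtain ⟨w, hS⟩ := homCx_cone_shortExact C p
  have hT' := DerivedCategory.triangleOfSES_distinguished hS
  have := (ModuleCat.restrictCoextendScalarsAdj.{u, u, u} (loc g)).right_adjoint_additive
  have hY : ((coextC (loc g)).obj L).IsKInjective :=
    SiteCohomology.isKInjective_map_of_adjunction (rAdj (loc g)) L ‹_›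
  have hX₃ : (DRing.homCx C ((mappingCone.triangle p).obj₁⟦(1 : ℤ)⟧)).Acyclic := by
    have h := acyclic_homCx g C hC (((coextC (loc g)).obj L)⟦(1 : ℤ)⟧)
    let i : (resC (loc g)).obj (((coextC (loc g)).obj L)⟦(1 : ℤ)⟧) ≅ (mappingCone.triangle p).obj₁⟦(1 : ℤ)⟧ :=
      ((resC (loc g)).commShiftIso (1 : ℤ)).app _
    exact fun n => (h n).of_iso ((DRing.homCxFunctor C).mapIso i)
  have hz : IsZero (DerivedCategory.triangleOfSES hS).obj₃ :=
    isZero_of_hz' hX₃
  have : IsIso (DerivedCategory.triangleOfSES hS).mor₁ := (Triangle.isZero₃_iff_isIso₁ _ hT').1 hz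
  exact (dcd_homCx g (mappingCone p) C hcone).of_iso (asIso (DerivedCategory.triangleOfSES hS).mor₁).symm
where
  isZero_of_hz' {E : DRing.Cx A} (h : E.Acyclic) : IsZero (DRing.toD E) := by
    have h0 : ∀ i, Subsingleton (Dual.HD A (DRing.toD E) i) := fun i =>
      ModuleCat.subsingleton_of_isZero (IsZero.of_iso
        ((HomologicalComplex.exactAt_iff_isZero_homology _ _).1 (h i))
        ((DerivedCategory.homologyFunctorFactors _ i).app E))
    have : (DRing.toD E).IsLE (-1) := by
      rw [DerivedCategory.isLE_iff]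
      exact fun i _ => @ModuleCat.isZero_of_subsingleton _ _ _ (h0 i)
    have : (DRing.toD E).IsGE 0 := by
      rw [DerivedCategory.isGE_iff]
      exact fun i _ => @ModuleCat.isZero_of_subsingleton _ _ _ (h0 i)
    exact DerivedCategory.TStructure.t.isZero _ (-1) 0 (by norm_num)

end Torsion

section Step

variable {X Y : DRing.Cx A} (φ : X ⟶ Y)

/-- `Y⟦-1⟧ ⟶ cocone φ`. -/
noncomputable def coconeι : Y⟦(-1 : ℤ)⟧ ⟶ mappingCocone φ := (mappingCone.inr φ)⟦(-1 : ℤ)⟧'

lemma coconeι_fst : coconeι φ ≫ mappingCocone.fst φ = 0 := by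
  ext n : 1
  refine Eq.trans ?_ (show (0 : (Y⟦(-1 : ℤ)⟧).X n ⟶ X.X n) = _ from rfl)
  change (mappingCone.inr φ).f (n + -1) ≫
    (-(mappingCone.fst φ : Cochain (mappingCone φ) X 1).leftShift (-1) 0 (add_neg_cancel 1)).v n n (add_zero n) = 0
  rw [Cochain.neg_v]
  erw [Cochain.leftShift_v _ (-1) 0 (add_neg_cancel 1) n n (add_zero n) (n + -1) (by omega)]
  simp
  exact (congrArg ((mappingCone.inr φ).f (n + -1) ≫ ·) ((neg_neg _).trans (Category.id_comp _))).trans
    (mappingCone.inr_f_fst_v φ _ _ _)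

lemma cocone_id (n : ℤ) :
    ((mappingCone.snd φ).v (n + -1) (n + -1) (add_zero _) ≫ (coconeι φ).f n :
      (mappingCocone φ).X n ⟶ (mappingCocone φ).X n) +
      (mappingCocone.fst φ).f n ≫ (mappingCocone.inl φ).v n n (add_zero n) = 𝟙 ((mappingCocone φ).X n) := by
  rw [add_comm]
  refine Eq.trans ?_ (mappingCocone.id_X φ n (n + -1) rfl)
  refine congrArg _ ?_
  have h1 := Cochain.leftShift_v (mappingCone.snd φ) (-1) (-1) (zero_add _) n (n + -1) rfl (n + -1) (add_zero _)
  have h2 := Cochain.rightShift_v (Cochain.ofHom (mappingCone.inr φ)) (-1) 1 (by omega) (n + -1) n (by omega) (n + -1) (add_zero _)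
  refine Eq.trans ?_ (congrArg₂ (· ≫ ·) h1 h2).symm
  simp [coconeι]
  erw [Int.negOnePow_even 2 ⟨1, rfl⟩, one_smul, Category.id_comp, Category.comp_id]
  rfl

/-- `Hom•(-, L)` of the sequence of a mapping cocone. -/
theorem homCxPre_cocone_shortExact (L : DRing.Cx A) :
    ∃ w, (ShortComplex.mk (homCxPre (mappingCocone.fst φ) L) (homCxPre (coconeι φ) L) w).ShortExact :=
  homCxPre_shortExact L (ShortComplex.mk (coconeι φ) (mappingCocone.fst φ) (coconeι_fst φ) : ShortComplex (DRing.Cx A))
    (fun n => (mappingCone.snd φ).v (n + -1) (n + -1) (add_zero _)) (fun n => (mappingCocone.inl φ).v n n (add_zero n))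
    (fun n => mappingCone.inr_f_snd_v φ (n + -1)) (fun n => mappingCocone.inl_v_fst_f φ n) (fun n => cocone_id φ n)

end Step

/-- One step: precomposition with `cocone φ ⟶ X`. -/
theorem bijective_step (g : A) {X Y : DRing.Cx A} (φ : X ⟶ Y)
    (hY : ∀ i, Function.Bijective fun x : Y.X i => g • x) (L : DRing.Cx A) (Z : Dual.D A) (hZ : DCD g Z) :
    Function.Bijective fun x : DRing.toD (DRing.homCx (mappingCocone φ) L) ⟶ Z =>
      DerivedCategory.Q.map (homCxPre (mappingCocone.fst φ) L) ≫ x := by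
  obtain ⟨w, hS⟩ := homCxPre_cocone_shortExact φ L
  let T := DerivedCategory.triangleOfSES hS
  have hT' : T ∈ distTriang (Dual.D A) := DerivedCategory.triangleOfSES_distinguished hS
  have hbij : ∀ i, Function.Bijective fun x : (Y⟦(-1 : ℤ)⟧).X i => g • x := fun i => hY (i + -1)
  have h3 : Subsingleton (T.obj₃ ⟶ Z) := subsingleton_hom_of_bijective (bijective_homCx_source g L hbij) hZ
  have h0 : Subsingleton (T.obj₃⟦(-1 : ℤ)⟧ ⟶ Z) := by
    have h : Subsingleton (DerivedCategory.Q.obj ((DRing.homCx (Y⟦(-1 : ℤ)⟧) L)⟦(-1 : ℤ)⟧) ⟶ Z) :=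
      subsingleton_hom_of_bijective (fun i => bijective_homCx_source g L hbij (i + -1)) hZ
    exact ⟨fun a b => (cancel_epi (((DerivedCategory.Q (C := ModuleCat.{u} A)).commShiftIso (-1 : ℤ)).app _).hom).1
      (h.elim _ _)⟩
  refine ⟨fun a b hab => ?_, fun z => ?_⟩
  · obtain ⟨y, hy⟩ := T.yoneda_exact₂ hT' (a - b) ((Preadditive.comp_sub _ _ _).trans (sub_eq_zero.2 hab))
    rw [← sub_eq_zero]
    exact hy.trans ((congrArg (T.mor₂ ≫ ·) (h3.elim y 0)).trans comp_zero)
  · obtain ⟨x, hx⟩ := T.invRotate.yoneda_exact₂ (inv_rot_of_distTriang _ hT') z (h0.elim _ _)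
    exact ⟨x, hx.symm⟩

/-- `Hom•(A[0], L) = L`. -/
noncomputable def homUnitIso (L : DRing.Cx A) :
    DRing.homCx ((HomologicalComplex.single (ModuleCat.{u} A) (ComplexShape.up ℤ) 0).obj (ModuleCat.of A A)) L ≅ L :=
  (RHomAway.homSingleIso (ModuleCat.of A A) L).symm ≪≫
    HomologicalComplex.Hom.isoOfComponents (fun i => (LinearMap.ringLmapEquivSelf A A (L.X i)).toModuleIso)
      (fun i j _ => rfl)

/-- `Hom•(Č, L)` receives a map from `L` which is universal. -/
theorem exists_unit (L : DRing.Cx A) : ∀ fs : List A,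
    ∃ η : DRing.toD L ⟶ DRing.toD (DRing.homCx (DerCA.extCech (ModuleCat.of A A) fs) L),
      ∀ Z, (∀ f ∈ fs, DCD f Z) → Function.Bijective fun x : _ ⟶ Z => η ≫ x
  | [] => ⟨(DerivedCategory.Q.mapIso (homUnitIso L)).inv, fun Z _ =>
      ⟨fun a b h => (cancel_epi (DerivedCategory.Q.mapIso (homUnitIso L)).inv).1 h,
        fun z => ⟨(DerivedCategory.Q.mapIso (homUnitIso L)).hom ≫ z, Iso.inv_hom_id_assoc _ _⟩⟩⟩
  | g :: fs => by
    obtain ⟨η, hη⟩ := exists_unit L fs
    refine ⟨η ≫ DerivedCategory.Q.map (homCxPre (mappingCocone.fst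
      (DerCA.locCxUnit (Submonoid.powers g) (DerCA.extCech (ModuleCat.of A A) fs))) L), fun Z hZ => ?_⟩
    have hY : ∀ i, Function.Bijective
        fun x : ((DerCA.locCx (Submonoid.powers g)).obj (DerCA.extCech (ModuleCat.of A A) fs)).X i => g • x := fun i =>
      (Module.End.isUnit_iff _).1 (IsLocalizedModule.map_units
        (LocalizedModule.mkLinearMap (Submonoid.powers g) ((DerCA.extCech (ModuleCat.of A A) fs).X i))
        ⟨g, Submonoid.mem_powers g⟩)
    have h := (hη Z fun f hf => hZ f (List.mem_cons_of_mem g hf)).comp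
      (bijective_step g (DerCA.locCxUnit (Submonoid.powers g) (DerCA.extCech (ModuleCat.of A A) fs)) hY L Z
        (hZ g List.mem_cons_self))
    refine ⟨fun a b hab => h.1 ?_, fun z => ?_⟩
    · exact (Category.assoc _ _ _).symm.trans (hab.trans (Category.assoc _ _ _))
    · obtain ⟨x, hx⟩ := h.2 z
      exact ⟨x, (Category.assoc _ _ _).trans hx⟩

/-- The derived completion is `RHom_A(Č, -)`. -/
theorem nonempty_completion_iso (fs : List A) (I : Ideal A) (hI : Ideal.span {x : A | x ∈ fs} = I)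
    [DRing.HasDerivedCompletion I] [DRing.HasRHomCx (DerCA.extCech (ModuleCat.of A A) fs)] (K : Dual.D A) :
    Nonempty (((DRing.derivedCompletion I).obj K).obj ≅
      (DRing.RHomCx (DerCA.extCech (ModuleCat.of A A) fs)).obj K) := by
  classical
  obtain ⟨L, hL, ⟨e⟩⟩ := KInjRes.exists_kInjective_iso K
  obtain ⟨η, hη⟩ := exists_unit L fs
  have hs : Ideal.span ((fs.toFinset : Finset A) : Set A) = I := by
    rw [← hI]
    congr 1
    ext x
    simp
  have hmem : ∀ f, f ∈ fs.toFinset.toList ↔ f ∈ fs := fun f => by simp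
  have h1 : IsComp fs.toFinset.toList η :=
    { complete := fun f hf => dcd_homCx_torsion f _
        (LocCohTransform.extCech_pow_smul_eq_zero (ModuleCat.of A A) fs f ((hmem f).1 hf)) L
      bij := fun Z hZ => hη Z fun f hf => hZ f ((hmem f).2 hf) }
  obtain ⟨i, -⟩ := (isComp_toDerivedCompletion I fs.toFinset hs (DerivedCategory.Q.obj L)).exists_iso h1
  exact ⟨(ObjectProperty.ι (DRing.IsDerivedComplete I)).mapIso ((DRing.derivedCompletion I).mapIso e.symm) ≪≫
    i ≪≫ RHomCx.objIso _ L ≪≫ (DRing.RHomCx _).mapIso e⟩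

end Groth.DAlg.DCompletionCech
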