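import Groth.Agent.DAlg.PCoh
import Groth.Agent.DAlg.LeftDerived
import Groth.Agent.FlatCxBase.BoundedFlat
import Groth.Agent.FlatCxBase.Criteria
import Mathlib.Algebra.Homology.Embedding.CochainComplex

/-!
Tor amplitude via bounded above complexes of flat modules: truncation and comparison with `⊗ᴸ`.
-/

universe u

open CategoryTheory CategoryTheory.Limits CategoryTheory.Pretriangulated HomologicalComplex MonoidalCategory
open scoped TensorProduct

attribute [local instance] HasDerivedCategory.standard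
set_option linter.style.haveILetI false

namespace Groth.DAlg

open FlatCxBase

variable {R : Type u} [CommRing R]

/-- Exactness of `F ⊗ M` in the range where `F` is acyclic. -/
lemma exact_rTensor_of_acyclicAbove (F : DRing.Cx R) [∀ i, Module.Flat R (F.X i)] {b j : ℤ}
    (hb : DRing.VanishesAbove F b) (hac : ∀ p, j ≤ p → IsZero (F.homology p))
    (M : Type u) [AddCommGroup M] [Module R M] (x : F.X j ⊗[R] M)
    (hx : (F.d j (j + 1)).hom.rTensor M x = 0) :
    ∃ w, (F.d (j - 1) j).hom.rTensor M w = x := by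
  have hflat := flat_ker_of_acyclic F b j hb (fun p hp => hac p hp.le)
  have hR : Module.Flat R (LinearMap.range (F.d (j + 1) (j + 1 + 1)).hom) := by
    rw [range_eq_ker_of_isZero F rfl rfl (hac (j + 1 + 1) (by omega))]
    exact hflat _ _ rfl (by omega)
  have hi : Function.Injective ((LinearMap.range (F.d j (j + 1)).hom).subtype.rTensor M) := by
    refine rTensor_injective_of_flat (g := (F.d (j + 1) (j + 1 + 1)).hom.rangeRestrict)
      Subtype.val_injective (LinearMap.surjective_rangeRestrict _) ?_ M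
    rw [LinearMap.exact_iff, LinearMap.ker_rangeRestrict, Submodule.range_subtype]
    exact (range_eq_ker_of_isZero F rfl rfl (hac (j + 1) (by omega))).symm
  have hx' : (F.d j (j + 1)).hom.rangeRestrict.rTensor M x = 0 := by
    apply hi
    rw [map_zero, ← LinearMap.rTensor_comp_apply]
    exact hx
  refine (rTensor_exact M ?_ (LinearMap.surjective_rangeRestrict _) x).1 hx'
  rw [LinearMap.exact_iff, LinearMap.ker_rangeRestrict]
  exact (range_eq_ker_of_isZero F (by omega) rfl (hac j le_rfl)).symm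

lemma isZero_homology_of_isZero_X {E : DRing.Cx R} {i : ℤ} (h : IsZero (E.X i)) : IsZero (E.homology i) :=
  (exactAt_iff_isZero_homology E i).1 (ShortComplex.exact_of_isZero_X₂ (E.sc i) h)

lemma subsingleton_HD_toD {E : DRing.Cx R} {i : ℤ} (h : IsZero (E.homology i)) :
    Subsingleton (Dual.HD R (DRing.toD E) i) :=
  have := ModuleCat.subsingleton_of_isZero h
  (HDEquiv E i).toEquiv.subsingleton

lemma isZero_homology_of_subsingleton {E : DRing.Cx R} {i : ℤ} (h : Subsingleton (Dual.HD R (DRing.toD E) i)) :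
    IsZero (E.homology i) :=
  ModuleCat.isZero_iff_subsingleton.2 (HDEquiv E i).symm.toEquiv.subsingleton

lemma subsingleton_HD_of_iso {E : DRing.Cx R} {K : Dual.D R} (e : DRing.toD E ≅ K) {i : ℤ}
    (h : IsZero (E.X i)) : Subsingleton (Dual.HD R K i) :=
  have := subsingleton_HD_toD (isZero_homology_of_isZero_X h)
  (HDCongr e i).symm.toEquiv.subsingleton

lemma isZero_tensorCx_X {E : DRing.Cx R} {i : ℤ} (h : IsZero (E.X i)) (M : ModuleCat.{u} R) :
    IsZero ((DRing.tensorCx E M).X i) :=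
  Functor.map_isZero (tensorRight M) h

/-- A bounded above complex of flat modules computes the derived tensor product. -/
theorem nonempty_lTensorFlatIso (E : DRing.Cx R) {b : ℤ} (hb : DRing.VanishesAbove E b)
    (hE : DRing.TermwiseFlat E) (M : ModuleCat.{u} R) [DRing.HasLTensor R M] :
    Nonempty ((DRing.LTensor R M).obj (DRing.toD E) ≅ DRing.toD (DRing.tensorCx E M)) := by
  obtain ⟨P, hP, hfree, ⟨e⟩⟩ := exists_free_rep R (K := DRing.toD E) (b := b)
    fun i hi => subsingleton_HD_of_iso (Iso.refl _) (hb i hi)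
  have hproj : ∀ i, Module.Projective R (P.X i) := fun i => haveI := hfree i; inferInstance
  haveI := isKProjective_of_bounded hP hproj
  obtain ⟨g, hg⟩ := exists_map_of_projective hP hproj e.hom
  haveI : QuasiIso g := by
    rw [← DerivedCategory.isIso_Q_map_iff_quasiIso, hg]
    infer_instance
  haveI : ∀ i, Module.Flat R (E.X i) := hE
  haveI : ∀ i, Module.Flat R (P.X i) := fun i => haveI := hproj i; inferInstance
  have hq :=
    (DerivedCategory.isIso_Q_map_iff_quasiIso (φ := _)).2 (quasiIso_tensor b b hP hb g M)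
  exact ⟨(DRing.LTensor R M).mapIso e.symm ≪≫ lTensorIso M P ≪≫
    @asIso _ _ _ _ (DerivedCategory.Q.map (((tensorRight M).mapHomologicalComplex (ComplexShape.up ℤ)).map g)) hq⟩

/-- `P ⊗ R ≅ P`. -/
noncomputable def tensorUnitIso (P : DRing.Cx R) : DRing.tensorCx P (ModuleCat.of R R) ≅ P :=
  (NatIso.mapHomologicalComplex (MonoidalCategory.rightUnitorNatIso (ModuleCat.{u} R))
    (ComplexShape.up ℤ)).app P ≪≫ (Functor.mapHomologicalComplexIdIso (ModuleCat.{u} R) (ComplexShape.up ℤ)).app P

lemma isZero_homology_of_tensor {P : DRing.Cx R} {i : ℤ}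
    (h : ∀ M : ModuleCat.{u} R, IsZero ((DRing.tensorCx P M).homology i)) : IsZero (P.homology i) :=
  (h _).of_iso ((homologyFunctor _ _ i).mapIso (tensorUnitIso P)).symm

/-- The degree `n` term of `τ≥n P`. -/
noncomputable def truncGEXIsoCoker (P : DRing.Cx R) (n : ℤ) :
    (P.truncGE n).X n ≅ ModuleCat.of R (Coker P (n - 1) n) :=
  P.truncGEXIsoOpcycles n ≪≫
    IsColimit.coconePointUniqueUpToIso (P.opcyclesIsCokernel (n - 1) n (cochain_prev n))
      (ModuleCat.cokernelIsColimit (P.d (n - 1) n))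

lemma truncGE_X_of_prop (Φ : ObjectProperty (ModuleCat.{u} R)) [Φ.IsClosedUnderIsomorphisms] (P : DRing.Cx R)
    (n : ℤ) (h0 : ∀ X, IsZero X → Φ X) (hX : ∀ i, n < i → Φ (P.X i))
    (hQ : Φ (ModuleCat.of R (Coker P (n - 1) n))) (i : ℤ) : Φ ((P.truncGE n).X i) := by
  rcases lt_trichotomy i n with h | rfl | h
  · exact h0 _ ((P.truncGE n).isZero_of_isStrictlyGE n i h)
  · exact Φ.prop_of_iso (truncGEXIsoCoker P i).symm hQ
  · exact Φ.prop_of_iso (P.truncGEXIso n i h).symm (hX i h)

lemma vanishesOutside_truncGE (P : DRing.Cx R) (a : ℤ) {b : ℤ} (hb : DRing.VanishesAbove P b) :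
    DRing.VanishesOutside (P.truncGE a) a b := fun i hi => by
  have : P.IsStrictlyLE b := (CochainComplex.isStrictlyLE_iff P b).2 hb
  rcases lt_trichotomy i a with h | rfl | h
  · exact (P.truncGE a).isZero_of_isStrictlyGE a i h
  · have := ModuleCat.subsingleton_of_isZero (hb i (by omega))
    exact (ModuleCat.isZero_iff_subsingleton.2 (Submodule.mkQ_surjective _).subsingleton).of_iso
      (truncGEXIsoCoker P i)
  · exact (hb i (by omega)).of_iso (P.truncGEXIso a i h)

lemma nonempty_truncGE_iso {P : DRing.Cx R} {a : ℤ} (h : ∀ i < a, IsZero (P.homology i)) :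
    Nonempty (DRing.toD (P.truncGE a) ≅ DRing.toD P) := by
  have : P.IsGE a := (CochainComplex.isGE_iff P a).2 fun i hi => (exactAt_iff_isZero_homology P i).2 (h i hi)
  exact ⟨(asIso (DerivedCategory.Q.map (P.πTruncGE a))).symm⟩

/-- Vanishing of `H^{a-1}(P ⊗ M)` for all `M` makes `coker d^{a-1}` flat. -/
theorem flat_coker_of_isZero (P : DRing.Cx R) [∀ i, Module.Flat R (P.X i)] (a : ℤ)
    (h : ∀ M : ModuleCat.{u} R, IsZero ((DRing.tensorCx P M).homology (a - 1))) :
    Module.Flat R (Coker P (a - 1) a) := by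
  refine Module.Flat.iff_lTensor_preserves_injective_linearMap.2 fun N M _ _ _ _ g hg => ?_
  rw [injective_iff_map_eq_zero]
  intro q hq
  obtain ⟨x, rfl⟩ := LinearMap.rTensor_surjective N (Submodule.mkQ_surjective _) q
  rw [lTensor_rTensor] at hq
  obtain ⟨y, hy⟩ := (rTensor_cokerπ_eq_zero_iff P M (a - 1) a _).1 hq
  let π := (LinearMap.range g).mkQ
  have hπ : Function.Surjective π := Submodule.mkQ_surjective _
  have hex : Function.Exact g π := LinearMap.exact_map_mkQ_range g
  have h0 : (P.d (a - 1) a).hom.rTensor _ (π.lTensor (P.X (a - 1)) y) = 0 := by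
    rw [← lTensor_rTensor, hy]
    exact (lTensor_exact (P.X a) hex hπ).apply_apply_eq_zero x
  obtain ⟨z', hz'⟩ := (isZero_T_iff P (cochain_prev (a - 1))
    ((ComplexShape.up ℤ).next_eq' (show a - 1 + 1 = a by omega)) (ModuleCat.of R _)).1 (h _) _ h0
  obtain ⟨z, rfl⟩ := LinearMap.lTensor_surjective (P.X (a - 1 - 1)) hπ z'
  have hw : π.lTensor (P.X (a - 1)) (y - (P.d (a - 1 - 1) (a - 1)).hom.rTensor M z) = 0 := by
    rw [map_sub, lTensor_rTensor, hz', sub_self]
  obtain ⟨w, hw⟩ := (lTensor_exact (P.X (a - 1)) hex hπ _).1 hw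
  refine (rTensor_cokerπ_eq_zero_iff P N (a - 1) a x).2 ⟨w, ?_⟩
  apply Module.Flat.lTensor_preserves_injective_linearMap (M := P.X a) g hg
  rw [lTensor_rTensor, hw, map_sub, rTensor_d_d, sub_zero, hy]

theorem torAmplitude_of_isZero (P : DRing.Cx R) {a b : ℤ} (hb : DRing.VanishesAbove P b)
    (hP : DRing.TermwiseFlat P)
    (h : ∀ (M : ModuleCat.{u} R) (i : ℤ), i < a → IsZero ((DRing.tensorCx P M).homology i)) :
    DRing.HasTorAmplitudeIn R a b (DRing.toD P) := by
  have : ∀ i, Module.Flat R (P.X i) := hP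
  let Φ : ObjectProperty (ModuleCat.{u} R) := fun X => Module.Flat R X
  have : Φ.IsClosedUnderIsomorphisms :=
    ⟨fun {X Y} e (hX : Module.Flat R X) => Module.Flat.of_linearEquiv e.toLinearEquiv.symm⟩
  exact ⟨P.truncGE a, vanishesOutside_truncGE P a hb,
    truncGE_X_of_prop Φ P a (fun X hX => haveI := ModuleCat.subsingleton_of_isZero hX; show Module.Flat R X from inferInstance)
      (fun i _ => hP i) (flat_coker_of_isZero P a fun M => h M (a - 1) (by omega)),
    nonempty_truncGE_iso fun i hi => isZero_homology_of_tensor fun M => h M i hi⟩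

/-- Tor amplitude forces the vanishing of the cohomology of `P ⊗ M`. -/
theorem isZero_of_torAmplitude (P : DRing.Cx R) {a b b' : ℤ} (hb : DRing.VanishesAbove P b')
    (hP : DRing.TermwiseFlat P) (h : DRing.HasTorAmplitudeIn R a b (DRing.toD P))
    (M : ModuleCat.{u} R) (i : ℤ) (hi : i < a ∨ b < i) : IsZero ((DRing.tensorCx P M).homology i) := by
  obtain ⟨E, hE, hEf, ⟨e⟩⟩ := h
  haveI := hasLTensor M
  obtain ⟨e₁⟩ := nonempty_lTensorFlatIso E (b := b) (fun j hj => hE j (Or.inr hj)) hEf M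
  obtain ⟨e₂⟩ := nonempty_lTensorFlatIso P hb hP M
  exact isZero_homology_of_subsingleton
    (subsingleton_HD_of_iso (e₁.symm ≪≫ (DRing.LTensor R M).mapIso e ≪≫ e₂) (isZero_tensorCx_X (hE i hi) M))

/-- The characterisation of tor amplitude by derived tensor products. -/
theorem hasTorAmplitudeIn_iff [∀ M : ModuleCat.{u} R, DRing.HasLTensor R M] (K : Dual.D R) (a b : ℤ) :
    DRing.HasTorAmplitudeIn R a b K ↔
      ∀ (M : ModuleCat.{u} R) (i : ℤ), (i < a ∨ b < i) →
        Subsingleton (Dual.HD R ((DRing.LTensor R M).obj K) i) := by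
  constructor
  · rintro ⟨E, hE, hEf, ⟨e⟩⟩ M i hi
    obtain ⟨e₁⟩ := nonempty_lTensorFlatIso E (b := b) (fun j hj => hE j (Or.inr hj)) hEf M
    exact subsingleton_HD_of_iso (e₁.symm ≪≫ (DRing.LTensor R M).mapIso e) (isZero_tensorCx_X (hE i hi) M)
  · intro h
    obtain ⟨P₀, hP₀, -, ⟨e₀⟩⟩ := exists_kProjective_rep K
    haveI := hP₀
    have hK : ∀ i, b < i → Subsingleton (Dual.HD R K i) := fun i hi =>
      have := h (ModuleCat.of R R) i (Or.inr hi)
      (HDCongr (e₀.symm ≪≫ (DerivedCategory.Q.mapIso (tensorUnitIso P₀)).symm ≪≫ (lTensorIso _ P₀).symm ≪≫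
        (DRing.LTensor R _).mapIso e₀) i).toEquiv.subsingleton
    obtain ⟨P, hP, hfree, ⟨e⟩⟩ := exists_free_rep R hK
    have hflat : DRing.TermwiseFlat P := fun i => haveI := hfree i; inferInstance
    obtain ⟨E, hE, hEf, ⟨e'⟩⟩ := torAmplitude_of_isZero P (a := a) hP hflat fun M i hi => by
      obtain ⟨e₁⟩ := nonempty_lTensorFlatIso P hP hflat M
      have := h M i (Or.inl hi)
      exact isZero_homology_of_subsingleton
        (HDCongr (e₁.symm ≪≫ (DRing.LTensor R M).mapIso e) i).toEquiv.subsingleton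
    exact ⟨E, hE, hEf, ⟨e' ≪≫ e⟩⟩

end Groth.DAlg
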