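import Mathlib.Algebra.Homology.DerivedCategory.HomologySequence
import Mathlib.Algebra.Homology.ShortComplex.Linear
import Groth.Prelude.Def_DRing2
import Groth.Agent.DAlg.Rep

/-!
Scalars act on cohomology in `D(A)` by multiplication.
-/

universe u

open CategoryTheory
attribute [local instance] HasDerivedCategory.standard

namespace Groth.DAlg.HDSmul

theorem hd_a {R : Type u} [CommRing R] (f : R) (K : CochainComplex (ModuleCat.{u} R) ℤ) (i : ℤ) : (HomologicalComplex.homologyFunctor (ModuleCat.{u} R) (ComplexShape.up ℤ) i).map (f • 𝟙 K) =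
        f • 𝟙 (K.homology i) := by
  rw [HomologicalComplex.homologyFunctor_map, ← HomologicalComplex.homologyMap_id]
  exact ShortComplex.homologyMap_smul
        ((HomologicalComplex.shortComplexFunctor (ModuleCat.{u} R) (ComplexShape.up ℤ) i).map (𝟙 K)) f

theorem hd_b {R : Type u} [CommRing R] (f : R) (K : CochainComplex (ModuleCat.{u} R) ℤ) : f • 𝟙 (DerivedCategory.Q.obj K) = DerivedCategory.Q.map (f • 𝟙 K) := by
  rw [CategoryTheory.Functor.map_smul, CategoryTheory.Functor.map_id]

theorem hd_c {R : Type u} [CommRing R] (f : R) (K : CochainComplex (ModuleCat.{u} R) ℤ) (i : ℤ) : (DerivedCategory.homologyFunctor (ModuleCat.{u} R) i).map (f • 𝟙 (DerivedCategory.Q.obj K)) =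
        f • 𝟙 ((DerivedCategory.homologyFunctor (ModuleCat.{u} R) i).obj (DerivedCategory.Q.obj K)) := by
  rw [hd_b f K]
  have e := (DerivedCategory.homologyFunctorFactors (ModuleCat.{u} R) i)
  have h := e.hom.naturality (f • 𝟙 K)
  rw [hd_a] at h
  refine (Category.comp_id _).symm.trans ?_
  erw [← (e.app K).hom_inv_id, ← Category.assoc, h]
  erw [Linear.comp_smul, Category.comp_id, Linear.smul_comp]
  rfl

theorem hd_map_smul {R : Type u} [CommRing R] (f : R) (M : Dual.D R) (i : ℤ) (x : Dual.HD R M i) :
    (DerivedCategory.homologyFunctor (ModuleCat.{u} R) i).map (f • 𝟙 M) x = f • x := by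
  have hQ := fun K => hd_c f K i
  let e := DerivedCategory.Q.objObjPreimageIso M
  have he : f • 𝟙 M = e.inv ≫ (f • 𝟙 _) ≫ e.hom := by
    rw [Linear.smul_comp, Category.id_comp, Linear.comp_smul, e.inv_hom_id]
  rw [he, Functor.map_comp, Functor.map_comp, hQ, Linear.smul_comp, Category.id_comp, Linear.comp_smul,
    ← Functor.map_comp, e.inv_hom_id, CategoryTheory.Functor.map_id]
  rfl

end Groth.DAlg.HDSmul
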