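import Groth.Agent.DAlg.DCompletionAmp
import Groth.Agent.DAlg.BaseChange
import Groth.Agent.DAlg.FlatAmp
import Groth.Agent.DAlg.HDSmul
import Groth.Agent.DualCore.DevissageHom
import Mathlib.Algebra.Module.Torsion.Basic

/-!
Derived Nakayama.

For `K` derived complete at a finite list `l`, amplitude is detected by morphisms into bounded objects
on which every element of `l` is nilpotent.
-/

universe u

open CategoryTheory CategoryTheory.Limits CategoryTheory.Pretriangulated DerivedCategory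
open Groth.DerComplete Groth.DAlg.DCompletion Groth.DAlg.DCompletionAmp

attribute [local instance] HasDerivedCategory.standard

namespace Groth.DAlg.DCompletionNAK

variable {A : Type u} [CommRing A]

/-- Bounded, cohomologically in degrees `≥ a`, and nilpotent for each element of `l`. -/
structure Nil (l : List A) (a : ℤ) (Z : Dual.D A) : Prop where
  ge : Z.IsGE a
  le : ∃ b, Z.IsLE b
  nil : ∀ g ∈ l, ∃ m : ℕ, g ^ m • 𝟙 Z = 0

/-- Orthogonality. -/
def Orth (l : List A) (X : Dual.D A) : Prop := ∀ Z, Nil l 1 Z → Subsingleton (X ⟶ Z)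

lemma smul_shift_id (c : A) (Z : Dual.D A) (k : ℤ) :
    (shiftFunctor (Dual.D A) k).map (c • 𝟙 Z) = c • 𝟙 (Z⟦k⟧) := by
  rw [Functor.map_smul, CategoryTheory.Functor.map_id]

lemma Nil.shift {l : List A} {a : ℤ} {Z : Dual.D A} (h : Nil l a Z) (k a' : ℤ) (ha : k + a' = a) :
    Nil l a' (Z⟦k⟧) where
  ge := by
    have := h.ge
    exact TStructure.t.isGE_shift Z a k a' ha
  le := by
    obtain ⟨b, hb⟩ := h.le
    exact ⟨b - k, TStructure.t.isLE_shift Z b k (b - k) (by omega)⟩
  nil g hg := by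
    obtain ⟨m, hm⟩ := h.nil g hg
    exact ⟨m, by rw [← smul_shift_id, hm, Functor.map_zero]⟩

/-- The cone of `g` on a nilpotent object. -/
lemma exists_cone {l : List A} {a : ℤ} {Z : Dual.D A} (h : Nil l a Z) (g : A) :
    ∃ (W : Dual.D A) (p : Z ⟶ W) (q : W ⟶ Z⟦(1 : ℤ)⟧),
      Triangle.mk (g • 𝟙 Z) p q ∈ distTriang (Dual.D A) ∧ Nil (g :: l) (a - 1) W := by
  obtain ⟨W, p, q, hT⟩ := distinguished_cocone_triangle (g • 𝟙 Z)
  refine ⟨W, p, q, hT, ?_, ?_, ?_⟩
  · haveI := h.ge
    rw [isGE_iff]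
    intro i hi
    exact (HomologySequence.exact₃ _ hT i (i + 1)).isZero_X₂
      ((isZero_of_isGE Z a i (by omega)).eq_of_src _ _) ((isZero_of_isGE Z a (i + 1) (by omega)).eq_of_tgt _ _)
  · obtain ⟨b, hb⟩ := h.le
    refine ⟨b, ?_⟩
    rw [isLE_iff]
    intro i hi
    exact (HomologySequence.exact₃ _ hT i (i + 1)).isZero_X₂
      ((isZero_of_isLE Z b i hi).eq_of_src _ _) ((isZero_of_isLE Z b (i + 1) (by omega)).eq_of_tgt _ _)
  · have key : ∀ m₁ m₂ : ℕ, ∀ t : A, t ^ m₁ • 𝟙 Z = 0 → t ^ m₂ • 𝟙 (Z⟦(1 : ℤ)⟧) = 0 →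
        t ^ (m₂ + m₁) • 𝟙 W = 0 := by
      intro m₁ m₂ t h₁ h₂
      obtain ⟨(y : W ⟶ Z), hy⟩ := Triangle.coyoneda_exact₃ _ hT (t ^ m₂ • 𝟙 W) (by
        change (t ^ m₂ • 𝟙 W) ≫ q = 0
        rw [Linear.smul_comp, Category.id_comp, ← Category.comp_id q, ← Linear.comp_smul, h₂, comp_zero])
      change t ^ m₂ • 𝟙 W = y ≫ p at hy
      rw [pow_add, mul_comm, mul_smul, hy, ← Linear.comp_smul, ← Category.id_comp p,
        ← Linear.smul_comp, h₁, zero_comp, comp_zero]
    intro t ht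
    rcases List.mem_cons.1 ht with rfl | ht
    · refine ⟨2, ?_⟩
      have hq : q ≫ (t • 𝟙 Z)⟦(1 : ℤ)⟧' = 0 := comp_distTriang_mor_zero₃₁ _ hT
      have hp : (t • 𝟙 Z) ≫ p = 0 := comp_distTriang_mor_zero₁₂ _ hT
      obtain ⟨(y : W ⟶ Z), hy⟩ := Triangle.coyoneda_exact₃ _ hT (t • 𝟙 W) (by
        change (t • 𝟙 W) ≫ q = 0
        rw [smul_shift_id, Linear.comp_smul, Category.comp_id] at hq
        rw [Linear.smul_comp, Category.id_comp, hq])
      change t • 𝟙 W = y ≫ p at hy
      rw [Linear.smul_comp, Category.id_comp] at hp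
      change t ^ 2 • 𝟙 W = 0
      rw [pow_two, mul_smul, hy, ← Linear.comp_smul, hp, comp_zero]
    · obtain ⟨m, hm⟩ := h.nil t ht
      exact ⟨m + m, key m m t hm (by rw [← smul_shift_id, hm, Functor.map_zero])⟩

/-- A cohomology object is detected by maps to a single module. -/
lemma hz_of_orth (X : Dual.D A) (i : ℤ)
    (h : ∀ M : ModuleCat.{u} A, Subsingleton (X ⟶ (singleFunctor (ModuleCat.{u} A) i).obj M)) : HZ X i := by
  let E := Q.objPreimage X
  let e : Q.obj E ≅ X := Q.objObjPreimageIso X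
  refine hz_of_isZero (IsZero.of_iso (IsZero.of_iso ?_ ((homologyFunctorFactors _ i).app E))
    ((homologyFunctor _ i).mapIso e.symm))
  change IsZero (E.homology i)
  let M := E.opcycles i
  let S := (HomologicalComplex.single (ModuleCat.{u} A) (ComplexShape.up ℤ) i).obj M
  let f : E ⟶ S := HomologicalComplex.mkHomToSingle (E.pOpcycles i) (fun j _ => E.d_pOpcycles j i)
  have hf : Q.map f = 0 := by
    have := h M
    exact (cancel_mono ((singleFunctorIsoCompQ (ModuleCat.{u} A) i).inv.app M)).1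
      ((cancel_epi e.inv).1 (this.elim _ _))
  have hH : HomologicalComplex.homologyMap f i = 0 := by
    refine (cancel_epi ((homologyFunctorFactors (ModuleCat.{u} A) i).hom.app E)).1 (Eq.trans ?_ comp_zero.symm)
    refine ((homologyFunctorFactors (ModuleCat.{u} A) i).hom.naturality f).symm.trans ?_
    rw [Functor.comp_map, hf, Functor.map_zero, zero_comp]
    rfl
  have : IsIso (S.homologyπ i) :=
    S.isIso_homologyπ ((ComplexShape.up ℤ).prev i) i rfl (HomologicalComplex.single_obj_d _ _ _ _ _)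
  have hcy : HomologicalComplex.cyclesMap f i = 0 := by
    rw [← cancel_mono (S.homologyπ i), ← HomologicalComplex.homologyπ_naturality, hH, comp_zero, zero_comp]
  have h0 : E.iCycles i ≫ E.pOpcycles i = 0 := by
    have h1 := HomologicalComplex.cyclesMap_i f i
    rw [hcy, zero_comp, HomologicalComplex.mkHomToSingle_f, ← Category.assoc] at h1
    exact (cancel_mono (HomologicalComplex.singleObjXSelf (ComplexShape.up ℤ) i M).inv).1
      (h1.symm.trans zero_comp.symm)
  have : Mono (E.homologyι i) := inferInstanceAs (Mono (E.sc i).homologyι)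
  refine IsZero.of_mono_eq_zero (E.homologyι i) ?_
  rw [← cancel_epi (E.homologyπ i), HomologicalComplex.homology_π_ι, h0, comp_zero]

lemma isZero_of_hz {X : Dual.D A} (h : ∀ i, HZ X i) : IsZero X := by
  have : X.IsLE (-1) := DAlg.isLE_of_subsingleton fun i _ => h i
  have : X.IsGE 0 := DAlg.isGE_of_subsingleton fun i _ => h i
  exact DualCore.isZero_of_isGE_of_isLE X 0 (-1) (by norm_num)

lemma nil_single (M : ModuleCat.{u} A) {i : ℤ} (hi : 1 ≤ i) :
    Nil ([] : List A) 1 ((singleFunctor (ModuleCat.{u} A) i).obj M) where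
  ge := TStructure.t.isGE_of_ge _ 1 i hi
  le := ⟨i, inferInstance⟩
  nil g hg := absurd hg List.not_mem_nil

/-- Derived Nakayama, in amplitude form. -/
theorem hz_of_orth_nil : ∀ (l : List A) (X : Dual.D A), (∀ f ∈ l, DCD f X) → Orth l X →
    ∀ i : ℤ, 1 ≤ i → HZ X i
  | [], X, _, hO, i, hi => hz_of_orth X i fun M => hO _ (nil_single M hi)
  | g :: l, X, hX, hO, i, hi => by
    obtain ⟨C, p, q, hT⟩ := distinguished_cocone_triangle (g • 𝟙 X)
    have hC : ∀ f ∈ l, DCD f C := fun f hf => dcd_of_van (van_obj₃ f hT fun E => by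
      have s := (hX f (List.mem_cons_of_mem g hf)).van E
      exact ⟨fun _ _ _ => s.elim _ _, fun z => ⟨0, s.elim _ _⟩⟩)
    have hOC : Orth l C := fun Z hZ => subsingleton_of_forall_eq 0 fun x => by
      have hy : p ≫ x = 0 := by
        have hgy : g • (p ≫ x) = 0 := by
          have hp : (g • 𝟙 X) ≫ p = 0 := comp_distTriang_mor_zero₁₂ _ hT
          rw [← Category.id_comp (p ≫ x), ← Linear.smul_comp, ← Category.assoc, hp, zero_comp]
        obtain ⟨W, p', q', hT', hW⟩ := exists_cone hZ g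
        have s := hO _ (hW.shift (-1) 1 (by omega))
        obtain ⟨y, hy⟩ := (Triangle.mk (g • 𝟙 Z) p' q').invRotate.coyoneda_exact₂ (inv_rot_of_distTriang _ hT')
          (p ≫ x) (by
            change (p ≫ x) ≫ (g • 𝟙 Z) = 0
            rw [Linear.comp_smul, Category.comp_id, hgy])
        exact hy.trans ((congrArg (· ≫ _) (s.elim y 0)).trans zero_comp)
      obtain ⟨(w : X⟦(1 : ℤ)⟧ ⟶ Z), hw⟩ := Triangle.yoneda_exact₃ _ hT x hy
      change x = q ≫ w at hw
      let c := (shiftFunctorCompIsoId (Dual.D A) 1 (-1) (by norm_num)).app X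
      let w' : X ⟶ Z⟦(-1 : ℤ)⟧ := c.inv ≫ w⟦(-1 : ℤ)⟧'
      obtain ⟨W, p', q', hT', hW⟩ := exists_cone (hZ.shift (-1) 2 (by norm_num)) g
      have s₂ := hO _ (show Nil (g :: l) 1 W by simpa using hW)
      obtain ⟨(v : X ⟶ Z⟦(-1 : ℤ)⟧), hv⟩ :=
        (Triangle.mk (g • 𝟙 (Z⟦(-1 : ℤ)⟧)) p' q').coyoneda_exact₂ hT' w' (s₂.elim _ _)
      change w' = v ≫ (g • 𝟙 _) at hv
      rw [Linear.comp_smul, Category.comp_id] at hv
      obtain ⟨u', hu'⟩ := (shiftFunctor (Dual.D A) (-1 : ℤ)).map_surjective (c.hom ≫ v)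
      have hw' : w = g • u' := (shiftFunctor (Dual.D A) (-1 : ℤ)).map_injective (by
        rw [CategoryTheory.Functor.map_smul, hu', ← Linear.comp_smul, ← hv, Iso.hom_inv_id_assoc])
      have hq : q ≫ (g • 𝟙 X)⟦(1 : ℤ)⟧' = 0 := comp_distTriang_mor_zero₃₁ _ hT
      rw [smul_shift_id, Linear.comp_smul, Category.comp_id] at hq
      rw [hw, hw', Linear.comp_smul, ← Linear.smul_comp, hq, zero_comp]
    have hCi : HZ C i := hz_of_orth_nil l C hC hOC i hi
    refine (hX g List.mem_cons_self i).subsingleton_of_surjective ?_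
    have he : Epi ((homologyFunctor (ModuleCat.{u} A) i).map (g • 𝟙 X)) :=
      (HomologySequence.epi_homologyMap_mor₁_iff _ hT i).2 (hCi.isZero.eq_of_tgt _ _)
    rw [ModuleCat.epi_iff_surjective] at he
    intro x
    obtain ⟨y, hy⟩ := he x
    exact ⟨y, (HDSmul.hd_map_smul g X i y).symm.trans hy⟩

section Quot

variable (I : Ideal A) [DRing.HasLBaseChange (Ideal.Quotient.mk I)]

lemma subsingleton_killed (K : Dual.D A) (hK : ((DRing.LBaseChange (Ideal.Quotient.mk I)).obj K).IsLE 0)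
    (M : ModuleCat.{u} A) (hM : ∀ r ∈ I, ∀ x : M, r • x = 0) (n : ℤ) (hn : 1 ≤ n) :
    Subsingleton (K ⟶ (singleFunctor (ModuleCat.{u} A) n).obj M) := by
  letI : Module (A ⧸ I) M := Module.IsTorsionBySet.module (fun x r => hM r r.2 x)
  let N := ModuleCat.of (A ⧸ I) M
  let F := ModuleCat.restrictScalars.{u} (Ideal.Quotient.mk I)
  let e : F.obj N ≅ M := LinearEquiv.toModuleIso
    ({ toFun := fun x => x
       invFun := fun x => x
       map_add' := fun _ _ => rfl
       map_smul' := fun _ _ => rfl } : F.obj N ≃ₗ[A] M)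
  let i : (DRing.restrictD (Ideal.Quotient.mk I)).obj ((singleFunctor (ModuleCat.{u} (A ⧸ I)) n).obj N) ≅
      (singleFunctor (ModuleCat.{u} A) n).obj M :=
    (F.mapDerivedCategorySingleFunctor n).app N ≪≫ (singleFunctor _ n).mapIso e
  have : ((singleFunctor (ModuleCat.{u} (A ⧸ I)) n).obj N).IsGE 1 := TStructure.t.isGE_of_ge _ 1 n hn
  refine ⟨fun a b => (cancel_mono i.inv).1 (((lBaseChangeAdj _).homEquiv K _).symm.injective ?_)⟩
  exact (TStructure.t.zero _ 0 1 (by norm_num)).trans (TStructure.t.zero _ 0 1 (by norm_num)).symm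

lemma subsingleton_killed_pow (K : Dual.D A) (hK : ((DRing.LBaseChange (Ideal.Quotient.mk I)).obj K).IsLE 0)
    (n : ℤ) (hn : 1 ≤ n) : ∀ (N : ℕ) (M : ModuleCat.{u} A), (∀ r ∈ I ^ N, ∀ x : M, r • x = 0) →
      Subsingleton (K ⟶ (singleFunctor (ModuleCat.{u} A) n).obj M) := by
  intro N
  induction N with
  | zero =>
    intro M hM
    refine subsingleton_killed I K hK M (fun r _ x => hM r ?_ x) n hn
    rw [pow_zero, Ideal.one_eq_top]
    exact Submodule.mem_top
  | succ N ih =>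
    intro M hM
    let J : Submodule A M := I ^ N • ⊤
    let S := ShortComplex.mk (ModuleCat.ofHom J.subtype) (ModuleCat.ofHom J.mkQ) (by ext x; simp)
    have hS : S.ShortExact :=
      { exact := (ShortComplex.ShortExact.moduleCat_exact_iff_function_exact _).2 (LinearMap.exact_subtype_mkQ J)
        mono_f := (ModuleCat.mono_iff_injective _).2 Subtype.val_injective
        epi_g := (ModuleCat.epi_iff_surjective _).2 J.mkQ_surjective }
    have h₁ : Subsingleton (K ⟶ (singleFunctor (ModuleCat.{u} A) n).obj S.X₁) := by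
      refine subsingleton_killed I K hK _ (fun r hr x => Subtype.ext ?_) n hn
      obtain ⟨x, hx⟩ := x
      change r • x = 0
      refine Submodule.smul_induction_on hx (fun s hs y _ => ?_) (fun y z hy hz => by rw [smul_add, hy, hz, add_zero])
      rw [smul_smul]
      exact hM _ (by rw [pow_succ, mul_comm r]; exact Ideal.mul_mem_mul hs hr) y
    have h₃ : Subsingleton (K ⟶ (singleFunctor (ModuleCat.{u} A) n).obj S.X₃) :=
      ih _ fun r hr x => by
        obtain ⟨x, rfl⟩ := J.mkQ_surjective x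
        rw [← map_smul, Submodule.mkQ_apply, Submodule.Quotient.mk_eq_zero]
        exact Submodule.smul_mem_smul hr Submodule.mem_top
    obtain ⟨T, hT, ⟨i₁⟩, ⟨i₂⟩, ⟨i₃⟩⟩ : ∃ T : Triangle (Dual.D A), T ∈ distTriang (Dual.D A) ∧
        Nonempty (T.obj₁ ≅ (singleFunctor (ModuleCat.{u} A) n).obj S.X₁) ∧
        Nonempty (T.obj₂ ≅ (singleFunctor (ModuleCat.{u} A) n).obj S.X₂) ∧
        Nonempty (T.obj₃ ≅ (singleFunctor (ModuleCat.{u} A) n).obj S.X₃) := by
      have hm := Triangle.shift_distinguished _ hS.singleTriangle_distinguished (-n)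
      let sh := fun X => ((singleFunctors (ModuleCat.{u} A)).shiftIso (-n) n 0 (by omega)).app X
      exact ⟨_, hm, ⟨sh _⟩, ⟨sh _⟩, ⟨sh _⟩⟩
    refine subsingleton_of_forall_eq 0 fun x => ?_
    have hx : (x ≫ i₂.inv) ≫ T.mor₂ = 0 := by
      rw [← cancel_mono i₃.hom, zero_comp]
      exact h₃.elim _ _
    obtain ⟨y, hy⟩ := T.coyoneda_exact₂ hT _ hx
    have hy0 : y = 0 := by
      rw [← cancel_mono i₁.hom, zero_comp]
      exact h₁.elim _ _
    rw [← cancel_mono i₂.inv, zero_comp, hy, hy0, zero_comp]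

lemma orth_of_isLE (K : Dual.D A) (s : Finset A) (hs : Ideal.span (s : Set A) = I)
    (hK : ((DRing.LBaseChange (Ideal.Quotient.mk I)).obj K).IsLE 0) : Orth s.toList K := by
  intro Z hZ
  obtain ⟨b, hb⟩ := hZ.le
  have := hZ.ge
  have hkill : ∀ i, ∃ N : ℕ, ∀ r ∈ I ^ N, ∀ x : Dual.HD A Z i, r • x = 0 := by
    intro i
    let J : Ideal A := Module.annihilator A (Dual.HD A Z i)
    have hrad : I ≤ J.radical := by
      rw [← hs, Ideal.span_le]
      intro g hg
      obtain ⟨m, hm⟩ := hZ.nil g (Finset.mem_toList.2 hg)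
      refine ⟨m, Module.mem_annihilator.2 fun x => ?_⟩
      have h := congrArg (fun φ => ((homologyFunctor (ModuleCat.{u} A) i).map φ).hom x) hm
      exact ((HDSmul.hd_map_smul (g ^ m) Z i x).symm.trans h).trans (by simp)
    obtain ⟨N, hN⟩ := Ideal.exists_pow_le_of_le_radical_of_fg hrad ⟨s, hs⟩
    exact ⟨N, fun r hr x => Module.mem_annihilator.1 (hN hr) x⟩
  refine DualCore.devissage_of (fun M => ∃ N : ℕ, ∀ r ∈ I ^ N, ∀ x : M, r • x = 0) ?_
    (fun W => Subsingleton (K ⟶ W)) ?_ (fun W hW => ⟨fun _ _ => hW.eq_of_tgt _ _⟩) ?_ 1 ?_ Z b fun i _ _ => hkill i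
  · rintro M M' e ⟨N, hN⟩
    exact ⟨N, fun r hr x => by
      obtain ⟨y, rfl⟩ := e.toLinearEquiv.surjective x
      rw [← map_smul, hN r hr y, map_zero]⟩
  · exact fun e h => ⟨fun a b => (cancel_mono e.inv).1 (h.elim _ _)⟩
  · intro T hT h₁ h₃
    refine subsingleton_of_forall_eq 0 fun x => ?_
    obtain ⟨y, rfl⟩ := T.coyoneda_exact₂ hT x (h₃.elim _ _)
    rw [h₁.elim y 0, zero_comp]
  · rintro M ⟨N, hN⟩ n hn
    exact subsingleton_killed_pow I K hK n hn N M hN

/-- Cohomology in positive degrees is detected modulo `I`. -/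
theorem isLE_iff_base_change (hI : I.FG) (K : Dual.D A) (hc : DRing.IsDerivedComplete I K) :
    (∀ i : ℤ, 0 < i → HZ K i) ↔ ∀ i : ℤ, 0 < i → HZ ((DRing.LBaseChange (Ideal.Quotient.mk I)).obj K) i := by
  constructor
  · intro h i hi
    have : K.IsLE 0 := DAlg.isLE_of_subsingleton h
    refine hz_of_orth _ i fun N => ⟨fun a b => ((lBaseChangeAdj _).homEquiv K _).injective ?_⟩
    have : ((DRing.restrictD (Ideal.Quotient.mk I)).obj
        ((singleFunctor (ModuleCat.{u} (A ⧸ I)) i).obj N)).IsGE 1 := by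
      have h1 : ((singleFunctor (ModuleCat.{u} A) i).obj
          ((ModuleCat.restrictScalars.{u} (Ideal.Quotient.mk I)).obj N)).IsGE 1 :=
        TStructure.t.isGE_of_ge _ 1 i (by omega)
      have : ((ModuleCat.restrictScalars.{u} (Ideal.Quotient.mk I) ⋙ singleFunctor (ModuleCat.{u} A) i).obj N).IsGE 1 := h1
      exact TStructure.t.isGE_of_iso (((ModuleCat.restrictScalars.{u} (Ideal.Quotient.mk I)
        ).mapDerivedCategorySingleFunctor i).app N).symm 1
    exact (TStructure.t.zero _ 0 1 (by norm_num)).trans (TStructure.t.zero _ 0 1 (by norm_num)).symm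
  · intro h i hi
    obtain ⟨s, hs⟩ := hI
    exact hz_of_orth_nil s.toList K
      (fun f hf => dcd_of_isDerivedComplete (hs ▸ Ideal.subset_span (Finset.mem_toList.1 hf)) hc)
      (orth_of_isLE I K s hs (DAlg.isLE_of_subsingleton h)) i hi

end Quot

section LTensor

variable (I : Ideal A) [DRing.HasLTensor A (ModuleCat.of A (A ⧸ I))]

lemma hz_lBaseChange_iff [DRing.HasLBaseChange (Ideal.Quotient.mk I)] (K : Dual.D A) (i : ℤ) :
    HZ ((DRing.LBaseChange (Ideal.Quotient.mk I)).obj K) i ↔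
      HZ ((DRing.LTensor A (ModuleCat.of A (A ⧸ I))).obj K) i := by
  obtain ⟨P, hP, -, ⟨e⟩⟩ := DAlg.exists_kProjective_rep K
  have := hP
  have h1 : HZ ((DRing.LBaseChange (Ideal.Quotient.mk I)).obj K) i ↔
      IsZero ((extCx (Ideal.Quotient.mk I) P).homology i) :=
    ⟨fun h => DAlg.isZero_homology_of_subsingleton
        (h.of_iso ((DRing.LBaseChange _).mapIso e.symm ≪≫ lBaseChangeIso _ P)),
      fun h => HZ.of_iso (DAlg.subsingleton_HD_toD h)
        ((DRing.LBaseChange _).mapIso e.symm ≪≫ lBaseChangeIso _ P).symm⟩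
  have h2 : HZ ((DRing.LTensor A (ModuleCat.of A (A ⧸ I))).obj K) i ↔
      IsZero ((DRing.tensorCx P (ModuleCat.of A (A ⧸ I))).homology i) :=
    ⟨fun h => DAlg.isZero_homology_of_subsingleton
        (h.of_iso ((DRing.LTensor A _).mapIso e.symm ≪≫ lTensorIso _ P)),
      fun h => HZ.of_iso (DAlg.subsingleton_HD_toD h)
        ((DRing.LTensor A _).mapIso e.symm ≪≫ lTensorIso _ P).symm⟩
  rw [h1, h2]
  exact DAlg.isZero_extCx_iff (S := A ⧸ I) P i

/-- Cohomology in positive degrees is detected after tensoring with `A/I`. -/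
theorem isLE_iff (hI : I.FG) (K : Dual.D A) (hc : DRing.IsDerivedComplete I K) :
    (∀ i : ℤ, 0 < i → HZ K i) ↔ ∀ i : ℤ, 0 < i → HZ ((DRing.LTensor A (ModuleCat.of A (A ⧸ I))).obj K) i := by
  have := DAlg.hasLBaseChange (Ideal.Quotient.mk I)
  rw [isLE_iff_base_change I hI K hc]
  exact forall₂_congr fun i _ => hz_lBaseChange_iff I K i

/-- Derived Nakayama. -/
theorem isZero_of_isZero (hI : I.FG) (K : Dual.D A) (hc : DRing.IsDerivedComplete I K)
    (h0 : IsZero ((DRing.LTensor A (ModuleCat.of A (A ⧸ I))).obj K)) : IsZero K := by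
  have := DAlg.hasLBaseChange (Ideal.Quotient.mk I)
  have := (lBaseChangeAdj (Ideal.Quotient.mk I)).left_adjoint_additive
  have hz : IsZero ((DRing.LBaseChange (Ideal.Quotient.mk I)).obj K) :=
    isZero_of_hz fun i => (hz_lBaseChange_iff I K i).2 (hz_of_isZero ((homologyFunctor _ i).map_isZero h0))
  have hK : ∀ i : ℤ, HZ K i := by
    intro i
    have hc' : DRing.IsDerivedComplete I (K⟦i - 1⟧) := (isDerivedComplete_iff I _).2 fun f hf n =>
      DCD.shift (dcd_of_isDerivedComplete hf hc) (i - 1) n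
    have h : HZ (K⟦i - 1⟧) 1 := (isLE_iff_base_change I hI _ hc').2 (fun j _ => hz_of_isZero ((homologyFunctor _ j).map_isZero (by
      refine IsZero.of_iso ?_ (asIso ((lBaseChangeAdj (Ideal.Quotient.mk I)).leftAdjointCommShift ℤ |>.commShiftIso (i - 1) |>.hom.app K))
      exact (shiftFunctor _ (i - 1)).map_isZero hz))) 1 one_pos
    exact hz_of_isZero (h.isZero.of_iso
      ((((homologyFunctor (ModuleCat.{u} A) 0).shiftIso (i - 1) 1 i (by omega)).app K).symm))
  exact isZero_of_hz hK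

end LTensor

end Groth.DAlg.DCompletionNAK
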