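import Groth.Agent.DAlg.TelescopeHom
import Groth.Agent.Misc4.FreeOn
import Groth.Agent.SiteCohomology.ModulesGrothendieck
import Groth.Prelude.Def_DerComp

/-!
A criterion for derived completeness on a ringed site in terms of towers of groups of sections.
-/

universe u

open CategoryTheory CategoryTheory.Limits Opposite

attribute [local instance] HasDerivedCategory.standard

set_option backward.defeqAttrib.useBackward true
set_option backward.isDefEq.respectTransparency false
set_option synthInstance.maxHeartbeats 400000
set_option maxHeartbeats 1000000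

namespace Groth.DAlg.DerCompCrit

open Groth.SitesTopoi.ModH TelescopeHom

variable {C : Type u} [SmallCategory C] {J : GrothendieckTopology C} {O : Sheaf J CommRingCat.{u}}

/-- Multiplication by a section on the free module on an object. -/
noncomputable def eU (U : C) (f : O.obj.obj (op U)) : ModSite.freeOn O U ⟶ ModSite.freeOn O U :=
  (ModSite.extZero O U).map (DerComp.smulEnd (DerComp.GSec.ofSect O U f) (ModSite.unit (O.over U)))

lemma homEquiv_eU (U : C) (f : O.obj.obj (op U)) (M : ModSite.Mod O) (φ : ModSite.freeOn O U ⟶ M) :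
    Groth.Misc4.FreeOn.homEquiv U M (eU U f ≫ φ) =
      (f : rsec O U) • Groth.Misc4.FreeOn.homEquiv U M φ := by
  show Groth.Misc4.FreeOn.sectionsOverEquiv M U (((ModSite.restr O U).obj M).unitHomEquiv
    ((ModSite.extZeroAdj O U).homEquiv _ _ (eU U f ≫ φ))) = _
  rw [eU, Adjunction.homEquiv_naturality_left, DerComp.smulEnd_comm]
  show (O.obj.map (𝟙 U).op).hom f • Groth.Misc4.FreeOn.homEquiv U M φ = _
  simp

lemma eU_ext (U : C) {M : ModSite.Mod O} {φ ψ : ModSite.freeOn O U ⟶ M}
    (h : Groth.Misc4.FreeOn.homEquiv U M φ = Groth.Misc4.FreeOn.homEquiv U M ψ) : φ = ψ :=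
  (Groth.Misc4.FreeOn.homEquiv U M).injective h

/-- The tower of sections of `K` over `U` with transition maps `f` is trivial. -/
def Triv (U : C) (f : O.obj.obj (op U)) (K : DerivedCategory (ModSite.Mod O)) : Prop :=
  ∀ m : ℤ, TBij (pre (eU U f) m K)

instance (U : C) : (ModSite.extZero O U).IsLeftAdjoint := ⟨_, ⟨ModSite.extZeroAdj O U⟩⟩

/-- The extension by zero of the localisation is a telescope cokernel. -/
noncomputable def awayIso (U : C) (f : O.obj.obj (op U)) :
    (ModSite.extZero O U).obj (DerComp.awayOver O U f) ≅ cokernel (tel (eU U f)) :=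
  PreservesCokernel.iso (ModSite.extZero O U) _ ≪≫
    cokernel.mapIso _ _ (PreservesCoproduct.iso _ _) (PreservesCoproduct.iso _ _) (by
      have hh : ∀ n, (ModSite.extZero O U).map (Sigma.ι (fun _ : ℕ => ModSite.unit (O.over U)) n) ≫
          (PreservesCoproduct.iso (ModSite.extZero O U) fun _ : ℕ => ModSite.unit (O.over U)).hom =
          Sigma.ι (fun _ : ℕ => (ModSite.extZero O U).obj (ModSite.unit (O.over U))) n := fun n => by
        rw [← Iso.eq_comp_inv]
        simp
      rw [← cancel_epi (PreservesCoproduct.iso (ModSite.extZero O U) fun _ : ℕ => ModSite.unit (O.over U)).inv]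
      refine Sigma.hom_ext _ _ fun n => ?_
      simp only [PreservesCoproduct.inv_hom, ι_comp_sigmaComparison_assoc, ← Functor.map_comp_assoc]
      rw [DerComp.awayMap, Sigma.ι_desc, Functor.map_sub, Functor.map_comp, Preadditive.sub_comp,
        Category.assoc, hh, hh, reassoc_of% (hh n)]
      simp [tel, eU])

lemma subsingleton_away_iff (U : C) (f : O.obj.obj (op U)) (K : DerivedCategory (ModSite.Mod O)) :
    (∀ n : ℤ, Subsingleton (SiteCmp.inD O ((ModSite.extZero O U).obj (DerComp.awayOver O U f)) ⟶ K⟦n⟧)) ↔
      Triv U f K :=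
  (forall_congr' fun n => (Iso.homCongr ((DerivedCategory.singleFunctor (ModSite.Mod O) 0).mapIso
    (awayIso U f)) (Iso.refl _)).subsingleton_congr).trans (subsingleton_cokernel_tel_iff (eU U f) K)

/-- Derived completeness in terms of towers. -/
theorem isDerComp_iff (I : DerComp.IdealSh O) (K : DerivedCategory (ModSite.Mod O)) :
    DerComp.IsDerComp O I K ↔ ∀ (U : C) (f : O.obj.obj (op U)), f ∈ I.ideal U → Triv U f K :=
  forall_congr' fun U => forall_congr' fun f => imp_congr_right fun _ => subsingleton_away_iff U f K

end Groth.DAlg.DerCompCrit
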