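import Groth.Agent.DAlg.FAcyclic
import Groth.Agent.DerivedAdj.Basic
import Groth.Agent.DerivedCoh.KInj.Products
import Groth.Agent.DerivedCoh.TriBasic
import Groth.Agent.DerivedCoh.KFlat.Unbounded
import Groth.Agent.Misc1.Telescope
import Mathlib.CategoryTheory.Adjunction.PartialAdjoint

/-!
The total right derived functor of a right adjoint has a left adjoint, when the source of the left
adjoint has enough objects without extensions into images of injectives.
-/

universe w₁ w₂ v u₁ u₂

set_option backward.defeqAttrib.useBackward true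
set_option backward.isDefEq.respectTransparency false
set_option linter.unusedSectionVars false
set_option linter.style.haveILetI false

open CategoryTheory CategoryTheory.Limits CategoryTheory.Pretriangulated HomologicalComplex
open Groth.DAlg.FAcyclic Groth.DerivedCoh

namespace Groth.DAlg.DerivedLeftAdj

section Shapes

variable (B : Type u₂) [Category.{v} B] [Abelian B] [IsGrothendieckAbelian.{v} B]

lemma hasColimits_discrete (J : Type) : HasColimitsOfShape (Discrete J) B :=
  hasColimitsOfShape_of_equivalence (Discrete.equivalence (Equiv.ulift : ULift.{v} J ≃ J))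

lemma hasExactColimits_discrete (J : Type) [HasColimitsOfShape (Discrete J) B] :
    HasExactColimitsOfShape (Discrete J) B :=
  HasExactColimitsOfShape.of_domain_equivalence B
    (Discrete.equivalence (Equiv.ulift : ULift.{v} J ≃ J))

lemma hasColimits_nat : HasColimitsOfShape ℕ B :=
  hasColimitsOfShape_of_equivalence AsSmall.equiv.{0, 0, v}.symm

lemma hasExactColimits_nat [HasColimitsOfShape ℕ B] : HasExactColimitsOfShape ℕ B :=
  haveI : IsFiltered (AsSmall.{v} ℕ) := IsFiltered.of_equivalence AsSmall.equiv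
  haveI := AB5OfSize.ofShape (C := B) (AsSmall.{v} ℕ)
  HasExactColimitsOfShape.of_domain_equivalence B AsSmall.equiv.symm

end Shapes

variable {A : Type u₁} [Category.{v} A] [Abelian A] [IsGrothendieckAbelian.{v} A]
  {B : Type u₂} [Category.{v} B] [Abelian B] [IsGrothendieckAbelian.{v} B]
  {F : B ⥤ A} {G : A ⥤ B} (adj : F ⊣ G) [F.Additive] [G.Additive]

local notation "up" => ComplexShape.up ℤ
local notation "qA" => HomotopyCategory.quotient A (ComplexShape.up ℤ)
local notation "qB" => HomotopyCategory.quotient B (ComplexShape.up ℤ)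

variable (G) in
/-- Acyclic bounded above complexes with adapted terms. -/
def IsTest (N : CochainComplex B ℤ) : Prop :=
  N.Acyclic ∧ (∃ b : ℤ, ∀ q, b < q → IsZero (N.X q)) ∧ ∀ q, Acy G (N.X q)

variable (G) in
/-- Right orthogonal to the test complexes. -/
def Weak (X : HomotopyCategory B up) : Prop :=
  ∀ N, IsTest G N → ∀ (n : ℤ) (φ : (qB).obj N ⟶ X⟦n⟧), φ = 0

variable (G) in
/-- Left orthogonal to the acyclic weak objects. -/
def Adapted (P : CochainComplex B ℤ) : Prop :=
  ∀ X : HomotopyCategory B up, HomotopyCategory.subcategoryAcyclic B X → Weak G X →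
    ∀ (n : ℤ) (φ : (qB).obj P ⟶ X⟦n⟧), φ = 0

lemma Weak.shift {X : HomotopyCategory B up} (h : Weak G X) (a : ℤ) : Weak G (X⟦a⟧) := fun N hN n φ => by
  rw [← cancel_mono ((shiftFunctorAdd' _ a n (a + n) rfl).inv.app X), zero_comp]
  exact h N hN _ _

include adj in
/-- Direct images of K-injective complexes are weak. -/
lemma weak_map (J : CochainComplex A ℤ) [J.IsKInjective] :
    Weak G ((G.mapHomotopyCategory up).obj ((qA).obj J)) := by
  intro N hN n φ
  obtain ⟨hac, ⟨b, hb⟩, hT⟩ := hN
  let K := G.mapHomotopyCategory up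
  let e : (K.obj ((qA).obj J))⟦n⟧ ≅ K.obj ((qA).obj (J⟦n⟧)) :=
    ((K.commShiftIso n).app _).symm ≪≫ K.mapIso (((qA).commShiftIso n).app J).symm
  let adjK := Groth.DerivedAdj.mapHomotopyCategoryAdj adj up
  rw [← cancel_mono e.hom, zero_comp]
  apply (adjK.homEquiv _ _).symm.injective
  obtain ⟨ψ, hψ⟩ := (qA).map_surjective (X := (F.mapHomologicalComplex up).obj N) (Y := J⟦n⟧)
    ((adjK.homEquiv _ _).symm (φ ≫ e.hom))
  have h0 : (qA).map ψ = 0 := by
    rw [HomotopyCategory.eq_of_homotopy ψ 0
      (CochainComplex.IsKInjective.homotopyZero ψ (acyclic_map adj hac hb hT)), Functor.map_zero]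
  refine hψ.symm.trans (h0.trans ?_)
  rw [adjK.homEquiv_counit, Functor.map_zero, zero_comp]

lemma weak_kInjective (I : CochainComplex B ℤ) [I.IsKInjective] : Weak G ((qB).obj I) := by
  intro N hN n φ
  rw [← cancel_mono (((qB).commShiftIso n).inv.app I), zero_comp]
  exact CochainComplex.IsKInjective.rightOrthogonal (I⟦n⟧) _
    ((HomotopyCategory.quotient_obj_mem_subcategoryAcyclic_iff_acyclic N).2 hN.1)

lemma Weak.ext₃ (T : Triangle (HomotopyCategory B up)) (hT : T ∈ distTriang _) (h₁ : Weak G T.obj₁)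
    (h₂ : Weak G T.obj₂) : Weak G T.obj₃ := fun N hN n φ => by
  have hTn := Triangle.shift_distinguished _ hT n
  obtain ⟨g, hg⟩ := Triangle.coyoneda_exact₃ _ hTn φ ((h₁.shift n) N hN 1 _)
  have hg0 : g = 0 := h₂ N hN n g
  rw [hg, hg0]
  exact zero_comp

lemma Adapted.of_iso_quotient {P P' : CochainComplex B ℤ} (e : (qB).obj P ≅ (qB).obj P') (h : Adapted G P) :
    Adapted G P' := fun X hX hW n φ => by
  rw [← cancel_epi e.hom, comp_zero]
  exact h X hX hW n _

lemma Adapted.coproduct {T : Type v} (P : T → CochainComplex B ℤ) (h : ∀ t, Adapted G (P t)) :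
    Adapted G (∐ P) := fun X hX hW n φ => by
  obtain ⟨C, hC⟩ := HomotopyCategory.quotient_obj_surjective (X⟦n⟧)
  rw [← cancel_mono (eqToHom hC.symm), zero_comp]
  obtain ⟨f, hf⟩ := (qB).map_surjective (φ ≫ eqToHom hC.symm)
  rw [← hf]
  obtain ⟨H⟩ := KInjRes.homotopic_sigma P f 0 fun t => by
    have h0 : (qB).map (Sigma.ι P t ≫ f) = (qB).map (Sigma.ι P t ≫ (0 : ∐ P ⟶ C)) := by
      rw [comp_zero, Functor.map_zero, Functor.map_comp, hf, ← Category.assoc]
      erw [h t X hX hW n ((qB).map (Sigma.ι P t) ≫ φ)]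
      exact zero_comp
    exact ⟨HomotopyCategory.homotopyOfEq _ _ h0⟩
  rw [HomotopyCategory.eq_of_homotopy f 0 H, Functor.map_zero]

lemma Adapted.mappingCone {P P' : CochainComplex B ℤ} (u : P ⟶ P') (h : Adapted G P) (h' : Adapted G P') :
    Adapted G (CochainComplex.mappingCone u) := fun X hX hW n φ => by
  have hT := HomotopyCategory.mappingCone_triangleh_distinguished u
  obtain ⟨χ, hχ⟩ := Triangle.yoneda_exact₃ _ hT φ (h' X hX hW n _)
  have : χ = 0 := Groth.DerivedCoh.shift_hom_eq_zero (fun w => by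
    rw [← cancel_mono ((shiftFunctorAdd' (HomotopyCategory B up) n (-1) (n + -1) rfl).inv.app X), zero_comp]
    exact h X hX hW _ _) χ
  rw [hχ, this]
  exact comp_zero

section Cover

variable {σ : Type v} (S : σ → B)

/-- Nonzero morphisms from the generators. -/
abbrev Idx (Y : B) : Type v := {k : Σ s, (S s ⟶ Y) // k.2 ≠ 0}

open Classical in
/-- Functoriality of the sums of generators. -/
noncomputable def coverMap {Y Y' : B} (f : Y ⟶ Y') :
    (∐ fun k : Idx S Y => S k.1.1) ⟶ ∐ fun k : Idx S Y' => S k.1.1 :=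
  Sigma.desc fun k => if h : k.1.2 ≫ f = 0 then 0
    else Sigma.ι (fun k : Idx S Y' => S k.1.1) ⟨⟨k.1.1, k.1.2 ≫ f⟩, h⟩

/-- Sums of generators. -/
noncomputable def coverFunctor : B ⥤ B where
  obj Y := ∐ fun k : Idx S Y => S k.1.1
  map f := coverMap S f
  map_id Y := Sigma.hom_ext _ _ fun k => by
    have h : ¬ k.1.2 ≫ 𝟙 Y = 0 := by simpa using k.2
    simp only [coverMap, Sigma.ι_desc, dif_neg h, Category.comp_id]
    congr 2
    exact Sigma.ext rfl (heq_of_eq (Category.comp_id _))

  map_comp {X Y Z} f g := Sigma.hom_ext _ _ fun k => by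
    simp only [coverMap, Sigma.ι_desc, Sigma.ι_desc_assoc]
    by_cases h : k.1.2 ≫ f = 0
    · have h' : k.1.2 ≫ f ≫ g = 0 := by rw [← Category.assoc, h, zero_comp]
      rw [dif_pos h, dif_pos h', zero_comp]
    · rw [dif_neg h, Sigma.ι_desc]
      by_cases h' : k.1.2 ≫ f ≫ g = 0
      · rw [dif_pos h', dif_pos ((Category.assoc _ _ _).trans h')]
      · rw [dif_neg h', dif_neg (fun e => h' ((Category.assoc _ _ _).symm.trans e))]
        congr 3
        simp only [Category.assoc]

/-- The cover by sums of generators. -/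
noncomputable def cover (hS : ∀ {Y Z : B} (f g : Y ⟶ Z), (∀ (s : σ) (φ : S s ⟶ Y), φ ≫ f = φ ≫ g) → f = g) :
    KFlat.Cover B where
  P := coverFunctor S
  π :=
    { app := fun Y => Sigma.desc fun k => k.1.2
      naturality := fun {Y Y'} f => Sigma.hom_ext _ _ fun k => by
        simp only [coverFunctor, coverMap, Functor.id_map, Sigma.ι_desc_assoc]
        by_cases h : k.1.2 ≫ f = 0
        · simp [h]
        · simp [h] }
  epi Y := ⟨fun f g h => hS f g fun s φ => by
    by_cases hφ : φ = 0
    · simp [hφ]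
    · have := congrArg (fun x => Sigma.ι (fun k : Idx S Y => S k.1.1) ⟨⟨s, φ⟩, hφ⟩ ≫ x) h
      simpa using this⟩
  preservesZero := ⟨fun Y Y' => Sigma.hom_ext _ _ fun k => by simp [coverFunctor, coverMap]⟩

end Cover

section Resolve

variable {σ : Type v} (S : σ → B)
  (hS : ∀ {Y Z : B} (f g : Y ⟶ Z), (∀ (s : σ) (φ : S s ⟶ Y), φ ≫ f = φ ≫ g) → f = g)
  (hSA : ∀ s, Acy G (S s))

include hS hSA

/-- A bounded above complex has a bounded above resolution with adapted terms. -/
lemma exists_bounded_res (Z : CochainComplex B ℤ) {b : ℤ} (hb : ∀ q, b < q → IsZero (Z.X q)) :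
    ∃ (R : CochainComplex B ℤ) (t : R ⟶ Z), QuasiIso t ∧ (∀ q, b < q → IsZero (R.X q)) ∧ ∀ q, Acy G (R.X q) := by
  haveI := hasColimits_discrete B
  haveI := fun J : Type => hasExactColimits_discrete B J
  haveI := hasColimits_nat B
  haveI := hasExactColimits_nat B
  let V := cover S hS
  refine ⟨V.res.obj Z, V.resAug.app Z, V.quasiIso_resAug Z b hb, V.res_X_zero Z b hb, fun q =>
    V.res_X_prop (Acy G) (fun Y => acy_coproduct fun k => hSA _) (fun _ => acy_of_isZero)
      (fun e => acy_of_iso e) (fun ι N h => ?_) Z q⟩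
  let e : (∐ fun i : ULift.{v} ι => N i.down) ≅ ∐ N := Sigma.reindex Equiv.ulift.{v, 0} N
  exact acy_of_iso e (acy_coproduct fun i => h i.down)

/-- Bounded above complexes with adapted terms are adapted. -/
lemma adapted_of_bounded (P : CochainComplex B ℤ) {b : ℤ} (hb : ∀ q, b < q → IsZero (P.X q))
    (hT : ∀ q, Acy G (P.X q)) : Adapted G P := by
  intro X hX hW n φ
  obtain ⟨Z, f, g, hTr⟩ := distinguished_cocone_triangle₁ φ
  obtain ⟨Z', rfl⟩ := HomotopyCategory.quotient_obj_surjective Z
  obtain ⟨s, rfl⟩ := (qB).map_surjective f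
  have hs : QuasiIso s := (HomotopyCategory.quotient_map_mem_quasiIso_iff s).1 (by
    rw [HomotopyCategory.quasiIso_eq_trW_subcategoryAcyclic]
    exact ((HomotopyCategory.subcategoryAcyclic B).trW_iff_of_distinguished _ hTr).2
      ((HomotopyCategory.subcategoryAcyclic B).le_shift n _ hX))
  haveI : P.IsStrictlyLE b := (CochainComplex.isStrictlyLE_iff P b).2 hb
  haveI : CochainComplex.IsLE Z' b := (CochainComplex.isLE_iff Z' b).2 fun i hi =>
    (quasiIsoAt_iff_exactAt' s i (P.exactAt_of_isLE b i hi)).1 inferInstance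
  obtain ⟨R, t, ht, hR0, hRA⟩ := exists_bounded_res S hS hSA (CochainComplex.truncLE Z' b)
    (fun q hq => CochainComplex.isZero_of_isStrictlyLE (CochainComplex.truncLE Z' b) b q hq)
  let u : R ⟶ P := t ≫ CochainComplex.ιTruncLE Z' b ≫ s
  have hu : QuasiIso u := inferInstance
  have hN : IsTest G (CochainComplex.mappingCone u) := by
    refine ⟨?_, ⟨b, fun q hq => ?_⟩, fun q => ?_⟩
    · rw [← HomotopyCategory.quotient_obj_mem_subcategoryAcyclic_iff_acyclic]
      refine ((HomotopyCategory.subcategoryAcyclic B).trW_iff_of_distinguished _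
        (HomotopyCategory.mappingCone_triangleh_distinguished u)).1 ?_
      rw [← HomotopyCategory.quasiIso_eq_trW_subcategoryAcyclic]
      exact (HomotopyCategory.quotient_map_mem_quasiIso_iff u).2 hu
    · exact (homotopyCofiber.XIsoBiprod u q (q + 1) (by simp)).isZero_iff.2
        ((biprod_isZero_iff _ _).2 ⟨hR0 (q + 1) (by lia), hb q hq⟩)
    · exact acy_of_iso (homotopyCofiber.XIsoBiprod u q (q + 1) (by simp)).symm (acy_biprod (hRA _) (hT q))
  have h0 : (qB).map u ≫ φ = 0 := by
    have := comp_distTriang_mor_zero₁₂ _ hTr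
    simp only [u, Functor.map_comp, Category.assoc]
    erw [this, comp_zero, comp_zero]
  obtain ⟨χ, hχ⟩ := Triangle.yoneda_exact₂ _ (HomotopyCategory.mappingCone_triangleh_distinguished u) φ h0
  rw [hχ, hW _ hN n χ]
  exact comp_zero

/-- Every complex has an adapted resolution. -/
lemma exists_adapted (Z : CochainComplex B ℤ) :
    ∃ (P : CochainComplex B ℤ) (t : P ⟶ Z), QuasiIso t ∧ Adapted G P := by
  haveI := hasColimits_discrete B
  haveI := fun J : Type => hasExactColimits_discrete B J
  haveI := hasColimits_nat B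
  haveI := hasExactColimits_nat B
  let V := cover S hS
  let L := V.seqF.obj Z
  have hL : ∀ n, Adapted G (L.obj n) := fun n => by
    have hb : ∀ p, (n : ℤ) < p → IsZero ((Z.truncLE (n : ℤ)).X p) :=
      fun p hp => CochainComplex.isZero_of_isStrictlyLE (Z.truncLE (n : ℤ)) n p hp
    refine adapted_of_bounded S hS hSA _ (V.res_X_zero _ (n : ℤ) hb) fun q =>
      V.res_X_prop (Acy G) (fun Y => acy_coproduct fun k => hSA _) (fun _ => acy_of_isZero)
        (fun e => acy_of_iso e) (fun ι N h => ?_) _ q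
    let e : (∐ fun i : ULift.{v} ι => N i.down) ≅ ∐ N := Sigma.reindex Equiv.ulift.{v, 0} N
    exact acy_of_iso e (acy_coproduct fun i => h i.down)
  obtain ⟨w, hw⟩ := Groth.Misc1.Telescope.telescope_shortExact L
  haveI := CochainComplex.mappingCone.quasiIso_descShortComplex hw
  haveI := (V.resolAug_spec Z).1
  let d : CochainComplex.mappingCone _ ⟶ V.resol.obj Z :=
    CochainComplex.mappingCone.descShortComplex (ShortComplex.mk _ _ w)
  haveI : QuasiIso d := CochainComplex.mappingCone.quasiIso_descShortComplex hw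
  refine ⟨_, d ≫ V.resolAug.app Z, inferInstance, ?_⟩
  have h : Adapted G (∐ L.obj) := by
    let e : (∐ fun i : ULift.{v} ℕ => L.obj i.down) ≅ ∐ L.obj := Sigma.reindex Equiv.ulift.{v, 0} L.obj
    exact Adapted.of_iso_quotient ((qB).mapIso e) (Adapted.coproduct _ fun i : ULift.{v} ℕ => hL i.down)
  exact Adapted.mappingCone _ h h

end Resolve

variable [HasDerivedCategory.{w₁} A] [HasDerivedCategory.{w₂} B]

include adj in
/-- Morphisms from adapted complexes to direct images of K-injective complexes in `K(B)` and `D(B)` agree. -/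
lemma bijective_Qh_map {P : CochainComplex B ℤ} (hP : Adapted G P) (J : CochainComplex A ℤ) [J.IsKInjective] :
    Function.Bijective (DerivedCategory.Qh.map :
      ((qB).obj P ⟶ (G.mapHomotopyCategory up).obj ((qA).obj J)) → _) := by
  let M := (G.mapHomologicalComplex up).obj J
  obtain ⟨I, r, _, hr, hI, -⟩ := KInjRes.exists_resolution M
  have hW : Weak G ((qB).obj (CochainComplex.mappingCone r)) :=
    Weak.ext₃ _ (HomotopyCategory.mappingCone_triangleh_distinguished r) (weak_map adj J) (weak_kInjective I)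
  have hT := HomotopyCategory.mappingCone_triangleh_distinguished r
  have hac : HomotopyCategory.subcategoryAcyclic B ((qB).obj (CochainComplex.mappingCone r)) := by
    refine ((HomotopyCategory.subcategoryAcyclic B).trW_iff_of_distinguished _ hT).1 ?_
    rw [← HomotopyCategory.quasiIso_eq_trW_subcategoryAcyclic]
    exact (HomotopyCategory.quotient_map_mem_quasiIso_iff r).2 hr
  have hiso : IsIso (DerivedCategory.Qh.map ((qB).map r)) :=
    Localization.inverts DerivedCategory.Qh (HomotopyCategory.quasiIso B up) _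
      ((HomotopyCategory.quotient_map_mem_quasiIso_iff r).2 hr)
  constructor
  · intro a a' haa
    rw [← sub_eq_zero]
    have h0 : (a - a') ≫ (qB).map r = 0 := by
      apply (CochainComplex.IsKInjective.Qh_map_bijective _ I).1
      rw [Functor.map_comp, Functor.map_sub, sub_eq_zero.2 haa, zero_comp, Functor.map_zero]
    obtain ⟨g, hg⟩ := Groth.DerivedCoh.coyoneda_exact₁' _ hT (a - a') h0
    rw [hg, hP _ hac hW (-1) g]
    exact zero_comp
  · intro ψ
    obtain ⟨g, hg⟩ := (CochainComplex.IsKInjective.Qh_map_bijective _ I).2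
      (ψ ≫ DerivedCategory.Qh.map ((qB).map r))
    have h0 : g ≫ (CochainComplex.mappingCone.triangleh r).mor₂ = 0 := by
      have hw : Weak G (((qB).obj (CochainComplex.mappingCone r))⟦(0 : ℤ)⟧) := hW.shift 0
      rw [← cancel_mono ((shiftFunctorZero (HomotopyCategory B up) ℤ).inv.app _), zero_comp]
      exact hP _ hac hW 0 _
    obtain ⟨g', hg'⟩ := Triangle.coyoneda_exact₂ _ hT g h0
    refine ⟨g', ?_⟩
    rw [← cancel_mono (DerivedCategory.Qh.map ((qB).map r)), ← Functor.map_comp, ← hg]
    exact congrArg _ hg'.symm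

variable (RF : DerivedCategory A ⥤ DerivedCategory B)
  (β : G.mapHomotopyCategory (ComplexShape.up ℤ) ⋙ DerivedCategory.Qh ⟶ DerivedCategory.Qh ⋙ RF)
  [RF.IsRightDerivedFunctor β (HomotopyCategory.quasiIso A up)]

include adj β in
/-- The total right derived functor of a right adjoint has a left adjoint. -/
theorem isRightAdjoint {σ : Type v} (S : σ → B)
    (hS : ∀ {Y Z : B} (f g : Y ⟶ Z), (∀ (s : σ) (φ : S s ⟶ Y), φ ≫ f = φ ≫ g) → f = g)
    (hSA : ∀ s, Acy G (S s)) : RF.IsRightAdjoint := by
  have hA : Groth.DerivedAdj.EnoughKInj A := fun K => by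
    obtain ⟨I, i, -, h1, h2, -⟩ := KInjRes.exists_resolution K
    exact ⟨I, i, h2, h1⟩
  refine Functor.isRightAdjoint_of_leftAdjointObjIsDefined_eq_top (F := RF) ?_
  funext X
  refine eq_true ?_
  obtain ⟨Z, ⟨eZ⟩⟩ : ∃ Z : CochainComplex B ℤ, Nonempty (DerivedCategory.Qh.obj ((qB).obj Z) ≅ X) := by
    obtain ⟨Z, hZ⟩ := HomotopyCategory.quotient_obj_surjective (DerivedCategory.Qh.objPreimage X)
    exact ⟨Z, ⟨DerivedCategory.Qh.mapIso (eqToIso hZ) ≪≫ DerivedCategory.Qh.objObjPreimageIso X⟩⟩
  obtain ⟨P, t, ht, hP⟩ := exists_adapted S hS hSA Z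
  haveI : IsIso (DerivedCategory.Qh.map ((qB).map t)) :=
    Localization.inverts DerivedCategory.Qh (HomotopyCategory.quasiIso B up) _
      ((HomotopyCategory.quotient_map_mem_quasiIso_iff t).2 ht)
  let e : DerivedCategory.Qh.obj ((qB).obj P) ≅ X := asIso (DerivedCategory.Qh.map ((qB).map t)) ≪≫ eZ
  let adjK := Groth.DerivedAdj.mapHomotopyCategoryAdj adj up
  let FP := (F.mapHomotopyCategory up).obj ((qB).obj P)
  let η : X ⟶ RF.obj (DerivedCategory.Qh.obj FP) :=
    e.inv ≫ DerivedCategory.Qh.map (adjK.unit.app ((qB).obj P)) ≫ β.app FP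
  have hbij : ∀ Y : DerivedCategory A,
      Function.Bijective fun ψ : DerivedCategory.Qh.obj FP ⟶ Y => η ≫ RF.map ψ := by
    intro Y
    let K₀ := DerivedCategory.Qh.objPreimage Y
    obtain ⟨K, hK⟩ := HomotopyCategory.quotient_obj_surjective K₀
    obtain ⟨J, j, hJ, hj⟩ := hA K
    haveI : IsIso (DerivedCategory.Qh.map ((qA).map j)) :=
      Localization.inverts DerivedCategory.Qh (HomotopyCategory.quasiIso A up) _
        ((HomotopyCategory.quotient_map_mem_quasiIso_iff j).2 hj)
    let eY : DerivedCategory.Qh.obj ((qA).obj J) ≅ Y :=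
      (asIso (DerivedCategory.Qh.map ((qA).map j))).symm ≪≫
        DerivedCategory.Qh.mapIso (eqToIso hK) ≪≫ DerivedCategory.Qh.objObjPreimageIso Y
    haveI : IsIso (β.app ((qA).obj J)) := Groth.DerivedAdj.isIso_app_of_bijective
      (HomotopyCategory.quasiIso A up) RF β (Groth.DerivedAdj.exists_good hA) _
      fun K => CochainComplex.IsKInjective.Qh_map_bijective K J
    let Φ : (FP ⟶ (qA).obj J) → (X ⟶ RF.obj Y) := fun h =>
      η ≫ RF.map (DerivedCategory.Qh.map h ≫ eY.hom)
    have hΦ : Function.Bijective Φ := by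
      have : Φ = (e.homFromEquiv : _ ≃ (X ⟶ RF.obj Y)) ∘
          ((asIso (β.app ((qA).obj J)) ≪≫ RF.mapIso eY).homToEquiv ∘
            (DerivedCategory.Qh.map ∘ (adjK.homEquiv ((qB).obj P) ((qA).obj J)))) := by
        funext h
        simp only [Φ, η, Function.comp_apply, Iso.homFromEquiv_apply, Iso.homToEquiv_apply, Iso.trans_hom,
          asIso_hom, Functor.mapIso_hom, Adjunction.homEquiv_unit, Functor.map_comp, Category.assoc]
        congr 2
        have hn := (β.naturality h).symm
        simp only [Functor.comp_obj, Functor.comp_map] at hn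
        exact (Category.assoc _ _ _).symm.trans ((congrArg (· ≫ RF.map eY.hom) hn).trans (Category.assoc _ _ _))
      rw [this]
      exact (Equiv.bijective _).comp ((Equiv.bijective _).comp
        ((bijective_Qh_map adj hP J).comp (Equiv.bijective _)))
    have hQ : Function.Bijective fun h : FP ⟶ (qA).obj J => DerivedCategory.Qh.map h ≫ eY.hom :=
      eY.homToEquiv.bijective.comp (CochainComplex.IsKInjective.Qh_map_bijective FP J)
    exact (Function.Bijective.of_comp_iff _ hQ).1 hΦ
  refine (Functor.leftAdjointObjIsDefined_iff RF X).2 ⟨DerivedCategory.Qh.obj FP, ⟨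
    { homEquiv := fun {Y} => Equiv.ofBijective _ (hbij Y)
      homEquiv_comp := fun g f => ?_ }⟩⟩
  show η ≫ RF.map (f ≫ g) = (η ≫ RF.map f) ≫ RF.map g
  simp only [Functor.map_comp, Category.assoc, η]

end Groth.DAlg.DerivedLeftAdj
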