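import Groth.Agent.DAlg.SiteInj
import Groth.Agent.DAlg.DerivedLeftAdj
import Groth.Agent.SiteCohomology.ModulesGrothendieck
import Groth.Prelude.Def_SiteCmp

/-!
`Rf_*` on unbounded derived categories of modules on ringed sites has a left adjoint.
-/

universe u

open CategoryTheory CategoryTheory.Limits Opposite

attribute [local instance] HasDerivedCategory.standard

set_option synthInstance.maxHeartbeats 400000
set_option maxHeartbeats 1000000

namespace Groth.DAlg.SitePush

variable {C D : Type u} [SmallCategory C] [SmallCategory D] {J : GrothendieckTopology C}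
  {K : GrothendieckTopology D} {O_C : Sheaf J CommRingCat.{u}} {O_D : Sheaf K CommRingCat.{u}}
  (f : ModSite.RMor O_C O_D)

/-- Direct images of injective modules have no higher cohomology. -/
lemma subsingleton_HU_push (I : ModSite.Mod O_C) [Injective I] (U : D) (i : ℕ) :
    Subsingleton (CohSite.HU ((SheafOfModules.toSheaf (ModSite.ringSh O_D)).obj (f.push.obj I)) (i + 1) U) :=
  Groth.SiteCohomology.subsingleton_HU_push J K f.fn i ((SheafOfModules.toSheaf (ModSite.ringSh O_C)).obj I)
    (fun V j => SiteInj.subsingleton_HU_of_injective J _ I V j) U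

/-- Free modules on objects are adapted to `f_*`. -/
lemma acy_freeMod (V : D) : FAcyclic.Acy f.push (SiteInj.freeMod K (ModSite.ringSh O_D) V) := fun I hI q =>
  SiteInj.subsingleton_ext_freeMod K _ V _ (fun U i => subsingleton_HU_push f I U i) q

/-- Free modules on objects detect equality of morphisms. -/
lemma freeMod_separates {Y Z : ModSite.Mod O_D} (g g' : Y ⟶ Z)
    (h : ∀ (V : D) (φ : SiteInj.freeMod K (ModSite.ringSh O_D) V ⟶ Y), φ ≫ g = φ ≫ g') : g = g' := by
  apply (SheafOfModules.toSheaf (ModSite.ringSh O_D)).map_injective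
  apply ObjectProperty.hom_ext
  ext V x
  have e := congrArg (SiteInj.freeModHomEquiv K _ V.unop Z)
    (h V.unop ((SiteInj.freeModHomEquiv K _ V.unop Y).symm x))
  rw [SiteInj.freeModHomEquiv_comp, SiteInj.freeModHomEquiv_comp] at e
  erw [Equiv.apply_symm_apply] at e
  exact e

/-- `Rf_*` has a left adjoint. -/
theorem isRightAdjoint_RpushD [SiteCmp.HasRpushD f] : (SiteCmp.RpushD f).IsRightAdjoint :=
  DerivedLeftAdj.isRightAdjoint f.adj (SiteCmp.RpushD f)
    ((SiteCmp.pushKh f).totalRightDerivedUnit DerivedCategory.Qh
      (HomotopyCategory.quasiIso (ModSite.Mod O_C) (ComplexShape.up ℤ)))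
    (fun V : D => SiteInj.freeMod K (ModSite.ringSh O_D) V) (fun g g' h => freeMod_separates g g' h)
    (acy_freeMod f)

end Groth.DAlg.SitePush
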