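import Groth.Agent.DAlg.DerCompLocal
import Groth.Agent.DAlg.SitePushAdjoint

/-!
Derived completion and restriction to an object of a site with finite limits.
-/

universe u

open CategoryTheory CategoryTheory.Limits Opposite

attribute [local instance] HasDerivedCategory.standard

set_option backward.defeqAttrib.useBackward true
set_option backward.isDefEq.respectTransparency false
set_option synthInstance.maxHeartbeats 400000
set_option maxHeartbeats 1000000

namespace Groth.DAlg.DerCompRestr

section Universal

variable {T : Type*} [Category T] {P : ObjectProperty T} {L : T ⥤ P.FullSubcategory} (a : L ⊣ P.ι)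

/-- A universal map into the full subcategory gives an isomorphism from the reflection. -/
lemma isIso_homEquiv_symm {X : T} (Z₀ : P.FullSubcategory) (g : X ⟶ Z₀.obj)
    (hg : ∀ Z : P.FullSubcategory, Function.Bijective fun ψ : Z₀.obj ⟶ Z.obj => g ≫ ψ) :
    IsIso ((a.homEquiv X Z₀).symm g) := by
  rw [isIso_iff_coyoneda_map_bijective]
  intro Z
  have key : (fun ψ : Z₀ ⟶ Z => (a.homEquiv X Z₀).symm g ≫ ψ) =
      (a.homEquiv X Z).symm ∘ (fun φ : Z₀.obj ⟶ Z.obj => g ≫ φ) ∘ P.ι.map := by
    funext ψ
    exact (a.homEquiv_naturality_right_symm g ψ).symm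
  rw [key]
  exact (Equiv.bijective _).comp ((hg Z).comp
    (Functor.FullyFaithful.map_bijective P.fullyFaithfulι Z₀ Z))

end Universal

variable {C : Type u} [SmallCategory C] [HasFiniteLimits C] {J : GrothendieckTopology C}
  (O : Sheaf J CommRingCat.{u}) (x : C)

/-- The morphism of ringed sites of the inclusion of an object. -/
noncomputable def incl : ModSite.RMor (O.over x) O :=
  haveI : PreservesFiniteLimits (Over.star x) :=
    haveI := (Over.forgetAdjStar x).rightAdjoint_preservesLimits
    ⟨fun _ _ _ => inferInstance⟩
  haveI : RepresentablyFlat (Over.star x) := flat_of_preservesFiniteLimits _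
  ModSite.RMor.ofFlat (Over.star x)
    ⟨{ app := fun U => O.obj.map Limits.prod.snd.op
       naturality := fun U V f => by
         simp [← Functor.map_comp, ← op_comp]
         rfl }⟩

/-- Restriction is left adjoint to direct image. -/
noncomputable def restrPushAdj : ModSite.restr O x ⊣ (incl O x).push :=
  (SheafOfModules.overPushforwardOverAdj (R := ModSite.ringSh O) x).ofNatIsoRight
    (eqToIso (by with_unfolding_all rfl))

/-- Derived completion commutes with restriction. -/
theorem isIso_restr (I : DerComp.IdealSh O) [(ModSite.restr O x).Additive] [PreservesFiniteLimits (ModSite.restr O x)]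
    [PreservesFiniteColimits (ModSite.restr O x)] [DerComp.HasDerCompletion O I]
    [DerComp.HasDerCompletion (O.over x) (I.over x)] (F : DerivedCategory (ModSite.Mod O))
    (h : DerComp.IsDerComp (O.over x) (I.over x)
      ((ModSite.restr O x).mapDerivedCategory.obj ((DerComp.derCompletion O I).obj F).obj)) :
    IsIso (((DerComp.derCompletionAdj (O.over x) (I.over x)).homEquiv
      ((ModSite.restr O x).mapDerivedCategory.obj F)
      ⟨(ModSite.restr O x).mapDerivedCategory.obj ((DerComp.derCompletion O I).obj F).obj, h⟩).symm
      ((ModSite.restr O x).mapDerivedCategory.map (DerComp.toDerCompletion I F))) := by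
  have hA : Groth.DerivedAdj.EnoughKInj (ModSite.Mod (O.over x)) := RFTriangle.enoughKInj
  haveI := Groth.DerivedAdj.hasPointwiseRightDerivedFunctor_of_bijective
    (F := SiteCmp.pushKh (incl O x))
    (HomotopyCategory.quasiIso (ModSite.Mod (O.over x)) (ComplexShape.up ℤ)) (Groth.DerivedAdj.exists_good hA)
  haveI : SiteCmp.HasRpushD (incl O x) := inferInstance
  let a : (ModSite.restr O x).mapDerivedCategory ⊣ SiteCmp.RpushD (incl O x) :=
    Groth.DerivedAdj.derivedAdj (restrPushAdj O x) hA
  have hf : DerComp.RMapsIdealInto (incl O x) I (I.over x) := fun V g hg =>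
    I.map_mem (Limits.prod.snd : ((Over.star x).obj V).left ⟶ V) hg
  refine isIso_homEquiv_symm (DerComp.derCompletionAdj (O.over x) (I.over x)) _ _ fun Z => ?_
  have hZ : DerComp.IsDerComp O I ((SiteCmp.RpushD (incl O x)).obj Z.obj) := by
    have := Z.property
    rw [DerCompCrit.isDerComp_iff] at this ⊢
    exact fun V g hg => (DerCompPush.triv_push_iff (incl O x) V g Z.obj).2 (this _ _ (hf V g hg))
  let ad := DerComp.derCompletionAdj O I
  let R : DerComp.DComp O I := ⟨(SiteCmp.RpushD (incl O x)).obj Z.obj, hZ⟩
  have key : (fun ψ : (ModSite.restr O x).mapDerivedCategory.obj ((DerComp.derCompletion O I).obj F).obj ⟶ Z.obj =>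
      (ModSite.restr O x).mapDerivedCategory.map (DerComp.toDerCompletion I F) ≫ ψ) =
      (a.homEquiv _ _).symm ∘
        (fun φ : ((DerComp.derCompletion O I).obj F).obj ⟶ R.obj => DerComp.toDerCompletion I F ≫ φ) ∘
        (a.homEquiv _ _) := by
    funext ψ
    simp only [Function.comp_apply]
    rw [Adjunction.homEquiv_naturality_left_symm]
    erw [Equiv.symm_apply_apply]
  rw [key]
  refine (Equiv.bijective _).comp (Function.Bijective.comp ?_ (Equiv.bijective _))
  have : (fun φ : ((DerComp.derCompletion O I).obj F).obj ⟶ R.obj => DerComp.toDerCompletion I F ≫ φ) =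
      (ad.homEquiv F R) ∘ ((DerComp.IsDerComp O I).fullyFaithfulι.homEquiv (X := (DerComp.derCompletion O I).obj F)
        (Y := R)).symm := by
    funext φ
    simp only [Function.comp_apply, Adjunction.homEquiv_unit]
    rfl
  rw [this]
  exact (Equiv.bijective _).comp (Equiv.bijective _)

end Groth.DAlg.DerCompRestr
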