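import Groth.Agent.DAlg.DerCompKoszulPush
import Groth.Agent.DAlg.DerCompRestr
import Groth.Agent.DAlg.RFTriangle

/-!
Derived completion commutes with direct image.
-/

universe u

open CategoryTheory CategoryTheory.Limits CategoryTheory.Pretriangulated Opposite

attribute [local instance] HasDerivedCategory.standard

set_option backward.defeqAttrib.useBackward true
set_option backward.isDefEq.respectTransparency false
set_option linter.style.haveILetI false

namespace Groth.DAlg.DerCompPushIso

open KosCx DerCompKoszul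

section

variable {C : Type u} [SmallCategory C] {J : GrothendieckTopology C} {O : Sheaf J CommRingCat.{u}}

/-- A map with left orthogonal cone is universal into complete objects. -/
lemma bijective_comp {I : DerComp.IdealSh O} (T : Triangle (DerivedCategory (ModSite.Mod O)))
    (hT : T ∈ distTriang _) (h₃ : Ct I T.obj₃) (Z : DerivedCategory (ModSite.Mod O))
    (hZ : DerComp.IsDerComp O I Z) : Function.Bijective fun ψ : T.obj₂ ⟶ Z => T.mor₁ ≫ ψ := by
  have h0 : ∀ {X : DerivedCategory (ModSite.Mod O)}, Orth X Z → ∀ φ : X ⟶ Z, φ = 0 := fun hX φ => by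
    rw [← cancel_mono ((shiftFunctorZero (DerivedCategory (ModSite.Mod O)) ℤ).inv.app Z), zero_comp]
    exact hX 0 _
  refine ⟨fun ψ ψ' e => ?_, fun φ => ?_⟩
  · obtain ⟨χ, hχ⟩ := Triangle.yoneda_exact₂ _ hT (ψ - ψ') (by rw [Preadditive.comp_sub]; exact sub_eq_zero.2 e)
    rw [← sub_eq_zero, hχ, h0 (h₃ Z hZ) χ, comp_zero]
  · obtain ⟨ψ, hψ⟩ := Triangle.yoneda_exact₂ _ (inv_rot_of_distTriang _ hT) φ (h0 ((h₃ Z hZ).shift_left (-1)) _)
    exact ⟨ψ, hψ.symm⟩

end

variable {C D : Type u} [SmallCategory C] [SmallCategory D] {J : GrothendieckTopology C}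
  {K : GrothendieckTopology D} {O_C : Sheaf J CommRingCat.{u}} {O_D : Sheaf K CommRingCat.{u}}

/-- Derived completion commutes with direct image. -/
theorem isIso_homEquiv_symm_push (f : ModSite.RMor O_C O_D) [SiteCmp.HasRpushD f] (I : DerComp.IdealSh O_D)
    (hI : I.IsFiniteType) (I' : DerComp.IdealSh O_C) (hI' : DerComp.RIsIdealExt f I I')
    [DerComp.HasDerCompletion O_D I] [DerComp.HasDerCompletion O_C I'] (M : DerivedCategory (ModSite.Mod O_C))
    (h : DerComp.IsDerComp O_D I ((SiteCmp.RpushD f).obj ((DerComp.derCompletion O_C I').obj M).obj)) :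
    IsIso (((DerComp.derCompletionAdj O_D I).homEquiv ((SiteCmp.RpushD f).obj M)
      ⟨(SiteCmp.RpushD f).obj ((DerComp.derCompletion O_C I').obj M).obj, h⟩).symm
      ((SiteCmp.RpushD f).map (DerComp.toDerCompletion I' M))) := by
  obtain ⟨X, b, c, hT⟩ := distinguished_cocone_triangle (DerComp.toDerCompletion I' M)
  obtain ⟨c', hT'⟩ := RFTriangle.exists_distinguished f.push (SiteCmp.RpushD f)
    ((SiteCmp.pushKh f).totalRightDerivedUnit DerivedCategory.Qh
      (HomotopyCategory.quasiIso (ModSite.Mod O_C) (ComplexShape.up ℤ))) _ hT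
  exact DerCompRestr.isIso_homEquiv_symm (DerComp.derCompletionAdj O_D I) _ _ fun Z =>
    bijective_comp _ hT' (DerCompKoszulPush.ct_push f hI hI' X (ct_cone I' M X b c hT)) Z.obj Z.property

end Groth.DAlg.DerCompPushIso
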