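import Groth.Agent.DAlg.DerCompEquivCore
import Groth.Agent.DAlg.DerCompPushIso
import Groth.Agent.DerivedCoh.ExtZero.Basic

/-!
Restriction along a flat map of sheaves of rings inducing an isomorphism modulo the ideals gives an equivalence of
derived complete objects.
-/

universe u

open CategoryTheory CategoryTheory.Limits CategoryTheory.Pretriangulated Opposite

attribute [local instance] HasDerivedCategory.standard

set_option backward.defeqAttrib.useBackward true
set_option backward.isDefEq.respectTransparency false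
set_option synthInstance.maxHeartbeats 400000
set_option maxHeartbeats 1000000
set_option linter.style.haveILetI false

namespace Groth.DAlg.DerCompEquiv

open KosCx SiteTorsion DerCompKoszul DerCompRestrict DerCompEquivKilled DerCompEquivCore DerCompKoszulPush DerCompPush

local notation "up" => ComplexShape.up ℤ

section

variable {C : Type u} [SmallCategory C] {J : GrothendieckTopology C} {O : Sheaf J CommRingCat.{u}}

/-- A map universal into complete objects has a left orthogonal cone. -/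
lemma ct_of_bijective {I : DerComp.IdealSh O} (T : Triangle (DerivedCategory (ModSite.Mod O)))
    (hT : T ∈ distTriang _)
    (hb : ∀ Z, DerComp.IsDerComp O I Z → Function.Bijective fun ψ : T.obj₂ ⟶ Z => T.mor₁ ≫ ψ) : Ct I T.obj₃ := by
  intro Z hZ n φ
  have hbij := fun m : ℤ => hb (Z⟦m⟧) (isDerComp_shift hZ m)
  have h1 : T.mor₂ ≫ φ = 0 := (hbij n).1 (by
    show T.mor₁ ≫ T.mor₂ ≫ φ = T.mor₁ ≫ 0
    rw [reassoc_of% (comp_distTriang_mor_zero₁₂ _ hT), zero_comp, comp_zero])
  obtain ⟨χ, hχ⟩ := Triangle.yoneda_exact₂ _ (rot_of_distTriang _ hT) φ h1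
  obtain ⟨ψ₀, hψ₀⟩ := ((Functor.FullyFaithful.ofFullyFaithful
    (shiftFunctor (DerivedCategory (ModSite.Mod O)) (1 : ℤ))).map_bijective T.obj₁ (Z⟦n - 1⟧)).2
      (χ ≫ ((shiftFunctorAdd' (DerivedCategory (ModSite.Mod O)) (n - 1) 1 n (by lia)).app Z).hom)
  obtain ⟨ψ, hψ⟩ := (hbij (n - 1)).2 ψ₀
  rw [← cancel_mono ((shiftFunctorAdd' (DerivedCategory (ModSite.Mod O)) (n - 1) 1 n (by lia)).app Z).hom,
    zero_comp, hχ]
  refine (Category.assoc _ _ _).trans ((congrArg (_ ≫ ·) hψ₀.symm).trans ?_)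
  rw [← hψ, Functor.map_comp, ← Category.assoc]
  have := comp_distTriang_mor_zero₃₁ _ hT
  dsimp at this ⊢
  rw [this, zero_comp]

/-- Precomposition into completes only depends on the isomorphism class of an arrow. -/
lemma bijective_of_iso {X Y X' Y' Z : DerivedCategory (ModSite.Mod O)} (g : X ⟶ Y) (g' : X' ⟶ Y') (e : X ≅ X')
    (e' : Y ≅ Y') (w : g ≫ e'.hom = e.hom ≫ g') (h : Function.Bijective fun ψ : Y ⟶ Z => g ≫ ψ) :
    Function.Bijective fun ψ : Y' ⟶ Z => g' ≫ ψ := by
  have key : (fun ψ : Y' ⟶ Z => g' ≫ ψ) = e.homFromEquiv ∘ (fun ψ : Y ⟶ Z => g ≫ ψ) ∘ e'.homFromEquiv.symm := by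
    funext ψ
    show g' ≫ ψ = e.inv ≫ g ≫ e'.hom ≫ ψ
    rw [reassoc_of% w, Iso.inv_hom_id_assoc]
  rw [key]
  exact (Equiv.bijective _).comp (h.comp (Equiv.bijective _))

end

variable {C : Type u} [SmallCategory C] {J : GrothendieckTopology C} {O O' : Sheaf J CommRingCat.{u}}
  (φ : O ⟶ O') [PreservesFiniteLimits (resS φ)] [PreservesFiniteColimits (resS φ)]
  {I : DerComp.IdealSh O} {I' : DerComp.IdealSh O'}

/-- Restriction induces an equivalence of derived complete objects. -/
theorem restrict_equivalence (hI : I.IsFiniteType) (hI' : DerComp.IsIdealExt φ I I')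
    (hflat : ModSite.IsFlat ((resS φ).obj (ModSite.unit O')))
    (hinj : ∀ (U : C) (f : O.obj.obj (op U)), (φ.hom.app (op U)).hom f ∈ I'.ideal U → f ∈ I.ideal U)
    (hsurj : ∀ (U : C) (f' : O'.obj.obj (op U)), ∃ S ∈ J U, ∀ ⦃V : C⦄ (g : V ⟶ U), S g →
      ∃ a : O.obj.obj (op V), (O'.obj.map g.op).hom f' - (φ.hom.app (op V)).hom a ∈ I'.ideal V) :
    (∀ K' L' : DerivedCategory (ModSite.Mod O'), DerComp.IsDerComp O' I' K' → DerComp.IsDerComp O' I' L' →
      Function.Bijective fun ψ : K' ⟶ L' => (resS φ).mapDerivedCategory.map ψ) ∧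
    ∀ E : DerivedCategory (ModSite.Mod O), DerComp.IsDerComp O I E → ∃ K' : DerivedCategory (ModSite.Mod O'),
      DerComp.IsDerComp O' I' K' ∧ Nonempty ((resS φ).mapDerivedCategory.obj K' ≅ E) := by
  have hH : Hyp φ I I' := ⟨hI'.1, hI'.2, hinj, hsurj⟩
  let P := (idMor φ).pull
  haveI : PreservesFiniteLimits P := preservesFiniteLimits_pull φ hflat
  haveI : PreservesFiniteColimits P :=
    haveI := (idMor φ).adj.leftAdjoint_preservesColimits
    ⟨fun _ _ _ => inferInstance⟩
  haveI : P.Additive := (idMor φ).adj.left_adjoint_additive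
  let a : P ⊣ resS φ := (idMor φ).adj
  let L := P.mapDerivedCategory
  let F := (resS φ).mapDerivedCategory
  let A : L ⊣ F := Groth.DerivedCoh.ExtZero.derAdj a
  have hgen : ∀ U : C, ∃ S ∈ J U, ∀ ⦃V : C⦄ (g : V ⟶ U), S g →
      ∃ l : List (O.obj.obj (op V)), Gen I V l ∧ Gen I' V (l.map (sect φ V)) := fun U => by
    obtain ⟨S, hS, h⟩ := exists_gen hI U
    refine ⟨S, hS, fun V g hg => ?_⟩
    obtain ⟨l, hl⟩ := h g hg
    exact ⟨l, hl, gen_push (idMor φ) (show DerComp.RIsIdealExt (idMor φ) I I' from ⟨hI'.1, hI'.2⟩) hl⟩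
  -- the unit is universal into derived complete objects
  have hunit : ∀ (E Z : DerivedCategory (ModSite.Mod O)), DerComp.IsDerComp O I Z →
      Function.Bijective fun ψ : F.obj (L.obj E) ⟶ Z => A.unit.app E ≫ ψ := fun E Z hZ => by
    obtain ⟨K, ⟨e⟩⟩ : ∃ K, Nonempty (DerivedCategory.Q.obj K ≅ E) := ⟨_, ⟨DerivedCategory.Q.objObjPreimageIso E⟩⟩
    let η := τC (F := bc φ) (idMor φ).adj.unit K
    let T := DerivedCategory.Q.mapTriangle.obj (CochainComplex.mappingCone.triangle η)
    have hT : T ∈ distTriang _ := (DerivedCategory.mem_distTriang_iff _).2 ⟨_, _, η, ⟨Iso.refl _⟩⟩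
    have hD : Ct I T.obj₃ := ct_of_testCx _ fun U => by
      obtain ⟨S, hS, h⟩ := hgen U
      refine ⟨S, hS, fun V g hg => ?_⟩
      obtain ⟨l, hl, hl'⟩ := h g hg
      exact ⟨l, hl, orth_testCx_cone hH hflat hl hl' K⟩
    let e' : DerivedCategory.Q.obj (((resS φ).mapHomologicalComplex up).obj ((P.mapHomologicalComplex up).obj K)) ≅
        F.obj (L.obj (DerivedCategory.Q.obj K)) :=
      ((resS φ).mapDerivedCategoryFactors.app _).symm ≪≫ F.mapIso (P.mapDerivedCategoryFactors.app K).symm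
    letI : CatCommSq (P.mapHomologicalComplex up) DerivedCategory.Q DerivedCategory.Q P.mapDerivedCategory :=
      ⟨P.mapDerivedCategoryFactors.symm⟩
    letI : CatCommSq ((resS φ).mapHomologicalComplex up) DerivedCategory.Q DerivedCategory.Q F :=
      ⟨(resS φ).mapDerivedCategoryFactors.symm⟩
    have hu : DerivedCategory.Q.map η ≫ e'.hom = A.unit.app (DerivedCategory.Q.obj K) := by
      refine Eq.trans ?_ (Adjunction.localization_unit_app (L₁ := DerivedCategory.Q) (L₂ := DerivedCategory.Q) _ _ _ _ _ _).symm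
      rfl
    refine bijective_of_iso (DerivedCategory.Q.map η) _ e (e' ≪≫ F.mapIso (L.mapIso e)) ?_
      (DerCompPushIso.bijective_comp T hT hD Z hZ)
    rw [Iso.trans_hom, reassoc_of% hu]
    exact (A.unit.naturality e.hom).symm
  -- test objects
  have hL0 : ∀ (X : DerivedCategory (ModSite.Mod O)) (D : DerivedCategory (ModSite.Mod O')),
      Orth (L.obj X) D ↔ Orth X (F.obj D) := fun X D => by
    refine forall_congr' fun n => ⟨fun h ψ => ?_, fun h ψ => ?_⟩
    · rw [← cancel_mono ((F.commShiftIso n).app D).inv, zero_comp]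
      refine (A.homEquiv _ _).symm.injective ?_
      exact (h _).trans (h _).symm
    · refine (A.homEquiv _ _).injective ?_
      rw [← cancel_mono ((F.commShiftIso n).app D).hom]
      exact (h _).trans (h _).symm
  have hLtest : ∀ (V : C) (l : List (O.obj.obj (op V))), Nonempty (L.obj (DerivedCategory.Q.obj (testCx V l)) ≅
      DerivedCategory.Q.obj (testCx V (l.map (sect φ V)))) := fun V l => by
    obtain ⟨j⟩ := nonempty_pull_testCx_iso (idMor φ) V l
    exact ⟨P.mapDerivedCategoryFactors.app _ ≪≫ DerivedCategory.Q.mapIso j⟩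
  have hctF : ∀ D, Ct I' D → Ct I (F.obj D) := fun D hD => ct_of_testCx _ fun U => by
    obtain ⟨S, hS, h⟩ := hgen U
    refine ⟨S, hS, fun V g hg => ?_⟩
    obtain ⟨l, hl, hl'⟩ := h g hg
    obtain ⟨j⟩ := hLtest V l
    exact ⟨l, hl, (hL0 _ _).1 ((orth_testCx_of_ct hl' D hD).of_iso_left j.symm)⟩
  have hctF' : ∀ D, Ct I (F.obj D) → Ct I' D := fun D hD => ct_of_testCx _ fun U => by
    obtain ⟨S, hS, h⟩ := hgen U
    refine ⟨S, hS, fun V g hg => ?_⟩
    obtain ⟨l, hl, hl'⟩ := h g hg
    obtain ⟨j⟩ := hLtest V l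
    exact ⟨l.map (sect φ V), hl', ((hL0 _ _).2 (orth_testCx_of_ct hl _ hD)).of_iso_left j⟩
  refine ⟨fun K' L' hK hL => ?_, fun E hE => ?_⟩
  · obtain ⟨D, b, c, hT⟩ := distinguished_cocone_triangle (A.counit.app K')
    have hD : Ct I' D := hctF' D (ct_of_bijective (I := I) _ (F.map_distinguished _ hT) fun Z hZ => by
      have h1 := hunit (F.obj K') Z hZ
      have h2 : A.unit.app (F.obj K') ≫ F.map (A.counit.app K') = 𝟙 (F.obj K') := A.right_triangle_components K'
      refine ⟨fun ψ ψ' h => ?_, fun θ => ?_⟩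
      · have h3 := congrArg (A.unit.app (F.obj K') ≫ ·) h
        change A.unit.app (F.obj K') ≫ F.map (A.counit.app K') ≫ ψ =
          A.unit.app (F.obj K') ≫ F.map (A.counit.app K') ≫ ψ' at h3
        rwa [reassoc_of% h2, reassoc_of% h2] at h3
      · refine ⟨A.unit.app (F.obj K') ≫ θ, h1.1 ?_⟩
        show A.unit.app (F.obj K') ≫ F.map (A.counit.app K') ≫ A.unit.app (F.obj K') ≫ θ =
          A.unit.app (F.obj K') ≫ θ
        rw [reassoc_of% h2])
    have hb := DerCompPushIso.bijective_comp _ hT hD L' hL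
    have key : (fun ψ : K' ⟶ L' => F.map ψ) =
        (A.homEquiv _ _) ∘ fun ψ : K' ⟶ L' => A.counit.app K' ≫ ψ := by
      funext ψ
      show F.map ψ = A.homEquiv _ _ (A.counit.app K' ≫ ψ)
      rw [A.homEquiv_unit, Functor.map_comp, A.right_triangle_components_assoc]
    rw [show (fun ψ : K' ⟶ L' => (resS φ).mapDerivedCategory.map ψ) = _ from key]
    exact (Equiv.bijective _).comp hb
  · haveI := SiteDerCompletion.hasDerCompletion O' I'
    let t := DerComp.toDerCompletion I' (L.obj E)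
    let K' := (DerComp.derCompletion O' I').obj (L.obj E)
    obtain ⟨D, b, c, hT⟩ := distinguished_cocone_triangle t
    have hb : ∀ Z, DerComp.IsDerComp O I Z →
        Function.Bijective fun ψ : F.obj K'.obj ⟶ Z => (A.unit.app E ≫ F.map t) ≫ ψ := fun Z hZ => by
      simp only [Category.assoc]
      exact (hunit E Z hZ).comp
        (DerCompPushIso.bijective_comp _ (F.map_distinguished _ hT) (hctF D (ct_cone I' _ D b c hT)) Z hZ)
    have hK : DerComp.IsDerComp O I (F.obj K'.obj) := (DerCompRestrict.isDerComp_iff φ I I' hI' _).1 K'.property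
    obtain ⟨r, hr⟩ := (hb E hE).2 (𝟙 E)
    refine ⟨K'.obj, K'.property, ⟨⟨r, A.unit.app E ≫ F.map t, (hb _ hK).1 ?_, hr⟩⟩⟩
    replace hr : (A.unit.app E ≫ F.map t) ≫ r = 𝟙 E := hr
    show (A.unit.app E ≫ F.map t) ≫ r ≫ A.unit.app E ≫ F.map t = (A.unit.app E ≫ F.map t) ≫ 𝟙 _
    rw [← Category.assoc, hr]
    exact (Category.id_comp _).trans (Category.comp_id _).symm

end Groth.DAlg.DerCompEquiv
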