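import Groth.Agent.DAlg.DerivedLeftAdj
import Groth.Agent.DAlg.RFTriangle
import Mathlib.Algebra.Homology.DerivedCategory.ShortExact

/-!
Morphisms out of a telescope cokernel, in terms of a tower of abelian groups.
-/

universe w v u₁

set_option backward.defeqAttrib.useBackward true
set_option backward.isDefEq.respectTransparency false
set_option linter.unusedSectionVars false
set_option linter.style.haveILetI false

open CategoryTheory CategoryTheory.Limits CategoryTheory.Pretriangulated HomologicalComplex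

namespace Groth.DAlg.TelescopeHom

/-! ### Towers of abelian groups with one transition map -/

section Tower

variable {A B : Type*} [AddCommGroup A] [AddCommGroup B]

/-- The tower with all transition maps `e` has vanishing derived limit. -/
def TBij (e : A →+ A) : Prop := Function.Bijective fun (x : ℕ → A) i => x i - e (x (i + 1))

lemma tBij_iff_of_equiv (ψ : A ≃+ B) (e : A →+ A) (e' : B →+ B) (h : ∀ a, ψ (e a) = e' (ψ a)) :
    TBij e ↔ TBij e' := by
  have : (fun (y : ℕ → B) i => y i - e' (y (i + 1))) ∘ (Equiv.piCongrRight fun _ : ℕ => ψ.toEquiv) =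
      (Equiv.piCongrRight fun _ : ℕ => ψ.toEquiv) ∘ fun (x : ℕ → A) i => x i - e (x (i + 1)) := by
    funext x i
    simp [h]
  exact ((Equiv.bijective _).of_comp_iff' _).symm.trans
    (this ▸ Function.Bijective.of_comp_iff _ (Equiv.bijective _))

lemma tBij_zero : TBij (0 : A →+ A) := by
  unfold TBij
  convert Function.bijective_id using 1
  funext x i
  simp

lemma TBij.eq_zero {e : A →+ A} (h : TBij e) {x : ℕ → A} (hx : ∀ i, x i = e (x (i + 1))) : x = 0 :=
  h.1 (funext fun i => by simp [← hx i])

lemma TBij.of_commute {r s : A →+ A} (hc : ∀ a, r (s a) = s (r a)) (hs : TBij s) : TBij (r.comp s) := by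
  have hcn : ∀ (n : ℕ) a, r^[n] (s a) = s (r^[n] a) := fun n => by
    induction n with
    | zero => intro a; rfl
    | succ n ih => intro a; rw [Function.iterate_succ_apply, Function.iterate_succ_apply, hc, ih]
  have hn : ∀ (n : ℕ) (a b : A), r^[n] (a - b) = r^[n] a - r^[n] b := fun n => iterate_map_sub r n
  constructor
  · intro x y hxy
    funext i
    have h0 : ∀ j, (fun j => r^[j] (x (i + j) - y (i + j))) j =
        s ((fun j => r^[j] (x (i + j) - y (i + j))) (j + 1)) := fun j => by
      have := congrFun hxy (i + j)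
      simp only [AddMonoidHom.comp_apply] at this
      have e : x (i + j) - y (i + j) = r (s (x (i + j + 1) - y (i + j + 1))) := by
        rw [map_sub, map_sub]
        exact sub_eq_sub_iff_sub_eq_sub.1 this
      show r^[j] (x (i + j) - y (i + j)) = s (r^[j + 1] (x (i + (j + 1)) - y (i + (j + 1))))
      rw [e, Function.iterate_succ_apply, ← hcn j, hc, add_assoc]
    have := congrFun (hs.eq_zero h0) 0
    simpa [sub_eq_zero] using this
  · intro b
    choose z hz using fun i => hs.2 fun j => r^[j] (b (i + j))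
    have key : ∀ i, (fun j => z i (j + 1)) = fun j => r (z (i + 1) j) := fun i => hs.1 (funext fun j => by
      have h1 := congrFun (hz i) (j + 1)
      have h2 := congrArg r (congrFun (hz (i + 1)) j)
      simp only [map_sub, hc] at h2 ⊢
      refine h1.trans (Eq.trans ?_ h2.symm)
      rw [Function.iterate_succ_apply' r, add_right_comm, add_assoc])
    refine ⟨fun i => z i 0, funext fun i => ?_⟩
    have h1 := congrFun (hz i) 0
    have h2 := congrFun (key i) 0
    simp only [AddMonoidHom.comp_apply, zero_add, add_zero, Function.iterate_zero, id_eq] at h1 h2 ⊢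
    rw [← h1, h2, hc]

lemma eq_zero_of_add_eq_one {u v : A →+ A} (huv : ∀ a, u a + v a = a) (hu : TBij u) (hv : TBij v)
    (a : A) : a = 0 := by
  have inj : ∀ x, u x = 0 → x = 0 := fun x hx => by
    refine congrFun (hv.eq_zero (x := fun _ => x) fun _ => ?_) 0
    have := huv x
    rw [hx, zero_add] at this
    exact this.symm
  have surj : ∀ b, ∃ x, u x = b := fun b => by
    obtain ⟨z, hz⟩ := hv.2 fun _ => b
    have hc : (fun j => z (j + 1)) = z :=
      hv.1 (funext fun j => (congrFun hz (j + 1)).trans (congrFun hz j).symm)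
    refine ⟨z 0, ?_⟩
    have h0 := congrFun hz 0
    simp only at h0
    rw [congrFun hc 0] at h0
    rw [← h0, eq_sub_iff_add_eq]
    exact huv _
  choose g hg using surj
  exact congrFun (hu.eq_zero (x := fun n => g^[n] a) fun i => by
    rw [Function.iterate_succ_apply', hg]) 0

end Tower

/-! ### Telescopes in a Grothendieck abelian category -/

variable {A : Type u₁} [Category.{v} A] [Abelian A] [IsGrothendieckAbelian.{v} A]

/-- homotopies out of a coproduct are componentwise -/
lemma homotopic_sigma {T : Type} [HasCoproductsOfShape T A] (I : T → CochainComplex A ℤ)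
    {K : CochainComplex A ℤ} (f g : ∐ I ⟶ K)
    (h : ∀ t, Nonempty (Homotopy (Sigma.ι I t ≫ f) (Sigma.ι I t ≫ g))) :
    Nonempty (Homotopy f g) := by
  let H := fun t => (h t).some
  let hC := fun i => isColimitCofanMkObjOfIsColimit (eval A (ComplexShape.up ℤ) i) _ _
    (coproductIsCoproduct I)
  let desc := fun i j => (hC i).desc (Cofan.mk (K.X j) fun t => (H t).hom i j)
  have hfac : ∀ i j t, (Sigma.ι I t).f i ≫ desc i j = (H t).hom i j := fun i j t =>
    (hC i).fac _ ⟨t⟩
  refine ⟨{ hom := desc, zero := fun i j hij => ?_, comm := fun i => ?_ }⟩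
  · refine Cofan.IsColimit.hom_ext (hC i) _ _ fun t => ?_
    change (Sigma.ι I t).f i ≫ desc i j = (Sigma.ι I t).f i ≫ 0
    rw [comp_zero]
    exact (hfac i j t).trans ((H t).zero i j hij)
  · refine Cofan.IsColimit.hom_ext (hC i) _ _ fun t => ?_
    have hr : (ComplexShape.up ℤ).Rel i (i + 1) := by simp
    have hl : (ComplexShape.up ℤ).Rel (i - 1) i := by simp
    have := (H t).comm i
    rw [dNext_eq _ hr, prevD_eq _ hl] at this ⊢
    simp only [comp_f] at this
    change (Sigma.ι I t).f i ≫ f.f i = (Sigma.ι I t).f i ≫ _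
    simp only [Preadditive.comp_add]
    refine this.trans (congrArg (· + _) (congrArg₂ (· + ·) ?_ ?_))
    · rw [← Category.assoc, (Sigma.ι I t).comm i (i + 1), Category.assoc, hfac (i + 1) i t]
    · rw [← Category.assoc, hfac i (i - 1) t]


variable [HasDerivedCategory.{w} A]

local notation "up" => ComplexShape.up ℤ
local notation "S" => DerivedCategory.singleFunctor A
local notation "qA" => HomotopyCategory.quotient A (ComplexShape.up ℤ)

/-- The telescope map of an endomorphism. -/
noncomputable def tel {P : A} (e : P ⟶ P) : (∐ fun _ : ℕ => P) ⟶ ∐ fun _ : ℕ => P :=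
  Sigma.desc fun n => Sigma.ι (fun _ : ℕ => P) n - e ≫ Sigma.ι (fun _ : ℕ => P) (n + 1)

lemma mono_tel {P : A} (e : P ⟶ P) : Mono (tel e) := by
  haveI := DerivedLeftAdj.hasColimits_nat A
  haveI := DerivedLeftAdj.hasExactColimits_nat A
  have h : tel e = 𝟙 _ - DerLim.shiftMap (fun _ : ℕ => P) fun _ => e :=
    Sigma.hom_ext _ _ fun n => by simp [tel, DerLim.shiftMap]
  rw [h]
  exact Groth.Misc1.Telescope.mono_one_sub_shift _ _

/-- Components of a morphism out of a coproduct. -/
noncomputable def components {T : Type} (X : T → A) (m : ℤ) (K : DerivedCategory A)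
    (x : (S m).obj (∐ X) ⟶ K) (t : T) : (S m).obj (X t) ⟶ K := (S m).map (Sigma.ι X t) ≫ x

/-- Morphisms out of a coproduct in the derived category. -/
lemma bijective_components {T : Type} (X : T → A) (m : ℤ) (K : DerivedCategory A) :
    Function.Bijective (components X m K) := by
  obtain ⟨J, hJ, ⟨eK⟩⟩ := RFTriangle.exists_model K
  let s := HomologicalComplex.single A up m
  let e := PreservesCoproduct.iso s X
  have he : ∀ t, Sigma.ι (fun t => s.obj (X t)) t ≫ e.inv = s.map (Sigma.ι X t) := fun t => by simp [e]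
  let Φ : (s.obj (∐ X) ⟶ J) → ((S m).obj (∐ X) ⟶ K) := fun f =>
    DerivedCategory.Qh.map ((qA).map f) ≫ eK.hom
  have hΦ : ∀ f t, components X m K (Φ f) t = DerivedCategory.Qh.map ((qA).map (s.map (Sigma.ι X t) ≫ f)) ≫ eK.hom :=
    fun f t => by
    rw [Functor.map_comp, Functor.map_comp, Category.assoc]
    rfl
  have hΦs : Function.Surjective Φ := fun x => by
    obtain ⟨φ, hφ⟩ := (CochainComplex.IsKInjective.Qh_map_bijective ((qA).obj (s.obj (∐ X))) J).2
      (x ≫ eK.inv)
    obtain ⟨f, rfl⟩ := (qA).map_surjective φ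
    refine ⟨f, ?_⟩
    change DerivedCategory.Qh.map ((qA).map f) ≫ eK.hom = x
    rw [hφ]
    exact (Category.assoc _ _ _).trans ((congrArg (x ≫ ·) eK.inv_hom_id).trans (Category.comp_id x))
  constructor
  · intro x y hxy
    obtain ⟨f, rfl⟩ := hΦs x
    obtain ⟨g, rfl⟩ := hΦs y
    have h : ∀ t, (qA).map (s.map (Sigma.ι X t) ≫ f) = (qA).map (s.map (Sigma.ι X t) ≫ g) := fun t => by
      refine (CochainComplex.IsKInjective.Qh_map_bijective _ J).1 ((cancel_mono eK.hom).1 ?_)
      rw [← hΦ, ← hΦ, hxy]
    obtain ⟨H⟩ := homotopic_sigma (fun t => s.obj (X t)) (e.inv ≫ f) (e.inv ≫ g) fun t => by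
      rw [reassoc_of% (he t), reassoc_of% (he t)]
      exact ⟨HomotopyCategory.homotopyOfEq _ _ (h t)⟩
    have h' := HomotopyCategory.eq_of_homotopy _ _ H
    rw [Functor.map_comp, Functor.map_comp, cancel_epi] at h'
    simp only [Φ, h']
  · intro x
    have h : ∀ t, ∃ f : s.obj (X t) ⟶ J, DerivedCategory.Qh.map ((qA).map f) ≫ eK.hom = x t := fun t => by
      obtain ⟨φ, hφ⟩ := (CochainComplex.IsKInjective.Qh_map_bijective ((qA).obj (s.obj (X t))) J).2
        (x t ≫ eK.inv)
      obtain ⟨f, rfl⟩ := (qA).map_surjective φ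
      refine ⟨f, ?_⟩
      rw [hφ]
      exact (Category.assoc _ _ _).trans ((congrArg (x t ≫ ·) eK.inv_hom_id).trans (Category.comp_id (x t)))
    choose f hf using h
    refine ⟨Φ (e.hom ≫ Sigma.desc f), funext fun t => ?_⟩
    rw [hΦ, ← he t, Category.assoc, e.inv_hom_id_assoc, Sigma.ι_desc]
    exact hf t

/-- Precomposition as a homomorphism of groups. -/
noncomputable def pre {P : A} (e : P ⟶ P) (m : ℤ) (K : DerivedCategory A) :
    ((S m).obj P ⟶ K) →+ ((S m).obj P ⟶ K) := Preadditive.leftComp K ((S m).map e)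

lemma bijective_tel_iff {P : A} (e : P ⟶ P) (m : ℤ) (K : DerivedCategory A) :
    Function.Bijective (fun x : (S m).obj (∐ fun _ : ℕ => P) ⟶ K => (S m).map (tel e) ≫ x) ↔
      TBij (pre e m K) := by
  let Φ := Equiv.ofBijective _ (bijective_components (fun _ : ℕ => P) m K)
  have : Φ ∘ (fun x : (S m).obj (∐ fun _ : ℕ => P) ⟶ K => (S m).map (tel e) ≫ x) =
      (fun (y : ℕ → ((S m).obj P ⟶ K)) i => y i - pre e m K (y (i + 1))) ∘ Φ := by
    funext x i
    show (S m).map (Sigma.ι (fun _ : ℕ => P) i) ≫ (S m).map (tel e) ≫ x =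
      (S m).map (Sigma.ι (fun _ : ℕ => P) i) ≫ x -
        (S m).map e ≫ (S m).map (Sigma.ι (fun _ : ℕ => P) (i + 1)) ≫ x
    rw [← Functor.map_comp_assoc, ← Functor.map_comp_assoc, ← Preadditive.sub_comp, ← Functor.map_sub]
    simp [tel]
  refine ((Φ.bijective.of_comp_iff' _).symm.trans ?_)
  rw [this]
  exact Function.Bijective.of_comp_iff _ Φ.bijective

/-- Change of degree. -/
noncomputable def shiftEquivHom (X : A) (n a b : ℤ) (h : n + a = b) (K : DerivedCategory A) :
    ((S b).obj X ⟶ K) ≃+ ((S a).obj X ⟶ K⟦n⟧) where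
  toFun x := ((DerivedCategory.singleFunctors A).shiftIso n a b h).inv.app X ≫ x⟦n⟧'
  invFun y := (shiftFunctor (DerivedCategory A) n).preimage
    (((DerivedCategory.singleFunctors A).shiftIso n a b h).hom.app X ≫ y)
  left_inv x := (shiftFunctor (DerivedCategory A) n).map_injective (by simp)
  right_inv y := by simp
  map_add' x y := by simp [Functor.map_add]

lemma exists_shiftEquivHom_comp (n a b : ℤ) (h : n + a = b) {X Y : A} (f : X ⟶ Y) (K : DerivedCategory A)
    (x : (S b).obj Y ⟶ K) :
    shiftEquivHom X n a b h K ((S b).map f ≫ x) = (S a).map f ≫ shiftEquivHom Y n a b h K x := by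
  show _ ≫ ((S b).map f ≫ x)⟦n⟧' = (S a).map f ≫ _ ≫ x⟦n⟧'
  rw [Functor.map_comp, ← Category.assoc, ← Category.assoc]
  exact congrArg (· ≫ x⟦n⟧')
    (((DerivedCategory.singleFunctors A).shiftIso n a b h).inv.naturality f).symm

/-- All Hom groups out of a telescope cokernel vanish iff all towers are trivial. -/
theorem subsingleton_cokernel_tel_iff {P : A} (e : P ⟶ P) (K : DerivedCategory A) :
    (∀ n : ℤ, Subsingleton ((S 0).obj (cokernel (tel e)) ⟶ K⟦n⟧)) ↔ ∀ m : ℤ, TBij (pre e m K) := by
  haveI := mono_tel e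
  let T : ShortComplex A := ShortComplex.mk (tel e) (cokernel.π (tel e)) (cokernel.condition _)
  have hT : T.ShortExact := ShortComplex.ShortExact.mk'
    (ShortComplex.exact_of_g_is_cokernel _ (cokernelIsCokernel (tel e))) inferInstance inferInstance
  have hQ : (∀ n : ℤ, Subsingleton ((S 0).obj (cokernel (tel e)) ⟶ K⟦n⟧)) ↔
      ∀ (m : ℤ) (x : (S m).obj (cokernel (tel e)) ⟶ K), x = 0 := by
    constructor
    · intro h m x
      haveI := h m
      exact (shiftEquivHom _ m 0 m (add_zero m) K).injective (Subsingleton.elim _ _)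
    · intro h n
      exact ⟨fun a b => (shiftEquivHom _ n 0 n (add_zero n) K).symm.injective ((h _ _).trans (h _ _).symm)⟩
  simp only [← bijective_tel_iff, hQ]
  let Tr : ℤ → Triangle (DerivedCategory A) := fun m =>
    DerivedCategory.triangleOfSES (hT.map_of_exact (HomologicalComplex.single A up m))
  have hTr : ∀ m, Tr m ∈ distTriang _ := fun m => DerivedCategory.triangleOfSES_distinguished _
  constructor
  · intro h m
    refine ⟨fun x y hxy => ?_, fun y => ?_⟩
    · rw [← sub_eq_zero]
      obtain ⟨ψ, hψ⟩ := Triangle.yoneda_exact₂ _ (hTr m) (x - y) (by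
        show (S m).map (tel e) ≫ (x - y) = 0
        rw [Preadditive.comp_sub, sub_eq_zero]
        exact hxy)
      rw [hψ, h m ψ]
      exact comp_zero
    · let z : (Tr m).obj₃⟦(-1 : ℤ)⟧ ⟶ K :=
        (Tr m).invRotate.mor₁ ≫ y
      have hz : z = 0 := by
        let i := ((DerivedCategory.singleFunctors A).shiftIso (-1) (m + 1) m (by lia)).app (cokernel (tel e))
        rw [← cancel_epi i.inv, comp_zero]
        exact h (m + 1) _
      obtain ⟨x, hx⟩ := Triangle.yoneda_exact₂ _ (inv_rot_of_distTriang _ (hTr m)) y hz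
      exact ⟨x, hx.symm⟩
  · intro h m x
    have h0 : (S m).map (cokernel.π (tel e)) ≫ x = 0 := by
      refine (h m).1 ?_
      show (S m).map (tel e) ≫ _ = (S m).map (tel e) ≫ 0
      rw [← Functor.map_comp_assoc, cokernel.condition, Functor.map_zero, zero_comp, comp_zero]
    obtain ⟨χ, hχ⟩ := Triangle.yoneda_exact₂ _ (rot_of_distTriang _ (hTr m)) x h0
    let i := ((DerivedCategory.singleFunctors A).shiftIso 1 (m - 1) m (by lia)).app (∐ fun _ : ℕ => P)
    obtain ⟨χ', hχ'⟩ := (h (m - 1)).2 (i.inv ≫ χ)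
    have hnat : ((S m).map (tel e))⟦(1 : ℤ)⟧' ≫ i.hom = i.hom ≫ (S (m - 1)).map (tel e) :=
      ((DerivedCategory.singleFunctors A).shiftIso 1 (m - 1) m (by lia)).hom.naturality (tel e)
    have hχ2 : χ = ((S m).map (tel e))⟦(1 : ℤ)⟧' ≫ i.hom ≫ χ' := by
      rw [← Category.assoc, hnat, Category.assoc]
      exact (i.hom_inv_id_assoc χ).symm.trans (congrArg (i.hom ≫ ·) hχ'.symm)
    rw [hχ, hχ2]
    change (Tr m).mor₃ ≫ _ ≫ _ = 0
    erw [← Category.assoc, comp_distTriang_mor_zero₃₁ _ (hTr m), zero_comp]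

end Groth.DAlg.TelescopeHom
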