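import Groth.Agent.DAlg.DerivedLeftAdj
import Groth.Agent.DAlg.TelescopeHom

/-!
The left adjoint of a total right derived functor on adapted complexes, naturally.
-/

universe w₁ w₂ v u₁ u₂

set_option backward.defeqAttrib.useBackward true
set_option backward.isDefEq.respectTransparency false
set_option linter.unusedSectionVars false
set_option linter.style.haveILetI false

open CategoryTheory CategoryTheory.Limits CategoryTheory.Pretriangulated HomologicalComplex
open Groth.DAlg.FAcyclic Groth.DerivedCoh

namespace Groth.DAlg.DerivedLeftAdj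

variable {A : Type u₁} [Category.{v} A] [Abelian A] [IsGrothendieckAbelian.{v} A]
  {B : Type u₂} [Category.{v} B] [Abelian B] [IsGrothendieckAbelian.{v} B]
  {F : B ⥤ A} {G : A ⥤ B} (adj : F ⊣ G) [F.Additive] [G.Additive]

local notation "up" => ComplexShape.up ℤ
local notation "qA" => HomotopyCategory.quotient A (ComplexShape.up ℤ)
local notation "qB" => HomotopyCategory.quotient B (ComplexShape.up ℤ)

variable [HasDerivedCategory.{w₁} A] [HasDerivedCategory.{w₂} B]
  (RF : DerivedCategory A ⥤ DerivedCategory B)
  (β : G.mapHomotopyCategory (ComplexShape.up ℤ) ⋙ DerivedCategory.Qh ⟶ DerivedCategory.Qh ⋙ RF)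
  [RF.IsRightDerivedFunctor β (HomotopyCategory.quasiIso A up)]

/-- Transposition along the derived adjunction. -/
noncomputable def transp (P : HomotopyCategory B up) (Y : DerivedCategory A)
    (ψ : DerivedCategory.Qh.obj ((F.mapHomotopyCategory up).obj P) ⟶ Y) :
    DerivedCategory.Qh.obj P ⟶ RF.obj Y :=
  DerivedCategory.Qh.map ((Groth.DerivedAdj.mapHomotopyCategoryAdj adj up).unit.app P) ≫
    β.app ((F.mapHomotopyCategory up).obj P) ≫ RF.map ψ

lemma transp_naturality {P P' : HomotopyCategory B up} (e : P ⟶ P') (Y : DerivedCategory A)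
    (ψ : DerivedCategory.Qh.obj ((F.mapHomotopyCategory up).obj P') ⟶ Y) :
    transp adj RF β P Y (DerivedCategory.Qh.map ((F.mapHomotopyCategory up).map e) ≫ ψ) =
      DerivedCategory.Qh.map e ≫ transp adj RF β P' Y ψ := by
  have h1 := (Groth.DerivedAdj.mapHomotopyCategoryAdj adj up).unit.naturality e
  have h2 := β.naturality ((F.mapHomotopyCategory up).map e)
  simp only [Functor.comp_map, Functor.id_map, Functor.comp_obj] at h1 h2
  simp only [transp, Functor.map_comp]
  erw [← Functor.map_comp_assoc, h1, Functor.map_comp_assoc, reassoc_of% h2]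

lemma transp_comp (P : HomotopyCategory B up) {Y Y' : DerivedCategory A} (g : Y ⟶ Y')
    (ψ : DerivedCategory.Qh.obj ((F.mapHomotopyCategory up).obj P) ⟶ Y) :
    transp adj RF β P Y' (ψ ≫ g) = transp adj RF β P Y ψ ≫ RF.map g := by
  simp [transp]

lemma transp_add [RF.Additive] (P : HomotopyCategory B up) (Y : DerivedCategory A)
    (ψ ψ' : DerivedCategory.Qh.obj ((F.mapHomotopyCategory up).obj P) ⟶ Y) :
    transp adj RF β P Y (ψ + ψ') = transp adj RF β P Y ψ + transp adj RF β P Y ψ' := by
  simp only [transp, Functor.map_add]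
  erw [Preadditive.comp_add, Preadditive.comp_add]

lemma bijective_transp {P : CochainComplex B ℤ} (hP : Adapted G P) (Y : DerivedCategory A) :
    Function.Bijective (transp adj RF β ((qB).obj P) Y) := by
  let adjK := Groth.DerivedAdj.mapHomotopyCategoryAdj adj up
  let FP := (F.mapHomotopyCategory up).obj ((qB).obj P)
  obtain ⟨J, hJ, ⟨eY⟩⟩ := RFTriangle.exists_model Y
  haveI := RFTriangle.isIso_β G RF β J
  let Φ : (FP ⟶ (qA).obj J) → (DerivedCategory.Qh.obj ((qB).obj P) ⟶ RF.obj Y) := fun h =>
    transp adj RF β ((qB).obj P) Y (DerivedCategory.Qh.map h ≫ eY.hom)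
  have hΦ : Function.Bijective Φ := by
    have : Φ = (asIso (β.app ((qA).obj J)) ≪≫ RF.mapIso eY).homToEquiv ∘
        (DerivedCategory.Qh.map ∘ (adjK.homEquiv ((qB).obj P) ((qA).obj J))) := by
      funext h
      simp only [Φ, transp, Function.comp_apply, Iso.homToEquiv_apply, Iso.trans_hom, asIso_hom,
        Functor.mapIso_hom, Adjunction.homEquiv_unit, Functor.map_comp, Category.assoc]
      congr 1
      have hn := (β.naturality h).symm
      simp only [Functor.comp_obj, Functor.comp_map] at hn
      exact (Category.assoc _ _ _).symm.trans ((congrArg (· ≫ RF.map eY.hom) hn).trans (Category.assoc _ _ _))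
    rw [this]
    exact (Equiv.bijective _).comp ((bijective_Qh_map adj hP J).comp (Equiv.bijective _))
  have hQ : Function.Bijective fun h : FP ⟶ (qA).obj J => DerivedCategory.Qh.map h ≫ eY.hom :=
    eY.homToEquiv.bijective.comp (CochainComplex.IsKInjective.Qh_map_bijective FP J)
  exact (Function.Bijective.of_comp_iff _ hQ).1 hΦ

include adj β in
/-- The towers of an endomorphism of an adapted object and of its image. -/
theorem tBij_pre_iff [RF.Additive] {P : B} (e : P ⟶ P) (m : ℤ) (Y : DerivedCategory A)
    (hP : Adapted G ((HomologicalComplex.single B up m).obj P)) :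
    TelescopeHom.TBij (TelescopeHom.pre (F.map e) m Y) ↔
      TelescopeHom.TBij (TelescopeHom.pre e m (RF.obj Y)) := by
  let sA := HomologicalComplex.single A up m
  let sB := HomologicalComplex.single B up m
  let ι := HomologicalComplex.singleMapHomologicalComplex F up m
  let K := F.mapHomotopyCategory up
  let i : (DerivedCategory.singleFunctor A m).obj (F.obj P) ≅ DerivedCategory.Qh.obj (K.obj ((qB).obj (sB.obj P))) :=
    DerivedCategory.Qh.mapIso ((qA).mapIso (ι.app P).symm)
  let ψ : ((DerivedCategory.singleFunctor A m).obj (F.obj P) ⟶ Y) ≃+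
      ((DerivedCategory.singleFunctor B m).obj P ⟶ RF.obj Y) :=
    AddEquiv.mk' ((i.homFromEquiv (Z := Y)).trans
      (Equiv.ofBijective _ (bijective_transp adj RF β hP Y))) fun x y => by
      show transp adj RF β _ Y (i.inv ≫ (x + y)) =
        transp adj RF β _ Y (i.inv ≫ x) + transp adj RF β _ Y (i.inv ≫ y)
      rw [Preadditive.comp_add]
      exact transp_add adj RF β _ _ _ _
  refine TelescopeHom.tBij_iff_of_equiv ψ _ _ fun x => ?_
  refine Eq.trans ?_ (transp_naturality adj RF β ((qB).map (sB.map e)) Y (i.inv ≫ x))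
  show transp adj RF β ((qB).obj (sB.obj P)) Y (i.inv ≫ (DerivedCategory.singleFunctor A m).map (F.map e) ≫ x) = _
  congr 1
  rw [← Category.assoc, ← Category.assoc]
  congr 1
  change DerivedCategory.Qh.map ((qA).map (ι.hom.app P)) ≫ DerivedCategory.Qh.map ((qA).map (sA.map (F.map e))) =
    DerivedCategory.Qh.map (K.map ((qB).map (sB.map e))) ≫ DerivedCategory.Qh.map ((qA).map (ι.hom.app P))
  rw [← Functor.map_comp, ← Functor.map_comp, ← Functor.map_comp]
  erw [← ι.hom.naturality e]
  rw [Functor.comp_map, Functor.map_comp]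
  rfl

end Groth.DAlg.DerivedLeftAdj
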