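import Groth.Agent.DAlg.DerCompCrit
import Groth.Agent.DAlg.DerivedLeftAdjHom
import Groth.Agent.DAlg.SitePushAdjoint

/-!
`Rf_*` and derived completeness.
-/

universe u

open CategoryTheory CategoryTheory.Limits Opposite

attribute [local instance] HasDerivedCategory.standard

set_option backward.defeqAttrib.useBackward true
set_option backward.isDefEq.respectTransparency false
set_option synthInstance.maxHeartbeats 400000
set_option maxHeartbeats 1000000

namespace Groth.DAlg.DerCompPush

open Groth.SitesTopoi.ModH TelescopeHom DerCompCrit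

section Yoneda

variable {A : Type (u + 1)} [Category.{u} A]

/-- Corepresenting objects are isomorphic compatibly with endomorphisms inducing the same action. -/
lemma exists_iso_comm {X Y : A} (S : A → Type u) (mapS : ∀ {M N : A}, (M ⟶ N) → S M → S N)
    (act : ∀ M, S M → S M) (eX : ∀ M, (X ⟶ M) ≃ S M) (eY : ∀ M, (Y ⟶ M) ≃ S M)
    (hX : ∀ {M N : A} (p : M ⟶ N) (f : X ⟶ M), eX N (f ≫ p) = mapS p (eX M f))
    (hY : ∀ {M N : A} (p : M ⟶ N) (f : Y ⟶ M), eY N (f ≫ p) = mapS p (eY M f))
    (a : X ⟶ X) (b : Y ⟶ Y) (ha : ∀ M f, eX M (a ≫ f) = act M (eX M f))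
    (hb : ∀ M f, eY M (b ≫ f) = act M (eY M f)) : ∃ i : X ≅ Y, a ≫ i.hom = i.hom ≫ b := by
  refine ⟨⟨(eX Y).symm (eY Y (𝟙 Y)), (eY X).symm (eX X (𝟙 X)), (eX X).injective ?_, (eY Y).injective ?_⟩, ?_⟩
  · rw [hX, Equiv.apply_symm_apply, ← hY, Category.id_comp, Equiv.apply_symm_apply]
  · rw [hY, Equiv.apply_symm_apply, ← hX, Category.id_comp, Equiv.apply_symm_apply]
  · show a ≫ (eX Y).symm (eY Y (𝟙 Y)) = (eX Y).symm (eY Y (𝟙 Y)) ≫ b
    refine (eX Y).injective ?_
    rw [ha, hX, Equiv.apply_symm_apply, ← hY, Category.id_comp, ← hb, Category.comp_id]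

end Yoneda

variable {C D : Type u} [SmallCategory C] [SmallCategory D] {J : GrothendieckTopology C}
  {K : GrothendieckTopology D} {O_C : Sheaf J CommRingCat.{u}} {O_D : Sheaf K CommRingCat.{u}}
  (f : ModSite.RMor O_C O_D)

/-- The structure map on sections. -/
noncomputable abbrev sharpAt (V : D) (g : O_D.obj.obj (op V)) : O_C.obj.obj (op (f.fn.obj V)) :=
  (f.sharp.hom.app (op V)).hom g

/-- The inverse image of a free module on an object, with the multiplication maps. -/
lemma exists_pull_freeOn_iso (V : D) (g : O_D.obj.obj (op V)) :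
    ∃ i : f.pull.obj (ModSite.freeOn O_D V) ≅ ModSite.freeOn O_C (f.fn.obj V),
      f.pull.map (eU V g) ≫ i.hom = i.hom ≫ eU (f.fn.obj V) (sharpAt f V g) := by
  refine exists_iso_comm (fun M => sc M.val (f.fn.obj V)) (fun {M N : ModSite.Mod O_C} (p : M ⟶ N) => apm (SheafOfModules.Hom.val p) (f.fn.obj V))
    (fun M x => (sharpAt f V g : rsec O_C (f.fn.obj V)) • x)
    (fun M => (f.adj.homEquiv _ M).trans (Groth.Misc4.FreeOn.homEquiv V (f.push.obj M)))
    (Groth.Misc4.FreeOn.homEquiv (f.fn.obj V)) (fun p φ => ?_) (fun p φ => ?_) _ _ (fun M φ => ?_)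
    (fun M φ => homEquiv_eU _ _ M φ)
  · simp only [Equiv.trans_apply]
    rw [Adjunction.homEquiv_naturality_right]
    exact Groth.Misc4.FreeOn.homEquiv_comp V _ _
  · exact Groth.Misc4.FreeOn.homEquiv_comp _ φ p
  · simp only [Equiv.trans_apply]
    rw [Adjunction.homEquiv_naturality_left]
    exact homEquiv_eU V g (f.push.obj M) _

lemma exists_freeOn_iso_freeMod (V : D) :
    Nonempty (SiteInj.freeMod K (ModSite.ringSh O_D) V ≅ ModSite.freeOn O_D V) :=
  Groth.Misc4.FreeOn.nonempty_iso_of_homEquiv (fun M : ModSite.Mod O_D => sc M.val V) (fun {M N : ModSite.Mod O_D} p => apm p.val V)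
    (SiteInj.freeModHomEquiv K _ V) (Groth.Misc4.FreeOn.homEquiv V)
    (fun p φ => SiteInj.freeModHomEquiv_comp K _ V φ p) fun p φ => Groth.Misc4.FreeOn.homEquiv_comp V φ p

lemma adapted_single (V : D) (m : ℤ) : DerivedLeftAdj.Adapted f.push
    ((HomologicalComplex.single (ModSite.Mod O_D) (ComplexShape.up ℤ) m).obj (ModSite.freeOn O_D V)) := by
  refine DerivedLeftAdj.adapted_of_bounded (fun V : D => SiteInj.freeMod K (ModSite.ringSh O_D) V)
    (fun g g' h => SitePush.freeMod_separates g g' h) (SitePush.acy_freeMod f) _ (b := m)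
    (fun q hq => HomologicalComplex.isZero_single_obj_X _ m _ q (by lia)) fun q => ?_
  by_cases hq : q = m
  · subst hq
    exact FAcyclic.acy_of_iso ((exists_freeOn_iso_freeMod V).some ≪≫
      (HomologicalComplex.singleObjXSelf (ComplexShape.up ℤ) q _).symm) (SitePush.acy_freeMod f V)
  · exact FAcyclic.acy_of_isZero (HomologicalComplex.isZero_single_obj_X _ m _ q hq)

lemma tBij_pre_congr {A : Type (u + 1)} [Category.{u} A] [Abelian A] [HasDerivedCategory A] {P P' : A}
    (i : P ≅ P') (e : P ⟶ P) (e' : P' ⟶ P') (h : e ≫ i.hom = i.hom ≫ e') (m : ℤ) (Y : DerivedCategory A) :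
    TBij (pre e m Y) ↔ TBij (pre e' m Y) := by
  let j := (DerivedCategory.singleFunctor A m).mapIso i
  refine tBij_iff_of_equiv (AddEquiv.mk' j.homFromEquiv fun x y => Preadditive.comp_add _ _ _ _ _ _) _ _
    fun x => ?_
  show j.inv ≫ (DerivedCategory.singleFunctor A m).map e ≫ x =
    (DerivedCategory.singleFunctor A m).map e' ≫ j.inv ≫ x
  have h' : i.inv ≫ e = e' ≫ i.inv := by rw [Iso.inv_comp_eq, ← Category.assoc, Iso.eq_comp_inv, h]
  simp only [j, Functor.mapIso_inv, ← Functor.map_comp_assoc, h']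

/-- Sections of `Rf_*M` over `V` are those of `M` over `f⁻¹V`, compatibly with multiplications. -/
theorem triv_push_iff [SiteCmp.HasRpushD f] (V : D) (g : O_D.obj.obj (op V))
    (M : DerivedCategory (ModSite.Mod O_C)) :
    Triv V g ((SiteCmp.RpushD f).obj M) ↔ Triv (f.fn.obj V) (sharpAt f V g) M := by
  haveI := SitePush.isRightAdjoint_RpushD f
  haveI : PreservesFiniteProducts (SiteCmp.RpushD f) :=
    haveI := (Adjunction.ofIsRightAdjoint (SiteCmp.RpushD f)).rightAdjoint_preservesLimits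
    ⟨fun n => inferInstance⟩
  haveI : (SiteCmp.RpushD f).Additive := Functor.additive_of_preserves_binary_products _
  obtain ⟨i, hi⟩ := exists_pull_freeOn_iso f V g
  refine forall_congr' fun m => ?_
  exact (DerivedLeftAdj.tBij_pre_iff f.adj (SiteCmp.RpushD f)
    ((SiteCmp.pushKh f).totalRightDerivedUnit DerivedCategory.Qh
      (HomotopyCategory.quasiIso (ModSite.Mod O_C) (ComplexShape.up ℤ))) (eU V g) m M
    (adapted_single f V m)).symm.trans (tBij_pre_congr i _ _ hi m M)

end Groth.DAlg.DerCompPush
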