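import Groth.Agent.DAlg.DerCompKoszul
import Groth.Agent.DAlg.DerCompPush
import Groth.Agent.SitesTopoi.Mod.LocFiltered

/-!
Direct images preserve the left orthogonal of derived complete objects.
-/

universe u

open CategoryTheory CategoryTheory.Limits CategoryTheory.Pretriangulated Opposite

attribute [local instance] HasDerivedCategory.standard

set_option backward.defeqAttrib.useBackward true
set_option backward.isDefEq.respectTransparency false
set_option synthInstance.maxHeartbeats 400000
set_option maxHeartbeats 1000000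
set_option linter.style.haveILetI false

namespace Groth.DAlg.DerCompKoszulPush

open Groth.SitesTopoi.ModH KosCx SiteTorsion DerCompCrit DerCompKoszul DerCompPush
open Groth.Misc4.FreeOn (homEquiv homEquiv_comp)

variable {C D : Type u} [SmallCategory C] [SmallCategory D] {J : GrothendieckTopology C}
  {K : GrothendieckTopology D} {O_C : Sheaf J CommRingCat.{u}} {O_D : Sheaf K CommRingCat.{u}}
  (f : ModSite.RMor O_C O_D)

local notation "up" => ComplexShape.up ℤ

lemma sharpAt_natural {X Y : D} (u : Y ⟶ X) (g : O_D.obj.obj (op X)) :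
    sharpAt f Y ((O_D.obj.map u.op).hom g) = (O_C.obj.map (f.fn.map u).op).hom (sharpAt f X g) :=
  ConcreteCategory.congr_hom (f.sharp.hom.naturality u.op) g

lemma mem_of_factor {V : D} (A : DerComp.IdealSh (O_C.over (f.fn.obj V))) {X d : D} (g : O_D.obj.obj (op X))
    (u : d ⟶ X) (v : d ⟶ V) {W : Over (f.fn.obj V)} (β : W.left ⟶ f.fn.obj d) (hw : β ≫ f.fn.map v = W.hom)
    (k : W.left ⟶ f.fn.obj X) (hk : β ≫ f.fn.map u = k)
    (h : sharpAt f d ((O_D.obj.map u.op).hom g) ∈ A.ideal (Over.mk (f.fn.map v))) :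
    (O_C.obj.map k.op).hom (sharpAt f X g) ∈ A.ideal W := by
  have h2 := A.map_mem (Over.homMk β hw : W ⟶ Over.mk (f.fn.map v)) h
  have e : (O_C.obj.map k.op).hom (sharpAt f X g) =
      (O_C.obj.map β.op).hom (sharpAt f d ((O_D.obj.map u.op).hom g)) := by
    subst hk
    rw [sharpAt_natural, op_comp, Functor.map_comp]
    rfl
  exact e ▸ h2

/-- Images of generators generate the extended sheaf of ideals. -/
lemma gen_push {I : DerComp.IdealSh O_D} {I' : DerComp.IdealSh O_C} (hI' : DerComp.RIsIdealExt f I I') {V : D}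
    {l : List (O_D.obj.obj (op V))} (hl : Gen I V l) : Gen I' (f.fn.obj V) (l.map (sharpAt f V)) := by
  have hlf : LocFiltered J K f.fn := locFiltered (J := J) (K := K) f.fn
  refine ⟨fun b hb => ?_, fun A hA => ?_⟩
  · obtain ⟨a, ha, rfl⟩ := List.mem_map.1 hb
    exact hI'.1 V a (hl.1 a ha)
  let B : DerComp.IdealSh (O_D.over V) :=
    { ideal := fun Y => (A.ideal (Over.mk (f.fn.map Y.hom))).comap (f.sharp.hom.app (op Y.left)).hom
      map_mem := fun {Y Y'} k {g} hg => by
        have h1 := A.map_mem (Over.homMk (f.fn.map k.left)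
          (by simp [← Functor.map_comp]) : Over.mk (f.fn.map Y'.hom) ⟶ Over.mk (f.fn.map Y.hom)) hg
        exact (congrArg (· ∈ A.ideal (Over.mk (f.fn.map Y'.hom))) (sharpAt_natural f k.left g)).mpr h1
      glue := fun {Y g} T hT h => by
        obtain ⟨S, hS, hS'⟩ := hlf.cover Y.left (Sieve.overEquiv Y T) ((GrothendieckTopology.mem_over_iff _ _).1 hT)
          (f.fn.obj Y.left) (𝟙 _)
        refine A.glue ((Sieve.overEquiv (Over.mk (f.fn.map Y.hom))).symm S)
          ((GrothendieckTopology.mem_over_iff _ _).2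
            (((Sieve.overEquiv (Over.mk (f.fn.map Y.hom))).apply_symm_apply S).symm ▸ hS)) fun W k hk => ?_
        obtain ⟨d', u', β, hu', hβ⟩ := hS' k.left ((Sieve.overEquiv_symm_iff S k).1 hk)
        have hβ' : β ≫ f.fn.map u' = k.left := hβ.trans (Category.comp_id _)
        exact mem_of_factor f A g u' (u' ≫ Y.hom) β
          (by rw [Functor.map_comp, ← Category.assoc, hβ']; exact Over.w k) k.left hβ'
          (h (Over.homMk u' : Over.mk (u' ≫ Y.hom) ⟶ Y) ((Sieve.overEquiv_iff T u').1 hu')) }
  have hB : I.over V ≤ B := hl.2 B fun a ha Y => by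
    have h1 := hA _ (List.mem_map_of_mem ha) (Over.mk (f.fn.map Y.hom))
    exact (congrArg (· ∈ A.ideal (Over.mk (f.fn.map Y.hom))) (sharpAt_natural f Y.hom a)).mpr h1
  let A' : DerComp.IdealSh O_C :=
    { ideal := fun W =>
        { carrier := {g | ∀ (Z : C) (j : Z ⟶ W) (a : Z ⟶ f.fn.obj V), (O_C.obj.map j.op).hom g ∈ A.ideal (Over.mk a)}
          add_mem' := fun hx hy Z j a => (map_add (O_C.obj.map j.op).hom _ _).symm ▸
            (A.ideal (Over.mk a)).add_mem (hx Z j a) (hy Z j a)
          zero_mem' := fun Z j a => (map_zero (O_C.obj.map j.op).hom).symm ▸ (A.ideal (Over.mk a)).zero_mem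
          smul_mem' := fun r x hx Z j a => (map_mul (O_C.obj.map j.op).hom r x).symm ▸
            (A.ideal (Over.mk a)).mul_mem_left _ (hx Z j a) }
      map_mem := fun {W W'} k {g} hg Z j a => by
        rw [← CommRingCat.comp_apply, ← Functor.map_comp, ← op_comp]
        exact hg Z (j ≫ k) a
      glue := fun {W g} S hS h Z j a => by
        refine A.glue ((Sieve.overEquiv (Over.mk a)).symm (S.pullback j))
          ((GrothendieckTopology.mem_over_iff _ _).2
            (((Sieve.overEquiv (Over.mk a)).apply_symm_apply (S.pullback j)).symm ▸ J.pullback_stable j hS))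
          fun T k hk => ?_
        have hk' : (S.pullback j) k.left := (Sieve.overEquiv_symm_iff (S.pullback j) k).1 hk
        have h1 := h (k.left ≫ j) hk' T.left (𝟙 _) T.hom
        simp only [op_id, CategoryTheory.Functor.map_id, CommRingCat.id_apply, op_comp, Functor.map_comp,
          CommRingCat.comp_apply] at h1
        exact h1 }
  have hA' : I' ≤ A' := hI'.2 A' fun X g hg Z j a => by
    obtain ⟨S, hS, hS'⟩ := hlf.pair Z X V j a
    refine A.glue ((Sieve.overEquiv (Over.mk a)).symm S)
      ((GrothendieckTopology.mem_over_iff _ _).2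
        (((Sieve.overEquiv (Over.mk a)).apply_symm_apply S).symm ▸ hS)) fun W k hk => ?_
    obtain ⟨d, u₁, u₂, β, h₁, h₂⟩ := hS' k.left ((Sieve.overEquiv_symm_iff S k).1 hk)
    have h3 := mem_of_factor f A g u₁ u₂ β (h₂.trans (Over.w k)) (k.left ≫ j) h₁
      (hB (Over.mk u₂) (I.map_mem u₁ hg))
    rw [op_comp, Functor.map_comp, CommRingCat.comp_apply] at h3
    exact h3
  intro W g hg
  have h1 := hA' W.left hg W.left (𝟙 _) W.hom
  simp only [op_id, CategoryTheory.Functor.map_id, CommRingCat.id_apply] at h1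
  exact h1

/-- The inverse image of a free module on an object, compatibly with all multiplications. -/
lemma exists_pull_freeOn_iso_all (V : D) :
    ∃ i : f.pull.obj (ModSite.freeOn O_D V) ≅ ModSite.freeOn O_C (f.fn.obj V),
      ∀ g, f.pull.map (eU V g) ≫ i.hom = i.hom ≫ eU (f.fn.obj V) (sharpAt f V g) := by
  let eX := fun M : ModSite.Mod O_C => (f.adj.homEquiv (ModSite.freeOn O_D V) M).trans (homEquiv V (f.push.obj M))
  let eY := fun M : ModSite.Mod O_C => homEquiv (O := O_C) (f.fn.obj V) M
  have hX : ∀ {M N : ModSite.Mod O_C} (p : M ⟶ N) (φ : f.pull.obj (ModSite.freeOn O_D V) ⟶ M),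
      eX N (φ ≫ p) = apm p.val (f.fn.obj V) (eX M φ) := fun p φ => by
    simp only [eX, Equiv.trans_apply]
    rw [Adjunction.homEquiv_naturality_right]
    exact homEquiv_comp V _ _
  have hY : ∀ {M N : ModSite.Mod O_C} (p : M ⟶ N) (φ : ModSite.freeOn O_C (f.fn.obj V) ⟶ M),
      eY N (φ ≫ p) = apm p.val (f.fn.obj V) (eY M φ) := fun p φ => homEquiv_comp _ φ p
  refine ⟨⟨(eX _).symm (eY _ (𝟙 _)), (eY _).symm (eX _ (𝟙 _)), (eX _).injective ?_, (eY _).injective ?_⟩,
    fun g => ?_⟩
  · rw [hX, Equiv.apply_symm_apply, ← hY, Category.id_comp, Equiv.apply_symm_apply]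
  · rw [hY, Equiv.apply_symm_apply, ← hX, Category.id_comp, Equiv.apply_symm_apply]
  · refine (eX _).injective ?_
    let act : ∀ M : ModSite.Mod O_C, sc M.val (f.fn.obj V) → sc M.val (f.fn.obj V) :=
      fun M x => (sharpAt f V g : rsec O_C (f.fn.obj V)) • x
    have ha : ∀ φ : f.pull.obj (ModSite.freeOn O_D V) ⟶ ModSite.freeOn O_C (f.fn.obj V),
        eX _ (f.pull.map (eU V g) ≫ φ) = act _ (eX _ φ) := fun φ => by
      simp only [eX, Equiv.trans_apply]
      rw [Adjunction.homEquiv_naturality_left]
      exact homEquiv_eU V g _ _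
    dsimp only
    rw [ha, hX, Equiv.apply_symm_apply, ← hY, Category.id_comp]
    have hb := homEquiv_eU (f.fn.obj V) (sharpAt f V g) _ (𝟙 (ModSite.freeOn O_C (f.fn.obj V)))
    rw [Category.comp_id] at hb
    exact hb.symm

lemma kos_map {A : Type*} [Category A] [Abelian A] {R : Type*} [CommRing R] [Linear R A] {ι ι' : Type*}
    (c : ι' → R) (φ : ι → ι') : ∀ (l : List ι) (X : CochainComplex A ℤ),
    kos c (l.map φ) X = kos (fun k => c (φ k)) l X
  | [], _ => rfl
  | _ :: l, _ => kos_map c φ l _

/-- The inverse image of a test complex is a test complex. -/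
lemma nonempty_pull_testCx_iso (V : D) (l : List (O_D.obj.obj (op V))) :
    Nonempty ((f.pull.mapHomologicalComplex up).obj (testCx V l) ≅ testCx (f.fn.obj V) (l.map (sharpAt f V))) := by
  obtain ⟨i, hi⟩ := exists_pull_freeOn_iso_all f V
  haveI : f.pull.Additive := f.adj.left_adjoint_additive
  let F := ModSite.extZero O_D V ⋙ f.pull
  let F' := ModSite.extZero O_C (f.fn.obj V)
  let X := (HomologicalComplex.single (ModSite.Mod (O_D.over V)) up 0).obj (ModSite.unit (O_D.over V))
  let X' := (HomologicalComplex.single (ModSite.Mod (O_C.over (f.fn.obj V))) up 0).obj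
    (ModSite.unit (O_C.over (f.fn.obj V)))
  let c := fun g => DerComp.GSec.ofSect O_C (f.fn.obj V) (sharpAt f V g)
  let i₀ : (F.mapHomologicalComplex up).obj X ≅ (F'.mapHomologicalComplex up).obj X' :=
    (HomologicalComplex.singleMapHomologicalComplex F up 0).app _ ≪≫
      (HomologicalComplex.single _ up 0).mapIso i ≪≫ ((HomologicalComplex.singleMapHomologicalComplex F' up 0).app _).symm
  have hs : ∀ {A : Type (u + 1)} [Category.{u} A] [Abelian A] {R : Type u} [CommRing R] [Linear R A] (t : R) (M : A),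
      t • 𝟙 ((HomologicalComplex.single A up 0).obj M) = (HomologicalComplex.single A up 0).map (t • 𝟙 M) :=
    fun t M => HomologicalComplex.from_single_hom_ext (by
      simp [HomologicalComplex.single_map_f_self, Linear.smul_comp, Linear.comp_smul])
  obtain ⟨j, -⟩ := exists_kos_iso (DerComp.GSec.ofSect O_D V) F F' c l X X' i₀ fun g => by
    have n₁ := (HomologicalComplex.singleMapHomologicalComplex F up 0).hom.naturality
      (DerComp.GSec.ofSect O_D V g • 𝟙 (ModSite.unit (O_D.over V)))
    have n₂ := (HomologicalComplex.singleMapHomologicalComplex F' up 0).inv.naturality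
      (c g • 𝟙 (ModSite.unit (O_C.over (f.fn.obj V))))
    simp only [Functor.comp_map] at n₁ n₂
    simp only [i₀, X, X', Iso.trans_hom, Iso.app_hom, Iso.symm_hom, Iso.app_inv, Functor.mapIso_hom, hs,
      Category.assoc]
    rw [reassoc_of% n₁, ← n₂, ← Functor.map_comp_assoc, ← Functor.map_comp_assoc]
    congr 3
    simp only [F, F', c, Functor.comp_map, DerComp.smul_def, Category.comp_id]
    exact hi g
  refine ⟨?_⟩
  rw [testCx, testCx, kos_map]
  exact j

/-- Test complexes are adapted. -/
lemma adapted_testCx (V : D) : ∀ (l : List (O_D.obj.obj (op V))) (X : CochainComplex (ModSite.Mod (O_D.over V)) ℤ),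
    DerivedLeftAdj.Adapted f.push (((ModSite.extZero O_D V).mapHomologicalComplex up).obj X) →
    DerivedLeftAdj.Adapted f.push (((ModSite.extZero O_D V).mapHomologicalComplex up).obj
      (kos (DerComp.GSec.ofSect O_D V) l X))
  | [], _, h => h
  | _ :: l, _, h => adapted_testCx V l _ ((DerivedLeftAdj.Adapted.mappingCone _ h h).of_iso_quotient
      ((HomotopyCategory.quotient _ up).mapIso
        (CochainComplex.mappingCone.mapHomologicalComplexIso _ (ModSite.extZero O_D V)).symm))

lemma adapted_shift {P : CochainComplex (ModSite.Mod O_D) ℤ} (h : DerivedLeftAdj.Adapted f.push P) (a : ℤ) :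
    DerivedLeftAdj.Adapted f.push (P⟦a⟧) := fun X hX hW n φ => by
  rw [← cancel_epi (((HomotopyCategory.quotient _ up).commShiftIso a).inv.app P), comp_zero]
  apply (shiftFunctor (HomotopyCategory (ModSite.Mod O_D) up) (-a)).map_injective
  rw [Functor.map_zero, ← cancel_epi ((shiftFunctorCompIsoId _ a (-a) (by lia)).app _).inv, comp_zero,
    ← cancel_mono ((shiftFunctorAdd' (HomotopyCategory (ModSite.Mod O_D) up) n (-a) (n + -a) rfl).app X).inv,
    zero_comp]
  exact h X hX hW _ _

/-- Direct images preserve the left orthogonal of the derived complete objects. -/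
theorem ct_push [SiteCmp.HasRpushD f] {I : DerComp.IdealSh O_D} (hI : I.IsFiniteType) {I' : DerComp.IdealSh O_C}
    (hI' : DerComp.RIsIdealExt f I I') (M : DerivedCategory (ModSite.Mod O_C)) (hM : Ct I' M) :
    Ct I ((SiteCmp.RpushD f).obj M) := by
  haveI : f.pull.Additive := f.adj.left_adjoint_additive
  haveI := SitePush.isRightAdjoint_RpushD f
  haveI : (SiteCmp.RpushD f).Additive :=
    haveI : PreservesFiniteProducts (SiteCmp.RpushD f) :=
      haveI := (Adjunction.ofIsRightAdjoint (SiteCmp.RpushD f)).rightAdjoint_preservesLimits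
      ⟨fun n => inferInstance⟩
    Functor.additive_of_preserves_binary_products _
  refine ct_of_testCx _ fun U => ?_
  obtain ⟨S, hS, hS'⟩ := exists_gen hI U
  refine ⟨S, hS, fun V g hg => ?_⟩
  obtain ⟨l, hl⟩ := hS' g hg
  refine ⟨l, hl, ?_⟩
  obtain ⟨i⟩ := nonempty_pull_testCx_iso f V l
  have h0 : Orth (DerivedCategory.Q.obj ((f.pull.mapHomologicalComplex up).obj (testCx V l))) M :=
    (orth_testCx_of_ct (gen_push f hI' hl) M hM).of_iso_left (DerivedCategory.Q.mapIso i).symm
  let X₀ := (HomologicalComplex.single (ModSite.Mod (O_D.over V)) up 0).obj (ModSite.unit (O_D.over V))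
  have hA : DerivedLeftAdj.Adapted f.push (testCx V l) := adapted_testCx f V l X₀
    ((adapted_single f V 0).of_iso_quotient ((HomotopyCategory.quotient _ up).mapIso
      ((HomologicalComplex.singleMapHomologicalComplex (ModSite.extZero O_D V) up 0).app _).symm))
  have hz : ∀ (a : ℤ) (φ : (DerivedCategory.Q.obj (testCx V l))⟦a⟧ ⟶ (SiteCmp.RpushD f).obj M), φ = 0 := fun a φ => by
    let P := (testCx V l)⟦a⟧
    let K' := f.pull.mapHomotopyCategory up
    let e : DerivedCategory.Qh.obj ((HomotopyCategory.quotient _ up).obj P) ≅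
        (DerivedCategory.Q.obj (testCx V l))⟦a⟧ :=
      (DerivedCategory.quotientCompQhIso _).app P ≪≫ (DerivedCategory.Q.commShiftIso a).app _
    let e' : DerivedCategory.Qh.obj (K'.obj ((HomotopyCategory.quotient _ up).obj P)) ≅
        (DerivedCategory.Q.obj ((f.pull.mapHomologicalComplex up).obj (testCx V l)))⟦a⟧ :=
      (DerivedCategory.quotientCompQhIso _).app ((f.pull.mapHomologicalComplex up).obj P) ≪≫
        DerivedCategory.Q.mapIso (((f.pull.mapHomologicalComplex up).commShiftIso a).app _) ≪≫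
        (DerivedCategory.Q.commShiftIso a).app _
    rw [← cancel_epi e.hom, comp_zero]
    obtain ⟨ψ, hψ⟩ := (DerivedLeftAdj.bijective_transp f.adj (SiteCmp.RpushD f)
      ((SiteCmp.pushKh f).totalRightDerivedUnit DerivedCategory.Qh
        (HomotopyCategory.quasiIso (ModSite.Mod O_C) up)) (adapted_shift f hA a) M).2 (e.hom ≫ φ)
    have h1 : ∀ χ : (DerivedCategory.Q.obj ((f.pull.mapHomologicalComplex up).obj (testCx V l)))⟦a⟧ ⟶ M, χ = 0 :=
      fun χ => by
        rw [← cancel_mono ((shiftFunctorZero (DerivedCategory (ModSite.Mod O_C)) ℤ).inv.app M), zero_comp]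
        exact (h0.shift_left a) 0 _
    have h2 : ψ = 0 := by rw [← cancel_epi e'.inv, comp_zero]; exact h1 _
    rw [← hψ, h2]
    simp [DerivedLeftAdj.transp]
  intro n φ
  apply (shiftFunctor (DerivedCategory (ModSite.Mod O_D)) (-n)).map_injective
  rw [Functor.map_zero, ← cancel_mono ((shiftFunctorCompIsoId (DerivedCategory (ModSite.Mod O_D)) n (-n) (by lia)).app _).hom,
    zero_comp]
  exact hz _ _

end Groth.DAlg.DerCompKoszulPush
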