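import Groth.Agent.DAlg.DerCompEquivOver
import Groth.Agent.DAlg.DerCompKoszulPush
import Groth.Agent.SitesTopoi.Mod.Split

/-!
Koszul complexes and the unit of base change along a map of sheaves of rings inducing an isomorphism modulo ideals.
-/

universe u

open CategoryTheory CategoryTheory.Limits Opposite

attribute [local instance] HasDerivedCategory.standard

set_option backward.defeqAttrib.useBackward true
set_option backward.isDefEq.respectTransparency false
set_option synthInstance.maxHeartbeats 400000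
set_option maxHeartbeats 1000000
set_option linter.style.haveILetI false
set_option linter.unusedSimpArgs false

namespace Groth.DAlg.DerCompEquivCore

open Groth.SitesTopoi.ModH KosCx SiteTorsion DerCompKoszul DerCompRestrict DerCompEquivKilled DerCompEquivOver

local notation "up" => ComplexShape.up ℤ

section Swap

variable {A : Type*} [Category A] [Abelian A]

open CochainComplex

section

variable {K₁ L₁ K₂ L₂ : CochainComplex A ℤ} (φ₁ : K₁ ⟶ L₁) (φ₂ : K₂ ⟶ L₂) (a : K₁ ⟶ K₂) (b : L₁ ⟶ L₂)
  (w : φ₁ ≫ b = a ≫ φ₂)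

@[reassoc]
lemma inl_map (p q : ℤ) (h : p + (-1) = q) :
    (mappingCone.inl φ₁).v p q h ≫ (mappingCone.map φ₁ φ₂ a b w).f q = a.f p ≫ (mappingCone.inl φ₂).v p q h := by
  simp [mappingCone.map]

@[reassoc]
lemma inr_map (q : ℤ) :
    (mappingCone.inr φ₁).f q ≫ (mappingCone.map φ₁ φ₂ a b w).f q = b.f q ≫ (mappingCone.inr φ₂).f q := by
  simp [mappingCone.map]

end

/-- Forming cones commutes: the cone of a map of cones is the cone of the transposed map of cones. -/
lemma nonempty_swapIso {K₁ L₁ K₂ L₂ : CochainComplex A ℤ} (φ₁ : K₁ ⟶ L₁) (φ₂ : K₂ ⟶ L₂) (a : K₁ ⟶ K₂)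
    (b : L₁ ⟶ L₂) (w : φ₁ ≫ b = a ≫ φ₂) :
    Nonempty (mappingCone (mappingCone.map φ₁ φ₂ a b w) ≅ mappingCone (mappingCone.map a b φ₁ φ₂ w.symm)) := by
  let swap : ∀ {K₁ L₁ K₂ L₂ : CochainComplex A ℤ} (φ₁ : K₁ ⟶ L₁) (φ₂ : K₂ ⟶ L₂) (a : K₁ ⟶ K₂) (b : L₁ ⟶ L₂)
      (w : φ₁ ≫ b = a ≫ φ₂) (n : ℤ), (mappingCone (mappingCone.map φ₁ φ₂ a b w)).X n ⟶
        (mappingCone (mappingCone.map a b φ₁ φ₂ w.symm)).X n := fun φ₁ φ₂ a b w n =>
    -((mappingCone.fst _).1.v n (n + 1) rfl ≫ (mappingCone.fst φ₁).1.v (n + 1) (n + 1 + 1) (by lia) ≫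
        (mappingCone.inl a).v (n + 1 + 1) (n + 1) (by lia) ≫ (mappingCone.inl _).v (n + 1) n (by lia)) +
      (mappingCone.fst _).1.v n (n + 1) rfl ≫ (mappingCone.snd φ₁).v (n + 1) (n + 1) (add_zero _) ≫
        (mappingCone.inl b).v (n + 1) n (by lia) ≫ (mappingCone.inr _).f n +
      (mappingCone.snd _).v n n (add_zero _) ≫ (mappingCone.fst φ₂).1.v n (n + 1) rfl ≫
        (mappingCone.inr a).f (n + 1) ≫ (mappingCone.inl _).v (n + 1) n (by lia) +
      (mappingCone.snd _).v n n (add_zero _) ≫ (mappingCone.snd φ₂).v n n (add_zero _) ≫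
        (mappingCone.inr b).f n ≫ (mappingCone.inr _).f n
  refine ⟨HomologicalComplex.Hom.isoOfComponents (fun n =>
    { hom := swap φ₁ φ₂ a b w n
      inv := swap a b φ₁ φ₂ w.symm n
      hom_inv_id := ?_
      inv_hom_id := ?_ }) ?_⟩
  · simp [swap, mappingCone.ext_from_iff _ (n + 1) n rfl, mappingCone.ext_from_iff _ (n + 1 + 1) (n + 1) (by lia)]
  · simp [swap, mappingCone.ext_from_iff _ (n + 1) n rfl, mappingCone.ext_from_iff _ (n + 1 + 1) (n + 1) (by lia)]
  · intro i j hij
    obtain rfl : i + 1 = j := hij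
    simp [swap, mappingCone.ext_from_iff _ (i + 1) i rfl, mappingCone.ext_from_iff _ (i + 1 + 1) (i + 1) (by lia),
      mappingCone.inl_v_d_assoc (mappingCone.map φ₁ φ₂ a b w) (i + 1) i (i + 1 + 1) (by lia) (by lia),
      mappingCone.inl_v_d_assoc (mappingCone.map a b φ₁ φ₂ w.symm) (i + 1) i (i + 1 + 1) (by lia) (by lia),
      mappingCone.inl_v_d (mappingCone.map φ₁ φ₂ a b w) (i + 1) i (i + 1 + 1) (by lia) (by lia),
      mappingCone.inl_v_d (mappingCone.map a b φ₁ φ₂ w.symm) (i + 1) i (i + 1 + 1) (by lia) (by lia),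
      mappingCone.inl_v_d_assoc φ₁ (i + 1 + 1) (i + 1) (i + 1 + 1 + 1) (by lia) (by lia),
      mappingCone.inl_v_d φ₁ (i + 1 + 1) (i + 1) (i + 1 + 1 + 1) (by lia) (by lia),
      mappingCone.inl_v_d_assoc φ₂ (i + 1) i (i + 1 + 1) (by lia) (by lia),
      mappingCone.inl_v_d φ₂ (i + 1) i (i + 1 + 1) (by lia) (by lia),
      mappingCone.inl_v_d_assoc a (i + 1 + 1) (i + 1) (i + 1 + 1 + 1) (by lia) (by lia),
      mappingCone.inl_v_d a (i + 1 + 1) (i + 1) (i + 1 + 1 + 1) (by lia) (by lia),
      mappingCone.inl_v_d_assoc b (i + 1) i (i + 1 + 1) (by lia) (by lia),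
      mappingCone.inl_v_d b (i + 1) i (i + 1 + 1) (by lia) (by lia), inl_map, inl_map_assoc, inr_map, inr_map_assoc,
      Preadditive.comp_sub,
      Preadditive.sub_comp]
    refine ⟨⟨?_, ?_⟩, ?_⟩ <;> abel

open CochainComplex in
/-- Cones of isomorphic maps are isomorphic. -/
noncomputable def coneIso {K₁ L₁ K₂ L₂ : CochainComplex A ℤ} (φ₁ : K₁ ⟶ L₁) (φ₂ : K₂ ⟶ L₂) (a : K₁ ≅ K₂)
    (b : L₁ ≅ L₂) (w : φ₁ ≫ b.hom = a.hom ≫ φ₂) : mappingCone φ₁ ≅ mappingCone φ₂ where
  hom := mappingCone.map _ _ a.hom b.hom w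
  inv := mappingCone.map _ _ a.inv b.inv (by rw [Iso.eq_inv_comp, ← Category.assoc, Iso.comp_inv_eq, w])
  hom_inv_id := by rw [← mappingCone.map_comp]; simp only [Iso.hom_inv_id]; exact mappingCone.map_id _
  inv_hom_id := by rw [← mappingCone.map_comp]; simp only [Iso.inv_hom_id]; exact mappingCone.map_id _

variable {R : Type*} [CommRing R] [Linear R A] {ι : Type*} (c : ι → R)

/-- Iterated cones of isomorphic complexes are isomorphic. -/
lemma nonempty_kosIso : ∀ (l : List ι) {X Y : CochainComplex A ℤ}, (X ≅ Y) → Nonempty (kos c l X ≅ kos c l Y)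
  | [], _, _, e => ⟨e⟩
  | i :: l, X, Y, e => nonempty_kosIso l (coneIso (c i • 𝟙 X) (c i • 𝟙 Y) e e (by
      rw [Linear.smul_comp, Category.id_comp, Linear.comp_smul, Category.comp_id]))

variable {F : A ⥤ A} [F.Additive] (τ : 𝟭 A ⟶ F)

/-- The natural transformation on a complex. -/
noncomputable def τC (X : CochainComplex A ℤ) : X ⟶ (F.mapHomologicalComplex up).obj X where
  f n := τ.app (X.X n)
  comm' i j _ := (τ.naturality (X.d i j)).symm

lemma τC_naturality {X Y : CochainComplex A ℤ} (g : X ⟶ Y) :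
    g ≫ τC τ Y = τC τ X ≫ (F.mapHomologicalComplex up).map g :=
  HomologicalComplex.hom_ext _ _ fun n => τ.naturality (g.f n)

open CochainComplex in
lemma τC_cone {X Y : CochainComplex A ℤ} (g : X ⟶ Y) :
    τC τ (mappingCone g) ≫ (mappingCone.mapHomologicalComplexIso g F).hom =
      mappingCone.map g ((F.mapHomologicalComplex up).map g) (τC τ X) (τC τ Y) (τC_naturality τ g) := by
  ext n
  simp [τC, mappingCone.map, mappingCone.mapHomologicalComplexIso,
    mappingCone.mapHomologicalComplexXIso_eq _ F n (n + 1) rfl, mappingCone.mapHomologicalComplexXIso'_hom,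
    mappingCone.ext_from_iff _ (n + 1) n rfl, mappingCone.ext_to_iff _ _ _ rfl]
  have n1 : ∀ {M N : A} (x : M ⟶ N) {Z : A} (z : F.obj N ⟶ Z), x ≫ τ.app N ≫ z = τ.app M ≫ F.map x ≫ z :=
    fun x _ z => τ.naturality_assoc x z
  simp [n1, ← Functor.map_comp]

open CochainComplex in
/-- The iterated cone of the cone of a natural map is the cone of the natural map of the iterated cone. -/
theorem nonempty_kos_cone_iso
    (hF : ∀ (r : R) (M : A), F.map (r • 𝟙 M) = r • 𝟙 (F.obj M)) :
    ∀ (l : List ι) (X : CochainComplex A ℤ),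
      Nonempty (kos c l (mappingCone (τC τ X)) ≅ mappingCone (τC τ (kos c l X)))
  | [], X => ⟨Iso.refl _⟩
  | i :: l, X => by
    obtain ⟨e₁⟩ := nonempty_kos_cone_iso hF l (mappingCone (c i • 𝟙 X))
    let G := F.mapHomologicalComplex up
    have hG : G.map (c i • 𝟙 X) = c i • 𝟙 (G.obj X) := HomologicalComplex.hom_ext _ _ fun n => hF _ _
    have hw : τC τ X ≫ G.map (c i • 𝟙 X) = (c i • 𝟙 X) ≫ τC τ X := (τC_naturality τ _).symm
    obtain ⟨e₂⟩ := nonempty_swapIso (τC τ X) (τC τ X) (c i • 𝟙 X) (G.map (c i • 𝟙 X)) hw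
    have h₁ : mappingCone.map (τC τ X) (τC τ X) (c i • 𝟙 X) (G.map (c i • 𝟙 X)) hw =
        c i • 𝟙 (mappingCone (τC τ X)) := by
      simp only [hG]
      ext n
      simp [mappingCone.map, mappingCone.ext_from_iff _ _ _ rfl]
      exact congrArg (c i • ·) (Category.id_comp _)
    let e₃ : mappingCone (c i • 𝟙 (mappingCone (τC τ X))) ≅ mappingCone (τC τ (mappingCone (c i • 𝟙 X))) :=
      eqToIso (congrArg (fun t => mappingCone t) h₁.symm) ≪≫ e₂ ≪≫
        coneIso _ _ (Iso.refl _) (mappingCone.mapHomologicalComplexIso (c i • 𝟙 X) F).symm (by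
          rw [Iso.refl_hom, Category.id_comp, Iso.symm_hom, Iso.comp_inv_eq, τC_cone])
    obtain ⟨e₄⟩ := nonempty_kosIso c l e₃
    exact ⟨e₄ ≪≫ e₁⟩

end Swap

variable {C : Type u} [SmallCategory C] {J : GrothendieckTopology C} {O O' : Sheaf J CommRingCat.{u}}
  {φ : O ⟶ O'} {I : DerComp.IdealSh O} {I' : DerComp.IdealSh O'}

lemma hyp_over (hI : Hyp φ I I') {V : C} {l : List (O.obj.obj (op V))} (hl : Gen I V l)
    (hl' : Gen I' V (l.map (sect φ V))) : Hyp (phiOver φ V) (I.over V) (I'.over V) where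
  mem W f hf := hI.mem W.left f hf
  inj W f hf := hI.inj W.left f hf
  surj W r := by
    obtain ⟨S, hS, hS'⟩ := hI.surj W.left r
    exact ⟨(Sieve.overEquiv W).symm S, (GrothendieckTopology.mem_over_iff J _).2 (by simpa using hS),
      fun W' g hg => hS' g.left ((Sieve.overEquiv_symm_iff S g).1 hg)⟩
  min K hK := hl'.2 K fun a ha W => by
    obtain ⟨b, hb, rfl⟩ := List.mem_map.1 ha
    have h := hK W ((O.obj.map W.hom.op).hom b) (I.map_mem W.hom (hl.1 b hb))
    have e : (sect φ W.left) ((O.obj.map W.hom.op).hom b) = (O'.obj.map W.hom.op).hom (sect φ V b) :=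
      sect_rsR φ W.hom b
    exact (congrArg (· ∈ K.ideal W) e).mp h

section Push

variable (φ)

/-- Restriction of scalars along the identity preserves epimorphisms. -/
instance preservesEpimorphisms_push : (idMor φ).push.PreservesEpimorphisms where
  preserves {M N} p _ := ⟨fun {Z} a b e => mod_hom_ext fun W z => by
    obtain ⟨S, hS, hS'⟩ := locSurj_of_epi p W z
    refine sec_extM Z hS fun W' g hg => ?_
    obtain ⟨y, hy⟩ := hS' g hg
    have hy' : apm ((idMor φ).push.map p).val W' y = rsm ((idMor φ).push.obj N).val g z := hy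
    rw [← apm_rsm, ← apm_rsm, ← hy']
    exact congrArg (fun q : (idMor φ).push.obj M ⟶ Z => apm q.val W' y) e⟩

lemma exact_push : PreservesFiniteLimits (idMor φ).push ∧ PreservesFiniteColimits (idMor φ).push := by
  haveI : PreservesFiniteLimits (idMor φ).push :=
    haveI := (idMor φ).adj.rightAdjoint_preservesLimits
    ⟨fun _ _ _ => inferInstance⟩
  haveI : (idMor φ).push.Additive := (idMor φ).adj.right_adjoint_additive
  refine ⟨inferInstance, (Functor.preservesFiniteColimits_iff_forall_exact_map_and_epi _).2 fun S hS => ⟨?_, ?_⟩⟩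
  · exact ((Functor.preservesFiniteLimits_iff_forall_exact_map_and_mono _).1 inferInstance S hS).1
  · have := hS.epi_g
    exact (idMor φ).push.map_epi S.g

/-- Base change followed by restriction of scalars. -/
noncomputable abbrev bc : ModSite.Mod O ⥤ ModSite.Mod O := (idMor φ).pull ⋙ (idMor φ).push

lemma exact_bc (h : ModSite.IsFlat ((resS φ).obj (ModSite.unit O'))) :
    PreservesFiniteLimits (bc φ) ∧ PreservesFiniteColimits (bc φ) := by
  obtain ⟨h₁, h₂⟩ := exact_push φ
  haveI := preservesFiniteLimits_pull φ h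
  haveI : PreservesFiniteColimits (idMor φ).pull :=
    haveI := (idMor φ).adj.leftAdjoint_preservesColimits
    ⟨fun _ _ _ => inferInstance⟩
  exact ⟨comp_preservesFiniteLimits _ _, comp_preservesFiniteColimits _ _⟩

lemma bc_smul (t : DerComp.GSec O) (M : ModSite.Mod O) : (bc φ).map (t • 𝟙 M) = t • 𝟙 ((bc φ).obj M) := by
  let adj := (idMor φ).adj
  let t' : DerComp.GSec O' := ⟨fun W => sect φ W (t.1 W), fun {W W'} g => by
    rw [← sect_rsR]
    exact congrArg _ (t.2 g)⟩
  have h₁ : ∀ N : ModSite.Mod O', (idMor φ).push.map (t' • 𝟙 N) = t • 𝟙 ((idMor φ).push.obj N) := fun N => by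
    simp only [DerComp.smul_def, Category.comp_id]
    exact mod_hom_ext fun W m => rfl
  have h₂ : (idMor φ).pull.map (t • 𝟙 M) = t' • 𝟙 ((idMor φ).pull.obj M) := by
    refine (adj.homEquiv _ _).injective ?_
    rw [adj.homEquiv_unit, adj.homEquiv_unit, h₁, Linear.comp_smul]
    refine (adj.unit.naturality (t • 𝟙 M)).symm.trans ?_
    refine (Linear.smul_comp (C := ModSite.Mod O) _ _ _ t (𝟙 M) (adj.unit.app M)).trans ?_
    exact congrArg (t • ·) ((Category.id_comp _).trans (Category.comp_id _).symm)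
  rw [Functor.comp_map, h₂, h₁]
  rfl

/-- The comparison is natural. -/
lemma cmap_natural (V : C) {M N : ModSite.Mod O} (g : M ⟶ N) :
    (idMor (phiOver φ V)).pull.map ((ModSite.restr O V).map g) ≫ cmap φ V N =
      cmap φ V M ≫ (ModSite.restr O' V).map ((idMor φ).pull.map g) := by
  have h1 : g ≫ (idMor φ).adj.unit.app N = (idMor φ).adj.unit.app M ≫ (idMor φ).push.map ((idMor φ).pull.map g) :=
    (idMor φ).adj.unit.naturality g
  refine ((idMor (phiOver φ V)).adj.homEquiv _ _).injective ?_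
  rw [Adjunction.homEquiv_naturality_left, Adjunction.homEquiv_naturality_right, cmap, cmap,
    Equiv.apply_symm_apply, Equiv.apply_symm_apply, ← Functor.map_comp, h1]
  exact (ModSite.restr O V).map_comp _ _

lemma push_cmap_natural (V : C) {M N : ModSite.Mod O} (g : M ⟶ N) :
    (bc (phiOver φ V)).map ((ModSite.restr O V).map g) ≫ (idMor (phiOver φ V)).push.map (cmap φ V N) =
      (idMor (phiOver φ V)).push.map (cmap φ V M) ≫ (ModSite.restr O V).map ((bc φ).map g) := by
  have h2 := congrArg (idMor (phiOver φ V)).push.map (cmap_natural φ V g)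
  rw [Functor.map_comp, Functor.map_comp] at h2
  exact h2

end Push

section Nil

variable {V : C} {l : List (O.obj.obj (op V))}

lemma isIso_unit_of_nil (hI : Hyp φ I I') (hflat : ModSite.IsFlat ((resS φ).obj (ModSite.unit O')))
    (hl : Gen I V l) (hl' : Gen I' V (l.map (sect φ V))) :
    ∀ (l₁ : List (O.obj.obj (op V))) (H : ModSite.Mod (O.over V)),
      (∀ a ∈ l₁, KNil (DerComp.GSec.ofSect O V a) H) →
      (∀ a ∈ l, a ∈ l₁ ∨ DerComp.GSec.ofSect O V a • 𝟙 H = 0) → IsIso ((idMor (phiOver φ V)).adj.unit.app H)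
  | [], H, _, h => isIso_unit (hyp_over hI hl hl') H
      (killed_of_gen hl H fun a ha => (h a ha).resolve_left List.not_mem_nil) (idMor (phiOver φ V)).adj
  | b :: l₁, H, hn, h => by
    obtain ⟨N, hN⟩ := hn b List.mem_cons_self
    obtain ⟨e₁, e₂⟩ := exact_bc (phiOver φ V) (isFlat_restr hflat V)
    let G := bc (phiOver φ V)
    let τ : 𝟭 _ ⟶ G := (idMor (phiOver φ V)).adj.unit
    let s := DerComp.GSec.ofSect O V b
    suffices ∀ (N : ℕ) (H : ModSite.Mod (O.over V)), (s ^ N) • 𝟙 H = 0 →
        (∀ a ∈ l₁, KNil (DerComp.GSec.ofSect O V a) H) →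
        (∀ a ∈ l, a ∈ b :: l₁ ∨ DerComp.GSec.ofSect O V a • 𝟙 H = 0) → IsIso (τ.app H) from
      this N H hN (fun a ha => hn a (List.mem_cons_of_mem _ ha)) h
    intro N
    induction N with
    | zero =>
      intro H hH _ _
      rw [pow_zero, one_smul] at hH
      have hz := (IsZero.iff_id_eq_zero H).2 hH
      exact ⟨0, hz.eq_of_src _ _, (G.map_isZero hz).eq_of_src _ _⟩
    | succ N ih =>
      intro H hH hn' h'
      let e := s • 𝟙 H
      have hk : ∀ (t : DerComp.GSec (O.over V)), t • 𝟙 H = 0 → t • 𝟙 (kernel e) = 0 := fun t ht => by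
        rw [← cancel_mono (kernel.ι e), Linear.smul_comp, Category.id_comp, zero_comp,
          ← Category.comp_id (kernel.ι e), ← Linear.comp_smul, ht, comp_zero]
      have hi : ∀ (t : DerComp.GSec (O.over V)), t • 𝟙 H = 0 → t • 𝟙 (Abelian.image e) = 0 := fun t ht => by
        rw [← cancel_epi (Abelian.factorThruImage e), Linear.comp_smul, Category.comp_id, comp_zero,
          ← Category.id_comp (Abelian.factorThruImage e), ← Linear.smul_comp, ht, zero_comp]
      have h1 : IsIso (τ.app (kernel e)) := by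
        refine isIso_unit_of_nil hI hflat hl hl' l₁ _ (fun a ha => ?_) fun a ha => ?_
        · obtain ⟨M, hM⟩ := hn' a ha
          exact ⟨M, hk _ hM⟩
        · rcases h' a ha with h'' | h''
          · rcases List.mem_cons.1 h'' with rfl | h''
            · refine Or.inr ?_
              rw [← cancel_mono (kernel.ι e), Linear.smul_comp, Category.id_comp, zero_comp]
              refine Eq.trans ?_ (kernel.condition e)
              rw [Linear.comp_smul, Category.comp_id]
            · exact Or.inl h''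
          · exact Or.inr (hk _ h'')
      have h2 : IsIso (τ.app (Abelian.image e)) := by
        refine ih _ ?_ (fun a ha => ?_) fun a ha => ?_
        · rw [← cancel_epi (Abelian.factorThruImage e), comp_zero, ← cancel_mono (Abelian.image.ι e), zero_comp,
            Linear.comp_smul, Category.comp_id, Linear.smul_comp, Abelian.image.fac, smul_smul, ← pow_succ, hH]
        · obtain ⟨M, hM⟩ := hn' a ha
          exact ⟨M, hi _ hM⟩
        · exact (h' a ha).imp_right (hi _)
      let S := ShortComplex.mk (kernel.ι e) (Abelian.factorThruImage e)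
        (by rw [← cancel_mono (Abelian.image.ι e), Category.assoc, Abelian.image.fac, zero_comp, kernel.condition])
      have hS : S.ShortExact :=
        { exact := ShortComplex.exact_of_f_is_kernel _ (KernelFork.IsLimit.ofι _ _
            (fun k hk' => kernel.lift e k (by rw [← Abelian.image.fac e, reassoc_of% hk', zero_comp]))
            (fun k hk' => kernel.lift_ι _ _ _) fun k hk' m hm => by rw [← cancel_mono (kernel.ι e), hm, kernel.lift_ι]) }
      exact ShortComplex.isIso₂_of_shortExact_of_isIso₁₃' (S.mapNatTrans τ) (hS.map_of_exact (𝟭 _))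
        (hS.map_of_exact G) h1 h2

/-- The cone of the unit is killed by Koszul complexes. -/
theorem isZero_kos_cone (hI : Hyp φ I I') (hflat : ModSite.IsFlat ((resS φ).obj (ModSite.unit O')))
    (hl : Gen I V l) (hl' : Gen I' V (l.map (sect φ V))) (X : CochainComplex (ModSite.Mod (O.over V)) ℤ) :
    IsZero (DerivedCategory.Q.obj (kos (DerComp.GSec.ofSect O V) l
      (CochainComplex.mappingCone (τC (F := bc (phiOver φ V)) (idMor (phiOver φ V)).adj.unit X)))) := by
  obtain ⟨e₁, e₂⟩ := exact_bc (phiOver φ V) (isFlat_restr hflat V)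
  let G := bc (phiOver φ V)
  let τ : 𝟭 _ ⟶ G := (idMor (phiOver φ V)).adj.unit
  let c := DerComp.GSec.ofSect O V
  obtain ⟨i⟩ := nonempty_kos_cone_iso c τ (bc_smul (phiOver φ V)) l X
  refine IsZero.of_iso ?_ (DerivedCategory.Q.mapIso i)
  let K₀ := kos c l X
  have hq : ∀ n, IsIso (HomologicalComplex.homologyMap (τC τ K₀) n) := fun n => by
    have h0 : IsIso (τ.app (K₀.homology n)) := by
      refine isIso_unit_of_nil hI hflat hl hl' l _ (fun a ha => ?_) fun a ha => Or.inl ha
      obtain ⟨N, hN⟩ := nil_kos c l X a ha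
      refine ⟨N, ?_⟩
      have h1 : DerivedCategory.Q.map ((c a ^ N) • 𝟙 K₀) = 0 := by rw [Q_map_smul]; exact hN
      have h2 := (DerivedCategory.homologyFunctorFactors (ModSite.Mod (O.over V)) n).hom.naturality ((c a ^ N) • 𝟙 K₀)
      simp only [Functor.comp_map, h1, Functor.map_zero, zero_comp] at h2
      have h3 : HomologicalComplex.homologyMap ((c a ^ N) • 𝟙 K₀) n = 0 :=
        (cancel_epi ((DerivedCategory.homologyFunctorFactors (ModSite.Mod (O.over V)) n).hom.app K₀)).1
          (h2.symm.trans comp_zero.symm)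
      have h4 : HomologicalComplex.homologyMap ((c a ^ N) • 𝟙 K₀) n = (c a ^ N) • 𝟙 (K₀.homology n) := by
        rw [← HomologicalComplex.homologyMap_id]
        exact ShortComplex.homologyMap_smul ((HomologicalComplex.shortComplexFunctor _ up n).map (𝟙 K₀)) (c a ^ N)
      exact h4.symm.trans h3
    have e := (K₀.sc n).homologyMap_mapNatTrans τ
    have : IsIso (ShortComplex.homologyMap ((K₀.sc n).mapNatTrans τ)) := by
      haveI : IsIso (τ.app (HomologicalComplex.sc K₀ n).homology) := h0
      rw [e]; infer_instance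
    exact this
  haveI : IsIso (DerivedCategory.Q.map (τC τ K₀)) := by
    refine Localization.inverts DerivedCategory.Q (HomologicalComplex.quasiIso _ up) _ ?_
    rw [HomologicalComplex.mem_quasiIso_iff]
    exact ⟨fun n => (quasiIsoAt_iff_isIso_homologyMap _ n).2 (hq n)⟩
  have hT : DerivedCategory.Q.mapTriangle.obj (CochainComplex.mappingCone.triangle (τC τ K₀)) ∈
      Pretriangulated.distinguishedTriangles :=
    (DerivedCategory.mem_distTriang_iff _).2 ⟨_, _, τC τ K₀, ⟨Iso.refl _⟩⟩
  exact Pretriangulated.Triangle.isZero₃_of_isIso₁ _ hT (inferInstanceAs (IsIso (DerivedCategory.Q.map (τC τ K₀))))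

end Nil

/-- Test objects receive no maps from the cone of the unit. -/
theorem orth_testCx_cone (hI : Hyp φ I I') (hflat : ModSite.IsFlat ((resS φ).obj (ModSite.unit O')))
    {V : C} {l : List (O.obj.obj (op V))} (hl : Gen I V l) (hl' : Gen I' V (l.map (sect φ V)))
    (K : CochainComplex (ModSite.Mod O) ℤ) :
    Orth (DerivedCategory.Q.obj (testCx V l))
      (DerivedCategory.Q.obj (CochainComplex.mappingCone (τC (F := bc φ) (idMor φ).adj.unit K))) := by
  let R := (ModSite.restr O V).mapHomologicalComplex up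
  let τ := (idMor φ).adj.unit
  let τ' := (idMor (phiOver φ V)).adj.unit
  haveI := fun M => isIso_cmap φ V M
  let cp : ∀ M : ModSite.Mod O, (bc (phiOver φ V)).obj ((ModSite.restr O V).obj M) ⟶
      (ModSite.restr O V).obj ((bc φ).obj M) := fun M => (idMor (phiOver φ V)).push.map (cmap φ V M)
  have hcp : ∀ {M N : ModSite.Mod O} (g : M ⟶ N), (bc (phiOver φ V)).map ((ModSite.restr O V).map g) ≫ cp N =
      cp M ≫ (ModSite.restr O V).map ((bc φ).map g) := fun g => push_cmap_natural φ V g
  let b : ((bc (phiOver φ V)).mapHomologicalComplex up).obj (R.obj K) ≅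
      R.obj (((bc φ).mapHomologicalComplex up).obj K) :=
    HomologicalComplex.Hom.isoOfComponents (fun n => asIso (cp (K.X n))) fun i j _ => (hcp (K.d i j)).symm
  let i₁ := CochainComplex.mappingCone.mapHomologicalComplexIso (τC (F := bc φ) τ K) (ModSite.restr O V)
  let i₂ := coneIso (τC (F := bc (phiOver φ V)) τ' (R.obj K)) (R.map (τC (F := bc φ) τ K)) (Iso.refl _) b (by
    rw [Iso.refl_hom, Category.id_comp]
    exact HomologicalComplex.hom_ext _ _ fun n => unit_cmap φ V (K.X n))
  let D := CochainComplex.mappingCone (τC (F := bc φ) τ K)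
  obtain ⟨j⟩ := nonempty_kosIso (DerComp.GSec.ofSect O V) l (i₁ ≪≫ i₂.symm)
  let k := kos (DerComp.GSec.ofSect O V) l
    ((HomologicalComplex.single (ModSite.Mod (O.over V)) up 0).obj (ModSite.unit (O.over V)))
  have h : Orth (DerivedCategory.Q.obj k) (DerivedCategory.Q.obj (R.obj D)) :=
    orth_of_orth_kos_right (DerComp.GSec.ofSect O V) l _ _ (fun a ha => nil_kos _ l _ a ha)
      fun n ψ => ((shiftFunctor _ n).map_isZero
        ((isZero_kos_cone hI hflat hl hl' (R.obj K)).of_iso (DerivedCategory.Q.mapIso j))).eq_of_tgt _ _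
  have h' := (orth_dExt_iff V _ (DerivedCategory.Q.obj D)).2
    (h.of_iso_right ((ModSite.restr O V).mapDerivedCategoryFactors.app D).symm)
  exact h'.of_iso_left ((ModSite.extZero O V).mapDerivedCategoryFactors.app k)

end Groth.DAlg.DerCompEquivCore
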