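import Groth.Agent.DAlg.DerCompIdeal

/-!
Derived completeness and restriction of scalars along a map of sheaves of rings.
-/

universe u

open CategoryTheory CategoryTheory.Limits Opposite

attribute [local instance] HasDerivedCategory.standard

set_option backward.defeqAttrib.useBackward true
set_option backward.isDefEq.respectTransparency false
set_option synthInstance.maxHeartbeats 400000
set_option maxHeartbeats 1000000

namespace Groth.DAlg.DerCompRestrict

open DerCompCrit DerCompIdeal

variable {C : Type u} [SmallCategory C] {J : GrothendieckTopology C} {O O' : Sheaf J CommRingCat.{u}}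
  (φ : O ⟶ O')

/-- The morphism of ringed sites of a map of sheaves of rings. -/
noncomputable def idMor : ModSite.RMor O' O where
  fn := 𝟭 C
  exact := (ModSite.RMor.id O).exact
  sharp := φ

/-- Restriction of scalars. -/
noncomputable abbrev resS : ModSite.Mod O' ⥤ ModSite.Mod O :=
  SheafOfModules.restrictScalars.{u} ((sheafCompose J (forget₂ CommRingCat.{u} RingCat.{u})).map φ)

variable [PreservesFiniteLimits (resS φ)] [PreservesFiniteColimits (resS φ)]

/-- Towers of sections of a restriction of scalars. -/
theorem triv_resS_iff (U : C) (f : O.obj.obj (op U)) (K : DerivedCategory (ModSite.Mod O')) :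
    Triv U f ((resS φ).mapDerivedCategory.obj K) ↔ Triv U ((φ.hom.app (op U)).hom f) K := by
  let e : DerivedCategory.Qh ⋙ (resS φ).mapDerivedCategory ≅ SiteCmp.pushKh (idMor φ) :=
    (resS φ).mapDerivedCategoryFactorsh
  haveI hRF : (resS φ).mapDerivedCategory.IsRightDerivedFunctor e.inv
      (HomotopyCategory.quasiIso (ModSite.Mod O') (ComplexShape.up ℤ)) :=
    letI : Localization.Lifting DerivedCategory.Qh
        (HomotopyCategory.quasiIso (ModSite.Mod O') (ComplexShape.up ℤ)) (SiteCmp.pushKh (idMor φ))
        (resS φ).mapDerivedCategory := ⟨e⟩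
    Functor.isRightDerivedFunctor_of_inverts _ (resS φ).mapDerivedCategory e
  haveI : SiteCmp.HasRpushD (idMor φ) := Functor.HasRightDerivedFunctor.mk' _ e.inv
  let i : SiteCmp.RpushD (idMor φ) ≅ (resS φ).mapDerivedCategory :=
    Functor.rightDerivedUnique _ _ ((SiteCmp.pushKh (idMor φ)).totalRightDerivedUnit DerivedCategory.Qh _) e.inv
      (HomotopyCategory.quasiIso (ModSite.Mod O') (ComplexShape.up ℤ))
  exact (DerCompLocal.triv_of_iso (i.app K)).symm.trans (DerCompPush.triv_push_iff (idMor φ) U f K)

/-- Derived completeness with respect to the extended sheaf of ideals. -/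
theorem isDerComp_iff (I : DerComp.IdealSh O) (I' : DerComp.IdealSh O') (hI' : DerComp.IsIdealExt φ I I')
    (K : DerivedCategory (ModSite.Mod O')) :
    DerComp.IsDerComp O' I' K ↔ DerComp.IsDerComp O I ((resS φ).mapDerivedCategory.obj K) := by
  rw [DerCompCrit.isDerComp_iff, DerCompCrit.isDerComp_iff]
  refine ⟨fun h U f hf => (triv_resS_iff φ U f K).2 (h U _ (hI'.1 U f hf)), fun h U f hf => ?_⟩
  have hle : I' ≤ trivIdeal K := hI'.2 _ fun U f hf V g => by
    have := (triv_resS_iff φ V _ K).1 (h V _ (I.map_mem g hf))
    have hn : (φ.hom.app (op V)).hom ((O.obj.map g.op).hom f) = (O'.obj.map g.op).hom ((φ.hom.app (op U)).hom f) := by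
      rw [← CommRingCat.comp_apply, φ.hom.naturality, CommRingCat.comp_apply]
    rwa [hn] at this
  simpa using hle U hf U (𝟙 U)

end Groth.DAlg.DerCompRestrict
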