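import Groth.Agent.DAlg.SiteTorsion
import Groth.Agent.DAlg.DerCompRestrict
import Groth.Agent.SitesTopoi.Mod.PullMono

/-!
Modules killed by a sheaf of ideals along a map of sheaves of rings inducing an isomorphism modulo the ideals.
-/

universe u

open CategoryTheory CategoryTheory.Limits Opposite

set_option backward.defeqAttrib.useBackward true
set_option backward.isDefEq.respectTransparency false
set_option synthInstance.maxHeartbeats 400000
set_option maxHeartbeats 1000000
set_option linter.style.haveILetI false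

namespace Groth.DAlg.DerCompEquivKilled

open Groth.SitesTopoi.ModH SiteTorsion DerCompRestrict

variable {C : Type u} [SmallCategory C] {J : GrothendieckTopology C} {O O' : Sheaf J CommRingCat.{u}}
  (φ : O ⟶ O')

/-- The map on sections. -/
abbrev sect (U : C) : rsec O U →+* rsec O' U := (φ.hom.app (op U)).hom

lemma sect_rsR {U V : C} (g : V ⟶ U) (r : rsec O U) : sect φ V (rsR g r) = rsR g (sect φ U r) :=
  NatTrans.naturality_apply φ.hom g.op r

/-- A morphism of ringed sites along the identity is flat when the target is a flat module. -/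
lemma isFlat_baseMod (h : ModSite.IsFlat ((resS φ).obj (ModSite.unit O'))) :
    ModSite.IsFlat (idMor φ).baseMod := by
  refine RelTriv.isFlat fun U n r s hrel => ?_
  let f := idMor φ
  have hl : LocFiltered J J f.fn := locFiltered (J := J) (K := J) f.fn
  obtain ⟨S, hS, hS'⟩ := exists_lift_chart hl (show U ⟶ f.fn.obj U from 𝟙 U) (Finset.univ : Finset (Fin n)) r
  refine exists_refine hS fun V g hg => ?_
  obtain ⟨d₁, w, β, z, -, hz⟩ := hS' g hg
  let β' : V ⟶ f.fn.obj d₁ := β
  let x : Fin n → rsec O V := fun j => rsR (show V ⟶ d₁ from β) (z j)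
  have hx : ∀ j, iua f (show V ⟶ f.fn.obj V from 𝟙 V) (x j) = rsR g (r j) := fun j => by
    rw [iua_rsR, ← hz j (Finset.mem_univ j)]
    exact congrArg (fun γ => iua f γ (z j)) (Category.id_comp _)
  have hsh : ∀ (W : C) (y : rsec O W), ish f W (iua f (show W ⟶ f.fn.obj W from 𝟙 W) y) = sect φ W y := fun W y =>
    (ish_iua f _ y).trans (rsR_id (O := O') _)
  have hact : ∀ (W : C) (y : rsec O W) (m : rsec O' W),
      (iua f (show W ⟶ f.fn.obj W from 𝟙 W) y • (show sc f.baseMod.val W from m) : sc f.baseMod.val W) =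
        (sect φ W y * m : rsec O' W) := fun W y m => (smul_baseMod _ _).trans (congrArg (· * m) (hsh W y))
  let σ : Fin n → sc ((resS φ).obj (ModSite.unit O')).val V := fun j => rsR (O := O') g (s j)
  have hrel' : ∑ j, x j • σ j = 0 := by
    have h0 := congrArg (rsm f.baseMod.val g) hrel
    simp only [map_sum, rsm_smul, map_zero] at h0
    refine Eq.trans ?_ h0
    refine Finset.sum_congr rfl fun j _ => ?_
    rw [← hx j]
    exact (hact V (x j) (σ j)).symm
  obtain ⟨T, hT, hT'⟩ := relTriv_of_isFlat h V n x σ hrel'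
  refine ⟨T, hT, fun W k hk => ?_⟩
  obtain ⟨l, t, a, ha, ha'⟩ := hT' k hk
  refine ⟨l, t, fun j q => iua f (show W ⟶ f.fn.obj W from 𝟙 W) (a j q), fun j => ?_, fun q => ?_⟩
  · refine ((rsR_rsR (O := O') g k (s j)).symm.trans (ha j)).trans (Finset.sum_congr rfl fun q _ => ?_)
    exact (hact W (a j q) (t q)).symm
  · have h1 : ∀ j, rsR (k ≫ g) (r j) = iua f (show W ⟶ f.fn.obj W from 𝟙 W) (rsR k (x j)) := fun j => by
      rw [← rsR_rsR, ← hx]
      generalize x j = y
      rw [rsR_iua]
      exact (congrArg (fun γ => iua f γ y) ((Category.comp_id k).trans (Category.id_comp k).symm)).trans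
        (iua_rsR f (show W ⟶ f.fn.obj W from 𝟙 W) k y).symm
    simp only [h1]
    refine (Finset.sum_congr rfl fun j _ => (map_mul _ _ _).symm).trans ?_
    rw [← map_sum, ha' q, map_zero]

/-- The inverse image along the identity is exact. -/
lemma preservesFiniteLimits_pull (h : ModSite.IsFlat ((resS φ).obj (ModSite.unit O'))) :
    PreservesFiniteLimits (idMor φ).pull :=
  preservesFiniteLimits_pull_of_flat (isFlat_baseMod φ h)

/-- The hypotheses on the sheaves of ideals: the map induces an isomorphism modulo the ideals. -/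
structure Hyp (I : DerComp.IdealSh O) (I' : DerComp.IdealSh O') : Prop where
  mem : ∀ (U : C) (f : rsec O U), f ∈ I.ideal U → sect φ U f ∈ I'.ideal U
  min : ∀ K : DerComp.IdealSh O', (∀ (U : C) (f : rsec O U), f ∈ I.ideal U → sect φ U f ∈ K.ideal U) → I' ≤ K
  inj : ∀ (U : C) (f : rsec O U), sect φ U f ∈ I'.ideal U → f ∈ I.ideal U
  surj : ∀ (U : C) (f' : rsec O' U), ∃ S ∈ J U, ∀ ⦃V : C⦄ (g : V ⟶ U), S g →
    ∃ a : rsec O V, rsR g f' - sect φ V a ∈ I'.ideal V

variable {φ} {I : DerComp.IdealSh O} {I' : DerComp.IdealSh O'} (hI : Hyp φ I I') (H : ModSite.Mod O)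
  (hH : Killed I H.val)

include hI hH in
lemma smul_eq_of_sub_mem {U : C} {a b : rsec O U} (h : sect φ U a - sect φ U b ∈ I'.ideal U) (m : sc H.val U) :
    a • m = b • m := by
  rw [← map_sub] at h
  have := hH U _ (hI.inj U _ h) m
  rwa [sub_smul, sub_eq_zero] at this

include hI hH in
lemma exists_act {U : C} (r : rsec O' U) (m : sc H.val U) :
    ∃ x : sc H.val U, ∀ ⦃V : C⦄ (g : V ⟶ U) (a : rsec O V), rsR g r - sect φ V a ∈ I'.ideal V →
      rsm H.val g x = a • rsm H.val g m := by
  obtain ⟨S, hS, hS'⟩ := hI.surj U r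
  choose a ha using hS'
  obtain ⟨x, hx⟩ := glueM H hS (fun V g hg => a g hg • rsm H.val g m) fun V W g hg h => by
    rw [rsm_smul, rsm_rsm]
    refine smul_eq_of_sub_mem hI H hH ?_ _
    have h1 := I'.map_mem h (ha g hg)
    change rsR h _ ∈ _ at h1
    rw [map_sub, rsR_rsR, ← sect_rsR] at h1
    have h2 := sub_mem (ha (h ≫ g) (S.downward_closed hg h)) h1
    rwa [sub_sub_sub_cancel_left] at h2
  refine ⟨x, fun V g b hb => sec_extM H (J.pullback_stable g hS) fun W h hh => ?_⟩
  rw [rsm_rsm, hx _ hh, rsm_smul, rsm_rsm]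
  refine smul_eq_of_sub_mem hI H hH ?_ _
  have h1 := I'.map_mem h hb
  change rsR h _ ∈ _ at h1
  rw [map_sub, rsR_rsR, ← sect_rsR] at h1
  have h2 := sub_mem h1 (ha (h ≫ g) hh)
  rwa [sub_sub_sub_cancel_left] at h2

/-- The action of the target ring on a killed module. -/
noncomputable def act {U : C} (r : rsec O' U) (m : sc H.val U) : sc H.val U := (exists_act hI H hH r m).choose

lemma act_spec {U : C} (r : rsec O' U) (m : sc H.val U) {V : C} (g : V ⟶ U) (a : rsec O V)
    (h : rsR g r - sect φ V a ∈ I'.ideal V) : rsm H.val g (act hI H hH r m) = a • rsm H.val g m :=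
  (exists_act hI H hH r m).choose_spec g a h

include hI in
lemma exists_reps {U : C} (r s : rsec O' U) : ∃ S ∈ J U, ∀ ⦃V : C⦄ (g : V ⟶ U), S g →
    ∃ a b : rsec O V, rsR g r - sect φ V a ∈ I'.ideal V ∧ rsR g s - sect φ V b ∈ I'.ideal V := by
  obtain ⟨S, hS, hS'⟩ := hI.surj U r
  obtain ⟨T, hT, hT'⟩ := hI.surj U s
  refine ⟨S ⊓ T, J.intersection_covering hS hT, fun V g hg => ?_⟩
  obtain ⟨a, ha⟩ := hS' g hg.1
  obtain ⟨b, hb⟩ := hT' g hg.2
  exact ⟨a, b, ha, hb⟩

lemma act_sect {U : C} (a : rsec O U) (m : sc H.val U) : act hI H hH (sect φ U a) m = a • m := by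
  have := act_spec hI H hH (sect φ U a) m (𝟙 U) a (by rw [rsR_id, sub_self]; exact zero_mem _)
  rwa [rsm_id, rsm_id] at this

lemma act_rsm {U V : C} (g : V ⟶ U) (r : rsec O' U) (m : sc H.val U) :
    rsm H.val g (act hI H hH r m) = act hI H hH (rsR g r) (rsm H.val g m) := by
  obtain ⟨S, hS, hS'⟩ := hI.surj V (rsR g r)
  refine sec_extM H hS fun W h hh => ?_
  obtain ⟨a, ha⟩ := hS' h hh
  rw [act_spec hI H hH _ _ h a ha, rsm_rsm, rsm_rsm]
  exact act_spec hI H hH r m (h ≫ g) a (by rwa [← rsR_rsR])

/-- The module structure on sections. -/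
noncomputable abbrev actModule (U : C) : Module (rsec O' U) (sc H.val U) where
  smul r m := act hI H hH r m
  one_smul m := by
    show act hI H hH 1 m = m
    rw [← map_one (sect φ U), act_sect, one_smul]
  mul_smul r s m := by
    show act hI H hH (r * s) m = act hI H hH r (act hI H hH s m)
    obtain ⟨S, hS, hS'⟩ := exists_reps hI r s
    refine sec_extM H hS fun V g hg => ?_
    obtain ⟨a, b, ha, hb⟩ := hS' g hg
    rw [act_spec hI H hH r _ g a ha, act_spec hI H hH s m g b hb,
      act_spec hI H hH (r * s) m g (a * b) ?_, mul_smul]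
    have h1 := add_mem (Ideal.mul_mem_right (rsR g s) _ ha) (Ideal.mul_mem_left _ (sect φ V a) hb)
    rw [map_mul, map_mul]
    convert h1 using 1
    ring
  smul_zero r := by
    show act hI H hH r 0 = 0
    obtain ⟨S, hS, hS'⟩ := hI.surj U r
    refine sec_extM H hS fun V g hg => ?_
    obtain ⟨a, ha⟩ := hS' g hg
    rw [act_spec hI H hH r _ g a ha, map_zero, smul_zero]
  smul_add r m m' := by
    show act hI H hH r (m + m') = act hI H hH r m + act hI H hH r m'
    obtain ⟨S, hS, hS'⟩ := hI.surj U r
    refine sec_extM H hS fun V g hg => ?_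
    obtain ⟨a, ha⟩ := hS' g hg
    rw [map_add, act_spec hI H hH r _ g a ha, act_spec hI H hH r _ g a ha, act_spec hI H hH r _ g a ha, map_add,
      smul_add]
  add_smul r s m := by
    show act hI H hH (r + s) m = act hI H hH r m + act hI H hH s m
    obtain ⟨S, hS, hS'⟩ := exists_reps hI r s
    refine sec_extM H hS fun V g hg => ?_
    obtain ⟨a, b, ha, hb⟩ := hS' g hg
    rw [map_add, act_spec hI H hH r _ g a ha, act_spec hI H hH s m g b hb,
      act_spec hI H hH (r + s) m g (a + b) ?_, add_smul]
    have h1 := add_mem ha hb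
    rwa [map_add, map_add, add_sub_add_comm]
  zero_smul m := by
    show act hI H hH 0 m = 0
    rw [← map_zero (sect φ U), act_sect, zero_smul]

/-- A killed module as a module over the target. -/
noncomputable def liftP : PM O' :=
  letI : ∀ X : Cᵒᵖ, Module ((O'.obj ⋙ forget₂ CommRingCat.{u} RingCat.{u}).obj X) (H.val.presheaf.obj X) :=
    fun X => actModule hI H hH X.unop
  PresheafOfModules.ofPresheaf (R := O'.obj ⋙ forget₂ CommRingCat.{u} RingCat.{u}) H.val.presheaf
    fun {X Y} g r m => act_rsm hI H hH g.unop r m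

/-- A killed module as a sheaf of modules over the target. -/
noncomputable def lift : ModSite.Mod O' := ⟨liftP hI H hH, H.isSheaf⟩

/-- Restriction of the lift gives back the module. -/
noncomputable def resLiftIso : (resS φ).obj (lift hI H hH) ≅ H :=
  let l : ∀ U : C, sc ((resS φ).obj (lift hI H hH)).val U ≃ₗ[rsec O U] sc H.val U := fun U =>
    { toFun := fun m => (show sc H.val U from m)
      invFun := fun m => (show sc H.val U from m)
      map_add' := fun _ _ => rfl
      map_smul' := fun a m => act_sect hI H hH a m }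
  (SheafOfModules.fullyFaithfulForget _).preimageIso
    (PresheafOfModules.isoMk (fun X => (l X.unop).toModuleIso) fun _ _ _ => rfl)

include hI hH in
/-- Linear maps out of killed modules are linear over the target. -/
lemma linear {M : ModSite.Mod O'} (ψ : H ⟶ (resS φ).obj M) {U : C} (r : rsec O' U) (m : sc H.val U) :
    apm ψ.val U (act hI H hH r m) = (r • (show sc M.val U from apm ψ.val U m) : sc M.val U) := by
  let K : DerComp.IdealSh O' :=
    { ideal W :=
        { carrier := {g | ∀ (V : C) (k : V ⟶ W) (y : sc H.val V),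
            (rsR k g • (show sc M.val V from apm ψ.val V y) : sc M.val V) = 0}
          add_mem' := fun {a b} ha hb V k y => by rw [map_add, add_smul, ha V k y, hb V k y, add_zero]
          zero_mem' := fun V k y => by rw [map_zero, zero_smul]
          smul_mem' := fun r g hg V k y => by rw [smul_eq_mul, map_mul, mul_smul, hg V k y, smul_zero] }
      map_mem := fun {U V} g f hf W k y => by
        refine Eq.trans ?_ (hf W (k ≫ g) y)
        exact congrArg (· • _) (rsR_rsR g k f)
      glue := fun {U f} S hS h V k y => by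
        refine sec_extM M (J.pullback_stable k hS) fun W j hj => ?_
        rw [rsm_smul, map_zero, rsR_rsR]
        have := h (j ≫ k) hj W (𝟙 W) (rsm H.val j y)
        rw [rsR_id] at this
        rw [apm_rsm ψ.val] at this
        exact this }
  have hK : I' ≤ K := hI.min K fun W f hf V k y => by
    rw [← sect_rsR]
    refine Eq.trans ((map_smul (apm ψ.val V) (rsR k f) y).symm) ?_
    rw [hH V _ (I.map_mem k hf) y, map_zero]
  obtain ⟨S, hS, hS'⟩ := hI.surj U r
  refine sec_extM M hS fun V g hg => ?_
  obtain ⟨a, ha⟩ := hS' g hg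
  have h0 := hK V ha V (𝟙 V) (rsm H.val g m)
  rw [rsR_id, sub_smul, sub_eq_zero] at h0
  refine Eq.trans ?_ ((rsm_smul M.val g r _).trans
    ((congrArg (fun y : sc M.val V => rsR g r • y) (apm_rsm ψ.val g m).symm).trans h0)).symm
  refine (apm_rsm ψ.val g _).symm.trans ?_
  rw [act_spec hI H hH r m g a ha, map_smul]
  rfl

include hI hH in
/-- The unit of base change is an isomorphism on killed modules. -/
theorem isIso_unit {L : ModSite.Mod O ⥤ ModSite.Mod O'} (a : L ⊣ resS φ) : IsIso (a.unit.app H) := by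
  let e := resLiftIso hI H hH
  let t := (a.homEquiv H (lift hI H hH)).symm e.inv
  have ht : a.unit.app H ≫ (resS φ).map t = e.inv :=
    (a.homEquiv_unit _ _ _).symm.trans (Equiv.apply_symm_apply _ _)
  haveI : IsIso t := by
    rw [isIso_iff_coyoneda_map_bijective]
    intro M
    have key : (fun ψ : lift hI H hH ⟶ M => t ≫ ψ) =
        (a.homEquiv H M).symm ∘ fun ψ => e.inv ≫ (resS φ).map ψ := by
      funext ψ
      exact (a.homEquiv_naturality_right_symm _ _).symm
    rw [key]
    refine (Equiv.bijective _).comp ⟨fun ψ ψ' h => ?_, fun θ => ?_⟩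
    · exact mod_hom_ext fun U m => congrArg (fun p : (resS φ).obj (lift hI H hH) ⟶ (resS φ).obj M => apm p.val U m) ((cancel_epi e.inv).1 h)
    · letI : ∀ X : Cᵒᵖ, Module ((O'.obj ⋙ forget₂ CommRingCat.{u} RingCat.{u}).obj X) (H.val.presheaf.obj X) :=
        fun X => actModule hI H hH X.unop
      refine ⟨⟨PresheafOfModules.homMk (M₁ := (lift hI H hH).val) (M₂ := M.val) ((PresheafOfModules.toPresheaf (ModSite.ringSh O).obj).map θ.val)
        fun X r m => linear hI H hH θ (U := X.unop) r m⟩, ?_⟩
      exact mod_hom_ext fun U m => rfl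
  exact IsIso.of_isIso_fac_right ht

end Groth.DAlg.DerCompEquivKilled
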