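import Groth.Agent.SitesTopoi.Mod.Restrict
import Groth.Agent.SitesTopoi.Mod.TensorExact
import Groth.Prelude.Def_ModSite2

/-!
Restriction to an object of a site has a right adjoint and is exact.
-/

universe u

open CategoryTheory CategoryTheory.Limits Opposite

set_option backward.defeqAttrib.useBackward true
set_option backward.isDefEq.respectTransparency false
set_option synthInstance.maxHeartbeats 400000
set_option maxHeartbeats 1000000
set_option linter.style.haveILetI false

namespace Groth.SitesTopoi.ModH

variable {C : Type u} [SmallCategory C] {J : GrothendieckTopology C} (O : Sheaf J CommRingCat.{u}) (U : C)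

instance preservesColimits_resP : PreservesColimitsOfSize.{u, u} (resP (O := O) U) where
  preservesColimitsOfShape {K} _ := by
    haveI : (PresheafOfModules.toPresheaf.{u} ((O.over U).obj ⋙ forget₂ CommRingCat.{u} RingCat.{u})).ReflectsIsomorphisms :=
      inferInstance
    haveI : ReflectsColimitsOfShape K
        (PresheafOfModules.toPresheaf.{u} ((O.over U).obj ⋙ forget₂ CommRingCat.{u} RingCat.{u})) :=
      reflectsColimitsOfShape_of_reflectsIsomorphisms
    haveI : PreservesColimitsOfShape K
        (resP (O := O) U ⋙ PresheafOfModules.toPresheaf.{u} ((O.over U).obj ⋙ forget₂ CommRingCat.{u} RingCat.{u})) :=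
      preservesColimitsOfShape_of_natIso
        (F := PresheafOfModules.toPresheaf.{u} (O.obj ⋙ forget₂ CommRingCat.{u} RingCat.{u}) ⋙
          (Functor.whiskeringLeft _ _ AddCommGrpCat.{u}).obj (Over.forget U).op)
        (NatIso.ofComponents fun M => NatIso.ofComponents fun W => Iso.refl _)
    exact preservesColimitsOfShape_of_reflects_of_preserves (resP (O := O) U)
      (PresheafOfModules.toPresheaf.{u} ((O.over U).obj ⋙ forget₂ CommRingCat.{u} RingCat.{u}))

instance preservesColimits_restr : PreservesColimitsOfSize.{u, u} (ModSite.restr O U) where
  preservesColimitsOfShape {K} _ := by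
    haveI : (aP (O.over U)).IsLeftAdjoint := (adjP (O.over U)).isLeftAdjoint
    haveI : PreservesColimitsOfShape K (resP (O := O) U ⋙ aP (O.over U)) := comp_preservesColimitsOfShape _ _
    haveI : PreservesColimitsOfShape K (aP O ⋙ ModSite.restr O U) :=
      preservesColimitsOfShape_of_natIso (resAPNatIso U)
    exact preservesColimitsOfShape_of_reflective (adjP O) _

instance preservesFiniteColimits_restr : PreservesFiniteColimits (ModSite.restr O U) :=
  PreservesColimitsOfSize.preservesFiniteColimits.{u, u} _

instance preservesFiniteLimits_restr : PreservesFiniteLimits (ModSite.restr O U) :=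
  haveI := (ModSite.extZeroAdj O U).rightAdjoint_preservesLimits
  ⟨fun _ _ _ => inferInstance⟩

/-- Restriction to an object has a right adjoint on every site. -/
lemma hasPushOver : ModSite.HasPushOver O U :=
  have : WellPowered.{u} (ModSite.Mod O)ᵒᵖ :=
    @CategoryTheory.Abelian.wellPowered_opposite _ _ _ inferInstance (IsGrothendieckAbelian.wellPowered (ModSite.Mod O))
  isLeftAdjoint_of_preservesColimits_of_isSeparating
    ((isSeparator_separator (ModSite.Mod O)) : _) _

end Groth.SitesTopoi.ModH
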