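import Groth.Agent.DAlg.DerCompEquivKilled
import Groth.Agent.DAlg.RestrPushOver

/-!
Base change along a map of sheaves of rings commutes with restriction to an object.
-/

universe u

open CategoryTheory CategoryTheory.Limits Opposite

set_option backward.defeqAttrib.useBackward true
set_option backward.isDefEq.respectTransparency false
set_option synthInstance.maxHeartbeats 400000
set_option maxHeartbeats 1000000
set_option linter.style.haveILetI false

namespace Groth.DAlg.DerCompEquivOver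

open Groth.SitesTopoi.ModH DerCompRestrict DerCompEquivKilled

section Vec

variable {C D : Type u} [SmallCategory C] [SmallCategory D] {J : GrothendieckTopology C}
  {K : GrothendieckTopology D} {O_C : Sheaf J CommRingCat.{u}} {O_D : Sheaf K CommRingCat.{u}}
  (f : ModSite.RMor O_C O_D) (M : ModSite.Mod O_D)

/-- The section of the inverse image of a vector over an object. -/
noncomputable def vv {c : C} {d : D} (β : c ⟶ f.fn.obj d) (v : Vec (O_C := O_C) M d c) : sc (f.pull.obj M).val c :=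
  apm (toPull f M).val c (apm (etaP (Qp f M)) c (vecTo f M β v))

lemma vv_eq {c : C} {d : D} (β : c ⟶ f.fn.obj d) (v : Vec (O_C := O_C) M d c) :
    vv f M β v = v.sum fun x a => a • rsm (f.pull.obj M).val β (thetaD f M d x) :=
  toPull_vecTo f M β v

lemma rsm_vv {c c' : C} {d d' : D} (w : d' ⟶ d) (h : c' ⟶ c) (β : c ⟶ f.fn.obj d) (β' : c' ⟶ f.fn.obj d')
    (e : β' ≫ f.fn.map w = h ≫ β) (v : Vec (O_C := O_C) M d c) :
    vv f M β' (vpush M w h v) = rsm (f.pull.obj M).val h (vv f M β v) := by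
  rw [vv, vecTo_vpush f M w h β β' e, apm_rsm, apm_rsm]
  rfl

lemma vv_eq_zero_of_rel {c : C} {d : D} (β : c ⟶ f.fn.obj d) {v : Vec (O_C := O_C) M d c}
    (hv : v ∈ rel₀ f M β) : vv f M β v = 0 := by
  suffices vecTo f M β v = 0 by rw [vv, this, map_zero, map_zero]
  induction hv using Submodule.span_induction with
  | zero => exact map_zero _
  | add a b _ _ ha hb => rw [map_add, ha, hb, add_zero]
  | smul r a _ ha => rw [map_smul, ha, smul_zero]
  | mem v hv =>
    obtain ⟨r, hr, rfl⟩ := hv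
    rw [vecTo, Finsupp.linearCombination_apply]
    exact ((Finsupp.sum_mapRange_index (h := fun x a => a • ge f M β x) fun _ => zero_smul _ _).trans
      (ge_sum f M β r).symm).trans ((congrArg (ge f M β) (LinearMap.mem_ker.1 hr)).trans (ge_zero f M β))

lemma exists_vv (c : C) (z : sc (f.pull.obj M).val c) : ∃ S ∈ J c, ∀ ⦃c' : C⦄ (h : c' ⟶ c), S h →
    ∃ (d : D) (β : c' ⟶ f.fn.obj d) (v : Vec (O_C := O_C) M d c'), rsm (f.pull.obj M).val h z = vv f M β v := by
  have hl : LocFiltered J K f.fn := locFiltered (J := J) (K := K) f.fn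
  obtain ⟨S, hS, h'⟩ := locSurj_etaP (Qp f M) c (apm (fromPull f M).val c z)
  refine exists_refine hS fun c₁ g hg => ?_
  obtain ⟨q, hq⟩ := h' g hg
  obtain ⟨T, hT, hT'⟩ := exists_repr (f := f) (M := M) hl fun _ : Fin 1 => q
  refine ⟨T, hT, fun c₂ k hk => ?_⟩
  obtain ⟨d, β, v, hv⟩ := hT' k hk
  refine ⟨d, β, v 0, ?_⟩
  rw [vv, ← hv 0, apm_rsm (etaP (Qp f M)), hq]
  refine (congrArg (fun ψ => apm (SheafOfModules.Hom.val ψ) c₂ (rsm (f.pull.obj M).val (k ≫ g) z))
    (pullIso f M).hom_inv_id).symm.trans (congrArg (apm (toPull f M).val c₂) ?_)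
  exact (apm_rsm (fromPull f M).val (k ≫ g) z).trans (rsm_rsm _ g k _).symm

lemma exists_rel_of_vv_eq_zero {c : C} {d : D} (β : c ⟶ f.fn.obj d) (v : Vec (O_C := O_C) M d c)
    (hv : vv f M β v = 0) : ∃ S ∈ J c, ∀ ⦃c' : C⦄ (h : c' ⟶ c), S h →
      ∃ (d₁ : D) (w : d₁ ⟶ d) (β₁ : c' ⟶ f.fn.obj d₁), β₁ ≫ f.fn.map w = h ≫ β ∧ vpush M w h v ∈ rel₀ f M β₁ := by
  have hl : LocFiltered J K f.fn := locFiltered (J := J) (K := K) f.fn
  have h0 : apm (etaP (Qp f M)) c (vecTo f M β v) = 0 :=
    injective_of_mono (pullIso f M).inv c (hv.trans (map_zero _).symm)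
  obtain ⟨U, hU, hU'⟩ := locInj_etaP (Qp f M) c _ h0
  refine exists_refine hU fun c₁ l hl' => ?_
  have h1 : vecTo f M (l ≫ β) (vpush M (𝟙 d) l v) = 0 := by
    rw [vecTo_vpush f M (𝟙 d) l β (l ≫ β) (by simp), hU' l hl']
  obtain ⟨V, hV, hV'⟩ := exists_rel₀ hl (l ≫ β) _ h1
  refine ⟨V, hV, fun c₂ m hm => ?_⟩
  obtain ⟨d₁, w, β₁, hw, hmem⟩ := hV' m hm
  rw [vpush_vpush, Category.comp_id] at hmem
  exact ⟨d₁, w, β₁, by rw [hw, Category.assoc], hmem⟩

end Vec

variable {C : Type u} [SmallCategory C] {J : GrothendieckTopology C} {O O' : Sheaf J CommRingCat.{u}}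
  (φ : O ⟶ O') (V : C)

/-- The map of sheaves of rings over an object. -/
noncomputable abbrev phiOver : O.over V ⟶ O'.over V := (J.overPullback CommRingCat.{u} V).map φ

/-- The comparison of base change with restriction. -/
noncomputable def cmap (M : ModSite.Mod O) :
    (idMor (phiOver φ V)).pull.obj ((ModSite.restr O V).obj M) ⟶ (ModSite.restr O' V).obj ((idMor φ).pull.obj M) :=
  ((idMor (phiOver φ V)).adj.homEquiv _ _).symm ((ModSite.restr O V).map ((idMor φ).adj.unit.app M))

lemma unit_cmap (M : ModSite.Mod O) :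
    (idMor (phiOver φ V)).adj.unit.app ((ModSite.restr O V).obj M) ≫ (idMor (phiOver φ V)).push.map (cmap φ V M) =
      (ModSite.restr O V).map ((idMor φ).adj.unit.app M) :=
  ((idMor (phiOver φ V)).adj.homEquiv_unit _ _ _).symm.trans (Equiv.apply_symm_apply _ _)

lemma cmap_vv (M : ModSite.Mod O) {W d : Over V} (β : W ⟶ d)
    (v : Vec (O_C := O'.over V) ((ModSite.restr O V).obj M) d W) :
    (show sc ((idMor φ).pull.obj M).val W.left from
      apm (cmap φ V M).val W (vv (idMor (phiOver φ V)) ((ModSite.restr O V).obj M) β v)) =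
      vv (idMor φ) M (show W.left ⟶ (idMor φ).fn.obj d.left from β.left)
        (show Vec (O_C := O') M d.left W.left from v) := by
  rw [vv_eq, vv_eq]
  simp only [Finsupp.sum, map_sum, map_smul]
  refine Finset.sum_congr rfl fun x _ => congrArg _ ?_
  refine (apm_rsm (cmap φ V M).val β _).trans (congrArg (rsm _ β) ?_)
  exact congrArg (fun p => apm (SheafOfModules.Hom.val p) d x) (unit_cmap φ V M)

/-- Base change commutes with restriction to an object. -/
theorem isIso_cmap (M : ModSite.Mod O) : IsIso (cmap φ V M) := by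
  let fV := idMor (phiOver φ V)
  let MV := (ModSite.restr O V).obj M
  haveI : Mono (cmap φ V M) := mono_of_injective _ fun W => (injective_iff_map_eq_zero _).2 fun z hz => by
    obtain ⟨S, hS, hS'⟩ := exists_vv fV MV W z
    refine sec_extM _ hS fun W' h hh => ?_
    obtain ⟨d, β, v, hv⟩ := hS' h hh
    rw [map_zero, hv]
    have h0 : apm (cmap φ V M).val W' (vv fV MV β v) = 0 := by rw [← hv, apm_rsm, hz, map_zero]
    have h1 := cmap_vv φ V M (show W' ⟶ d from β) v
    obtain ⟨T, hT, hT'⟩ := exists_rel_of_vv_eq_zero (idMor φ) M _ _ (h1.symm.trans h0)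
    refine sec_extM _ (show (Sieve.overEquiv W').symm T ∈ (J.over V) W' from
      (GrothendieckTopology.mem_over_iff J _).2 (by simpa using hT)) fun W'' k hk => ?_
    obtain ⟨d₁, w, β₁, hw, hmem⟩ := hT' k.left ((Sieve.overEquiv_symm_iff T k).1 hk)
    let β₁' : W''.left ⟶ d₁ := β₁
    have hw' : β₁' ≫ w = k.left ≫ (show W'.left ⟶ d.left from (show W' ⟶ d from β).left) := hw
    let d' : Over V := Over.mk (w ≫ d.hom)
    let w' : d' ⟶ d := Over.homMk w rfl
    let b : W'' ⟶ d' := Over.homMk β₁' (by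
      show β₁' ≫ w ≫ d.hom = W''.hom
      rw [reassoc_of% hw', Over.w, Over.w])
    rw [map_zero, ← rsm_vv fV MV w' k β b (Over.OverMorphism.ext hw') v]
    exact vv_eq_zero_of_rel fV MV _ hmem
  haveI : Epi (cmap φ V M) := by
    refine ⟨fun {N} a b e => mod_hom_ext fun W z => ?_⟩
    obtain ⟨S, hS, hS'⟩ := exists_vv (idMor φ) M W.left z
    refine sec_extM N (show (Sieve.overEquiv W).symm S ∈ (J.over V) W from
      (GrothendieckTopology.mem_over_iff J _).2 (by simpa using hS)) fun W' k hk => ?_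
    suffices h : ∃ y, apm (cmap φ V M).val W' y = rsm ((ModSite.restr O' V).obj ((idMor φ).pull.obj M)).val k z by
      obtain ⟨y, hy⟩ := h
      rw [← apm_rsm, ← apm_rsm, ← hy]
      exact congrArg (fun p => apm (SheafOfModules.Hom.val p) W' y) e
    obtain ⟨d, β, v, hv⟩ := hS' k.left ((Sieve.overEquiv_symm_iff S k).1 hk)
    let β' : W'.left ⟶ d := β
    let v' : Vec (O_C := O') M W'.left W'.left := vpush M β' (𝟙 _) v
    refine ⟨vv fV MV (show W' ⟶ fV.fn.obj W' from 𝟙 W') v', (cmap_vv φ V M (𝟙 W') v').trans ?_⟩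
    refine (rsm_vv (idMor φ) M β' (𝟙 _) β (show W'.left ⟶ (idMor φ).fn.obj W'.left from 𝟙 _)
      ((Category.id_comp _).trans (Category.id_comp _).symm) v).trans ?_
    rw [rsm_id]
    exact hv.symm
  exact isIso_of_mono_of_epi _

end Groth.DAlg.DerCompEquivOver
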