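import Groth.Agent.DAlg.TelescopeHom
import Mathlib.GroupTheory.QuotientGroup.Basic

/-!
The elements acting with trivial towers are closed under addition.
-/

namespace Groth.DAlg.TelescopeHom

variable {A P : Type*} [AddCommGroup A] [AddCommGroup P]

/-- An endomorphism restricted to the kernel of a commuting one. -/
def onKer (D F : P →+ P) (h : ∀ x, D (F x) = F (D x)) : D.ker →+ D.ker :=
  (F.comp D.ker.subtype).codRestrict _ fun x => by
    rw [AddMonoidHom.mem_ker]
    show D (F x.1) = 0
    rw [h, AddMonoidHom.mem_ker.1 x.2, map_zero]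

@[simp] lemma onKer_val (D F : P →+ P) (h : ∀ x, D (F x) = F (D x)) (x : D.ker) :
    (onKer D F h x).1 = F x.1 := rfl

/-- An endomorphism induced on the cokernel of a commuting one. -/
def onCoker (D F : P →+ P) (h : ∀ x, D (F x) = F (D x)) : P ⧸ D.range →+ P ⧸ D.range :=
  QuotientAddGroup.map _ _ F (by rintro _ ⟨y, rfl⟩; exact ⟨F y, h y⟩)

lemma onCoker_mk (D F : P →+ P) (h : ∀ x, D (F x) = F (D x)) (x : P) :
    onCoker D F h (x : P ⧸ D.range) = (F x : P ⧸ D.range) := rfl

lemma TBij.onKer {D F : P →+ P} (h : ∀ x, D (F x) = F (D x)) (hF : TBij F) : TBij (TelescopeHom.onKer D F h) := by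
  constructor
  · intro x y hxy
    funext i
    exact Subtype.ext (congrFun (hF.1 (funext fun j => congrArg Subtype.val (congrFun hxy j) :
      (fun i => (x i).1 - F (x (i + 1)).1) = fun i => (y i).1 - F (y (i + 1)).1)) i)
  · intro b
    obtain ⟨z, hz⟩ := hF.2 fun i => (b i).1
    have h0 := hF.eq_zero (x := fun i => D (z i)) fun i => by
      rw [← h, ← sub_eq_zero, ← map_sub, ← AddMonoidHom.mem_ker]
      rw [show z i - F (z (i + 1)) = (b i).1 from congrFun hz i]
      exact (b i).2
    exact ⟨fun i => ⟨z i, congrFun h0 i⟩, funext fun i => Subtype.ext (congrFun hz i)⟩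

lemma TBij.onCoker {D F : P →+ P} (h : ∀ x, D (F x) = F (D x)) (hF : TBij F) :
    TBij (TelescopeHom.onCoker D F h) := by
  constructor
  · intro x y hxy
    funext i
    obtain ⟨z, hz⟩ : ∃ z : ℕ → P, ∀ i, x i - y i = (z i : P ⧸ D.range) := by
      choose z hz using fun i => QuotientAddGroup.mk_surjective (x i - y i)
      exact ⟨z, fun i => (hz i).symm⟩
    have hz' : ∀ i, z i - F (z (i + 1)) ∈ D.range := fun i => by
      rw [← QuotientAddGroup.eq_zero_iff]
      show (z i : P ⧸ D.range) - TelescopeHom.onCoker D F h (z (i + 1) : P ⧸ D.range) = 0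
      rw [← hz, ← hz, map_sub]
      have := congrFun hxy i
      simp only at this
      rw [sub_sub_sub_comm, this, sub_self]
    choose w hw using hz'
    obtain ⟨v, hv⟩ := hF.2 w
    have h0 := hF.eq_zero (x := fun i => z i - D (v i)) fun i => by
      have := hw i
      rw [← congrFun hv i, map_sub, h] at this
      rw [map_sub, sub_eq_iff_eq_add, sub_add_comm, ← sub_eq_iff_eq_add]
      exact this.symm
    rw [← sub_eq_zero, hz, QuotientAddGroup.eq_zero_iff]
    exact ⟨v i, (sub_eq_zero.1 (congrFun h0 i)).symm⟩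
  · intro b
    choose c hc using fun i => QuotientAddGroup.mk_surjective (b i)
    obtain ⟨z, hz⟩ := hF.2 c
    refine ⟨fun i => (z i : P ⧸ D.range), funext fun i => ?_⟩
    rw [← hc i, ← congrFun hz i]
    rfl

/-- Pointwise action. -/
def ptw (f : A →+ A) : (ℕ → A) →+ ℕ → A := AddMonoidHom.compLeft f ℕ

lemma TBij.ptw {f : A →+ A} (hf : TBij f) : TBij (TelescopeHom.ptw f) := by
  constructor
  · intro x y hxy
    funext i j
    exact congrFun (hf.1 (funext fun k => congrFun (congrFun hxy k) j :
      (fun k => x k j - f (x (k + 1) j)) = fun k => y k j - f (y (k + 1) j))) i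
  · intro b
    choose z hz using fun j => hf.2 fun k => b k j
    exact ⟨fun k j => z j k, funext fun k => funext fun j => congrFun (hz j) k⟩

/-- Sums of elements with trivial towers have trivial towers. -/
theorem TBij.add {f g : A →+ A} (hc : ∀ a, f (g a) = g (f a)) (hf : TBij f) (hg : TBij g) : TBij (f + g) := by
  let σ : (ℕ → A) →+ ℕ → A :=
    { toFun := fun x i => x (i + 1)
      map_zero' := rfl
      map_add' := fun _ _ => rfl }
  let D : (ℕ → A) →+ ℕ → A := AddMonoidHom.id _ - (TelescopeHom.ptw (f + g)).comp σ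
  have hDf : ∀ x, D (TelescopeHom.ptw f x) = TelescopeHom.ptw f (D x) := fun x => funext fun i => by
    show f (x i) - (f (f (x (i + 1))) + g (f (x (i + 1)))) = f (x i - (f (x (i + 1)) + g (x (i + 1))))
    rw [map_sub, map_add, hc]
  have hDg : ∀ x, D (TelescopeHom.ptw g x) = TelescopeHom.ptw g (D x) := fun x => funext fun i => by
    show g (x i) - (f (g (x (i + 1))) + g (g (x (i + 1)))) = g (x i - (f (x (i + 1)) + g (x (i + 1))))
    rw [map_sub, map_add, hc]
  have hDσ : ∀ x, D (σ x) = σ (D x) := fun _ => rfl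
  have h1 : ∀ x : D.ker, x = 0 := fun x => by
    refine eq_zero_of_add_eq_one
      (u := (TelescopeHom.onKer D σ hDσ).comp (TelescopeHom.onKer D _ hDf))
      (v := (TelescopeHom.onKer D σ hDσ).comp (TelescopeHom.onKer D _ hDg)) (fun y => ?_)
      ((hf.ptw.onKer hDf).of_commute fun y => Subtype.ext rfl)
      ((hg.ptw.onKer hDg).of_commute fun y => Subtype.ext rfl) x
    exact Subtype.ext (funext fun i => (sub_eq_zero.1 (congrFun (AddMonoidHom.mem_ker.1 y.2) i)).symm)
  have h2 : ∀ x : (ℕ → A) ⧸ D.range, x = 0 := fun x => by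
    refine eq_zero_of_add_eq_one
      (u := (TelescopeHom.onCoker D σ hDσ).comp (TelescopeHom.onCoker D _ hDf))
      (v := (TelescopeHom.onCoker D σ hDσ).comp (TelescopeHom.onCoker D _ hDg)) (fun y => ?_)
      ((hf.ptw.onCoker hDf).of_commute fun y => ?_) ((hg.ptw.onCoker hDg).of_commute fun y => ?_) x
    · obtain ⟨y, rfl⟩ := QuotientAddGroup.mk_surjective y
      show ((σ (TelescopeHom.ptw f y) + σ (TelescopeHom.ptw g y) : ℕ → A) : _ ⧸ D.range) = y
      rw [QuotientAddGroup.eq]
      refine ⟨y, ?_⟩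
      rw [neg_add_eq_sub]
      rfl
    · obtain ⟨y, rfl⟩ := QuotientAddGroup.mk_surjective y
      rfl
    · obtain ⟨y, rfl⟩ := QuotientAddGroup.mk_surjective y
      rfl
  refine ⟨(injective_iff_map_eq_zero D).2 fun a ha => congrArg Subtype.val (h1 ⟨a, ha⟩), fun b => ?_⟩
  exact (QuotientAddGroup.eq_zero_iff b).1 (h2 b)

end Groth.DAlg.TelescopeHom
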