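import Groth.Agent.DAlg.DerCompLocal
import Groth.Agent.DAlg.TowerAdd

/-!
The sheaf of ideals of sections with trivial towers.
-/

universe u

open CategoryTheory CategoryTheory.Limits Opposite

attribute [local instance] HasDerivedCategory.standard

set_option backward.defeqAttrib.useBackward true
set_option backward.isDefEq.respectTransparency false
set_option synthInstance.maxHeartbeats 400000
set_option maxHeartbeats 1000000

namespace Groth.DAlg.DerCompIdeal

open TelescopeHom DerCompCrit

variable {C : Type u} [SmallCategory C] {J : GrothendieckTopology C} {O : Sheaf J CommRingCat.{u}}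

lemma eU_add (U : C) (f g : O.obj.obj (op U)) : eU U (f + g) = eU U f + eU U g := by
  have h : DerComp.GSec.ofSect O U (f + g) = DerComp.GSec.ofSect O U f + DerComp.GSec.ofSect O U g :=
    Subtype.ext (funext fun V => map_add (O.obj.map V.hom.op).hom f g)
  simp only [eU, h, DerComp.smulEnd_add, Functor.map_add]

lemma eU_zero (U : C) : eU U (0 : O.obj.obj (op U)) = 0 := by
  have h : DerComp.GSec.ofSect O U 0 = 0 :=
    Subtype.ext (funext fun V => map_zero (O.obj.map V.hom.op).hom)
  simp only [eU, h, DerComp.smulEnd_zero, Functor.map_zero]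

lemma eU_mul (U : C) (f g : O.obj.obj (op U)) : eU U (f * g) = eU U f ≫ eU U g := by
  have h : DerComp.GSec.ofSect O U (f * g) = DerComp.GSec.ofSect O U f * DerComp.GSec.ofSect O U g :=
    Subtype.ext (funext fun V => map_mul (O.obj.map V.hom.op).hom f g)
  simp only [eU, h, ← DerComp.smulEnd_comp, Functor.map_comp]

lemma pre_comm (U : C) (f g : O.obj.obj (op U)) (m : ℤ) (K : DerivedCategory (ModSite.Mod O))
    (x : (DerivedCategory.singleFunctor (ModSite.Mod O) m).obj (ModSite.freeOn O U) ⟶ K) :
    pre (eU U f) m K (pre (eU U g) m K x) = pre (eU U g) m K (pre (eU U f) m K x) := by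
  show (DerivedCategory.singleFunctor _ m).map (eU U f) ≫ (DerivedCategory.singleFunctor _ m).map (eU U g) ≫ x =
    (DerivedCategory.singleFunctor _ m).map (eU U g) ≫ (DerivedCategory.singleFunctor _ m).map (eU U f) ≫ x
  rw [← Functor.map_comp_assoc, ← Functor.map_comp_assoc, ← eU_mul, ← eU_mul, mul_comm f g]

lemma triv_zero (U : C) (K : DerivedCategory (ModSite.Mod O)) : Triv U (0 : O.obj.obj (op U)) K := fun m => by
  have : pre (eU U (0 : O.obj.obj (op U))) m K = 0 := AddMonoidHom.ext fun x => by
    show (DerivedCategory.singleFunctor _ m).map _ ≫ x = 0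
    rw [eU_zero, Functor.map_zero, Limits.zero_comp]
  rw [this]
  exact tBij_zero

lemma Triv.add {U : C} {f g : O.obj.obj (op U)} {K : DerivedCategory (ModSite.Mod O)} (hf : Triv U f K)
    (hg : Triv U g K) : Triv U (f + g) K := fun m => by
  have : pre (eU U (f + g)) m K = pre (eU U f) m K + pre (eU U g) m K := AddMonoidHom.ext fun x => by
    show (DerivedCategory.singleFunctor (ModSite.Mod O) m).map (eU U (f + g)) ≫ x =
      (DerivedCategory.singleFunctor (ModSite.Mod O) m).map (eU U f) ≫ x +
        (DerivedCategory.singleFunctor (ModSite.Mod O) m).map (eU U g) ≫ x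
    rw [eU_add, Functor.map_add, Preadditive.add_comp]
  rw [this]
  exact (hf m).add (pre_comm U f g m K) (hg m)

lemma Triv.mul_left {U : C} (r : O.obj.obj (op U)) {f : O.obj.obj (op U)} {K : DerivedCategory (ModSite.Mod O)}
    (hf : Triv U f K) : Triv U (r * f) K := fun m => by
  have : pre (eU U (r * f)) m K = (pre (eU U r) m K).comp (pre (eU U f) m K) := AddMonoidHom.ext fun x => by
    show (DerivedCategory.singleFunctor (ModSite.Mod O) m).map (eU U (r * f)) ≫ x =
      (DerivedCategory.singleFunctor (ModSite.Mod O) m).map (eU U r) ≫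
        (DerivedCategory.singleFunctor (ModSite.Mod O) m).map (eU U f) ≫ x
    rw [eU_mul, Functor.map_comp, Category.assoc]
  rw [this]
  exact (hf m).of_commute (pre_comm U r f m K)

/-- The sections all of whose restrictions have trivial towers on `K`. -/
def trivIdeal (K : DerivedCategory (ModSite.Mod O)) : DerComp.IdealSh O where
  ideal U :=
    { carrier := {f | ∀ (V : C) (g : V ⟶ U), Triv V ((O.obj.map g.op).hom f) K}
      add_mem' := fun {a b} ha hb V g => by
        rw [map_add]
        exact Triv.add (ha V g) (hb V g)
      zero_mem' := fun V g => by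
        rw [map_zero]
        exact triv_zero V K
      smul_mem' := fun r f hf V g => by
        rw [smul_eq_mul, map_mul]
        exact Triv.mul_left _ (hf V g) }
  map_mem {U V} g f hf W h := by
    rw [← CommRingCat.comp_apply, ← Functor.map_comp, ← op_comp]
    exact hf W (h ≫ g)
  glue {U f} S hS h V g := DerCompLocal.triv_of_locally (S.pullback g) (J.pullback_stable g hS) fun W k hk => by
    have := h (k ≫ g) hk W (𝟙 W)
    simp only [op_id, CategoryTheory.Functor.map_id, CommRingCat.id_apply] at this
    rw [← CommRingCat.comp_apply, ← Functor.map_comp, ← op_comp]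
    exact this

lemma mem_trivIdeal {K : DerivedCategory (ModSite.Mod O)} {U : C} {f : O.obj.obj (op U)} :
    f ∈ (trivIdeal K).ideal U ↔ ∀ (V : C) (g : V ⟶ U), Triv V ((O.obj.map g.op).hom f) K := Iff.rfl

/-- `K` is derived complete iff the ideal is contained in the trivial one. -/
lemma isDerComp_iff_le (I : DerComp.IdealSh O) (K : DerivedCategory (ModSite.Mod O)) :
    DerComp.IsDerComp O I K ↔ I ≤ trivIdeal K := by
  rw [isDerComp_iff]
  refine ⟨fun h U f hf V g => h V _ (I.map_mem g hf), fun h U f hf => ?_⟩
  have := h U hf U (𝟙 U)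
  simpa using this

end Groth.DAlg.DerCompIdeal
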