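import Groth.Agent.DAlg.DerCompCrit
import Groth.Agent.DAlg.DerCompPush
import Groth.Agent.SitesTopoi.Mod.TensorExact

/-!
Tensoring with the free module on an object is extension by zero of the restriction, naturally.
-/

universe u

open CategoryTheory CategoryTheory.Limits Opposite MonoidalCategory

attribute [local instance] HasDerivedCategory.standard

set_option backward.defeqAttrib.useBackward true
set_option backward.isDefEq.respectTransparency false
set_option synthInstance.maxHeartbeats 400000
set_option maxHeartbeats 1000000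

namespace Groth.DAlg.TensorFreeNat

open Groth.SitesTopoi.ModH Groth.Misc4.FreeOn DerCompCrit

variable {C : Type u} [SmallCategory C] {J : GrothendieckTopology C} {O : Sheaf J CommRingCat.{u}}
  (U : C) (f : O.obj.obj (op U))

/-- Multiplication by a section on the free presheaf. -/
noncomputable def mulYon : freeYon O U ⟶ freeYon O U :=
  ((PresheafOfModules.freeAdjunction _).homEquiv _ _).symm
    (yonedaEquiv.symm (show sc (freeYon O U) U from (f : rsec O U) • gen (O := O) (𝟙 U)))

lemma apm_mulYon {V : C} (g : V ⟶ U) :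
    apm (mulYon U f) V (gen g) = rsR g (f : rsec O U) • gen (O := O) g := by
  have h : apm (mulYon U f) U (gen (𝟙 U)) = (f : rsec O U) • gen (O := O) (𝟙 U) := by
    change yonedaEquiv ((PresheafOfModules.freeAdjunction _).homEquiv _ _ (mulYon U f)) = _
    rw [mulYon, Equiv.apply_symm_apply, Equiv.apply_symm_apply]
  have h' : rsm (freeYon O U) g (gen (𝟙 U)) = gen g := by rw [rsm_gen, Category.comp_id]
  rw [← h', apm_rsm, h, rsm_smul]

lemma homEquivYon_apply (M : ModSite.Mod O) (φ : (aP O).obj (freeYon O U) ⟶ M) :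
    homEquivYon U M φ = apm ((adjP O).homEquiv _ _ φ) U (gen (𝟙 U)) := rfl

lemma homEquivYon_mulYon (M : ModSite.Mod O) (φ : (aP O).obj (freeYon O U) ⟶ M) :
    homEquivYon U M ((aP O).map (mulYon U f) ≫ φ) = (f : rsec O U) • homEquivYon U M φ := by
  rw [homEquivYon_apply, homEquivYon_apply, Adjunction.homEquiv_naturality_left, apm_comp, apm_mulYon, rsR_id,
    map_smul]

lemma exists_iso_yon : ∃ i : ModSite.freeOn O U ≅ (aP O).obj (freeYon O U),
    eU U f ≫ i.hom = i.hom ≫ (aP O).map (mulYon U f) :=
  DerCompPush.exists_iso_comm (fun M : ModSite.Mod O => sc M.val U)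
    (fun {M N : ModSite.Mod O} (p : M ⟶ N) => apm (SheafOfModules.Hom.val p) U)
    (fun M x => (f : rsec O U) • x)
    (homEquiv U) (homEquivYon U) (fun p φ => homEquiv_comp U φ p) (fun p φ => homEquivYon_comp U φ p) _ _
    (fun M φ => homEquiv_eU U f M φ) fun M φ => homEquivYon_mulYon U f M φ

/-- The chosen comparison with the free presheaf. -/
noncomputable def ι : ModSite.freeOn O U ≅ (aP O).obj (freeYon O U) := (exists_iso_yon U f).choose

lemma eU_ι : eU U f ≫ (ι U f).hom = (ι U f).hom ≫ (aP O).map (mulYon U f) := (exists_iso_yon U f).choose_spec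

lemma flipIso_naturality (Y : PM O) {M M' : ModSite.Mod O} (q : M ⟶ M') :
    ((ModSite.tensorBi O).obj ((aP O).obj Y)).map q ≫ (aPTensorFlipIso M').hom.app Y =
      (aPTensorFlipIso M).hom.app Y ≫ (aP O).map (MonoidalCategory.whiskerLeft (C := PM O) Y q.val) := by
  have h : (aPTensorFlipIso M).inv.app Y ≫ ((ModSite.tensorBi O).obj ((aP O).obj Y)).map q =
      (aP O).map (MonoidalCategory.whiskerLeft (C := PM O) Y q.val) ≫ (aPTensorFlipIso M').inv.app Y := by
    simp only [aPTensorFlipIso, tensorFlipIso, whiskerEtaIso, Iso.symm_inv, Iso.trans_hom, NatTrans.comp_app,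
      NatIso.ofComponents_hom_app, Functor.isoWhiskerLeft_hom, Functor.whiskerLeft_app, Iso.refl_inv,
      NatIso.ofComponents_inv_app, Iso.symm_hom, asIso_hom]
    erw [Category.comp_id, Category.comp_id]
    refine Eq.trans ?_ ((aP O).map_comp _ _)
    refine ((aP O).map_comp _ _).symm.trans (congrArg (aP O).map ?_)
    exact (whisker_exchange (C := PM O) (etaP Y) q.val).symm
  rw [← cancel_epi ((aPTensorFlipIso M).inv.app Y), ← Category.assoc, h, Category.assoc, Iso.inv_hom_id_app]
  erw [Category.comp_id]
  rw [← Category.assoc, Iso.inv_hom_id_app]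
  exact (Category.id_comp _).symm

/-- The tensor product with the free module as a sheafified presheaf tensor product. -/
noncomputable def κ (M : ModSite.Mod O) :
    ((ModSite.tensorBi O).obj (ModSite.freeOn O U)).obj M ≅ (aP O).obj (freeYon O U ⊗ M.val : PM O) :=
  ((ModSite.tensorBi O).mapIso (ι U f)).app M ≪≫ (aPTensorFlipIso M).app (freeYon O U)

lemma κ_naturality {M M' : ModSite.Mod O} (q : M ⟶ M') :
    ((ModSite.tensorBi O).obj (ModSite.freeOn O U)).map q ≫ (κ U f M').hom =
      (κ U f M).hom ≫ (aP O).map (MonoidalCategory.whiskerLeft (C := PM O) (freeYon O U) q.val) := by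
  simp only [κ, Iso.trans_hom, Iso.app_hom, Functor.mapIso_hom, Category.assoc]
  rw [← flipIso_naturality, NatTrans.naturality_assoc]

lemma eU_κ (M : ModSite.Mod O) :
    ((ModSite.tensorBi O).map (eU U f)).app M ≫ (κ U f M).hom =
      (κ U f M).hom ≫ (aP O).map (MonoidalCategory.whiskerRight (C := PM O) (mulYon U f) M.val) := by
  simp only [κ, Iso.trans_hom, Iso.app_hom, Functor.mapIso_hom, Category.assoc]
  rw [← Category.assoc, ← NatTrans.comp_app, ← Functor.map_comp, eU_ι, Functor.map_comp, NatTrans.comp_app,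
    Category.assoc]
  exact congrArg (((ModSite.tensorBi O).map (ι U f).hom).app M ≫ ·)
    ((aPTensorFlipIso M).hom.naturality (mulYon U f))

/-- Morphisms out of the tensor product with a free module. -/
noncomputable def Φ (M N : ModSite.Mod O) :
    (((ModSite.tensorBi O).obj (ModSite.freeOn O U)).obj M ⟶ N) ≃
      ((ModSite.restr O U).obj M ⟶ (ModSite.restr O U).obj N) :=
  (((κ U f M).homCongr (Iso.refl N)).trans ((adjP O).homEquiv _ _)).trans (overEquiv U M N)

lemma Φ_right {M N N' : ModSite.Mod O} (φ : ((ModSite.tensorBi O).obj (ModSite.freeOn O U)).obj M ⟶ N)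
    (p : N ⟶ N') : Φ U f M N' (φ ≫ p) = Φ U f M N φ ≫ (ModSite.restr O U).map p := by
  simp only [Φ, Equiv.trans_apply, Iso.homCongr_apply, Iso.refl_hom, Category.comp_id]
  rw [← Category.assoc]
  exact (congrArg (overEquiv U M N') ((adjP O).homEquiv_naturality_right _ p)).trans (overEquiv_comp U M p _)

lemma Φ_left {M' M N : ModSite.Mod O} (q : M' ⟶ M)
    (φ : ((ModSite.tensorBi O).obj (ModSite.freeOn O U)).obj M ⟶ N) :
    Φ U f M' N (((ModSite.tensorBi O).obj (ModSite.freeOn O U)).map q ≫ φ) =
      (ModSite.restr O U).map q ≫ Φ U f M N φ := by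
  have h : (κ U f M').inv ≫ ((ModSite.tensorBi O).obj (ModSite.freeOn O U)).map q =
      (aP O).map (MonoidalCategory.whiskerLeft (C := PM O) (freeYon O U) q.val) ≫ (κ U f M).inv := by
    rw [Iso.inv_comp_eq, ← Category.assoc, Iso.eq_comp_inv, κ_naturality]
  simp only [Φ, Equiv.trans_apply, Iso.homCongr_apply, Iso.refl_hom, Category.comp_id]
  rw [← Category.assoc, h, Category.assoc]
  erw [(adjP O).homEquiv_naturality_left]
  apply SheafOfModules.hom_ext
  refine PresheafOfModules.hom_ext fun V => ?_
  ext m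
  rfl

lemma Φ_eU {M N : ModSite.Mod O} (φ : ((ModSite.tensorBi O).obj (ModSite.freeOn O U)).obj M ⟶ N) :
    Φ U f M N (((ModSite.tensorBi O).map (eU U f)).app M ≫ φ) =
      DerComp.smulEnd (DerComp.GSec.ofSect O U f) ((ModSite.restr O U).obj M) ≫ Φ U f M N φ := by
  have h : (κ U f M).inv ≫ ((ModSite.tensorBi O).map (eU U f)).app M =
      (aP O).map (MonoidalCategory.whiskerRight (C := PM O) (mulYon U f) M.val) ≫ (κ U f M).inv := by
    rw [Iso.inv_comp_eq, ← Category.assoc, Iso.eq_comp_inv, eU_κ]
  simp only [Φ, Equiv.trans_apply, Iso.homCongr_apply, Iso.refl_hom, Category.comp_id]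
  rw [← Category.assoc, h, Category.assoc]
  erw [(adjP O).homEquiv_naturality_left]
  rw [DerComp.smulEnd_comm]
  apply SheafOfModules.hom_ext
  refine PresheafOfModules.hom_ext fun V => ?_
  ext m
  let χ : (freeYon O U ⊗ M.val : PM O) ⟶ N.val := (adjP O).homEquiv _ _ ((κ U f M).inv ≫ φ)
  change apm χ V.unop.left (apm (MonoidalCategory.whiskerRight (C := PM O) (mulYon U f) M.val) V.unop.left
      (tm (gen V.unop.hom) (m : sc M.val V.unop.left))) =
    (rsR V.unop.hom (f : rsec O U) : rsec O V.unop.left) •
      apm χ V.unop.left (tm (gen V.unop.hom) (m : sc M.val V.unop.left))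
  rw [← map_smul, ← tm_smul_left, ← apm_mulYon]
  rfl

/-- Tensoring with the free module on an object is extension by zero of the restriction. -/
noncomputable def θIso (M : ModSite.Mod O) :
    ((ModSite.tensorBi O).obj (ModSite.freeOn O U)).obj M ≅
      (ModSite.extZero O U).obj ((ModSite.restr O U).obj M) where
  hom := (Φ U f M _).symm ((ModSite.extZeroAdj O U).unit.app _)
  inv := ((ModSite.extZeroAdj O U).homEquiv _ _).symm (Φ U f M _ (𝟙 _))
  hom_inv_id := (Φ U f M _).injective (by
    rw [Φ_right, Equiv.apply_symm_apply]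
    exact ((ModSite.extZeroAdj O U).homEquiv_unit _ _ _).symm.trans (Equiv.apply_symm_apply _ _))
  inv_hom_id := ((ModSite.extZeroAdj O U).homEquiv _ _).injective (by
    rw [Adjunction.homEquiv_naturality_right, Equiv.apply_symm_apply, ← Φ_right, Category.id_comp,
      Equiv.apply_symm_apply, Adjunction.homEquiv_id]
    rfl)

/-- The natural comparison. -/
noncomputable def θ : (ModSite.tensorBi O).obj (ModSite.freeOn O U) ≅ ModSite.restr O U ⋙ ModSite.extZero O U :=
  NatIso.ofComponents (θIso U f) fun {M M'} q => (Φ U f M _).injective (by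
    show Φ U f M _ (((ModSite.tensorBi O).obj (ModSite.freeOn O U)).map q ≫ (θIso U f M').hom) =
      Φ U f M _ ((θIso U f M).hom ≫ (ModSite.extZero O U).map ((ModSite.restr O U).map q))
    rw [Φ_left, Φ_right]
    simp only [θIso, Equiv.apply_symm_apply]
    exact (ModSite.extZeroAdj O U).unit.naturality ((ModSite.restr O U).map q))

/-- Multiplication on the free module is multiplication on the restriction. -/
lemma eU_θ (M : ModSite.Mod O) :
    ((ModSite.tensorBi O).map (eU U f)).app M ≫ (θ U f).hom.app M =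
      (θ U f).hom.app M ≫ (ModSite.extZero O U).map
        (DerComp.smulEnd (DerComp.GSec.ofSect O U f) ((ModSite.restr O U).obj M)) := (Φ U f M _).injective (by
  show Φ U f M _ (((ModSite.tensorBi O).map (eU U f)).app M ≫ (θIso U f M).hom) =
    Φ U f M _ ((θIso U f M).hom ≫ (ModSite.extZero O U).map
      (DerComp.smulEnd (DerComp.GSec.ofSect O U f) ((ModSite.restr O U).obj M)))
  rw [Φ_eU, Φ_right]
  simp only [θIso, Equiv.apply_symm_apply]
  exact (ModSite.extZeroAdj O U).unit.naturality
    (DerComp.smulEnd (DerComp.GSec.ofSect O U f) ((ModSite.restr O U).obj M)))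

end Groth.DAlg.TensorFreeNat
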