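import Mathlib.Algebra.Homology.Bifunctor
import Mathlib.Algebra.Homology.HomotopyCategory.Shift
import Mathlib.CategoryTheory.Abelian.Basic

/-!
The total complex of an object in one degree and a complex.
-/

universe v u v₁ u₁ v₂ u₂

set_option backward.defeqAttrib.useBackward true
set_option backward.isDefEq.respectTransparency false
set_option linter.unusedSectionVars false

open CategoryTheory CategoryTheory.Limits HomologicalComplex

namespace Groth.DAlg.TensorSingleLeft

variable {A₁ : Type u₁} [Category.{v₁} A₁] [Abelian A₁] {A₂ : Type u₂} [Category.{v₂} A₂] [Abelian A₂]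
  {D : Type u} [Category.{v} D] [Abelian D] [∀ J : Type, HasColimitsOfShape (Discrete J) D]
  (F : A₁ ⥤ A₂ ⥤ D) [F.Additive] [∀ X, (F.obj X).Additive]
  [∀ (X : CochainComplex A₁ ℤ) (Y : CochainComplex A₂ ℤ), HasMapBifunctor X Y F (ComplexShape.up ℤ)]
  (m : ℤ) (X : CochainComplex A₂ ℤ)

local notation "up" => ComplexShape.up ℤ
local notation "sgl" => (HomologicalComplex.single A₁ (ComplexShape.up ℤ) m)

/-- The summand. -/
noncomputable def fwd (N : A₁) (n : ℤ) :
    (F.obj N).obj (X.X (n + -m)) ⟶ (mapBifunctor ((sgl).obj N) X F up).X n :=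
  (F.map (singleObjXSelf up m N).inv).app (X.X (n + -m)) ≫
    ιMapBifunctor ((sgl).obj N) X F up m (n + -m) n (by simp)

open Classical in
/-- The projection. -/
noncomputable def bwd (N : A₁) (n : ℤ) :
    (mapBifunctor ((sgl).obj N) X F up).X n ⟶ (F.obj N).obj (X.X (n + -m)) :=
  mapBifunctorDesc fun p q h =>
    if hp : p = m then eqToHom (by subst hp; rw [show q = n + -p by simp at h; lia]) ≫
      (F.map (singleObjXSelf up m N).hom).app (X.X (n + -m))
    else 0

lemma fwd_bwd (N : A₁) (n : ℤ) : fwd F m X N n ≫ bwd F m X N n = 𝟙 _ := by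
  rw [fwd, bwd, Category.assoc, ι_mapBifunctorDesc, dif_pos rfl, eqToHom_refl, Category.id_comp,
    ← NatTrans.comp_app, ← Functor.map_comp, Iso.inv_hom_id, CategoryTheory.Functor.map_id, NatTrans.id_app]

lemma bwd_fwd (N : A₁) (n : ℤ) : bwd F m X N n ≫ fwd F m X N n = 𝟙 _ := by
  refine mapBifunctor.hom_ext fun p q h => ?_
  rw [bwd, ι_mapBifunctorDesc_assoc, Category.comp_id]
  by_cases hp : p = m
  · subst hp
    obtain rfl : q = n + -p := by simp at h; lia
    rw [dif_pos rfl, fwd, eqToHom_refl, Category.id_comp, ← NatTrans.comp_app_assoc, ← Functor.map_comp,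
      Iso.hom_inv_id, CategoryTheory.Functor.map_id, NatTrans.id_app, Category.id_comp]
  · exact ((F.flip.obj (X.X q)).map_isZero (isZero_single_obj_X up m N p hp)).eq_of_src _ _

/-- Tensoring with an object in one degree. -/
noncomputable def objIso (N : A₁) :
    ((F.obj N).mapHomologicalComplex up).obj (X⟦-m⟧) ≅ mapBifunctor ((sgl).obj N) X F up :=
  Hom.isoOfComponents (fun n => ⟨fwd F m X N n, bwd F m X N n, fwd_bwd F m X N n, bwd_fwd F m X N n⟩) fun n n' hn => by
    obtain rfl : n + 1 = n' := hn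
    show fwd F m X N n ≫ (mapBifunctor ((sgl).obj N) X F up).d n (n + 1) =
      (F.obj N).map ((-m).negOnePow • X.d (n + -m) (n + 1 + -m)) ≫ fwd F m X N (n + 1)
    rw [fwd, fwd, Category.assoc, mapBifunctor.d_eq, Preadditive.comp_add, mapBifunctor.ι_D₁, mapBifunctor.ι_D₂,
      mapBifunctor.d₁_eq ((sgl).obj N) X F up (show (ComplexShape.up ℤ).Rel m (m + 1) by simp) (n + -m) (n + 1)
        (by simp; lia),
      mapBifunctor.d₂_eq' ((sgl).obj N) X F up m (show (ComplexShape.up ℤ).Rel (n + -m) (n + 1 + -m) by simp; lia)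
        (n + 1), single_obj_d, Functor.map_zero, zero_app, zero_comp, smul_zero, zero_add, ιMapBifunctorOrZero_eq _ _ _ _ m (n + 1 + -m) (n + 1) (by simp),
      Functor.map_units_smul, Linear.units_smul_comp, Linear.comp_units_smul, Int.negOnePow_neg]
    congr 1
    exact ((F.map (singleObjXSelf up m N).inv).naturality_assoc _ _).symm

variable {X} in
/-- Naturality in the object. -/
lemma objIso_naturality {N N' : A₁} (e : N ⟶ N') :
    (NatTrans.mapHomologicalComplex (F.map e) up).app (X⟦-m⟧) ≫ (objIso F m X N').hom =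
      (objIso F m X N).hom ≫ mapBifunctorMap ((sgl).map e) (𝟙 X) F up := by
  ext n : 1
  show (F.map e).app (X.X (n + -m)) ≫ fwd F m X N' n =
    fwd F m X N n ≫ (mapBifunctorMap ((sgl).map e) (𝟙 X) F up).f n
  rw [fwd, fwd, Category.assoc, ι_mapBifunctorMap, HomologicalComplex.id_f, CategoryTheory.Functor.map_id,
    Category.id_comp, ← NatTrans.comp_app_assoc, ← NatTrans.comp_app_assoc, ← Functor.map_comp, ← Functor.map_comp,
    single_map_f_self, Iso.inv_hom_id_assoc]

end Groth.DAlg.TensorSingleLeft
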