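import Groth.Agent.DAlg.DerCompLocal
import Groth.Agent.DAlg.SiteLTensorLeft
import Groth.Agent.DAlg.TensorFreeNat
import Groth.Agent.DAlg.TensorSingleLeft

/-!
Internal derived hom preserves derived completeness.
-/

universe u

open CategoryTheory CategoryTheory.Limits Opposite

attribute [local instance] HasDerivedCategory.standard

set_option backward.defeqAttrib.useBackward true
set_option backward.isDefEq.respectTransparency false
set_option synthInstance.maxHeartbeats 400000
set_option maxHeartbeats 1000000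
set_option linter.style.haveILetI false

namespace Groth.DAlg.DerCompRHom

open TelescopeHom DerCompCrit DerCompLocal KTower

variable {C : Type u} [SmallCategory C] {J : GrothendieckTopology C} {O : Sheaf J CommRingCat.{u}}

local notation "up" => ComplexShape.up ℤ

/-- Towers into a derived complete object out of extensions by zero are trivial. -/
lemma tBij_pre_extZero (U : C) (f : O.obj.obj (op U)) (X : CochainComplex (ModSite.Mod (O.over U)) ℤ)
    (L : DerivedCategory (ModSite.Mod O))
    (hL : ∀ ⦃V : C⦄ (g : V ⟶ U), Triv V ((O.obj.map g.op).hom f) L) :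
    TBij (Preadditive.leftComp L (DerivedCategory.Q.map
      (((ModSite.extZero O U).mapHomologicalComplex up).map (smulCx (DerComp.GSec.ofSect O U f) X)))) := by
  obtain ⟨I, hI, ⟨e⟩⟩ := RFTriangle.exists_model L
  have hT := tBij_post_of_locally U f I ⊤ (J.top_mem U)
    (fun V g _ => (triv_of_iso e).2 (hL g)) ((HomotopyCategory.quotient _ up).obj X)
  let qO := HomotopyCategory.quotient (ModSite.Mod O) up
  let qU := HomotopyCategory.quotient (ModSite.Mod (O.over U)) up
  let a := Groth.DerivedAdj.mapHomotopyCategoryAdj (ModSite.extZeroAdj O U) up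
  let X' := ((ModSite.extZero O U).mapHomologicalComplex up).obj X
  let qI := qO.obj I
  let c : DerivedCategory.Qh.obj (qO.obj X') ≅ DerivedCategory.Q.obj X' :=
    (DerivedCategory.quotientCompQhIso (ModSite.Mod O)).app X'
  let ψ₁ : (qO.obj X' ⟶ qI) → (qU.obj X ⟶ qU.obj (IU U I)) := fun x => a.homEquiv _ _ x
  let ψ₂ := Equiv.ofBijective _ (CochainComplex.IsKInjective.Qh_map_bijective (qO.obj X') I)
  let ψ : (qU.obj X ⟶ qU.obj (IU U I)) ≃+ (DerivedCategory.Q.obj X' ⟶ L) :=
    AddEquiv.mk' ((a.homEquiv (qU.obj X) qI).symm.trans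
      (ψ₂.trans (c.homCongr e))) fun x y => by
      obtain ⟨x, rfl⟩ := (a.homEquiv (qU.obj X) qI).surjective x
      obtain ⟨y, rfl⟩ := (a.homEquiv (qU.obj X) qI).surjective y
      have : a.homEquiv (qU.obj X) qI x + a.homEquiv (qU.obj X) qI y = a.homEquiv (qU.obj X) qI (x + y) := by
        simp only [Adjunction.homEquiv_unit, Functor.map_add, Preadditive.comp_add]
      rw [this]
      simp only [Equiv.trans_apply, Iso.homCongr_apply]
      erw [Equiv.symm_apply_apply, Equiv.symm_apply_apply, Equiv.symm_apply_apply]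
      show c.inv ≫ DerivedCategory.Qh.map (x + y) ≫ e.hom = c.inv ≫ DerivedCategory.Qh.map x ≫ e.hom +
        c.inv ≫ DerivedCategory.Qh.map y ≫ e.hom
      rw [Functor.map_add, Preadditive.add_comp, Preadditive.comp_add]
  refine (tBij_iff_of_equiv ψ _ _ fun z => ?_).1 hT
  have hpost : z ≫ qU.map (eI U f I) = qU.map (smulCx (DerComp.GSec.ofSect O U f) X) ≫ z := by
    obtain ⟨z, rfl⟩ := qU.map_surjective z
    rw [← Functor.map_comp, ← Functor.map_comp, smulCx_comm]
  show c.inv ≫ DerivedCategory.Qh.map ((a.homEquiv (qU.obj X) qI).symm (z ≫ qU.map (eI U f I))) ≫ e.hom =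
    DerivedCategory.Q.map (((ModSite.extZero O U).mapHomologicalComplex up).map _) ≫
      c.inv ≫ DerivedCategory.Qh.map ((a.homEquiv (qU.obj X) qI).symm z) ≫ e.hom
  rw [hpost, a.homEquiv_naturality_left_symm, Functor.map_comp, Category.assoc]
  erw [← (DerivedCategory.quotientCompQhIso (ModSite.Mod O)).inv.naturality_assoc
    (((ModSite.extZero O U).mapHomologicalComplex up).map (smulCx (DerComp.GSec.ofSect O U f) X))]
  rfl

variable (P : CochainComplex (ModSite.Mod O) ℤ) [ModSite.HasLTensorCx P]

/-- The derived tensor product with a free module on an object, with the multiplication maps. -/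
lemma exists_iso_extZero (U : C) (f : O.obj.obj (op U)) (m : ℤ) :
    ∃ i : (ModSite.LTensorCx P).obj ((DerivedCategory.singleFunctor (ModSite.Mod O) m).obj (ModSite.freeOn O U)) ≅
        DerivedCategory.Q.obj (((ModSite.extZero O U).mapHomologicalComplex up).obj
          (((ModSite.restr O U).mapHomologicalComplex up).obj (P⟦-m⟧))),
      (ModSite.LTensorCx P).map ((DerivedCategory.singleFunctor (ModSite.Mod O) m).map (eU U f)) ≫ i.hom =
        i.hom ≫ DerivedCategory.Q.map (((ModSite.extZero O U).mapHomologicalComplex up).map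
          (smulCx (DerComp.GSec.ofSect O U f) _)) := by
  let S := HomologicalComplex.single (ModSite.Mod O) up m
  let α := (ModSite.tensorCxQ P).totalLeftDerivedCounit DerivedCategory.Q
    (HomologicalComplex.quasiIso (ModSite.Mod O) up)
  haveI : IsIso (α.app (S.obj (ModSite.freeOn O U))) :=
    SiteLTensorLeft.isIso_counit_app P _ (SiteLTensorLeft.isKFlat_single (Groth.Misc4.FreeOn.isFlat_freeOn U) m)
  let j := TensorSingleLeft.objIso (ModSite.tensorBi O) m P (ModSite.freeOn O U)
  let t : (((ModSite.tensorBi O).obj (ModSite.freeOn O U)).mapHomologicalComplex up).obj (P⟦-m⟧) ≅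
      ((ModSite.extZero O U).mapHomologicalComplex up).obj
        (((ModSite.restr O U).mapHomologicalComplex up).obj (P⟦-m⟧)) :=
    (NatIso.mapHomologicalComplex (TensorFreeNat.θ U f) up).app (P⟦-m⟧)
  refine ⟨asIso (α.app (S.obj (ModSite.freeOn O U))) ≪≫ DerivedCategory.Q.mapIso (j.symm ≪≫ t), ?_⟩
  have h1 := α.naturality (S.map (eU U f))
  simp only [Functor.comp_map] at h1
  simp only [Iso.trans_hom, asIso_hom, Functor.mapIso_hom, Category.assoc]
  erw [reassoc_of% h1]
  refine congrArg (α.app _ ≫ ·) ?_
  show DerivedCategory.Q.map _ ≫ _ = _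
  rw [← Functor.map_comp, ← Functor.map_comp]
  refine congrArg DerivedCategory.Q.map ?_
  have h2 := TensorSingleLeft.objIso_naturality (ModSite.tensorBi O) m (X := P) (eU U f)
  have h3 : HomologicalComplex.mapBifunctorMap (S.map (eU U f)) (𝟙 P) (ModSite.tensorBi O) up ≫ j.inv =
      j.inv ≫ (NatTrans.mapHomologicalComplex ((ModSite.tensorBi O).map (eU U f)) up).app (P⟦-m⟧) := by
    rw [Iso.eq_inv_comp, ← Category.assoc, Iso.comp_inv_eq, h2]
  have h4 : (NatTrans.mapHomologicalComplex ((ModSite.tensorBi O).map (eU U f)) up).app (P⟦-m⟧) ≫ t.hom =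
      t.hom ≫ ((ModSite.extZero O U).mapHomologicalComplex up).map (smulCx (DerComp.GSec.ofSect O U f)
        (((ModSite.restr O U).mapHomologicalComplex up).obj (P⟦-m⟧))) := by
    ext n : 1
    exact TensorFreeNat.eU_θ U f ((P⟦-m⟧).X n)
  show HomologicalComplex.mapBifunctorMap (S.map (eU U f)) (𝟙 P) (ModSite.tensorBi O) up ≫ j.inv ≫ t.hom =
    (j.inv ≫ t.hom) ≫ _
  rw [Category.assoc, ← h4, ← Category.assoc, h3, Category.assoc]

/-- Internal derived hom into a derived complete object is derived complete. -/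
theorem isDerComp_rhom [DerComp.HasRHom P] (I : DerComp.IdealSh O) (L : DerivedCategory (ModSite.Mod O))
    (hL : DerComp.IsDerComp O I L) : DerComp.IsDerComp O I ((DerComp.RHom P).obj L) := by
  rw [DerCompCrit.isDerComp_iff] at hL ⊢
  intro U f hf m
  let adj := DerComp.RHomAdj P
  haveI : PreservesFiniteProducts (DerComp.RHom P) :=
    haveI := adj.rightAdjoint_preservesLimits
    ⟨fun n => inferInstance⟩
  haveI : (DerComp.RHom P).Additive := Functor.additive_of_preserves_binary_products _
  haveI : (ModSite.LTensorCx P).Additive :=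
    adj.left_adjoint_additive
  obtain ⟨i, hi⟩ := exists_iso_extZero P U f m
  let S := (DerivedCategory.singleFunctor (ModSite.Mod O) m).obj (ModSite.freeOn O U)
  let ψ : (DerivedCategory.Q.obj (((ModSite.extZero O U).mapHomologicalComplex up).obj
          (((ModSite.restr O U).mapHomologicalComplex up).obj (P⟦-m⟧))) ⟶ L) ≃+
      (S ⟶ (DerComp.RHom P).obj L) :=
    AddEquiv.mk' (i.symm.homFromEquiv.trans (adj.homEquiv S L)) fun x y => by
      show adj.homEquiv S L (i.hom ≫ (x + y)) = adj.homEquiv S L (i.hom ≫ x) + adj.homEquiv S L (i.hom ≫ y)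
      rw [Preadditive.comp_add]
      exact map_add (adj.homAddEquiv S L) _ _
  refine (tBij_iff_of_equiv ψ _ _ fun x => ?_).1
    (tBij_pre_extZero U f _ L fun V g => hL V _ (I.map_mem g hf))
  show adj.homEquiv S L (i.hom ≫ DerivedCategory.Q.map _ ≫ x) =
    (DerivedCategory.singleFunctor (ModSite.Mod O) m).map (eU U f) ≫ adj.homEquiv S L (i.hom ≫ x)
  rw [← Adjunction.homEquiv_naturality_left, ← Category.assoc, ← hi, Category.assoc]

end Groth.DAlg.DerCompRHom
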