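import Groth.Agent.DAlg.SetLoc
import Groth.Agent.SiteCohomology.ModulesGrothendieck
import Groth.Prelude.Def_DerComp

/-!
Derived completion on a ringed site exists.
-/

universe u

open CategoryTheory CategoryTheory.Limits Opposite

attribute [local instance] HasDerivedCategory.standard

namespace Groth.DAlg.SiteDerCompletion

variable {C : Type u} [SmallCategory C] {J : GrothendieckTopology C} (O : Sheaf J CommRingCat.{u})

/-- The inclusion of the derived complete objects has a left adjoint, for any sheaf of ideals. -/
theorem hasDerCompletion (I : DerComp.IdealSh O) : DerComp.HasDerCompletion O I :=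
  SetLoc.isRightAdjoint_ι_of_forall_iff
    (fun k : Σ U : C, {f : O.obj.obj (op U) // f ∈ I.ideal U} =>
      SiteCmp.inD O ((ModSite.extZero O k.1).obj (DerComp.awayOver O k.1 k.2.1)))
    (DerComp.IsDerComp O I)
    fun _ => ⟨fun h k n => h k.1 k.2.1 k.2.2 n, fun h U f hf n => h ⟨U, f, hf⟩ n⟩

end Groth.DAlg.SiteDerCompletion
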