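import Groth.Agent.DAlg.SiteTorsion
import Groth.Agent.DAlg.RestrPushOver
import Groth.Agent.DAlg.DerCompRHom
import Groth.Agent.DAlg.SiteDerCompletion

/-!
The Koszul criterion for the left orthogonal of derived complete objects.
-/

universe u

open CategoryTheory CategoryTheory.Limits CategoryTheory.Pretriangulated Opposite

attribute [local instance] HasDerivedCategory.standard

set_option backward.defeqAttrib.useBackward true
set_option backward.isDefEq.respectTransparency false
set_option synthInstance.maxHeartbeats 400000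
set_option maxHeartbeats 1000000
set_option linter.style.haveILetI false

namespace Groth.DAlg.DerCompKoszul

open Groth.SitesTopoi.ModH KosCx SiteTorsion DerCompCrit TelescopeHom

variable {C : Type u} [SmallCategory C] {J : GrothendieckTopology C} {O : Sheaf J CommRingCat.{u}}

local notation "up" => ComplexShape.up ℤ

instance additive_restr' (U : C) : (ModSite.restr O U).Additive where

/-- Restriction on derived categories. -/
noncomputable abbrev dRestr (V : C) : DerivedCategory (ModSite.Mod O) ⥤ DerivedCategory (ModSite.Mod (O.over V)) :=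
  (ModSite.restr O V).mapDerivedCategory

/-- Extension by zero on derived categories. -/
noncomputable abbrev dExt (V : C) : DerivedCategory (ModSite.Mod (O.over V)) ⥤ DerivedCategory (ModSite.Mod O) :=
  (ModSite.extZero O V).mapDerivedCategory

/-- Derived extension by zero is left adjoint to restriction. -/
lemma nonempty_extRestrAdj (V : C) : Nonempty (dExt (O := O) V ⊣ dRestr V) := by
  let F := ModSite.restr O V
  have hA : Groth.DerivedAdj.EnoughKInj (ModSite.Mod O) := RFTriangle.enoughKInj
  let e : DerivedCategory.Qh ⋙ F.mapDerivedCategory ≅ F.mapHomotopyCategory up ⋙ DerivedCategory.Qh :=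
    F.mapDerivedCategoryFactorsh
  haveI hRF : F.mapDerivedCategory.IsRightDerivedFunctor e.inv
      (HomotopyCategory.quasiIso (ModSite.Mod O) up) :=
    letI : Localization.Lifting DerivedCategory.Qh (HomotopyCategory.quasiIso (ModSite.Mod O) up)
        (F.mapHomotopyCategory up ⋙ DerivedCategory.Qh) F.mapDerivedCategory := ⟨e⟩
    Functor.isRightDerivedFunctor_of_inverts _ F.mapDerivedCategory e
  haveI : (F.mapHomotopyCategory up ⋙ DerivedCategory.Qh).HasRightDerivedFunctor
      (HomotopyCategory.quasiIso (ModSite.Mod O) up) := Functor.HasRightDerivedFunctor.mk' _ e.inv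
  let i : Groth.DerivedAdj.totalR F ≅ F.mapDerivedCategory :=
    Functor.rightDerivedUnique _ _ ((F.mapHomotopyCategory up ⋙ DerivedCategory.Qh).totalRightDerivedUnit
      DerivedCategory.Qh _) e.inv (HomotopyCategory.quasiIso (ModSite.Mod O) up)
  exact ⟨(Groth.DerivedAdj.derivedAdj (ModSite.extZeroAdj O V) hA).ofNatIsoRight i⟩

/-- Derived restriction is a left adjoint. -/
lemma isLeftAdjoint_dRestr (V : C) : (dRestr (O := O) V).IsLeftAdjoint := by
  haveI := hasPushOver O V
  have hA : Groth.DerivedAdj.EnoughKInj (ModSite.Mod (O.over V)) := RFTriangle.enoughKInj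
  haveI : (ModSite.pushOver O V).Additive := (ModSite.restrPushOverAdj O V).right_adjoint_additive
  haveI := Groth.DerivedAdj.hasPointwiseRightDerivedFunctor_of_bijective
    (F := (ModSite.pushOver O V).mapHomotopyCategory up ⋙ DerivedCategory.Qh)
    (HomotopyCategory.quasiIso (ModSite.Mod (O.over V)) up) (Groth.DerivedAdj.exists_good hA)
  exact (Groth.DerivedAdj.derivedAdj (ModSite.restrPushOverAdj O V) hA).isLeftAdjoint

lemma isDerComp_shift {I : DerComp.IdealSh O} {Z : DerivedCategory (ModSite.Mod O)}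
    (hZ : DerComp.IsDerComp O I Z) (m : ℤ) : DerComp.IsDerComp O I (Z⟦m⟧) := fun U f hf n =>
  haveI := hZ U f hf (m + n)
  ((Iso.refl _).homCongr ((shiftFunctorAdd' (DerivedCategory (ModSite.Mod O)) m n (m + n) rfl).app Z)).symm.subsingleton

/-- The left orthogonal of the derived complete objects. -/
def Ct (I : DerComp.IdealSh O) (X : DerivedCategory (ModSite.Mod O)) : Prop :=
  ∀ Z, DerComp.IsDerComp O I Z → Orth X Z

/-- The cone of the completion map is left orthogonal. -/
lemma ct_cone (I : DerComp.IdealSh O) [DerComp.HasDerCompletion O I] (X D : DerivedCategory (ModSite.Mod O))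
    (b : ((DerComp.derCompletion O I).obj X).obj ⟶ D) (c : D ⟶ X⟦(1 : ℤ)⟧)
    (hT : Triangle.mk (DerComp.toDerCompletion I X) b c ∈ distTriang _) : Ct I D := by
  intro Z hZ n φ
  let a := DerComp.derCompletionAdj O I
  let L := ((DerComp.derCompletion O I).obj X).obj
  have hbij : ∀ m : ℤ, Function.Bijective fun ψ : L ⟶ Z⟦m⟧ => DerComp.toDerCompletion I X ≫ ψ := fun m => by
    let Zm : DerComp.DComp O I := ⟨Z⟦m⟧, isDerComp_shift hZ m⟩
    have : (fun ψ : L ⟶ Z⟦m⟧ => DerComp.toDerCompletion I X ≫ ψ) = (a.homEquiv X Zm) ∘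
        ((DerComp.IsDerComp O I).fullyFaithfulι.homEquiv (X := (DerComp.derCompletion O I).obj X) (Y := Zm)).symm := by
      funext ψ
      simp only [Function.comp_apply, Adjunction.homEquiv_unit]
      rfl
    rw [this]
    exact (Equiv.bijective _).comp (Equiv.bijective _)
  have h1 : b ≫ φ = 0 := (hbij n).1 (by
    show DerComp.toDerCompletion I X ≫ b ≫ φ = DerComp.toDerCompletion I X ≫ 0
    have := comp_distTriang_mor_zero₁₂ _ hT
    dsimp at this
    rw [reassoc_of% this, zero_comp, comp_zero])
  obtain ⟨χ, hχ⟩ := Triangle.yoneda_exact₂ _ (rot_of_distTriang _ hT) φ h1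
  obtain ⟨ψ₀, hψ₀⟩ := ((Functor.FullyFaithful.ofFullyFaithful
    (shiftFunctor (DerivedCategory (ModSite.Mod O)) (1 : ℤ))).map_bijective X (Z⟦n - 1⟧)).2 (χ ≫ ((shiftFunctorAdd' (DerivedCategory (ModSite.Mod O)) (n - 1) 1 n (by lia)).app Z).hom)
  obtain ⟨ψ, hψ⟩ := (hbij (n - 1)).2 ψ₀
  rw [← cancel_mono ((shiftFunctorAdd' (DerivedCategory (ModSite.Mod O)) (n - 1) 1 n (by lia)).app Z).hom,
    zero_comp, hχ]
  refine (Category.assoc _ _ _).trans ((congrArg (_ ≫ ·) hψ₀.symm).trans ?_)
  rw [← hψ, Functor.map_comp, ← Category.assoc]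
  have := comp_distTriang_mor_zero₃₁ _ hT
  dsimp at this ⊢
  rw [this, zero_comp]

variable {I : DerComp.IdealSh O}

/-- The generators of a left orthogonal, restricted, are left orthogonal to objects killed by generators. -/
lemma orth_restr_gen {V : C} {l : List (O.obj.obj (op V))} (hl : Gen I V l) {U : C} (g : O.obj.obj (op U))
    (hg : g ∈ I.ideal U) (Y : DerivedCategory (ModSite.Mod (O.over V)))
    (hY : ∀ a ∈ l, KosCx.Nil (DerComp.GSec.ofSect O V a) Y) :
    Orth ((dRestr V).obj (SiteCmp.inD O ((ModSite.extZero O U).obj (DerComp.awayOver O U g)))) Y := by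
  let X₁ := (HomologicalComplex.single (ModSite.Mod (O.over V)) up 0).obj
    ((ModSite.restr O V).obj ((ModSite.extZero O U).obj (DerComp.awayOver O U g)))
  have h : Orth (DerivedCategory.Q.obj X₁) Y :=
    orth_of_orth_kos (DerComp.GSec.ofSect O V) l X₁ Y (fun a ha => van_of_nil (hY a ha))
      fun n φ => (isZero_kos_single g hl hg).eq_of_src _ _
  exact h.of_iso_left ((DerivedCategory.Q.mapIso
    ((HomologicalComplex.singleMapHomologicalComplex (ModSite.restr O V) up 0).app _).symm) ≪≫
      ((ModSite.restr O V).mapDerivedCategoryFactors.app _).symm)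

/-- The Koszul complexes of generators on restrictions of left orthogonal objects are zero. -/
theorem isZero_kos_restr {V : C} {l : List (O.obj.obj (op V))} (hl : Gen I V l)
    (K : CochainComplex (ModSite.Mod O) ℤ) (hK : Ct I (DerivedCategory.Q.obj K)) :
    IsZero (DerivedCategory.Q.obj (KosCx.kos (DerComp.GSec.ofSect O V) l
      (((ModSite.restr O V).mapHomologicalComplex up).obj K))) := by
  let Y := ((ModSite.restr O V).mapHomologicalComplex up).obj K
  let D := DerivedCategory.Q.obj (KosCx.kos (DerComp.GSec.ofSect O V) l Y)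
  haveI := isLeftAdjoint_dRestr (O := O) V
  let a := Adjunction.ofIsLeftAdjoint (dRestr (O := O) V)
  haveI : (dRestr (O := O) V).rightAdjoint.Additive := a.right_adjoint_additive
  have hG : ∀ (U : C) (g : O.obj.obj (op U)), g ∈ I.ideal U →
      Orth ((dRestr V).obj (SiteCmp.inD O ((ModSite.extZero O U).obj (DerComp.awayOver O U g)))) D :=
    fun U g hg => orth_restr_gen hl g hg D fun b hb => KosCx.nil_kos _ l Y b hb
  have hR : ∀ n : ℤ, DerComp.IsDerComp O I ((dRestr (O := O) V).rightAdjoint.obj (D⟦n⟧)) := fun n U g hg m => by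
    refine ⟨fun x y => sub_eq_zero.1 ?_⟩
    generalize x - y = φ
    apply (shiftFunctor (DerivedCategory (ModSite.Mod O)) (-m)).map_injective
    rw [Functor.map_zero, ← cancel_mono ((shiftFunctorCompIsoId (DerivedCategory (ModSite.Mod O)) m (-m) (by lia)).app _).hom,
      zero_comp]
    refine (a.homEquiv _ _).symm.injective ?_
    have h0 : ∀ ψ : (dRestr V).obj
        ((SiteCmp.inD O ((ModSite.extZero O U).obj (DerComp.awayOver O U g)))⟦-m⟧) ⟶ D⟦n⟧, ψ = 0 :=
      fun ψ => (((hG U g hg).shift_left (-m)).of_iso_left (((dRestr V).commShiftIso (-m)).app _).symm) n ψ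
    exact (h0 _).trans (h0 _).symm
  have h1 : Orth (DerivedCategory.Q.obj Y) D := by
    refine Orth.of_iso_left ?_ ((ModSite.restr O V).mapDerivedCategoryFactors.app K)
    intro n ψ
    refine (a.homEquiv _ _).injective ?_
    have := hK _ (hR n) 0
    have h0 : ∀ χ : DerivedCategory.Q.obj K ⟶ (dRestr (O := O) V).rightAdjoint.obj (D⟦n⟧), χ = 0 := fun χ => by
      rw [← cancel_mono ((shiftFunctorZero (DerivedCategory (ModSite.Mod O)) ℤ).inv.app _), zero_comp]
      exact this _
    exact (h0 _).trans (h0 _).symm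
  have h2 := orth_kos (DerComp.GSec.ofSect O V) l Y D h1
  rw [IsZero.iff_id_eq_zero]
  have := h2 0 ((shiftFunctorZero (DerivedCategory (ModSite.Mod (O.over V))) ℤ).inv.app D)
  rw [← cancel_mono ((shiftFunctorZero (DerivedCategory (ModSite.Mod (O.over V))) ℤ).inv.app D), zero_comp,
    Category.id_comp]
  exact this

/-- The test object of a list of sections over an object. -/
noncomputable abbrev testCx (V : C) (l : List (O.obj.obj (op V))) : CochainComplex (ModSite.Mod O) ℤ :=
  ((ModSite.extZero O V).mapHomologicalComplex up).obj (KosCx.kos (DerComp.GSec.ofSect O V) l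
    ((HomologicalComplex.single (ModSite.Mod (O.over V)) up 0).obj (ModSite.unit (O.over V))))

lemma orth_dExt_iff (V : C) (X : DerivedCategory (ModSite.Mod (O.over V))) (Z : DerivedCategory (ModSite.Mod O)) :
    Orth ((dExt V).obj X) Z ↔ Orth X ((dRestr V).obj Z) := by
  obtain ⟨a⟩ := nonempty_extRestrAdj (O := O) V
  haveI : (dRestr (O := O) V).Additive := a.right_adjoint_additive
  have key : ∀ n : ℤ, (∀ φ : (dExt V).obj X ⟶ Z⟦n⟧, φ = 0) ↔
      ∀ φ : X ⟶ ((dRestr V).obj Z)⟦n⟧, φ = 0 := fun n => by
    constructor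
    · intro h φ
      rw [← cancel_mono (((dRestr V).commShiftIso n).app Z).inv, zero_comp]
      refine (a.homEquiv _ _).symm.injective ?_
      exact (h _).trans (h _).symm
    · intro h φ
      refine (a.homEquiv _ _).injective ?_
      rw [← cancel_mono (((dRestr V).commShiftIso n).app Z).hom]
      exact (h _).trans (h _).symm
  exact forall_congr' key

/-- Left orthogonal objects receive no maps from the test objects. -/
theorem orth_testCx_of_ct {V : C} {l : List (O.obj.obj (op V))} (hl : Gen I V l)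
    (X : DerivedCategory (ModSite.Mod O)) (hX : Ct I X) : Orth (DerivedCategory.Q.obj (testCx V l)) X := by
  obtain ⟨K, ⟨e⟩⟩ : ∃ K, Nonempty (DerivedCategory.Q.obj K ≅ X) := ⟨_, ⟨DerivedCategory.Q.objObjPreimageIso X⟩⟩
  have hK : Ct I (DerivedCategory.Q.obj K) := fun Z hZ => (hX Z hZ).of_iso_left e.symm
  let k := KosCx.kos (DerComp.GSec.ofSect O V) l
    ((HomologicalComplex.single (ModSite.Mod (O.over V)) up 0).obj (ModSite.unit (O.over V)))
  have h : Orth (DerivedCategory.Q.obj k) (DerivedCategory.Q.obj (((ModSite.restr O V).mapHomologicalComplex up).obj K)) :=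
    orth_of_orth_kos_right (DerComp.GSec.ofSect O V) l _ _ (fun a ha => KosCx.nil_kos _ l _ a ha)
      fun n φ => ((shiftFunctor _ n).map_isZero (isZero_kos_restr hl K hK)).eq_of_tgt _ _
  have h' := (orth_dExt_iff V _ (DerivedCategory.Q.obj K)).2
    (h.of_iso_right ((ModSite.restr O V).mapDerivedCategoryFactors.app K).symm)
  exact (h'.of_iso_left ((ModSite.extZero O V).mapDerivedCategoryFactors.app k)).of_iso_right e

lemma van_restr {V : C} (b : O.obj.obj (op V)) (hb : b ∈ I.ideal V) (L : DerivedCategory (ModSite.Mod O))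
    (hL : DerComp.IsDerComp O I L) : Van (DerComp.GSec.ofSect O V b) ((dRestr V).obj L) := by
  intro W n
  obtain ⟨K, ⟨e⟩⟩ : ∃ K, Nonempty (DerivedCategory.Q.obj K ≅ W) := ⟨_, ⟨DerivedCategory.Q.objObjPreimageIso W⟩⟩
  obtain ⟨a⟩ := nonempty_extRestrAdj (O := O) V
  haveI : (dRestr (O := O) V).Additive := a.right_adjoint_additive
  haveI : (dExt (O := O) V).Additive := a.left_adjoint_additive
  have hn := (DerCompCrit.isDerComp_iff I _).1 (isDerComp_shift hL n)
  have hT := DerCompRHom.tBij_pre_extZero V b K (L⟦n⟧) fun V' g => hn V' _ (I.map_mem g hb)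
  let j := (ModSite.extZero O V).mapDerivedCategoryFactors
  let ψ : (DerivedCategory.Q.obj (((ModSite.extZero O V).mapHomologicalComplex up).obj K) ⟶ L⟦n⟧) ≃+
      (W ⟶ ((dRestr V).obj L)⟦n⟧) :=
    AddEquiv.mk' (((j.app K).symm.homFromEquiv.trans (a.homEquiv _ _)).trans
      (e.homCongr (((dRestr V).commShiftIso n).app L))) fun x y => by
        have h1 := map_add (a.homAddEquiv (DerivedCategory.Q.obj K) (L⟦n⟧))
          ((j.app K).hom ≫ x) ((j.app K).hom ≫ y)
        show e.inv ≫ a.homEquiv _ _ ((j.app K).hom ≫ (x + y)) ≫ _ =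
          e.inv ≫ a.homEquiv _ _ ((j.app K).hom ≫ x) ≫ _ + e.inv ≫ a.homEquiv _ _ ((j.app K).hom ≫ y) ≫ _
        rw [← Preadditive.comp_add, ← Preadditive.add_comp, Preadditive.comp_add]
        exact congrArg (fun t => e.inv ≫ t ≫ _) h1
  refine (tBij_iff_of_equiv ψ _ _ fun x => ?_).1 hT
  let s := DerComp.GSec.ofSect O V b
  have hs : DerCompLocal.smulCx s K = s • 𝟙 K := by
    ext q : 1
    simp [DerComp.smul_def]
  let r := (((dRestr (O := O) V).commShiftIso n).app L).hom
  show e.inv ≫ a.homEquiv _ _ (j.hom.app K ≫ DerivedCategory.Q.map _ ≫ x) ≫ r =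
    s • (e.inv ≫ a.homEquiv _ _ (j.hom.app K ≫ x) ≫ r)
  rw [← (ModSite.extZero O V).mapDerivedCategoryFactors_hom_naturality_assoc, Adjunction.homEquiv_naturality_left,
    hs, KosCx.Q_map_smul, Linear.smul_comp, Category.id_comp, Linear.smul_comp, Linear.comp_smul]

/-- A derived complete object with no maps from the test object has no sections. -/
theorem orth_free_of_orth_testCx {V : C} {l : List (O.obj.obj (op V))} (hl : ∀ a ∈ l, a ∈ I.ideal V)
    (L : DerivedCategory (ModSite.Mod O)) (hL : DerComp.IsDerComp O I L)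
    (h : Orth (DerivedCategory.Q.obj (testCx V l)) L) : Orth (SiteCmp.inD O (ModSite.freeOn O V)) L := by
  let k := (HomologicalComplex.single (ModSite.Mod (O.over V)) up 0).obj (ModSite.unit (O.over V))
  have h1 := (orth_dExt_iff V _ L).1 (h.of_iso_left ((ModSite.extZero O V).mapDerivedCategoryFactors.app _).symm)
  have h2 := (orth_dExt_iff V (DerivedCategory.Q.obj k) L).2
    (orth_of_orth_kos (DerComp.GSec.ofSect O V) l k _ (fun b hb => van_restr b (hl b hb) L hL) h1)
  exact h2.of_iso_left ((ModSite.extZero O V).mapDerivedCategoryFactors.app k ≪≫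
    DerivedCategory.Q.mapIso ((HomologicalComplex.singleMapHomologicalComplex (ModSite.extZero O V) up 0).app _))

lemma orth_free_shift {V : C} {L : DerivedCategory (ModSite.Mod O)}
    (h : Orth (SiteCmp.inD O (ModSite.freeOn O V)) L) (m : ℤ)
    (φ : (DerivedCategory.singleFunctor (ModSite.Mod O) m).obj (ModSite.freeOn O V) ⟶ L) : φ = 0 := by
  let e := (((DerivedCategory.singleFunctors (ModSite.Mod O)).shiftIso (-m) m 0 (by lia)).app (ModSite.freeOn O V))
  have h' := (h.shift_left (-m)).of_iso_left e 0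
  rw [← cancel_mono ((shiftFunctorZero (DerivedCategory (ModSite.Mod O)) ℤ).inv.app L), zero_comp]
  exact h' _

/-- An object without local sections is zero. -/
theorem isZero_of_locally (L : DerivedCategory (ModSite.Mod O))
    (h : ∀ U : C, ∃ S ∈ J U, ∀ ⦃V : C⦄ (g : V ⟶ U), S g → Orth (SiteCmp.inD O (ModSite.freeOn O V)) L) :
    IsZero L := by
  have htriv : ∀ U : C, Triv U (1 : O.obj.obj (op U)) L := fun U => by
    obtain ⟨S, hS, hS'⟩ := h U
    refine DerCompLocal.triv_of_locally S hS fun V g hg m => ?_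
    haveI : Subsingleton ((DerivedCategory.singleFunctor (ModSite.Mod O) m).obj (ModSite.freeOn O V) ⟶ L) :=
      ⟨fun x y => (orth_free_shift (hS' g hg) m x).trans (orth_free_shift (hS' g hg) m y).symm⟩
    exact ⟨fun x y _ => Subsingleton.elim x y, fun y => ⟨y, Subsingleton.elim _ _⟩⟩
  have hz : ∀ (U : C) (m : ℤ) (φ : (DerivedCategory.singleFunctor (ModSite.Mod O) m).obj (ModSite.freeOn O U) ⟶ L),
      φ = 0 := fun U m φ => by
    have h1 : eU U (1 : O.obj.obj (op U)) = 𝟙 _ := by
      have : DerComp.GSec.ofSect O U 1 = 1 := Subtype.ext (funext fun W => map_one (O.obj.map W.hom.op).hom)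
      rw [eU, this, DerComp.smulEnd_one, CategoryTheory.Functor.map_id]
    refine congrFun ((htriv U m).eq_zero (x := fun _ : ℕ => φ) fun i => ?_) 0
    show φ = (DerivedCategory.singleFunctor (ModSite.Mod O) m).map (eU U 1) ≫ φ
    rw [h1, CategoryTheory.Functor.map_id, Category.id_comp]
  obtain ⟨K, hK, ⟨e⟩⟩ := RFTriangle.exists_model L
  refine IsZero.of_iso ?_ (e.symm ≪≫ (DerivedCategory.quotientCompQhIso (ModSite.Mod O)).app K)
  refine SetLoc.isZero_Q_of_acyclic fun m => ?_
  rw [HomologicalComplex.exactAt_iff' _ (m - 1) m (m + 1) (by simp) (by simp)]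
  refine SiteExactLocal.exact_of_locally _ fun U x hx => ⟨⊤, J.top_mem U, fun V g _ => ?_⟩
  let y := SiteExactLocal.res g ≫ x
  let φ : (HomologicalComplex.single (ModSite.Mod O) up m).obj (ModSite.freeOn O V) ⟶ K :=
    HomologicalComplex.mkHomFromSingle (c := up) y (fun k hk => by
      obtain rfl : m + 1 = k := by simpa using hk
      show (SiteExactLocal.res g ≫ x) ≫ _ = 0
      rw [Category.assoc]
      exact (congrArg (SiteExactLocal.res g ≫ ·) hx).trans comp_zero)
  have hφ : (HomotopyCategory.quotient _ up).map φ = 0 := by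
    apply (CochainComplex.IsKInjective.Qh_map_bijective _ K).1
    rw [← cancel_mono e.hom, Functor.map_zero, zero_comp]
    exact hz V m _
  have H := HomotopyCategory.homotopyOfEq φ 0 (hφ.trans (Functor.map_zero _ _ _).symm)
  refine ⟨(HomologicalComplex.singleObjXSelf up m _).inv ≫ H.hom m (m - 1), ?_⟩
  have := H.comm m
  rw [dNext_eq _ (show (ComplexShape.up ℤ).Rel m (m + 1) by simp),
    prevD_eq _ (show (ComplexShape.up ℤ).Rel (m - 1) m by simp),
    HomologicalComplex.single_obj_d, zero_comp, zero_add, HomologicalComplex.zero_f, add_zero,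
    HomologicalComplex.mkHomFromSingle_f] at this
  show ((HomologicalComplex.singleObjXSelf up m _).inv ≫ H.hom m (m - 1)) ≫ K.d (m - 1) m = y
  rw [Category.assoc, ← this, Iso.inv_hom_id_assoc]

/-- The Koszul criterion: an object receiving no maps from test objects on a covering family is left orthogonal to
the derived complete objects. -/
theorem ct_of_testCx (X : DerivedCategory (ModSite.Mod O))
    (h : ∀ U : C, ∃ S ∈ J U, ∀ ⦃V : C⦄ (g : V ⟶ U), S g →
      ∃ l, Gen I V l ∧ Orth (DerivedCategory.Q.obj (testCx V l)) X) : Ct I X := by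
  haveI := SiteDerCompletion.hasDerCompletion O I
  let η := DerComp.toDerCompletion I X
  obtain ⟨D, b, c, hT⟩ := distinguished_cocone_triangle η
  have hD := ct_cone I X D b c hT
  have hL := ((DerComp.derCompletion O I).obj X).property
  have hz : IsZero ((DerComp.derCompletion O I).obj X).obj := isZero_of_locally _ fun U => by
    obtain ⟨S, hS, hS'⟩ := h U
    refine ⟨S, hS, fun V g hg => ?_⟩
    obtain ⟨l, hl, hX⟩ := hS' g hg
    refine orth_free_of_orth_testCx hl.1 _ hL fun n φ => ?_
    obtain ⟨ψ, hψ⟩ := Triangle.coyoneda_exact₂ _ (Triangle.shift_distinguished _ hT n) φ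
      (orth_testCx_of_ct hl D hD n _)
    rw [hψ, hX n ψ]
    exact zero_comp
  intro Z hZ n φ
  let a := DerComp.derCompletionAdj O I
  let Zn : DerComp.DComp O I := ⟨Z⟦n⟧, isDerComp_shift hZ n⟩
  have h1 : η ≫ ((a.homEquiv X Zn).symm φ).hom = φ := by
    refine Eq.trans ?_ (Equiv.apply_symm_apply (a.homEquiv X Zn) φ)
    rw [Adjunction.homEquiv_unit]
    rfl
  rw [← h1, hz.eq_of_src ((a.homEquiv X Zn).symm φ).hom 0, comp_zero]

end Groth.DAlg.DerCompKoszul
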