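import Groth.Agent.SiteCohomology.ModulesGrothendieck
import Groth.Prelude.Def_ModSite
import Mathlib.CategoryTheory.Abelian.Exact
import Mathlib.CategoryTheory.Abelian.GrothendieckAxioms.Colim
import Mathlib.Algebra.Category.ModuleCat.AB

/-!
Extension by zero of modules on a ringed site is exact.
-/

universe u

open CategoryTheory CategoryTheory.Limits Opposite

set_option backward.defeqAttrib.useBackward true
set_option backward.isDefEq.respectTransparency false
set_option synthInstance.maxHeartbeats 400000
set_option maxHeartbeats 1000000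

namespace Groth.DAlg.ExtZeroExact

variable {C : Type u} [SmallCategory C] {R : Cᵒᵖ ⥤ RingCat.{u}} {U : C}

section Presheaf

variable (G : PresheafOfModules.{u} ((Over.forget U).op ⋙ R))

/-- The summands of the extension by zero. -/
abbrev summand (W : Cᵒᵖ) (φ : W.unop ⟶ U) : ModuleCat.{u} (R.obj W) := G.obj (op (Over.mk φ))

/-- Restriction along an arrow. -/
noncomputable def resMap {W W' : Cᵒᵖ} (g : W ⟶ W') (φ : W.unop ⟶ U) :
    summand G W φ ⟶ (ModuleCat.restrictScalars (R.map g).hom).obj (summand G W' (g.unop ≫ φ)) :=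
  G.map (Over.homMk g.unop : Over.mk (g.unop ≫ φ) ⟶ Over.mk φ).op

/-- An element of a summand. -/
noncomputable def inc (W : Cᵒᵖ) (φ : W.unop ⟶ U) (x : G.obj (op (Over.mk φ))) : (∐ summand G W : ModuleCat _) :=
  (Sigma.ι (summand G W) φ).hom x

lemma inc_map {W : Cᵒᵖ} {X : Over U} {φ φ' : W.unop ⟶ U} (h : φ = φ') (a : Over.mk φ ⟶ X) (a' : Over.mk φ' ⟶ X)
    (ha : a.left = a'.left) (x : G.obj (op X)) :
    inc G W φ (G.map a.op x) = inc G W φ' (G.map a'.op x) := by
  subst h
  rw [Over.OverMorphism.ext ha]

/-- The transition maps of the extension by zero. -/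
noncomputable def objMap {W W' : Cᵒᵖ} (g : W ⟶ W') :
    (∐ summand G W : ModuleCat _) ⟶ (ModuleCat.restrictScalars (R.map g).hom).obj (∐ summand G W') :=
  Sigma.desc fun φ => resMap G g φ ≫ (ModuleCat.restrictScalars (R.map g).hom).map (Sigma.ι (summand G W') (g.unop ≫ φ))

lemma objMap_inc {W W' : Cᵒᵖ} (g : W ⟶ W') (φ : W.unop ⟶ U) (x : G.obj (op (Over.mk φ))) :
    objMap G g (inc G W φ x) =
      inc G W' (g.unop ≫ φ) (G.map (Over.homMk g.unop : Over.mk (g.unop ≫ φ) ⟶ Over.mk φ).op x) :=
  congrArg (fun m => m x) (congrArg (fun m => m.hom.toFun)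
    (Sigma.ι_desc (fun φ => resMap G g φ ≫ (ModuleCat.restrictScalars (R.map g).hom).map
      (Sigma.ι (summand G W') (g.unop ≫ φ))) φ))

/-- Extension by zero of presheaves of modules. -/
noncomputable def obj : PresheafOfModules.{u} R where
  obj W := ∐ summand G W
  map g := objMap G g
  map_id W := Sigma.hom_ext _ _ fun φ => by
    ext x
    refine (objMap_inc G (𝟙 W) φ x).trans ((inc_map G (Category.id_comp φ) _ (𝟙 _) rfl x).trans ?_)
    rw [op_id, PresheafOfModules.map_id]
    rfl
  map_comp {W W' W''} g g' := Sigma.hom_ext _ _ fun φ => by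
    ext x
    refine (objMap_inc G (g ≫ g') φ x).trans ?_
    show _ = objMap G g' (objMap G g (inc G W φ x))
    erw [objMap_inc G g φ x, objMap_inc G g' (g.unop ≫ φ), ← PresheafOfModules.map_comp_apply, ← op_comp]
    exact inc_map G (Category.assoc g'.unop g.unop φ) _ _ rfl x

variable {G}

/-- A component of a morphism. -/
noncomputable def comp {G' : PresheafOfModules.{u} ((Over.forget U).op ⋙ R)} (f : G ⟶ G') (W : Cᵒᵖ)
    (φ : W.unop ⟶ U) : summand G W φ ⟶ summand G' W φ := f.app (op (Over.mk φ))

/-- Extension by zero of a morphism. -/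
noncomputable def map {G' : PresheafOfModules.{u} ((Over.forget U).op ⋙ R)} (f : G ⟶ G') : obj G ⟶ obj G' where
  app W := Limits.Sigma.map (comp f W)
  naturality {W W'} g := Sigma.hom_ext _ _ fun φ => by
    have h : ∀ (W : Cᵒᵖ) (φ : W.unop ⟶ U) (x : G.obj (op (Over.mk φ))),
        (Limits.Sigma.map (comp f W)).hom (inc G W φ x) =
          inc G' W φ (f.app (op (Over.mk φ)) x) := fun W φ x =>
      congrArg (fun m => m x) (congrArg (fun m => m.hom.toFun) (Limits.Sigma.ι_map (comp f W) φ))
    ext x
    show (Limits.Sigma.map (comp f W')).hom (objMap G g (inc G W φ x)) =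
      objMap G' g ((Limits.Sigma.map (comp f W)).hom (inc G W φ x))
    erw [objMap_inc, h, h, objMap_inc]
    exact congrArg _ (PresheafOfModules.naturality_apply f _ x)

lemma mono_map {G' : PresheafOfModules.{u} ((Over.forget U).op ⋙ R)} (f : G ⟶ G') [Mono f] : Mono (map f) := by
  refine PresheafOfModules.mono_of_injective fun {W} => (ModuleCat.mono_iff_injective _).1 ?_
  haveI : ∀ φ : W.unop ⟶ U, Mono (comp f W φ) := fun φ =>
    inferInstanceAs (Mono ((PresheafOfModules.evaluation _ (op (Over.mk φ))).map f))
  let τ := Discrete.natTrans (F := Discrete.functor (summand G W))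
    (G := Discrete.functor (summand G' W)) fun φ => comp f W φ.as
  haveI : ∀ j, Mono (τ.app j) := fun j => (inferInstance : Mono (comp f W j.as))
  haveI : Mono τ := NatTrans.mono_of_mono_app τ
  exact inferInstanceAs (Mono (colim.map τ))

variable (G) (N : PresheafOfModules.{u} R)

/-- A component of a morphism into a restriction. -/
noncomputable def compN (ξ : G ⟶ (PresheafOfModules.pushforward₀ (Over.forget U) R).obj N) (W : Cᵒᵖ)
    (φ : W.unop ⟶ U) : summand G W φ ⟶ N.obj W := ξ.app (op (Over.mk φ))

/-- Morphisms out of an extension by zero. -/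
noncomputable def homEquiv : (obj G ⟶ N) ≃ (G ⟶ (PresheafOfModules.pushforward₀ (Over.forget U) R).obj N) where
  toFun ψ :=
    { app := fun V => (Sigma.ι (summand G (op V.unop.left)) V.unop.hom ≫ ψ.app (op V.unop.left) :
        summand G (op V.unop.left) V.unop.hom ⟶ N.obj (op V.unop.left))
      naturality := fun {V V'} a => by
        ext x
        show ψ.app (op V'.unop.left) (inc G (op V'.unop.left) V'.unop.hom (G.map a x)) =
          N.map a.unop.left.op (ψ.app (op V.unop.left) (inc G (op V.unop.left) V.unop.hom x))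
        erw [← PresheafOfModules.naturality_apply ψ a.unop.left.op]
        refine congrArg _ ?_
        erw [objMap_inc]
        exact inc_map G (Over.w a.unop).symm a.unop (Over.homMk a.unop.left) rfl x }
  invFun ξ :=
    { app := fun W => Sigma.desc (compN G N ξ W)
      naturality := fun {W W'} g => Sigma.hom_ext _ _ fun φ => by
        have h : ∀ (W : Cᵒᵖ) (φ : W.unop ⟶ U) (x : G.obj (op (Over.mk φ))),
            (Sigma.desc (compN G N ξ W)).hom (inc G W φ x) =
              ξ.app (op (Over.mk φ)) x := fun W φ x =>
          congrArg (fun m => m x) (congrArg (fun m => m.hom.toFun)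
            (Sigma.ι_desc (compN G N ξ W) φ))
        ext x
        show (Sigma.desc (compN G N ξ W')).hom (objMap G g (inc G W φ x)) =
          N.map g ((Sigma.desc (compN G N ξ W)).hom (inc G W φ x))
        erw [objMap_inc, h, h]
        exact PresheafOfModules.naturality_apply ξ _ x }
  left_inv ψ := PresheafOfModules.hom_ext fun W => Sigma.hom_ext _ _ fun φ => by
    erw [Sigma.ι_desc]
    rfl
  right_inv ξ := PresheafOfModules.hom_ext fun V => by
    exact Sigma.ι_desc (compN G N ξ (op V.unop.left)) V.unop.hom

lemma homEquiv_symm_naturality_left {G' : PresheafOfModules.{u} ((Over.forget U).op ⋙ R)} (f : G' ⟶ G)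
    (ξ : G ⟶ (PresheafOfModules.pushforward₀ (Over.forget U) R).obj N) :
    (homEquiv G' N).symm (f ≫ ξ) = map f ≫ (homEquiv G N).symm ξ :=
  PresheafOfModules.hom_ext fun W => Sigma.hom_ext _ _ fun φ => by
    show Sigma.ι (summand G' W) φ ≫ Sigma.desc (compN G' N (f ≫ ξ) W) =
      Sigma.ι (summand G' W) φ ≫ Limits.Sigma.map (comp f W) ≫ Sigma.desc (compN G N ξ W)
    rw [Sigma.ι_desc, Limits.Sigma.ι_map_assoc, Sigma.ι_desc]
    rfl

lemma homEquiv_naturality_right {N' : PresheafOfModules.{u} R} (ψ : obj G ⟶ N) (q : N ⟶ N') :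
    homEquiv G N' (ψ ≫ q) =
      homEquiv G N ψ ≫ (PresheafOfModules.pushforward₀ (Over.forget U) R).map q :=
  PresheafOfModules.hom_ext fun _ => rfl

end Presheaf

section Sheaf

variable {J : GrothendieckTopology C} (O : Sheaf J CommRingCat.{u}) (U : C)

/-- Extension by zero as a sheafified direct sum. -/
noncomputable def sheafObj (G : ModSite.Mod (O.over U)) : ModSite.Mod O :=
  (ModSite.sheafify O).obj (obj (R := (ModSite.ringSh O).obj) (U := U) G.val)

/-- Morphisms out of the sheafified direct sum. -/
noncomputable def sheafHomEquiv (G : ModSite.Mod (O.over U)) (M : ModSite.Mod O) :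
    (sheafObj O U G ⟶ M) ≃ (G ⟶ (ModSite.restr O U).obj M) :=
  (((PresheafOfModules.sheafificationAdjunction.{u} (𝟙 (ModSite.ringSh O).obj)).homEquiv _ M).trans
    (homEquiv (R := (ModSite.ringSh O).obj) (U := U) G.val M.val)).trans
    ((SheafOfModules.fullyFaithfulForget (ModSite.ringSh (O.over U))).homEquiv (X := G)
      (Y := (ModSite.restr O U).obj M)).symm

/-- Functoriality. -/
noncomputable def sheafFunctor : ModSite.Mod (O.over U) ⥤ ModSite.Mod O :=
  Adjunction.leftAdjointOfEquiv (G := ModSite.restr O U) (F_obj := sheafObj O U) (sheafHomEquiv O U)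
    fun G M M' q h => by
      refine (SheafOfModules.forget _).map_injective ?_
      show homEquiv (R := (ModSite.ringSh O).obj) (U := U) G.val M'.val _ =
        homEquiv (R := (ModSite.ringSh O).obj) (U := U) G.val M.val _ ≫ _
      rw [Adjunction.homEquiv_naturality_right]
      exact homEquiv_naturality_right _ _ _ _

/-- Its adjunction with restriction. -/
noncomputable def sheafAdj : sheafFunctor O U ⊣ ModSite.restr O U := Adjunction.adjunctionOfEquivLeft _ _

lemma mono_sheafFunctor_map {G G' : ModSite.Mod (O.over U)} (f : G ⟶ G') [Mono f] :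
    Mono ((sheafFunctor O U).map f) := by
  haveI : Mono f.val := inferInstanceAs (Mono ((SheafOfModules.forget _).map f))
  haveI := mono_map (R := (ModSite.ringSh O).obj) (U := U) f.val
  have h : (sheafFunctor O U).map f =
      (ModSite.sheafify O).map (map (R := (ModSite.ringSh O).obj) (U := U) f.val) := by
    show (sheafHomEquiv O U G _).symm (f ≫ sheafHomEquiv O U G' _ (𝟙 _)) = _
    refine (sheafHomEquiv O U G _).injective ?_
    rw [Equiv.apply_symm_apply]
    refine (SheafOfModules.forget _).map_injective ?_
    show f.val ≫ homEquiv (R := (ModSite.ringSh O).obj) (U := U) G'.val _ _ = homEquiv (R := (ModSite.ringSh O).obj) (U := U) G.val _ _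
    apply (homEquiv (R := (ModSite.ringSh O).obj) (U := U) G.val _).symm.injective
    rw [homEquiv_symm_naturality_left, Equiv.symm_apply_apply, Equiv.symm_apply_apply, ← Adjunction.homEquiv_naturality_left]
    exact congrArg _ (Category.comp_id _)
  rw [h]
  infer_instance

/-- Extension by zero preserves monomorphisms. -/
theorem preservesMonomorphisms_extZero : (ModSite.extZero O U).PreservesMonomorphisms := by
  haveI : (sheafFunctor O U).PreservesMonomorphisms := ⟨fun f _ => mono_sheafFunctor_map O U f⟩
  exact Functor.PreservesMonomorphisms.of_iso ((sheafAdj O U).leftAdjointUniq (ModSite.extZeroAdj O U))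

/-- Extension by zero is exact. -/
theorem preservesFiniteLimits_extZero : PreservesFiniteLimits (ModSite.extZero O U) := by
  haveI := preservesMonomorphisms_extZero O U
  haveI := (ModSite.extZeroAdj O U).leftAdjoint_preservesColimits
  haveI : PreservesFiniteColimits (ModSite.extZero O U) :=
    ⟨fun _ _ _ => inferInstance⟩
  haveI : PreservesBinaryBiproducts (ModSite.extZero O U) :=
    preservesBinaryBiproducts_of_preservesBinaryCoproducts _
  haveI : (ModSite.extZero O U).Additive := Functor.additive_of_preservesBinaryBiproducts _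
  haveI : (ModSite.extZero O U).PreservesHomology :=
    Functor.preservesHomology_of_preservesMonos_and_cokernels _
  exact (ModSite.extZero O U).preservesFiniteLimits_of_preservesHomology

end Sheaf

end Groth.DAlg.ExtZeroExact
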