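import Groth.Agent.DAlg.TelescopeHom
import Groth.Agent.DerivedCoh.TriBasic

/-!
The mapping cone of the tower map of an endomorphism, in the homotopy category.
-/

universe v u

set_option backward.defeqAttrib.useBackward true
set_option backward.isDefEq.respectTransparency false
set_option linter.unusedSectionVars false
set_option linter.style.haveILetI false

open CategoryTheory CategoryTheory.Limits CategoryTheory.Pretriangulated HomologicalComplex


namespace Groth.DAlg.KTower

open TelescopeHom Groth.DerivedCoh.KInjRes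

variable {A : Type u} [Category.{v} A] [Abelian A]

local notation "up" => ComplexShape.up ℤ
local notation "qA" => HomotopyCategory.quotient A (ComplexShape.up ℤ)
local notation "quot" => HomotopyCategory.quotient A (ComplexShape.up ℤ)

/-- homotopies into a product are componentwise -/
lemma homotopic_pi {T : Type} (I : T → CochainComplex A ℤ) [HasProduct I]
    {K : CochainComplex A ℤ} (f g : K ⟶ ∏ᶜ I)
    (h : ∀ t, Nonempty (Homotopy (f ≫ Pi.π I t) (g ≫ Pi.π I t))) : Nonempty (Homotopy f g) := by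
  let H := fun t => (h t).some
  have hext : ∀ {a : A} (j : ℤ) (x y : a ⟶ (∏ᶜ I).X j),
      (∀ t, x ≫ (Pi.π I t).f j = y ≫ (Pi.π I t).f j) → x = y := fun {a} j x y hxy => by
    have h0 : fromDisk' x = fromDisk' y := Pi.hom_ext _ _ fun t => by
      refine from_double_hom_ext ?_ ?_
      · simp [fromDisk', hxy]
      · simp only [fromDisk', comp_f, mkHomFromDouble_f₁, Category.assoc, ← (Pi.π I t).comm]
        rw [← Category.assoc x, hxy t, Category.assoc]
    have := congrArg (fun z => z.f j) h0
    simpa [fromDisk'] using this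
  let lift : ∀ i j, K.X i ⟶ (∏ᶜ I).X j := fun i j =>
    (doubleXIso₀ (𝟙 (K.X i)) (relUp' j)).inv ≫
      (Pi.lift fun t => fromDisk' ((H t).hom i j)).f j
  have hfac : ∀ i j t, lift i j ≫ (Pi.π I t).f j = (H t).hom i j := fun i j t => by
    simp [lift, fromDisk', ← comp_f]
  refine ⟨{ hom := lift, zero := fun i j hij => ?_, comm := fun i => ?_ }⟩
  · refine hext j _ _ fun t => ?_
    rw [zero_comp]
    exact (hfac i j t).trans ((H t).zero i j hij)
  · refine hext i _ _ fun t => ?_
    have hr : (ComplexShape.up ℤ).Rel i (i + 1) := by simp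
    have hl : (ComplexShape.up ℤ).Rel (i - 1) i := by simp
    have := (H t).comm i
    rw [dNext_eq _ hr, prevD_eq _ hl] at this ⊢
    simp only [comp_f] at this
    simp only [Preadditive.add_comp, Category.assoc]
    refine this.trans (congrArg (· + _) (congrArg₂ (· + ·) ?_ ?_))
    · rw [← hfac (i + 1) i t]
    · rw [← (Pi.π I t).comm (i - 1) i, ← Category.assoc, hfac i (i - 1) t]


variable [HasProductsOfShape ℕ A] {I : CochainComplex A ℤ} (e : I ⟶ I)

/-- The tower map on the countable power. -/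
noncomputable def telPi : (∏ᶜ fun _ : ℕ => I) ⟶ ∏ᶜ fun _ : ℕ => I :=
  Pi.lift fun n => Pi.π (fun _ : ℕ => I) n - Pi.π (fun _ : ℕ => I) (n + 1) ≫ e

/-- The cone of the tower map. -/
noncomputable abbrev cone : CochainComplex A ℤ := CochainComplex.mappingCone (telPi e)

/-- Postcomposition. -/
noncomputable def post (Z : HomotopyCategory A up) : (Z ⟶ (qA).obj I) →+ (Z ⟶ (qA).obj I) :=
  Preadditive.rightComp Z ((qA).map e)

variable (I) in
lemma bijective_proj (Z : HomotopyCategory A up) :
    Function.Bijective fun (x : Z ⟶ (qA).obj (∏ᶜ fun _ : ℕ => I)) n =>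
      x ≫ (qA).map (Pi.π (fun _ : ℕ => I) n) := by
  obtain ⟨Z, rfl⟩ := HomotopyCategory.quotient_obj_surjective Z
  constructor
  · intro x y hxy
    obtain ⟨f, rfl⟩ := (qA).map_surjective x
    obtain ⟨g, rfl⟩ := (qA).map_surjective y
    obtain ⟨H⟩ := homotopic_pi (fun _ : ℕ => I) f g fun n => ⟨HomotopyCategory.homotopyOfEq _ _ (by
      rw [Functor.map_comp, Functor.map_comp]
      exact congrFun hxy n)⟩
    exact HomotopyCategory.eq_of_homotopy _ _ H
  · intro x
    choose f hf using fun n => (qA).map_surjective (x n)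
    refine ⟨(qA).map (Pi.lift f), funext fun n => ?_⟩
    show (qA).map (Pi.lift f) ≫ _ = _
    rw [← Functor.map_comp, Pi.lift_π, hf]

lemma bijective_telPi_iff (Z : HomotopyCategory A up) :
    Function.Bijective (fun x : Z ⟶ (qA).obj (∏ᶜ fun _ : ℕ => I) => x ≫ (qA).map (telPi e)) ↔
      TBij (post e Z) := by
  let Φ := Equiv.ofBijective _ (bijective_proj I Z)
  have : Φ ∘ (fun x : Z ⟶ (qA).obj (∏ᶜ fun _ : ℕ => I) => x ≫ (qA).map (telPi e)) =
      (fun (y : ℕ → (Z ⟶ (qA).obj I)) i => y i - post e Z (y (i + 1))) ∘ Φ := by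
    funext x i
    show (x ≫ (qA).map (telPi e)) ≫ (qA).map (Pi.π (fun _ : ℕ => I) i) =
      x ≫ (qA).map (Pi.π (fun _ : ℕ => I) i) -
        (x ≫ (qA).map (Pi.π (fun _ : ℕ => I) (i + 1))) ≫ (qA).map e
    rw [Category.assoc, Category.assoc, ← Functor.map_comp, ← Functor.map_comp, ← Preadditive.comp_sub,
      ← Functor.map_sub, telPi, Pi.lift_π]
  refine ((Φ.bijective.of_comp_iff' _).symm.trans ?_)
  rw [this]
  exact Function.Bijective.of_comp_iff _ Φ.bijective

lemma tBij_post_congr {Z Z' : HomotopyCategory A up} (i : Z ≅ Z') : TBij (post e Z) ↔ TBij (post e Z') :=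
  tBij_iff_of_equiv (AddEquiv.mk' i.homFromEquiv fun x y => show i.inv ≫ (x + y) = i.inv ≫ x + i.inv ≫ y from
    Preadditive.comp_add _ _ _ _ _ _) _ _
    fun x => (Category.assoc i.inv x ((qA).map e)).symm

/-- Trivial towers leave no morphism to the cone. -/
lemma hom_cone_eq_zero {Z : HomotopyCategory A up} (h : TBij (post e Z)) (h' : TBij (post e (Z⟦(-1 : ℤ)⟧)))
    (x : Z ⟶ (qA).obj (cone e)) : x = 0 := by
  have hT := HomotopyCategory.mappingCone_triangleh_distinguished (telPi e)
  let T := CochainComplex.mappingCone.triangleh (telPi e)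
  have h1 : (x : Z ⟶ T.obj₃) ≫ T.mor₃ = 0 := by
    have h2 : (x ≫ T.mor₃) ≫ T.mor₁⟦(1 : ℤ)⟧' = 0 :=
      (Category.assoc _ _ _).trans ((congrArg (x ≫ ·) (comp_distTriang_mor_zero₃₁ _ hT)).trans comp_zero)
    let a := (shiftEquiv (HomotopyCategory A up) (1 : ℤ)).symm.toAdjunction
    obtain ⟨y, hy⟩ := (a.homEquiv Z T.obj₁).surjective (x ≫ T.mor₃)
    have h3 : y ≫ T.mor₁ = 0 := by
      apply (a.homEquiv Z T.obj₂).injective
      rw [a.homEquiv_naturality_right, hy, a.homEquiv_unit (f := (0 : _ ⟶ T.obj₂)), Functor.map_zero, comp_zero]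
      exact h2
    have h4 : y = 0 := ((bijective_telPi_iff e _).2 h').1 (h3.trans zero_comp.symm)
    rw [← hy, h4, a.homEquiv_unit, Functor.map_zero, comp_zero]
  obtain ⟨z, hz⟩ := Triangle.coyoneda_exact₃ _ hT x h1
  obtain ⟨w, hw⟩ := ((bijective_telPi_iff e Z).2 h).2 z
  rw [hz, ← hw]
  exact (Category.assoc _ _ _).trans ((congrArg (w ≫ ·) (comp_distTriang_mor_zero₁₂ _ hT)).trans comp_zero)

/-- An acyclic cone on a K-injective complex trivialises all towers. -/
theorem tBij_post_of_acyclic [I.IsKInjective] (h : (cone e).Acyclic) (Z : HomotopyCategory A up) :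
    TBij (post e Z) := by
  have hP : (∏ᶜ fun _ : ℕ => I).IsKInjective := ⟨fun {K} f hK => homotopic_pi (fun _ : ℕ => I) f 0 fun n =>
    ⟨(CochainComplex.IsKInjective.homotopyZero (f ≫ Pi.π (fun _ : ℕ => I) n) hK).trans
      (Homotopy.ofEq zero_comp.symm)⟩⟩
  haveI : (cone e).IsKInjective := by
    rw [CochainComplex.isKInjective_iff_rightOrthogonal]
    exact ObjectProperty.ext_of_isTriangulatedClosed₃ _ _
      (HomotopyCategory.mappingCone_triangleh_distinguished (telPi e))
      (CochainComplex.IsKInjective.rightOrthogonal (∏ᶜ fun _ : ℕ => I))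
      (CochainComplex.IsKInjective.rightOrthogonal (∏ᶜ fun _ : ℕ => I))
  have h0 : IsZero ((qA).obj (cone e)) := by
    rw [IsZero.iff_id_eq_zero, ← (qA).map_id, ← (qA).map_zero (cone e) (cone e)]
    exact HomotopyCategory.eq_of_homotopy _ _ (CochainComplex.IsKInjective.homotopyZero _ h)
  haveI : IsIso ((qA).map (telPi e)) :=
    (Triangle.isZero₃_iff_isIso₁ _ (HomotopyCategory.mappingCone_triangleh_distinguished (telPi e))).1 h0
  exact (bijective_telPi_iff e Z).1 ((asIso ((qA).map (telPi e))).homToEquiv.bijective)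

end Groth.DAlg.KTower
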