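import Groth.Agent.DAlg.SiteExactLocal
import Groth.Agent.DAlg.ExtZeroExact
import Groth.Agent.DAlg.KTower
import Groth.Agent.DAlg.DerCompPush

/-!
Derived completeness at a section is local on a ringed site.
-/

universe u

open CategoryTheory CategoryTheory.Limits CategoryTheory.Pretriangulated Opposite

attribute [local instance] HasDerivedCategory.standard

set_option backward.defeqAttrib.useBackward true
set_option backward.isDefEq.respectTransparency false
set_option synthInstance.maxHeartbeats 400000
set_option maxHeartbeats 1000000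

namespace Groth.DAlg.DerCompLocal

open Groth.SitesTopoi.ModH TelescopeHom DerCompCrit KTower
open Groth.Misc4.FreeOn (homEquiv homEquiv_comp)

variable {C : Type u} [SmallCategory C] {J : GrothendieckTopology C} {O : Sheaf J CommRingCat.{u}}

local notation "up" => ComplexShape.up ℤ

lemma triv_of_iso {U : C} {f : O.obj.obj (op U)} {K K' : DerivedCategory (ModSite.Mod O)} (i : K ≅ K') :
    Triv U f K ↔ Triv U f K' :=
  forall_congr' fun _ => tBij_iff_of_equiv
    (AddEquiv.mk' i.homToEquiv fun x y => show (x + y) ≫ i.hom = x ≫ i.hom + y ≫ i.hom from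
      Preadditive.add_comp _ _ _ _ _ _) _ _ fun x =>
      show ((DerivedCategory.singleFunctor _ _).map (eU U f) ≫ x) ≫ i.hom =
        (DerivedCategory.singleFunctor _ _).map (eU U f) ≫ x ≫ i.hom from Category.assoc _ _ _

/-- Restriction is additive. -/
instance additive_restr (U : C) : (ModSite.restr O U).Additive where

/-- Restriction of a K-injective complex is K-injective. -/
theorem isKInjective_restr (U : C) (I : CochainComplex (ModSite.Mod O) ℤ) [I.IsKInjective] :
    CochainComplex.IsKInjective (((ModSite.restr O U).mapHomologicalComplex up).obj I) := by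
  haveI := ExtZeroExact.preservesFiniteLimits_extZero O U
  haveI := (ModSite.extZeroAdj O U).leftAdjoint_preservesColimits
  haveI : PreservesFiniteColimits (ModSite.extZero O U) := ⟨fun _ _ _ => inferInstance⟩
  let a := Groth.DerivedAdj.mapHomotopyCategoryAdj (ModSite.extZeroAdj O U) up
  refine ⟨fun {K} f hK => ⟨HomotopyCategory.homotopyOfEq _ _ ?_⟩⟩
  apply (a.homEquiv ((HomotopyCategory.quotient _ up).obj K) ((HomotopyCategory.quotient _ up).obj I)).symm.injective
  obtain ⟨ψ, hψ⟩ := (HomotopyCategory.quotient _ up).map_surjective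
    (X := ((ModSite.extZero O U).mapHomologicalComplex up).obj K) (Y := I)
    ((a.homEquiv ((HomotopyCategory.quotient _ up).obj K) ((HomotopyCategory.quotient _ up).obj I)).symm
      ((HomotopyCategory.quotient _ up).map f))
  have hac : HomologicalComplex.Acyclic (((ModSite.extZero O U).mapHomologicalComplex up).obj K) := fun i =>
    (hK i).map (ModSite.extZero O U)
  refine hψ.symm.trans ?_
  rw [HomotopyCategory.eq_of_homotopy ψ 0 (CochainComplex.IsKInjective.homotopyZero ψ hac), Functor.map_zero,
    a.homEquiv_counit]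
  erw [Functor.map_zero]
  exact Limits.zero_comp.symm

/-- Multiplication by a global section on a complex. -/
@[simps]
noncomputable def smulCx (s : DerComp.GSec O) (K : CochainComplex (ModSite.Mod O) ℤ) : K ⟶ K where
  f i := DerComp.smulEnd s (K.X i)
  comm' i j _ := DerComp.smulEnd_comm s (K.d i j)

lemma smulCx_comm (s : DerComp.GSec O) {K L : CochainComplex (ModSite.Mod O) ℤ} (φ : K ⟶ L) :
    φ ≫ smulCx s L = smulCx s K ≫ φ := by
  ext i : 1
  exact (DerComp.smulEnd_comm s (φ.f i)).symm

lemma smulCx_single (s : DerComp.GSec O) (P : ModSite.Mod O) (m : ℤ) :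
    smulCx s ((HomologicalComplex.single _ up m).obj P) =
      (HomologicalComplex.single _ up m).map (DerComp.smulEnd s P) := by
  refine HomologicalComplex.from_single_hom_ext ?_
  simp only [smulCx_f, HomologicalComplex.single_map_f_self]
  rw [DerComp.smulEnd_comm, Iso.hom_inv_id_assoc]

section Over

variable (U : C) (f : O.obj.obj (op U)) (I : CochainComplex (ModSite.Mod O) ℤ)

/-- The restricted complex. -/
noncomputable abbrev IU : CochainComplex (ModSite.Mod (O.over U)) ℤ :=
  ((ModSite.restr O U).mapHomologicalComplex up).obj I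

/-- Multiplication by the section on the restricted complex. -/
noncomputable abbrev eI : IU U I ⟶ IU U I := smulCx (DerComp.GSec.ofSect O U f) (IU U I)

lemma exists_extZero_freeOn_iso (X : Over U) :
    ∃ i : (ModSite.extZero O U).obj (ModSite.freeOn (O.over U) X) ≅ ModSite.freeOn O X.left,
      (ModSite.extZero O U).map (DerComp.smulEnd (DerComp.GSec.ofSect O U f) (ModSite.freeOn (O.over U) X)) ≫ i.hom =
        i.hom ≫ eU X.left ((O.obj.map X.hom.op).hom f) := by
  refine DerCompPush.exists_iso_comm (fun M => sc M.val X.left)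
    (fun {M N : ModSite.Mod O} (p : M ⟶ N) => apm (SheafOfModules.Hom.val p) X.left)
    (fun M x => ((O.obj.map X.hom.op).hom f : rsec O X.left) • x)
    (fun M => ((ModSite.extZeroAdj O U).homEquiv _ M).trans (homEquiv X ((ModSite.restr O U).obj M)))
    (homEquiv X.left) (fun p φ => ?_) (fun p φ => ?_) _ _ (fun M φ => ?_) (fun M φ => homEquiv_eU _ _ M φ)
  · simp only [Equiv.trans_apply]
    rw [Adjunction.homEquiv_naturality_right]
    exact homEquiv_comp X _ _
  · exact homEquiv_comp _ φ p
  · simp only [Equiv.trans_apply]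
    rw [Adjunction.homEquiv_naturality_left, DerComp.smulEnd_comm]
    exact homEquiv_comp X _ _

/-- Towers on the restricted complex are the towers of sections. -/
lemma tBij_post_iff [I.IsKInjective] (X : Over U) (m : ℤ) :
    TBij (post (eI U f I) ((HomotopyCategory.quotient _ up).obj
        ((HomologicalComplex.single _ up m).obj (ModSite.freeOn (O.over U) X)))) ↔
      TBij (pre (eU X.left ((O.obj.map X.hom.op).hom f)) m
        (DerivedCategory.Qh.obj ((HomotopyCategory.quotient _ up).obj I))) := by
  obtain ⟨i, hi⟩ := exists_extZero_freeOn_iso U f X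
  let qO := HomotopyCategory.quotient (ModSite.Mod O) up
  let qU := HomotopyCategory.quotient (ModSite.Mod (O.over U)) up
  let sU := HomologicalComplex.single (ModSite.Mod (O.over U)) up m
  let sO := HomologicalComplex.single (ModSite.Mod O) up m
  let F := (ModSite.extZero O U).mapHomotopyCategory up
  let a := Groth.DerivedAdj.mapHomotopyCategoryAdj (ModSite.extZeroAdj O U) up
  let P := ModSite.freeOn (O.over U) X
  let P' := ModSite.freeOn O X.left
  let j : F.obj (qU.obj (sU.obj P)) ≅ qO.obj (sO.obj P') :=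
    qO.mapIso ((HomologicalComplex.singleMapHomologicalComplex (ModSite.extZero O U) up m).app P ≪≫ sO.mapIso i)
  let ψ₁ : (qO.obj (sO.obj P') ⟶ qO.obj I) → (qU.obj (sU.obj P) ⟶ qU.obj (IU U I)) := fun x =>
    a.homEquiv _ _ (j.hom ≫ x)
  have hψ₁ : Function.Bijective ψ₁ :=
    (a.homEquiv _ _).bijective.comp j.symm.homFromEquiv.bijective
  let ψ₂ := Equiv.ofBijective _ (CochainComplex.IsKInjective.Qh_map_bijective (qO.obj (sO.obj P')) I)
  let ψ : ((DerivedCategory.singleFunctor (ModSite.Mod O) m).obj P' ⟶ DerivedCategory.Qh.obj (qO.obj I)) ≃+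
      (qU.obj (sU.obj P) ⟶ qU.obj (IU U I)) :=
    AddEquiv.mk' (ψ₂.symm.trans (Equiv.ofBijective _ hψ₁)) fun x y => by
      show ψ₁ (ψ₂.symm (x + y)) = ψ₁ (ψ₂.symm x) + ψ₁ (ψ₂.symm y)
      obtain ⟨x, rfl⟩ := ψ₂.surjective x
      obtain ⟨y, rfl⟩ := ψ₂.surjective y
      rw [show ψ₂ x + ψ₂ y = ψ₂ (x + y) from (DerivedCategory.Qh.map_add).symm, ψ₂.symm_apply_apply,
        ψ₂.symm_apply_apply, ψ₂.symm_apply_apply]
      simp only [ψ₁, Adjunction.homEquiv_unit, Preadditive.comp_add, Functor.map_add]
  refine (tBij_iff_of_equiv ψ _ _ fun x => ?_).symm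
  obtain ⟨x, rfl⟩ := ψ₂.surjective x
  have h2 : (DerivedCategory.singleFunctor (ModSite.Mod O) m).map (eU X.left ((O.obj.map X.hom.op).hom f)) ≫ ψ₂ x =
      ψ₂ (qO.map (sO.map (eU X.left ((O.obj.map X.hom.op).hom f))) ≫ x) :=
    (DerivedCategory.Qh.map_comp (qO.map (sO.map (eU X.left ((O.obj.map X.hom.op).hom f)))) x).symm
  show ψ₁ (ψ₂.symm ((DerivedCategory.singleFunctor (ModSite.Mod O) m).map
      (eU X.left ((O.obj.map X.hom.op).hom f)) ≫ ψ₂ x)) = ψ₁ (ψ₂.symm (ψ₂ x)) ≫ qU.map (eI U f I)
  rw [h2, ψ₂.symm_apply_apply, ψ₂.symm_apply_apply]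
  have hpost : ∀ z : qU.obj (sU.obj P) ⟶ qU.obj (IU U I),
      z ≫ qU.map (eI U f I) = qU.map (sU.map (DerComp.smulEnd (DerComp.GSec.ofSect O U f) P)) ≫ z := fun z => by
    obtain ⟨z, rfl⟩ := qU.map_surjective z
    rw [← Functor.map_comp, ← Functor.map_comp, smulCx_comm, smulCx_single]
  rw [hpost]
  simp only [ψ₁]
  rw [← a.homEquiv_naturality_left, ← Category.assoc, ← Category.assoc]
  congr 2
  change qO.map _ ≫ qO.map _ = qO.map _ ≫ qO.map _
  rw [← Functor.map_comp, ← Functor.map_comp]
  congr 1
  simp only [Iso.trans_hom, Functor.mapIso_hom, Iso.app_hom, Category.assoc, ← Functor.map_comp, ← hi]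
  rw [Functor.map_comp, ← Category.assoc, ← Category.assoc]
  congr 1
  exact ((HomologicalComplex.singleMapHomologicalComplex (ModSite.extZero O U) up m).hom.naturality _).symm

/-- Local triviality makes the cone of the tower acyclic. -/
lemma acyclic_cone [I.IsKInjective] (R : Sieve U) (hR : R ∈ J U)
    (h : ∀ ⦃V : C⦄ (g : V ⟶ U), R g →
      Triv V ((O.obj.map g.op).hom f) (DerivedCategory.Qh.obj ((HomotopyCategory.quotient _ up).obj I))) :
    (KTower.cone (eI U f I)).Acyclic := fun m => by
  rw [HomologicalComplex.exactAt_iff' _ (m - 1) m (m + 1) (by simp) (by simp)]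
  refine SiteExactLocal.exact_of_locally _ fun X x hx => ?_
  refine ⟨(Sieve.overEquiv X).symm (R.pullback X.hom), ?_, fun {Y} a ha => ?_⟩
  · rw [GrothendieckTopology.mem_over_iff]
    exact ((Sieve.overEquiv X).apply_symm_apply (R.pullback X.hom)).symm ▸ J.pullback_stable X.hom hR
  · have ha' : R Y.hom := by
      rw [Sieve.overEquiv_symm_iff] at ha
      rw [← Over.w a]
      exact ha
    let y := SiteExactLocal.res a ≫ x
    have hy : y ≫ (KTower.cone (eI U f I)).d m (m + 1) = 0 := by
      show (SiteExactLocal.res a ≫ x) ≫ _ = 0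
      rw [Category.assoc]
      exact (congrArg (SiteExactLocal.res a ≫ ·) hx).trans comp_zero
    let φ : (HomologicalComplex.single _ up m).obj (ModSite.freeOn (O.over U) Y) ⟶ KTower.cone (eI U f I) :=
      HomologicalComplex.mkHomFromSingle (c := up) y (fun k hk => by
      obtain rfl : m + 1 = k := by simpa using hk
      exact hy)
    have hn : ∀ n : ℤ, TBij (post (eI U f I) ((HomotopyCategory.quotient _ up).obj
        ((HomologicalComplex.single _ up n).obj (ModSite.freeOn (O.over U) Y)))) :=
      fun n => (tBij_post_iff U f I Y n).2 (h Y.hom ha' n)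
    have hφ : (HomotopyCategory.quotient _ up).map φ = 0 :=
      hom_cone_eq_zero _ (hn m) ((tBij_post_congr _ (((HomotopyCategory.singleFunctors
        (ModSite.Mod (O.over U))).shiftIso (-1) (m + 1) m (by lia)).app (ModSite.freeOn (O.over U) Y))).2
          (hn (m + 1))) _
    have H := HomotopyCategory.homotopyOfEq φ 0 (hφ.trans (Functor.map_zero _ _ _).symm)
    refine ⟨(HomologicalComplex.singleObjXSelf up m _).inv ≫ H.hom m (m - 1), ?_⟩
    have := H.comm m
    rw [dNext_eq _ (show (ComplexShape.up ℤ).Rel m (m + 1) by simp),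
      prevD_eq _ (show (ComplexShape.up ℤ).Rel (m - 1) m by simp),
      HomologicalComplex.single_obj_d, zero_comp, zero_add, HomologicalComplex.zero_f, add_zero,
      HomologicalComplex.mkHomFromSingle_f] at this
    show ((HomologicalComplex.singleObjXSelf up m _).inv ≫ H.hom m (m - 1)) ≫
      (KTower.cone (eI U f I)).d (m - 1) m = y
    rw [Category.assoc, ← this, Iso.inv_hom_id_assoc]

end Over

/-- Local triviality trivialises all towers of the restricted complex. -/
theorem tBij_post_of_locally (U : C) (f : O.obj.obj (op U)) (I : CochainComplex (ModSite.Mod O) ℤ)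
    [I.IsKInjective] (R : Sieve U) (hR : R ∈ J U)
    (h : ∀ ⦃V : C⦄ (g : V ⟶ U), R g →
      Triv V ((O.obj.map g.op).hom f) (DerivedCategory.Qh.obj ((HomotopyCategory.quotient _ up).obj I)))
    (Z : HomotopyCategory (ModSite.Mod (O.over U)) up) : TBij (post (eI U f I) Z) := by
  haveI := isKInjective_restr U I
  exact tBij_post_of_acyclic _ (acyclic_cone U f I R hR h) Z

/-- Triviality is local. -/
theorem triv_of_locally {U : C} {f : O.obj.obj (op U)} {K : DerivedCategory (ModSite.Mod O)} (R : Sieve U)
    (hR : R ∈ J U) (h : ∀ ⦃V : C⦄ (g : V ⟶ U), R g → Triv V ((O.obj.map g.op).hom f) K) : Triv U f K := by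
  obtain ⟨I, hI, ⟨e⟩⟩ := RFTriangle.exists_model K
  rw [← triv_of_iso e]
  intro m
  have := (tBij_post_iff U f I (Over.mk (𝟙 U)) m).1
    (tBij_post_of_locally U f I R hR (fun V g hg => (triv_of_iso e).2 (h g hg)) _)
  simpa using this

end Groth.DAlg.DerCompLocal
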