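import Groth.Agent.DAlg.ExtZeroTensorTot
import Groth.Agent.DAlg.DerCompRHom
import Groth.Agent.DAlg.DerCompPushIso

/-!
Internal derived hom commutes with derived completion.
-/

universe u

open CategoryTheory CategoryTheory.Limits CategoryTheory.Pretriangulated Opposite

attribute [local instance] HasDerivedCategory.standard

set_option backward.defeqAttrib.useBackward true
set_option backward.isDefEq.respectTransparency false
set_option synthInstance.maxHeartbeats 400000
set_option maxHeartbeats 1000000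
set_option linter.style.haveILetI false

namespace Groth.DAlg.DerCompRHomComm

open KosCx SiteTorsion DerCompKoszul ExtZeroTensorTot Groth.SitesTopoi Groth.SitesTopoi.ModH Groth.DerivedCoh

variable {C : Type u} [SmallCategory C] {J : GrothendieckTopology C} {O : Sheaf J CommRingCat.{u}}

local notation "up" => ComplexShape.up ℤ

/-- Flat terms, zero in high degrees. -/
def FlatAbove (X : CochainComplex (ModSite.Mod O) ℤ) (b : ℤ) : Prop :=
  (∀ n, ModSite.IsFlat (X.X n)) ∧ ∀ n, b < n → IsZero (X.X n)

lemma FlatAbove.isKFlat {X : CochainComplex (ModSite.Mod O) ℤ} {b : ℤ} (h : FlatAbove X b) :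
    KFlat.IsKFlat (KFlatSite.T O).flip X :=
  KFlat.isKFlat_of_flat _ _ b h.2 fun q => KFlatSite.flat_flip_of_isFlat (h.1 q)

lemma FlatAbove.cone {X : CochainComplex (ModSite.Mod O) ℤ} {b : ℤ} (h : FlatAbove X b) (f : X ⟶ X) :
    FlatAbove (CochainComplex.mappingCone f) b :=
  ⟨fun n => isFlat_of_iso (HomologicalComplex.homotopyCofiber.XIsoBiprod f n (n + 1) rfl).symm
      (KFlatSite.isFlat_biprod (h.1 _) (h.1 _)),
    fun n hn => IsZero.of_iso ((biprod_isZero_iff _ _).2 ⟨h.2 _ (by lia), h.2 _ hn⟩)
      (HomologicalComplex.homotopyCofiber.XIsoBiprod f n (n + 1) rfl)⟩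

lemma FlatAbove.kos {ι : Type*} (c : ι → DerComp.GSec O) : ∀ (l : List ι) {X : CochainComplex (ModSite.Mod O) ℤ}
    {b : ℤ}, FlatAbove X b → FlatAbove (KosCx.kos c l X) b
  | [], _, _, h => h
  | _ :: l, _, _, h => FlatAbove.kos c l (h.cone _)

lemma FlatAbove.shift {X : CochainComplex (ModSite.Mod O) ℤ} {b : ℤ} (h : FlatAbove X b) (a : ℤ) :
    FlatAbove (X⟦a⟧) (b - a) :=
  ⟨fun n => h.1 (n + a), fun n hn => h.2 (n + a) (by lia)⟩

lemma FlatAbove.single {M : ModSite.Mod O} (hM : ModSite.IsFlat M) :
    FlatAbove ((HomologicalComplex.single (ModSite.Mod O) up 0).obj M) 0 := by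
  refine ⟨fun n => ?_, fun n hn => HomologicalComplex.isZero_single_obj_X _ _ _ _ (by lia)⟩
  by_cases hn : n = 0
  · subst hn
    exact isFlat_of_iso (HomologicalComplex.singleObjXSelf up 0 M).symm hM
  · exact KFlatSite.isFlat_of_isZero (HomologicalComplex.isZero_single_obj_X _ _ _ _ hn)

/-- Nilpotence passes to tensor products with complexes K-flat on the other side. -/
lemma nil_tensor {s : DerComp.GSec O} {k : CochainComplex (ModSite.Mod O) ℤ}
    (hk : KFlat.IsKFlat (KFlatSite.T O).flip k) (P : CochainComplex (ModSite.Mod O) ℤ)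
    (h : Nil s (DerivedCategory.Q.obj k)) :
    Nil s (DerivedCategory.Q.obj (((ModSite.tensorCx O).obj k).obj P)) := by
  obtain ⟨N, hN⟩ := h
  refine ⟨N, ?_⟩
  let t := s ^ N
  let P' := (KFlatSite.resolution O).obj P
  let π : P' ⟶ P := (KFlatSite.resolutionAug O).app P
  haveI : QuasiIso π := KFlatSite.resolution_quasiIso P
  haveI hπ : IsIso (DerivedCategory.Q.map (((ModSite.tensorCx O).obj k).map π)) :=
    (DerivedCategory.isIso_Q_map_iff_quasiIso _ _).2 (KFlat.quasiIso_totR _ hk π)
  let G := (ModSite.tensorCx O).flip.obj P' ⋙ DerivedCategory.Q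
  have hG : (HomologicalComplex.quasiIso (ModSite.Mod O) up).IsInvertedBy G := fun X Y w hw => by
    haveI : QuasiIso w := (HomologicalComplex.mem_quasiIso_iff w).1 hw
    exact (DerivedCategory.isIso_Q_map_iff_quasiIso _ _).2 ((KFlatSite.resolution_isKFlat P).quasiIso_totL w)
  let e := Localization.fac G hG DerivedCategory.Q
  have h0 : G.map (t • 𝟙 k) = 0 := by
    have h1 : DerivedCategory.Q.map (t • 𝟙 k) = DerivedCategory.Q.map 0 := by
      rw [Q_map_smul, Functor.map_zero, hN]
    have h2 : G.map (t • 𝟙 k) = G.map 0 := by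
      rw [← cancel_epi (e.hom.app k)]
      refine (e.hom.naturality (t • 𝟙 k)).symm.trans (Eq.trans ?_ (e.hom.naturality (0 : k ⟶ k)))
      exact congrArg (fun z => (Localization.lift G hG DerivedCategory.Q).map z ≫ e.hom.app k) h1
    rw [h2]
    haveI : ((ModSite.tensorCx O).flip.obj P').Additive :=
      inferInstanceAs (KFlat.totL (KFlatSite.T O) P').Additive
    exact (congrArg DerivedCategory.Q.map (((ModSite.tensorCx O).flip.obj P').map_zero k k)).trans
      (DerivedCategory.Q.map_zero _ _)
  have h3 : DerivedCategory.Q.map (((ModSite.tensorCx O).map (t • 𝟙 k)).app P) = 0 := by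
    rw [← cancel_epi (DerivedCategory.Q.map (((ModSite.tensorCx O).obj k).map π)), comp_zero, ← Functor.map_comp,
      ((ModSite.tensorCx O).map (t • 𝟙 k)).naturality π, Functor.map_comp]
    exact (congrArg (· ≫ _) h0).trans zero_comp
  rwa [tensorCx_map_smul, Q_map_smul] at h3

lemma nil_shift {s : DerComp.GSec O} {k : CochainComplex (ModSite.Mod O) ℤ}
    (h : Nil s (DerivedCategory.Q.obj k)) (a : ℤ) : Nil s (DerivedCategory.Q.obj (k⟦a⟧)) := by
  obtain ⟨N, hN⟩ := h
  refine ⟨N, ?_⟩
  let e := (DerivedCategory.Q.commShiftIso a).app k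
  rw [← cancel_mono e.hom, zero_comp, Linear.smul_comp, Category.id_comp, ← Category.comp_id e.hom,
    ← Linear.comp_smul]
  have h1 : ((s ^ N) • 𝟙 (DerivedCategory.Q.obj k))⟦a⟧' = 0 := by rw [hN, Functor.map_zero]
  rw [Functor.map_smul, CategoryTheory.Functor.map_id] at h1
  refine (congrArg (e.hom ≫ ·) ?_).trans comp_zero
  exact h1

variable (P : CochainComplex (ModSite.Mod O) ℤ) [ModSite.HasLTensorCx P] [DerComp.HasRHom P]

/-- Shifted test objects tensored with any complex receive no maps into left orthogonal objects. -/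
lemma orth_ltensor_testCx {I : DerComp.IdealSh O} {V : C} {l : List (O.obj.obj (op V))} (hl : Gen I V l) (a : ℤ)
    (D : DerivedCategory (ModSite.Mod O)) (hD : Ct I D) :
    Orth ((ModSite.LTensorCx P).obj ((DerivedCategory.Q.obj (testCx V l))⟦a⟧)) D := by
  let k := KosCx.kos (DerComp.GSec.ofSect O V) l
    ((HomologicalComplex.single (ModSite.Mod (O.over V)) up 0).obj (ModSite.unit (O.over V)))
  let k' := k⟦a⟧
  have hk' : FlatAbove k' (0 - a) := ((FlatAbove.single SiteAwayTensor.isFlat_unit).kos _ l).shift a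
  let X := ((ModSite.extZero O V).mapHomologicalComplex up).obj k'
  have hX : FlatAbove X (0 - a) :=
    ⟨fun m => isFlat_extZero (hk'.1 m), fun m hm => (ModSite.extZero O V).map_isZero (hk'.2 m hm)⟩
  haveI := SiteLTensorLeft.isIso_counit_app P X hX.isKFlat
  let W := ((ModSite.tensorCx (O.over V)).obj k').obj (((ModSite.restr O V).mapHomologicalComplex up).obj P)
  let e : (ModSite.LTensorCx P).obj (DerivedCategory.Q.obj X) ≅
      DerivedCategory.Q.obj (((ModSite.extZero O V).mapHomologicalComplex up).obj W) :=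
    asIso (((ModSite.tensorCxQ P).totalLeftDerivedCounit DerivedCategory.Q
      (HomologicalComplex.quasiIso (ModSite.Mod O) up)).app X) ≪≫
      (DerivedCategory.Q.mapIso (totProjIso k' P)).symm
  let j : DerivedCategory.Q.obj X ≅ (DerivedCategory.Q.obj (testCx V l))⟦a⟧ :=
    DerivedCategory.Q.mapIso (((ModSite.extZero O V).mapHomologicalComplex up).commShiftIso a |>.app k) ≪≫
      (DerivedCategory.Q.commShiftIso a).app _
  obtain ⟨K, ⟨eK⟩⟩ : ∃ K, Nonempty (DerivedCategory.Q.obj K ≅ D) := ⟨_, ⟨DerivedCategory.Q.objObjPreimageIso D⟩⟩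
  have hK : Ct I (DerivedCategory.Q.obj K) := fun Z hZ => (hD Z hZ).of_iso_left eK.symm
  have h0 : Orth (DerivedCategory.Q.obj W) (DerivedCategory.Q.obj (((ModSite.restr O V).mapHomologicalComplex up).obj K)) :=
    orth_of_orth_kos_right (DerComp.GSec.ofSect O V) l _ _
      (fun b hb => nil_tensor hk'.isKFlat _ (nil_shift (nil_kos _ l _ b hb) a))
      fun m φ => ((shiftFunctor _ m).map_isZero (isZero_kos_restr hl K hK)).eq_of_tgt _ _
  exact (((((orth_dExt_iff V _ (DerivedCategory.Q.obj K)).2
      (h0.of_iso_right ((ModSite.restr O V).mapDerivedCategoryFactors.app K).symm)).of_iso_left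
        ((ModSite.extZero O V).mapDerivedCategoryFactors.app W)).of_iso_left e.symm).of_iso_right eK).of_iso_left
          ((ModSite.LTensorCx P).mapIso j)

/-- Internal derived hom commutes with derived completion. -/
theorem isIso_homEquiv_symm_rhom {I : DerComp.IdealSh O} (hI : I.IsFiniteType) [DerComp.HasDerCompletion O I]
    (G : DerivedCategory (ModSite.Mod O))
    (h : DerComp.IsDerComp O I ((DerComp.RHom P).obj ((DerComp.derCompletion O I).obj G).obj)) :
    IsIso (((DerComp.derCompletionAdj O I).homEquiv ((DerComp.RHom P).obj G)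
      ⟨(DerComp.RHom P).obj ((DerComp.derCompletion O I).obj G).obj, h⟩).symm
      ((DerComp.RHom P).map (DerComp.toDerCompletion I G))) := by
  let R := DerComp.RHom P
  let adj := DerComp.RHomAdj P
  obtain ⟨D, b, c, hT⟩ := distinguished_cocone_triangle (DerComp.toDerCompletion I G)
  have hD := ct_cone I G D b c hT
  let η := DerComp.toDerCompletion I G
  obtain ⟨E, b', c', hT'⟩ := distinguished_cocone_triangle (R.map η)
  have hE : Ct I E := ct_of_testCx _ fun U => by
    obtain ⟨S, hS, h⟩ := exists_gen hI U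
    refine ⟨S, hS, fun V g hg => ?_⟩
    obtain ⟨l, hl⟩ := h g hg
    refine ⟨l, hl, ?_⟩
    let t := DerivedCategory.Q.obj (testCx V l)
    have hz : ∀ (a : ℤ) (χ : (ModSite.LTensorCx P).obj (t⟦a⟧) ⟶ D), χ = 0 := fun a χ => by
      rw [← cancel_mono ((shiftFunctorZero (DerivedCategory (ModSite.Mod O)) ℤ).inv.app D), zero_comp]
      exact orth_ltensor_testCx P hl a D hD 0 _
    have hinj : ∀ (a : ℤ) (χ : t⟦a⟧ ⟶ R.obj G), χ ≫ R.map η = 0 → χ = 0 := fun a χ hχ => by
      have h0 : (adj.homEquiv _ _).symm (χ ≫ R.map η) = (adj.homEquiv _ _).symm χ ≫ η :=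
        adj.homEquiv_naturality_right_symm χ η
      haveI : (ModSite.LTensorCx P).Additive :=
        haveI : PreservesFiniteCoproducts (ModSite.LTensorCx P) :=
          haveI := adj.leftAdjoint_preservesColimits
          ⟨fun n => inferInstance⟩
        haveI := preservesBinaryBiproducts_of_preservesBinaryCoproducts (ModSite.LTensorCx P)
        Functor.additive_of_preservesBinaryBiproducts _
      rw [hχ, adj.homEquiv_counit, Functor.map_zero, zero_comp] at h0
      obtain ⟨ω, hω⟩ := Triangle.coyoneda_exact₂ _ (inv_rot_of_distTriang _ hT) ((adj.homEquiv _ _).symm χ) h0.symm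
      have hω0 : ω = 0 := by
        rw [← cancel_mono ((shiftFunctorZero (DerivedCategory (ModSite.Mod O)) ℤ).inv.app _), zero_comp]
        exact ((orth_ltensor_testCx P hl a D hD).shift_right (-1)) 0 _
      rw [hω0] at hω
      have : (adj.homEquiv _ _).symm χ = 0 := hω.trans zero_comp
      rw [← Equiv.apply_symm_apply (adj.homEquiv _ _) χ, this, adj.homEquiv_unit]
      haveI : (DerComp.RHom P).Additive := adj.right_adjoint_additive
      rw [Functor.map_zero, comp_zero]
    intro n φ
    apply (shiftFunctor (DerivedCategory (ModSite.Mod O)) (-n)).map_injective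
    rw [Functor.map_zero,
      ← cancel_mono ((shiftFunctorCompIsoId (DerivedCategory (ModSite.Mod O)) n (-n) (by lia)).app E).hom, zero_comp]
    generalize φ⟦-n⟧' ≫ ((shiftFunctorCompIsoId _ n (-n) (by lia)).app E).hom = ψ
    change t⟦-n⟧ ⟶ E at ψ
    show ψ = 0
    have h1 : ψ ≫ c' = 0 := by
      have h2 : ((ψ ≫ c')⟦(-1 : ℤ)⟧' ≫ ((shiftFunctorCompIsoId _ (1 : ℤ) (-1) (by lia)).app (R.obj G)).hom) = 0 := by
        rw [← cancel_epi ((shiftFunctorAdd' (DerivedCategory (ModSite.Mod O)) (-n) (-1) (-n + -1) rfl).app t).hom, comp_zero]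
        refine hinj _ _ ?_
        have h3 : (ψ ≫ c') ≫ (R.map η)⟦(1 : ℤ)⟧' = 0 := by
          have := comp_distTriang_mor_zero₃₁ _ hT'
          dsimp at this
          rw [Category.assoc, this, comp_zero]
        rw [Category.assoc, Category.assoc]
        refine (congrArg (_ ≫ ·) ?_).trans comp_zero
        erw [← (shiftFunctorCompIsoId (DerivedCategory (ModSite.Mod O)) (1 : ℤ) (-1) (by lia)).hom.naturality (R.map η)]
        rw [Functor.comp_map, ← Category.assoc, ← Functor.map_comp, h3, Functor.map_zero, zero_comp]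
      apply (shiftFunctor (DerivedCategory (ModSite.Mod O)) (-1 : ℤ)).map_injective
      rw [Functor.map_zero, ← cancel_mono ((shiftFunctorCompIsoId _ (1 : ℤ) (-1) (by lia)).app (R.obj G)).hom, zero_comp]
      exact h2
    obtain ⟨χ, hχ⟩ := Triangle.coyoneda_exact₃ _ hT' ψ h1
    obtain ⟨ω, hω⟩ := Triangle.coyoneda_exact₂ _ hT ((adj.homEquiv _ _).symm χ) (hz _ _)
    rw [hχ]
    have hχ' : χ = adj.homEquiv _ _ ω ≫ R.map η :=
      ((congrArg (adj.homEquiv _ _) hω.symm).trans (Equiv.apply_symm_apply _ χ)).symm.trans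
        (adj.homEquiv_naturality_right ω η)
    refine (congrArg (· ≫ b') hχ').trans ((Category.assoc _ _ _).trans ?_)
    have := comp_distTriang_mor_zero₁₂ _ hT'
    dsimp at this
    rw [this, comp_zero]
  exact DerCompRestr.isIso_homEquiv_symm (DerComp.derCompletionAdj O I) _ _ fun Z =>
    DerCompPushIso.bijective_comp _ hT' hE Z.obj Z.property

end Groth.DAlg.DerCompRHomComm
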