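import Groth.Agent.DAlg.Nilpotent
import Groth.Agent.DAlg.PCRestrict
import Mathlib.Algebra.Polynomial.Inductions
import Mathlib.Algebra.Polynomial.AlgebraMap
import Mathlib.RingTheory.TensorProduct.Maps
import Mathlib.Algebra.Homology.Linear
import Mathlib.Algebra.Homology.DerivedCategory.ShortExact

/-!
Derived base change along `R[x] → R`, `x ↦ 0`, of a restricted object.
-/

universe u

open CategoryTheory CategoryTheory.Limits CategoryTheory.Pretriangulated HomologicalComplex
open scoped TensorProduct Polynomial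

attribute [local instance] HasDerivedCategory.standard
set_option linter.style.haveILetI false

namespace Groth.DAlg.EvalZero

open FlatCxBase

variable {R : Type u} [CommRing R]

noncomputable abbrev ev (R : Type u) [CommRing R] : R[X] →+* R := Polynomial.evalRingHom 0

noncomputable abbrev extX : ModuleCat.{u} R ⥤ ModuleCat.{u} R[X] :=
  ModuleCat.extendScalars (algebraMap R R[X])

section

variable (M : Type u) [AddCommGroup M] [Module R M]

/-- Evaluation at zero, on `R[x] ⊗ M`. -/
noncomputable def evTensor : R[X] ⊗[R] M →ₗ[R] M :=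
  (TensorProduct.lid R M).toLinearMap ∘ₗ (Polynomial.lcoeff R 0).rTensor M

/-- Division by `x`, on `R[x] ⊗ M`. -/
noncomputable def divTensor : R[X] ⊗[R] M →ₗ[R] R[X] ⊗[R] M :=
  LinearMap.rTensor M
    { toFun := fun p => p.divX
      map_add' := fun p q => Polynomial.divX_add
      map_smul' := fun r p => by simp [Polynomial.smul_eq_C_mul, Polynomial.divX_C_mul] }

variable {M}

lemma evTensor_tmul (p : R[X]) (m : M) : evTensor M (p ⊗ₜ m) = p.eval 0 • m := by
  simp [evTensor, Polynomial.coeff_zero_eq_eval_zero]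

lemma divTensor_X_smul (z : R[X] ⊗[R] M) : divTensor M ((Polynomial.X : R[X]) • z) = z := by
  induction z with
  | zero => simp
  | add a b ha hb => rw [smul_add, map_add, ha, hb]
  | tmul p m =>
    show ((Polynomial.X : R[X]) • p).divX ⊗ₜ[R] m = p ⊗ₜ m
    rw [smul_eq_mul]
    congr 1
    ext n
    rw [Polynomial.coeff_divX, Polynomial.coeff_X_mul]

lemma decomp (z : R[X] ⊗[R] M) : (Polynomial.X : R[X]) • divTensor M z + (1 : R[X]) ⊗ₜ evTensor M z = z := by
  induction z with
  | zero => simp
  | add a b ha hb =>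
    rw [map_add, map_add, smul_add, TensorProduct.tmul_add, add_add_add_comm, ha, hb]
  | tmul p m =>
    rw [evTensor_tmul, TensorProduct.tmul_smul, TensorProduct.smul_tmul', show
      divTensor M (p ⊗ₜ m) = p.divX ⊗ₜ m from rfl, TensorProduct.smul_tmul', ← TensorProduct.add_tmul]
    congr 1
    rw [smul_eq_mul, Polynomial.smul_eq_C_mul, mul_one, ← Polynomial.coeff_zero_eq_eval_zero, mul_comm]
    exact Polynomial.divX_mul_X_add p

end

lemma evTensor_smul {M : Type u} [AddCommGroup M] [Module R M] (q : R[X]) (w : R[X] ⊗[R] M) :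
    evTensor M (q • w) = ev R q • evTensor M w := by
  induction w with
  | zero => simp
  | add a b ha hb => rw [smul_add, map_add, map_add, smul_add, ha, hb]
  | tmul p m => simp [TensorProduct.smul_tmul', evTensor_tmul, mul_smul]

/-- `R[x] ⊗ M → M`. -/
noncomputable def piLin (M : ModuleCat.{u} R) : R[X] ⊗[R] M →ₗ[R[X]] (ModuleCat.restrictScalars (ev R)).obj M where
  toFun w := evTensor M w
  map_add' a b := map_add (evTensor M) a b
  map_smul' q w := evTensor_smul q w

noncomputable def piApp (M : ModuleCat.{u} R) : extX.obj M ⟶ (ModuleCat.restrictScalars (ev R)).obj M :=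
  ModuleCat.ofHom (X := extX.obj M) (Y := (ModuleCat.restrictScalars (ev R)).obj M) (piLin M ∘ₗ (extendEquiv R[X] M).toLinearMap)

lemma piApp_apply (M : ModuleCat.{u} R) (z : extX.obj M) :
    (piApp M).hom z = evTensor M (extendEquiv R[X] M z) := rfl

/-- `R[x] ⊗ - → -`. -/
noncomputable def piNat : extX (R := R) ⟶ ModuleCat.restrictScalars (ev R) where
  app := piApp
  naturality M N g := by
    apply ModuleCat.hom_ext
    apply LinearMap.ext
    intro z
    rw [ModuleCat.hom_comp, ModuleCat.hom_comp, LinearMap.comp_apply, LinearMap.comp_apply]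
    refine (piApp_apply N _).trans ?_
    refine (congrArg (evTensor N) (extendEquiv_map R[X] g z)).trans ?_
    refine Eq.trans ?_ (congrArg g.hom (piApp_apply M z)).symm
    generalize extendEquiv R[X] M z = w
    induction w with
    | zero => simp
    | add a b ha hb => rw [map_add, map_add, map_add, map_add, ha, hb]
    | tmul p m => simp [evTensor_tmul]

lemma shortExact_app (M : ModuleCat.{u} R) :
    ∃ h : ((Polynomial.X : R[X]) • 𝟙 (extX.obj M)) ≫ piApp M = 0,
      (ShortComplex.mk ((Polynomial.X : R[X]) • 𝟙 (extX.obj M)) (piApp M) h).ShortExact := by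
  have key : ∀ z, piApp M ((Polynomial.X : R[X]) • z) = 0 := fun z => by
    rw [map_smul]
    show ev R Polynomial.X • (piApp M z : M) = 0
    simp
  refine ⟨ModuleCat.hom_ext (LinearMap.ext fun z => key z), { exact := ?_, mono_f := ?_, epi_g := ?_ }⟩
  · refine (ShortComplex.moduleCat_exact_iff _).2 fun z hz => ⟨(extendEquiv R[X] M).symm (divTensor M (extendEquiv R[X] M z)), ?_⟩
    apply (extendEquiv R[X] M).injective
    show extendEquiv R[X] M ((Polynomial.X : R[X]) • (extendEquiv R[X] M).symm (divTensor M (extendEquiv R[X] M z))) = _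
    rw [map_smul, LinearEquiv.apply_symm_apply]
    conv_rhs => rw [← decomp (extendEquiv R[X] M z)]
    rw [show evTensor M (extendEquiv R[X] M z) = 0 from (piApp_apply M z).symm.trans hz]
    simp
  · refine (ModuleCat.mono_iff_injective _).2 fun x y h => (extendEquiv R[X] M).injective ?_
    have h' : (Polynomial.X : R[X]) • extendEquiv R[X] M x = (Polynomial.X : R[X]) • extendEquiv R[X] M y := by
      rw [← map_smul, ← map_smul]; exact congrArg _ h
    simpa [divTensor_X_smul] using congrArg (divTensor M) h'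
  · refine (ModuleCat.epi_iff_surjective _).2 fun m => ⟨(extendEquiv R[X] M).symm (1 ⊗ₜ m), ?_⟩
    refine (piApp_apply M _).trans ?_
    rw [LinearEquiv.apply_symm_apply]
    exact (evTensor_tmul (M := (M : Type u)) (1 : R[X]) m).trans (by rw [Polynomial.eval_one]; exact one_smul R _)

lemma extendScalars_map_X_smul (M : ModuleCat.{u} R[X]) :
    (ModuleCat.extendScalars (ev R)).map ((Polynomial.X : R[X]) • 𝟙 M) = 0 := by
  letI := (ev R).toAlgebra
  apply ModuleCat.hom_ext
  apply LinearMap.ext
  intro z
  apply (extendEquiv R M).injective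
  refine (extendEquiv_map (A := R[X]) R ((Polynomial.X : R[X]) • 𝟙 M) z).trans (Eq.trans ?_ (map_zero (extendEquiv R M)).symm)
  generalize extendEquiv R M z = w
  induction w with
  | zero => simp
  | add a b ha hb => rw [map_add, ha, hb, add_zero]
  | tmul r m =>
    show r ⊗ₜ[R[X]] ((Polynomial.X : R[X]) • m) = 0
    rw [← TensorProduct.smul_tmul, show (Polynomial.X : R[X]) • r = 0 by
      rw [Algebra.smul_def]; show ev R Polynomial.X * r = 0; simp, TensorProduct.zero_tmul]

theorem nonempty_iso [DRing.HasLBaseChange (ev R)] (K : Dual.D R)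
    [HasBinaryBiproduct K ((shiftFunctor (Dual.D R) (1 : ℤ)).obj K)] :
    Nonempty ((DRing.LBaseChange (ev R)).obj ((DRing.restrictD (ev R)).obj K) ≅
      K ⊞ (shiftFunctor (Dual.D R) (1 : ℤ)).obj K) := by
  obtain ⟨P, hP, -, ⟨e⟩⟩ := exists_kProjective_rep K
  haveI := hP
  let P₁ : DRing.Cx R[X] := extCx (algebraMap R R[X]) P
  haveI : P₁.IsKProjective := isKProjective_extCx _ P
  let φ : P₁ ⟶ P₁ := (Polynomial.X : R[X]) • 𝟙 P₁
  let π : P₁ ⟶ (DRing.restrictCx (ev R)).obj P :=
    (NatTrans.mapHomologicalComplex piNat (ComplexShape.up ℤ)).app P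
  let S : ShortComplex (DRing.Cx R[X]) := ShortComplex.mk φ π (by
    ext i : 1
    exact (shortExact_app (P.X i)).1)
  have hS : S.ShortExact := shortExact_of_degreewise_shortExact _ fun i => (shortExact_app (P.X i)).2
  haveI := CochainComplex.mappingCone.quasiIso_descShortComplex hS
  haveI : (CochainComplex.mappingCone φ).IsKProjective := by
    rw [CochainComplex.isKProjective_iff_leftOrthogonal]
    exact (HomotopyCategory.subcategoryAcyclic (ModuleCat.{u} R[X])).leftOrthogonal.ext_of_isTriangulatedClosed₃
      _ (HomotopyCategory.mappingCone_triangleh_distinguished φ)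
      (CochainComplex.IsKProjective.leftOrthogonal P₁) (CochainComplex.IsKProjective.leftOrthogonal P₁)
  let G := (ModuleCat.extendScalars.{u, u, u} (ev R)).mapHomologicalComplex (ComplexShape.up ℤ)
  have hG : G.map φ = 0 := by
    ext i : 1
    exact extendScalars_map_X_smul _
  let e₁ : (DRing.LBaseChange (ev R)).obj ((DRing.restrictD (ev R)).obj K) ≅
      DerivedCategory.Q.obj (CochainComplex.mappingCone (G.map φ)) :=
    (DRing.LBaseChange (ev R)).mapIso ((DRing.restrictD (ev R)).mapIso e.symm ≪≫ resQIso (ev R) P ≪≫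
      (asIso (DerivedCategory.Q.map (CochainComplex.mappingCone.descShortComplex S))).symm) ≪≫
    lBaseChangeIso (ev R) (CochainComplex.mappingCone φ) ≪≫
    DerivedCategory.Q.mapIso (CochainComplex.mappingCone.mapHomologicalComplexIso φ
      (ModuleCat.extendScalars.{u, u, u} (ev R)))
  have hev : (ev R).comp (algebraMap R R[X]) = RingHom.id R := RingHom.ext fun r => by simp
  let e₂ : DerivedCategory.Q.obj (G.obj P₁) ≅ K :=
    DerivedCategory.Q.mapIso ((NatIso.mapHomologicalComplex ((ModuleCat.extendScalarsComp (algebraMap R R[X]) (ev R)).symm ≪≫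
      eqToIso (congrArg ModuleCat.extendScalars.{u, u, u} hev) ≪≫ ModuleCat.extendScalarsId R) (ComplexShape.up ℤ)).app P ≪≫
      (Functor.mapHomologicalComplexIdIso (ModuleCat.{u} R) (ComplexShape.up ℤ)).app P) ≪≫ e
  let T := DerivedCategory.Q.mapTriangle.obj (CochainComplex.mappingCone.triangle (G.map φ))
  have hT : T ∈ distinguishedTriangles := DerivedCategory.mappingCone_triangle_distinguished _
  have h0 : T.mor₁ = 0 := by
    show DerivedCategory.Q.map (G.map φ) = 0
    rw [hG, Functor.map_zero]
  obtain ⟨i, -⟩ := exists_iso_binaryBiproduct_of_distTriang T.rotate (rot_of_distTriang T hT) (by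
    show -T.mor₁⟦(1 : ℤ)⟧' = 0
    rw [h0, Functor.map_zero, neg_zero])
  exact ⟨e₁ ≪≫ i ≪≫
    biprod.mapIso e₂ ((shiftFunctor (Dual.D R) (1 : ℤ)).mapIso e₂)⟩

end Groth.DAlg.EvalZero
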