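import Groth.Prelude.Def_DRing4
import Groth.Prelude.Def_DRing2
import Mathlib.RingTheory.Finiteness.Projective
import Mathlib.CategoryTheory.Monoidal.Rigid.Basic

/-!
Duals for the tensor product of complexes are bounded complexes of finite projective modules.
-/

universe u

open CategoryTheory CategoryTheory.Limits HomologicalComplex MonoidalCategory
open scoped TensorProduct

set_option linter.style.haveILetI false

namespace Groth.DAlg.Pairing

variable {R : Type u} [CommRing R]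

/-- An endomorphism factors through a finite free module. -/
def FinRank {M : Type u} [AddCommGroup M] [Module R M] (f : M →ₗ[R] M) : Prop :=
  ∃ (k : ℕ) (a : M →ₗ[R] (Fin k → R)) (b : (Fin k → R) →ₗ[R] M), b ∘ₗ a = f

variable {M : Type u} [AddCommGroup M] [Module R M]

lemma finRank_smulRight (φ : M →ₗ[R] R) (v : M) : FinRank (φ.smulRight v) :=
  ⟨1, LinearMap.pi fun _ => φ, (LinearMap.proj (0 : Fin 1)).smulRight v, by ext x; simp⟩

lemma finRank_zero : FinRank (0 : M →ₗ[R] M) := ⟨0, 0, 0, LinearMap.zero_comp _⟩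

lemma FinRank.add {f g : M →ₗ[R] M} (hf : FinRank f) (hg : FinRank g) : FinRank (f + g) := by
  obtain ⟨k, a, b, rfl⟩ := hf
  obtain ⟨l, a', b', rfl⟩ := hg
  let e : (Fin (k + l) → R) ≃ₗ[R] (Fin k → R) × (Fin l → R) :=
    (LinearEquiv.funCongrLeft R R finSumFinEquiv).trans (LinearEquiv.sumArrowLequivProdArrow (Fin k) (Fin l) R R)
  refine ⟨k + l, e.symm.toLinearMap ∘ₗ a.prod a', b.coprod b' ∘ₗ e.toLinearMap, ?_⟩
  ext x
  simp

lemma finite_projective_of_finRank_id (h : FinRank (LinearMap.id : M →ₗ[R] M)) :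
    Module.Finite R M ∧ Module.Projective R M := by
  obtain ⟨k, a, b, hab⟩ := h
  exact ⟨Module.Finite.of_surjective b fun x => ⟨a x, LinearMap.congr_fun hab x⟩,
    Module.Projective.of_split a b hab⟩

variable {A B : DRing.Cx R}

/-- `λ` on the summand of degree `(0, i)`. -/
lemma ι_leftUnitor (K : DRing.Cx R) (i : ℤ) :
    ιTensorObj (𝟙_ (DRing.Cx R)) K 0 i i (zero_add i) ≫ (λ_ K).hom.f i =
      ((singleObjXSelf (ComplexShape.up ℤ) 0 (𝟙_ (ModuleCat.{u} R))).hom ▷ K.X i) ≫ (λ_ (K.X i)).hom := by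
  have h : (λ_ K).inv.f i = (λ_ (K.X i)).inv ≫
      ((singleObjXSelf (ComplexShape.up ℤ) 0 (𝟙_ (ModuleCat.{u} R))).inv ▷ (K.X i)) ≫
        ιTensorObj (𝟙_ (DRing.Cx R)) K 0 i i (zero_add i) :=
    HomologicalComplex.leftUnitor'_inv K i
  have h2 : (λ_ K).inv.f i ≫ (λ_ K).hom.f i = 𝟙 _ := by
    rw [← HomologicalComplex.comp_f, Iso.inv_hom_id, HomologicalComplex.id_f]
  rw [h, Category.assoc, Category.assoc, Iso.inv_comp_eq, Category.comp_id] at h2
  rw [← h2, ← comp_whiskerRight_assoc, Iso.hom_inv_id, id_whiskerRight, Category.id_comp]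

/-- `ρ` on the summand of degree `(i, 0)`. -/
lemma ι_rightUnitor (K : DRing.Cx R) (i : ℤ) :
    ιTensorObj K (𝟙_ (DRing.Cx R)) i 0 i (add_zero i) ≫ (ρ_ K).hom.f i =
      (K.X i ◁ (singleObjXSelf (ComplexShape.up ℤ) 0 (𝟙_ (ModuleCat.{u} R))).hom) ≫ (ρ_ (K.X i)).hom := by
  have h : (ρ_ K).inv.f i = (ρ_ (K.X i)).inv ≫
      ((K.X i) ◁ (singleObjXSelf (ComplexShape.up ℤ) 0 (𝟙_ (ModuleCat.{u} R))).inv) ≫
        ιTensorObj K (𝟙_ (DRing.Cx R)) i 0 i (add_zero i) :=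
    HomologicalComplex.rightUnitor'_inv K i
  have h2 : (ρ_ K).inv.f i ≫ (ρ_ K).hom.f i = 𝟙 _ := by
    rw [← HomologicalComplex.comp_f, Iso.inv_hom_id, HomologicalComplex.id_f]
  rw [h, Category.assoc, Category.assoc, Iso.inv_comp_eq, Category.comp_id] at h2
  rw [← h2, ← whiskerLeft_comp_assoc, Iso.hom_inv_id, whiskerLeft_id, Category.id_comp]

lemma ι_whiskerRight {K K' : DRing.Cx R} (f : K ⟶ K') (L : DRing.Cx R) (i j k : ℤ) (h : i + j = k) :
    ιTensorObj K L i j k h ≫ (f ▷ L).f k = (f.f i ▷ L.X j) ≫ ιTensorObj K' L i j k h := by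
  refine (HomologicalComplex.ι_mapBifunctorMap f (𝟙 L) (curriedTensor _) (ComplexShape.up ℤ) i j k h).trans ?_
  simp

lemma ι_whiskerLeft (K : DRing.Cx R) {L L' : DRing.Cx R} (f : L ⟶ L') (i j k : ℤ) (h : i + j = k) :
    ιTensorObj K L i j k h ≫ (K ◁ f).f k = (K.X i ◁ f.f j) ≫ ιTensorObj K L' i j k h := by
  refine (HomologicalComplex.ι_mapBifunctorMap (𝟙 K) f (curriedTensor _) (ComplexShape.up ℤ) i j k h).trans ?_
  simp

/-- The associator on summands. -/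
lemma ι_associator (K₁ K₂ K₃ : DRing.Cx R) (i j k a b n : ℤ) (ha : i + j = a) (hb : j + k = b)
    (h : i + b = n) (h' : a + k = n) :
    (ιTensorObj K₁ K₂ i j a ha ▷ K₃.X k) ≫ ιTensorObj (K₁ ⊗ K₂) K₃ a k n h' ≫ (α_ K₁ K₂ K₃).hom.f n =
      (α_ (K₁.X i) (K₂.X j) (K₃.X k)).hom ≫ (K₁.X i ◁ ιTensorObj K₂ K₃ j k b hb) ≫
        ιTensorObj K₁ (K₂ ⊗ K₃) i b n h := by
  have h0 := HomologicalComplex.ι_mapBifunctorAssociatorX_hom (curriedAssociatorNatIso (ModuleCat.{u} R)) K₁ K₂ K₃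
    (ComplexShape.up ℤ) (ComplexShape.up ℤ) (ComplexShape.up ℤ) i j k n (show i + j + k = n by omega)
  rw [HomologicalComplex.mapBifunctor₁₂.ι_eq _ _ _ _ _ _ _ i j k a n ha h',
    HomologicalComplex.mapBifunctor₂₃.ι_eq _ _ _ _ _ _ _ _ i j k b n hb h, Category.assoc] at h0
  exact h0

lemma ι_associator_inv (K₁ K₂ K₃ : DRing.Cx R) (i j k a b n : ℤ) (ha : i + j = a) (hb : j + k = b)
    (h : i + b = n) (h' : a + k = n) :
    (K₁.X i ◁ ιTensorObj K₂ K₃ j k b hb) ≫ ιTensorObj K₁ (K₂ ⊗ K₃) i b n h ≫ (α_ K₁ K₂ K₃).inv.f n =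
      (α_ (K₁.X i) (K₂.X j) (K₃.X k)).inv ≫ (ιTensorObj K₁ K₂ i j a ha ▷ K₃.X k) ≫
        ιTensorObj (K₁ ⊗ K₂) K₃ a k n h' := by
  have h1 := ι_associator K₁ K₂ K₃ i j k a b n ha hb h h'
  have h2 : (α_ K₁ K₂ K₃).hom.f n ≫ (α_ K₁ K₂ K₃).inv.f n = 𝟙 _ := by
    rw [← HomologicalComplex.comp_f, Iso.hom_inv_id, HomologicalComplex.id_f]
  have h3 := congrArg (fun φ => (α_ (K₁.X i) (K₂.X j) (K₃.X k)).inv ≫ φ ≫ (α_ K₁ K₂ K₃).inv.f n) h1
  simp only [Category.assoc, h2, Category.comp_id, Iso.inv_hom_id_assoc] at h3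
  exact h3.symm

/-- The elements of a tensor product of complexes are spanned by the elementary ones. -/
lemma induction_tensor (K L : DRing.Cx R) (n : ℤ) {P : (K ⊗ L : DRing.Cx R).X n → Prop}
    (h : ∀ (i j : ℤ) (hij : i + j = n) (x : K.X i) (y : L.X j), P ((ιTensorObj K L i j n hij).hom (x ⊗ₜ[R] y)))
    (hadd : ∀ a b, P a → P b → P (a + b)) (h0 : P 0) (z : (K ⊗ L : DRing.Cx R).X n) : P z := by
  let N : Submodule R ((K ⊗ L : DRing.Cx R).X n) :=
    ⨆ t : {ij : ℤ × ℤ // ij.1 + ij.2 = n}, LinearMap.range (ιTensorObj K L t.1.1 t.1.2 n t.2).hom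
  have hN : N = ⊤ := by
    have h0 : (ModuleCat.ofHom N.mkQ : (K ⊗ L : DRing.Cx R).X n ⟶ _) = 0 :=
      HomologicalComplex.mapBifunctor.hom_ext fun i j hij => ModuleCat.hom_ext (LinearMap.ext fun x =>
        (Submodule.Quotient.mk_eq_zero N).2 (Submodule.mem_iSup_of_mem ⟨(i, j), hij⟩ ⟨x, rfl⟩))
    refine eq_top_iff.2 fun x _ => (Submodule.Quotient.mk_eq_zero N).1 ?_
    exact LinearMap.congr_fun (congrArg ModuleCat.Hom.hom h0) x
  have hz : z ∈ N := hN ▸ trivial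
  refine Submodule.iSup_induction _ (motive := P) hz ?_ h0 hadd
  rintro ⟨⟨i, j⟩, hij⟩ _ ⟨t, rfl⟩
  induction t using TensorProduct.induction_on with
  | zero => erw [map_zero]; exact h0
  | tmul x y => exact h i j hij x y
  | add x y hx hy => erw [map_add]; exact hadd _ _ hx hy

section Pairing

variable (A B) [ExactPairing A B]

/-- A triangle composite. -/
noncomputable def G : B ⊗ (A ⊗ B) ⟶ B := (α_ B A B).inv ≫ (ε_ A B) ▷ B ≫ (λ_ B).hom

/-- The other triangle composite. -/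
noncomputable def G' : (A ⊗ B) ⊗ A ⟶ A := (α_ A B A).hom ≫ A ◁ (ε_ A B) ≫ (ρ_ A).hom

/-- `x ↦ G (x ⊗ z)`. -/
noncomputable def L (n : ℤ) (z : (A ⊗ B : DRing.Cx R).X 0) : B.X n →ₗ[R] B.X n :=
  (ιTensorObj B (A ⊗ B) n 0 n (add_zero n) ≫ (G A B).f n).hom ∘ₗ
    (TensorProduct.mk R (B.X n) ((A ⊗ B : DRing.Cx R).X 0)).flip z

/-- `x ↦ G' (z ⊗ x)`. -/
noncomputable def L' (n : ℤ) (z : (A ⊗ B : DRing.Cx R).X 0) : A.X n →ₗ[R] A.X n :=
  (ιTensorObj (A ⊗ B) A 0 n n (zero_add n) ≫ (G' A B).f n).hom ∘ₗ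
    (TensorProduct.mk R ((A ⊗ B : DRing.Cx R).X 0) (A.X n)) z

/-- The value of the coevaluation at one. -/
noncomputable def c : (A ⊗ B : DRing.Cx R).X 0 :=
  ((η_ A B).f 0).hom ((singleObjXSelf (ComplexShape.up ℤ) 0 (𝟙_ (ModuleCat.{u} R))).inv.hom (1 : R))

lemma L_c (n : ℤ) : L A B n (c A B) = LinearMap.id := by
  have h : B ◁ (η_ A B) ≫ G A B = (ρ_ B).hom := by
    rw [G, ExactPairing.coevaluation_evaluation_assoc, Iso.inv_hom_id, Category.comp_id]
  have h1 := congrArg (fun φ => ιTensorObj B (𝟙_ (DRing.Cx R)) n 0 n (add_zero n) ≫ φ.f n) h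
  simp only [HomologicalComplex.comp_f] at h1
  rw [reassoc_of% ι_whiskerLeft B (η_ A B) n 0 n (add_zero n), ι_rightUnitor] at h1
  refine LinearMap.ext fun x => ?_
  have h2 := ConcreteCategory.congr_hom h1 ((x ⊗ₜ[R]
    (singleObjXSelf (ComplexShape.up ℤ) 0 (𝟙_ (ModuleCat.{u} R))).inv.hom (1 : R)) : _)
  refine h2.trans ?_
  show (ρ_ (B.X n)).hom.hom (x ⊗ₜ[R] _) = x
  erw [Iso.inv_hom_id_apply]

lemma L'_c (n : ℤ) : L' A B n (c A B) = LinearMap.id := by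
  have h : (η_ A B) ▷ A ≫ G' A B = (λ_ A).hom := by
    rw [G', ExactPairing.evaluation_coevaluation_assoc, Iso.inv_hom_id, Category.comp_id]
  have h1 := congrArg (fun φ => ιTensorObj (𝟙_ (DRing.Cx R)) A 0 n n (zero_add n) ≫ φ.f n) h
  simp only [HomologicalComplex.comp_f] at h1
  rw [reassoc_of% ι_whiskerRight (η_ A B) A 0 n n (zero_add n), ι_leftUnitor] at h1
  refine LinearMap.ext fun x => ?_
  have h2 := ConcreteCategory.congr_hom h1
    (((singleObjXSelf (ComplexShape.up ℤ) 0 (𝟙_ (ModuleCat.{u} R))).inv.hom (1 : R)) ⊗ₜ[R] x : _)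
  refine h2.trans ?_
  show (λ_ (A.X n)).hom.hom (_ ⊗ₜ[R] x) = x
  erw [Iso.inv_hom_id_apply]

/-- One summand of the coevaluation gives a map of rank one, in one degree. -/
lemma L_tmul (n i j : ℤ) (hij : i + j = 0) (y : A.X i) (w : B.X j) :
    FinRank (L A B n ((ιTensorObj A B i j 0 hij).hom (y ⊗ₜ[R] w))) ∧
      (n ≠ j → L A B n ((ιTensorObj A B i j 0 hij).hom (y ⊗ₜ[R] w)) = 0) := by
  have h := congrArg (fun φ => φ ≫ ((ε_ A B) ▷ B).f n ≫ (λ_ B).hom.f n)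
    (ι_associator_inv B A B n i j (n + i) 0 n rfl hij (add_zero n) (by omega))
  simp only [Category.assoc] at h
  rw [reassoc_of% ι_whiskerRight (ε_ A B) B (n + i) j n (by omega)] at h
  have key : ∀ x, L A B n ((ιTensorObj A B i j 0 hij).hom (y ⊗ₜ[R] w)) x =
      (((ε_ A B).f (n + i) ▷ B.X j) ≫ ιTensorObj (𝟙_ (DRing.Cx R)) B (n + i) j n (by omega) ≫ (λ_ B).hom.f n).hom
        ((ιTensorObj B A n i (n + i) rfl).hom (x ⊗ₜ[R] y) ⊗ₜ[R] w) :=
    fun x => by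
      have h2 := LinearMap.congr_fun (congrArg ModuleCat.Hom.hom h) ((x ⊗ₜ[R] (y ⊗ₜ[R] w)) : _)
      simp only [ModuleCat.hom_comp, LinearMap.comp_apply] at h2
      simp only [L, G, HomologicalComplex.comp_f, ModuleCat.hom_comp, LinearMap.comp_apply, LinearMap.flip_apply,
        TensorProduct.mk_apply]
      exact h2
  by_cases hnj : n = j
  · subst hnj
    have hni : n + i = 0 := by omega
    refine ⟨?_, fun hne => absurd rfl hne⟩
    let φ : B.X n →ₗ[R] R := ((singleObjXSelf (ComplexShape.up ℤ) 0 (𝟙_ (ModuleCat.{u} R))).hom.hom ∘ₗ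
      ((ε_ A B).f 0).hom) ∘ₗ (ιTensorObj B A n i 0 hni).hom ∘ₗ
        (TensorProduct.mk R (B.X n) (A.X i)).flip y
    rw [show L A B n _ = φ.smulRight w from LinearMap.ext fun x => ?_]
    · exact finRank_smulRight φ w
    rw [key x]
    have aux : ∀ (a : ℤ) (ha : n + i = a) (hh : a + n = n),
        (((ε_ A B).f a ▷ B.X n) ≫ ιTensorObj (𝟙_ (DRing.Cx R)) B a n n hh ≫ (λ_ B).hom.f n).hom
          ((ιTensorObj B A n i a ha).hom (x ⊗ₜ[R] y) ⊗ₜ[R] w) = φ.smulRight w x := by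
      intro a ha hh
      obtain rfl : a = 0 := by omega
      rw [ι_leftUnitor B n]
      exact TensorProduct.lid_tmul w (φ x)
    exact aux (n + i) rfl (by omega)
  · have h0 : L A B n ((ιTensorObj A B i j 0 hij).hom (y ⊗ₜ[R] w)) = 0 := by
      refine LinearMap.ext fun x => ?_
      rw [key x, (isZero_single_obj_X (ComplexShape.up ℤ) 0 (𝟙_ (ModuleCat.{u} R)) (n + i) (by omega)).eq_of_tgt
        ((ε_ A B).f (n + i)) 0, MonoidalPreadditive.zero_whiskerRight, zero_comp]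
      rfl
    exact ⟨h0 ▸ finRank_zero, fun _ => h0⟩

lemma L'_tmul (n i j : ℤ) (hij : i + j = 0) (y : A.X i) (w : B.X j) :
    FinRank (L' A B n ((ιTensorObj A B i j 0 hij).hom (y ⊗ₜ[R] w))) ∧
      (n ≠ i → L' A B n ((ιTensorObj A B i j 0 hij).hom (y ⊗ₜ[R] w)) = 0) := by
  have h := congrArg (fun φ => φ ≫ (A ◁ (ε_ A B)).f n ≫ (ρ_ A).hom.f n)
    (ι_associator A B A i j n 0 (j + n) n hij rfl (by omega) (zero_add n))
  simp only [Category.assoc] at h
  rw [reassoc_of% ι_whiskerLeft A (ε_ A B) i (j + n) n (by omega)] at h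
  have key : ∀ x, L' A B n ((ιTensorObj A B i j 0 hij).hom (y ⊗ₜ[R] w)) x =
      ((A.X i ◁ (ε_ A B).f (j + n)) ≫ ιTensorObj A (𝟙_ (DRing.Cx R)) i (j + n) n (by omega) ≫ (ρ_ A).hom.f n).hom
        (y ⊗ₜ[R] (ιTensorObj B A j n (j + n) rfl).hom (w ⊗ₜ[R] x)) :=
    fun x => by
      have h2 := LinearMap.congr_fun (congrArg ModuleCat.Hom.hom h) (((y ⊗ₜ[R] w) ⊗ₜ[R] x) : _)
      simp only [ModuleCat.hom_comp, LinearMap.comp_apply] at h2
      simp only [L', G', HomologicalComplex.comp_f, ModuleCat.hom_comp, LinearMap.comp_apply, TensorProduct.mk_apply]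
      exact h2
  by_cases hni : n = i
  · subst hni
    refine ⟨?_, fun hne => absurd rfl hne⟩
    have hjn : j + n = 0 := by omega
    let φ : A.X n →ₗ[R] R := ((singleObjXSelf (ComplexShape.up ℤ) 0 (𝟙_ (ModuleCat.{u} R))).hom.hom ∘ₗ
      ((ε_ A B).f 0).hom) ∘ₗ (ιTensorObj B A j n 0 hjn).hom ∘ₗ
        (TensorProduct.mk R (B.X j) (A.X n)) w
    rw [show L' A B n _ = φ.smulRight y from LinearMap.ext fun x => ?_]
    · exact finRank_smulRight φ y
    rw [key x]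
    have aux : ∀ (a : ℤ) (ha : j + n = a) (hh : n + a = n),
        ((A.X n ◁ (ε_ A B).f a) ≫ ιTensorObj A (𝟙_ (DRing.Cx R)) n a n hh ≫ (ρ_ A).hom.f n).hom
          (y ⊗ₜ[R] (ιTensorObj B A j n a ha).hom (w ⊗ₜ[R] x)) = φ.smulRight y x := by
      intro a ha hh
      obtain rfl : a = 0 := by omega
      rw [ι_rightUnitor A n]
      exact TensorProduct.rid_tmul y (φ x)
    exact aux (j + n) rfl (by omega)
  · have h0 : L' A B n ((ιTensorObj A B i j 0 hij).hom (y ⊗ₜ[R] w)) = 0 := by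
      refine LinearMap.ext fun x => ?_
      rw [key x, (isZero_single_obj_X (ComplexShape.up ℤ) 0 (𝟙_ (ModuleCat.{u} R)) (j + n) (by omega)).eq_of_tgt
        ((ε_ A B).f (j + n)) 0, MonoidalPreadditive.whiskerLeft_zero, zero_comp]
      rfl
    exact ⟨h0 ▸ finRank_zero, fun _ => h0⟩

/-- Each term of a dual is finite projective and almost all vanish. -/
theorem exists_finset :
    ∃ Q : Finset ℤ, ∀ n : ℤ,
      ((Module.Finite R (A.X n) ∧ Module.Projective R (A.X n)) ∧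
        Module.Finite R (B.X n) ∧ Module.Projective R (B.X n)) ∧
      (n ∉ Q → IsZero (A.X n) ∧ IsZero (B.X n)) := by
  classical
  suffices ∀ z, ∃ Q : Finset ℤ, ∀ n, (FinRank (L' A B n z) ∧ FinRank (L A B n z)) ∧
      (n ∉ Q → L' A B n z = 0 ∧ L A B n z = 0) by
    obtain ⟨Q, hQ⟩ := this (c A B)
    refine ⟨Q, fun n => ⟨⟨finite_projective_of_finRank_id (L'_c A B n ▸ (hQ n).1.1),
      finite_projective_of_finRank_id (L_c A B n ▸ (hQ n).1.2)⟩, fun hn => ?_⟩⟩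
    obtain ⟨h1, h2⟩ := (hQ n).2 hn
    rw [L'_c] at h1
    rw [L_c] at h2
    exact ⟨ModuleCat.isZero_iff_subsingleton.2 (subsingleton_of_forall_eq 0 fun x => LinearMap.congr_fun h1 x),
      ModuleCat.isZero_iff_subsingleton.2 (subsingleton_of_forall_eq 0 fun x => LinearMap.congr_fun h2 x)⟩
  refine induction_tensor A B 0 ?_ ?_ ⟨∅, fun n => ?_⟩
  · intro i j hij y w
    refine ⟨{i, j}, fun n => ⟨⟨(L'_tmul A B n i j hij y w).1, (L_tmul A B n i j hij y w).1⟩, fun hn => ?_⟩⟩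
    simp only [Finset.mem_insert, Finset.mem_singleton, not_or] at hn
    exact ⟨(L'_tmul A B n i j hij y w).2 hn.1, (L_tmul A B n i j hij y w).2 hn.2⟩
  · rintro a b ⟨Q, hQ⟩ ⟨Q', hQ'⟩
    refine ⟨Q ∪ Q', fun n => ?_⟩
    have e1 : L' A B n (a + b) = L' A B n a + L' A B n b := by simp [L', LinearMap.comp_add]
    have e2 : L A B n (a + b) = L A B n a + L A B n b := by simp [L, LinearMap.comp_add]
    rw [e1, e2]
    refine ⟨⟨(hQ n).1.1.add (hQ' n).1.1, (hQ n).1.2.add (hQ' n).1.2⟩, fun hn => ?_⟩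
    simp only [Finset.mem_union, not_or] at hn
    rw [((hQ n).2 hn.1).1, ((hQ' n).2 hn.2).1, ((hQ n).2 hn.1).2, ((hQ' n).2 hn.2).2, add_zero, add_zero]
    exact ⟨rfl, rfl⟩
  · have e1 : L' A B n 0 = 0 := by simp [L']
    have e2 : L A B n 0 = 0 := by simp [L]
    rw [e1, e2]
    exact ⟨⟨finRank_zero, finRank_zero⟩, fun _ => ⟨rfl, rfl⟩⟩

end Pairing

end Groth.DAlg.Pairing
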