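import Groth.Agent.DAlg.SiteAwayTensor
import Groth.Agent.SitesTopoi.Mod.Projection
import Groth.Agent.SitesTopoi.Mod.KFlat
import Groth.Agent.DerivedCoh.KFlat.TotalMap
import Groth.Agent.DAlg.RestrPushOver

/-!
The projection formula for extensions by zero, naturally, and for total complexes.
-/

universe u

open CategoryTheory CategoryTheory.Limits Opposite MonoidalCategory

set_option backward.defeqAttrib.useBackward true
set_option backward.isDefEq.respectTransparency false
set_option synthInstance.maxHeartbeats 400000
set_option maxHeartbeats 1000000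
set_option linter.style.haveILetI false

namespace Groth.DAlg.ExtZeroTensorTot

open Groth.SitesTopoi.ModH Groth.DerivedCoh

variable {C : Type u} [SmallCategory C] {J : GrothendieckTopology C} {O : Sheaf J CommRingCat.{u}} {U : C}

lemma projHom_left {P P' : PM (O.over U)} (p : P ⟶ P') (N : PM O) :
    (Pex U).map (p ▷ (resP U).obj N) ≫ projHom P' N = projHom P N ≫ (Pex U).map p ▷ N :=
  pexObj_hom_ext fun W z => by
    refine Eq.trans (congrArg (apm (projHom _ _) W.left) (apm_Pex_map _ z (𝟙 W.left))) ?_
    refine Eq.trans ?_ (apm_comp _ _ _ _).symm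
    induction z using tens_induction with
    | zero => simp only [map_zero, pu_zero]
    | tmul x n =>
      rw [apm_whiskerRight]
      refine (apm_projHom P' N (apm p W x) (ofRes N W n) (𝟙 W.left)).trans ?_
      rw [show n = toRes N W (ofRes N W n) from rfl, apm_projHom]
      refine Eq.trans ?_ (apm_whiskerRight ((Pex U).map p) N _ _).symm
      rw [apm_Pex_map]
      rfl
    | add a b ha hb => simp only [map_add, pu_add, ha, hb]

lemma projHom_right (P : PM (O.over U)) {N N' : PM O} (q : N ⟶ N') :
    (Pex U).map (P ◁ (resP U).map q) ≫ projHom P N' = projHom P N ≫ pexObj P ◁ q :=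
  pexObj_hom_ext fun W z => by
    refine Eq.trans (congrArg (apm (projHom _ _) W.left) (apm_Pex_map _ z (𝟙 W.left))) ?_
    refine Eq.trans ?_ (apm_comp _ _ _ _).symm
    induction z using tens_induction with
    | zero => simp only [map_zero, pu_zero]
    | tmul x n =>
      rw [apm_whiskerLeft]
      refine (apm_projHom P N' x (apm q W.left (ofRes N W n)) (𝟙 W.left)).trans ?_
      rw [show n = toRes N W (ofRes N W n) from rfl, apm_projHom]
      refine Eq.trans ?_ (apm_whiskerLeft (pexObj P) q _ _).symm
      rw [apm_rsm]
      rfl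
    | add a b ha hb => simp only [map_add, pu_add, ha, hb]

lemma projectionIso_hom (P : ModSite.Mod (O.over U)) (N : ModSite.Mod O) :
    (projectionIso P N).hom = (aPExtZeroIso U).inv.app (P.val ⊗ (resP U).obj N.val : PM (O.over U)) ≫
      (aP O).map (projHom P.val N.val) ≫ (aP O).map (etaP (pexObj P.val) ▷ N.val) ≫
      ((ModSite.tensorBi O).map ((extZeroIso U).hom.app P)).app N := rfl

/-- The projection formula is natural in the first variable. -/
lemma projectionIso_left {P P' : ModSite.Mod (O.over U)} (p : P ⟶ P') (N : ModSite.Mod O) :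
    (ModSite.extZero O U).map (((ModSite.tensorBi (O.over U)).map p).app ((ModSite.restr O U).obj N)) ≫
        (projectionIso P' N).hom =
      (projectionIso P N).hom ≫ ((ModSite.tensorBi O).map ((ModSite.extZero O U).map p)).app N := by
  rw [projectionIso_hom, projectionIso_hom]
  simp only [Category.assoc]
  have e1 : (ModSite.extZero O U).map (((ModSite.tensorBi (O.over U)).map p).app ((ModSite.restr O U).obj N)) ≫
      (aPExtZeroIso U).inv.app (P'.val ⊗ (resP U).obj N.val : PM (O.over U)) =
      (aPExtZeroIso U).inv.app (P.val ⊗ (resP U).obj N.val : PM (O.over U)) ≫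
        (aP O).map ((Pex U).map (MonoidalCategory.whiskerRight (C := PM (O.over U)) p.val ((resP U).obj N.val))) :=
    (aPExtZeroIso U).inv.naturality (MonoidalCategory.whiskerRight (C := PM (O.over U)) p.val ((resP U).obj N.val))
  have e2 : (aP O).map ((Pex U).map (MonoidalCategory.whiskerRight (C := PM (O.over U)) p.val ((resP U).obj N.val))) ≫ (aP O).map (projHom P'.val N.val) =
      (aP O).map (projHom P.val N.val) ≫ (aP O).map ((Pex U).map p.val ▷ N.val) := by
    rw [← Functor.map_comp, ← Functor.map_comp, projHom_left]
  have e3 : (aP O).map ((Pex U).map p.val ▷ N.val) ≫ (aP O).map (etaP (pexObj P'.val) ▷ N.val) =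
      (aP O).map (etaP (pexObj P.val) ▷ N.val) ≫ (aP O).map (MonoidalCategory.whiskerRight (C := PM O) ((aP O).map ((Pex U).map p.val)).val N.val) := by
    rw [← Functor.map_comp, ← Functor.map_comp, ← comp_whiskerRight, ← comp_whiskerRight]
    exact congrArg (fun z => (aP O).map (MonoidalCategory.whiskerRight (C := PM O) z N.val)) ((adjP O).unit.naturality ((Pex U).map p.val))
  have e4 : (aP O).map (MonoidalCategory.whiskerRight (C := PM O) ((aP O).map ((Pex U).map p.val)).val N.val) ≫
      ((ModSite.tensorBi O).map ((extZeroIso U).hom.app P')).app N =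
      ((ModSite.tensorBi O).map ((extZeroIso U).hom.app P)).app N ≫
        ((ModSite.tensorBi O).map ((ModSite.extZero O U).map p)).app N := by
    rw [← NatTrans.comp_app, ← Functor.map_comp, ← (extZeroIso U).hom.naturality p, Functor.map_comp, NatTrans.comp_app]
    rfl
  rw [reassoc_of% e1, reassoc_of% e2, reassoc_of% e3, e4]

/-- The projection formula is natural in the second variable. -/
lemma projectionIso_right (P : ModSite.Mod (O.over U)) {N N' : ModSite.Mod O} (q : N ⟶ N') :
    (ModSite.extZero O U).map (((ModSite.tensorBi (O.over U)).obj P).map ((ModSite.restr O U).map q)) ≫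
        (projectionIso P N').hom =
      (projectionIso P N).hom ≫ ((ModSite.tensorBi O).obj ((ModSite.extZero O U).obj P)).map q := by
  rw [projectionIso_hom, projectionIso_hom]
  simp only [Category.assoc]
  have e1 : (ModSite.extZero O U).map (((ModSite.tensorBi (O.over U)).obj P).map ((ModSite.restr O U).map q)) ≫
      (aPExtZeroIso U).inv.app (P.val ⊗ (resP U).obj N'.val : PM (O.over U)) =
      (aPExtZeroIso U).inv.app (P.val ⊗ (resP U).obj N.val : PM (O.over U)) ≫
        (aP O).map ((Pex U).map (MonoidalCategory.whiskerLeft (C := PM (O.over U)) P.val ((resP U).map q.val))) :=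
    (aPExtZeroIso U).inv.naturality (MonoidalCategory.whiskerLeft (C := PM (O.over U)) P.val ((resP U).map q.val))
  have e2 : (aP O).map ((Pex U).map (MonoidalCategory.whiskerLeft (C := PM (O.over U)) P.val ((resP U).map q.val))) ≫ (aP O).map (projHom P.val N'.val) =
      (aP O).map (projHom P.val N.val) ≫ (aP O).map (MonoidalCategory.whiskerLeft (C := PM O) (pexObj P.val) q.val) := by
    rw [← Functor.map_comp, ← Functor.map_comp, projHom_right]
  have e3 : (aP O).map (MonoidalCategory.whiskerLeft (C := PM O) (pexObj P.val) q.val) ≫ (aP O).map (etaP (pexObj P.val) ▷ N'.val) =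
      (aP O).map (etaP (pexObj P.val) ▷ N.val) ≫ (aP O).map (MonoidalCategory.whiskerLeft (C := PM O) ((aP O).obj (pexObj P.val)).val q.val) := by
    rw [← Functor.map_comp, ← Functor.map_comp, whisker_exchange]
  have e4 : (aP O).map (MonoidalCategory.whiskerLeft (C := PM O) ((aP O).obj (pexObj P.val)).val q.val) ≫
      ((ModSite.tensorBi O).map ((extZeroIso U).hom.app P)).app N' =
      ((ModSite.tensorBi O).map ((extZeroIso U).hom.app P)).app N ≫
        ((ModSite.tensorBi O).obj ((ModSite.extZero O U).obj P)).map q :=
    ((ModSite.tensorBi O).map ((extZeroIso U).hom.app P)).naturality q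
  rw [reassoc_of% e1, reassoc_of% e2, reassoc_of% e3, e4]

local notation "up" => ComplexShape.up ℤ

/-- The projection formula for total complexes. -/
noncomputable def totProjIso (X : CochainComplex (ModSite.Mod (O.over U)) ℤ) (P : CochainComplex (ModSite.Mod O) ℤ) :
    ((ModSite.extZero O U).mapHomologicalComplex up).obj
        (((ModSite.tensorCx (O.over U)).obj X).obj (((ModSite.restr O U).mapHomologicalComplex up).obj P)) ≅
      ((ModSite.tensorCx O).obj (((ModSite.extZero O U).mapHomologicalComplex up).obj X)).obj P :=
  haveI : PreservesColimitsOfSize.{0, 0} (ModSite.extZero O U) :=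
    haveI : PreservesColimitsOfSize.{u, u} (ModSite.extZero O U) :=
      (ModSite.extZeroAdj O U).leftAdjoint_preservesColimits
    preservesColimitsOfSize_shrink.{0, u, 0, u} _
  let B := (((ModSite.tensorBi (O.over U)).mapBifunctorHomologicalComplex up up).obj X).obj
    (((ModSite.restr O U).mapHomologicalComplex up).obj P)
  let B' := (((ModSite.tensorBi O).mapBifunctorHomologicalComplex up up).obj
    (((ModSite.extZero O U).mapHomologicalComplex up).obj X)).obj P
  let e : (KFlat.mapBi (ModSite.extZero O U)).obj B ≅ B' :=
    HomologicalComplex.Hom.isoOfComponents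
      (fun p => HomologicalComplex.Hom.isoOfComponents (fun q => projectionIso (X.X p) (P.X q))
        fun q q' _ => (projectionIso_right (X.X p) (P.d q q')).symm)
      fun p p' _ => HomologicalComplex.hom_ext _ _ fun q => (projectionIso_left (X.d p p') (P.X q)).symm
  (KFlat.totalMapIso (ModSite.extZero O U) B).symm ≪≫
    (HomologicalComplex₂.totalFunctor (ModSite.Mod O) up up up).mapIso e

/-- Multiplications act through the first variable. -/
lemma tensor_map_smulEnd_left (s : DerComp.GSec O) (G M : ModSite.Mod O) :
    ((ModSite.tensorBi O).map (DerComp.smulEnd s G)).app M =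
      DerComp.smulEnd s (((ModSite.tensorBi O).obj G).obj M) := by
  apply ((adjP O).homEquiv (G.val ⊗ M.val : PM O) _).injective
  refine tens_hom_ext fun {W} m n => ?_
  rw [Adjunction.homEquiv_unit, Adjunction.homEquiv_unit]
  show apm ((aP O).map (MonoidalCategory.whiskerRight (C := PM O) (DerComp.smulEnd s G).val M.val)).val W (apm (etaP (G.val ⊗ M.val : PM O)) W (tm m n)) =
    (s.1 W : rsec O W) • apm (etaP (G.val ⊗ M.val : PM O)) W (tm m n)
  rw [etaP_naturality, apm_whiskerRight, ← map_smul, ← tm_smul_left]
  rfl

/-- Multiplications pass to total complexes. -/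
lemma tensorCx_map_smul (s : DerComp.GSec O) (X P : CochainComplex (ModSite.Mod O) ℤ) :
    ((ModSite.tensorCx O).map (s • 𝟙 X)).app P = s • 𝟙 (((ModSite.tensorCx O).obj X).obj P) := by
  refine HomologicalComplex.hom_ext _ _ fun n => HomologicalComplex.mapBifunctor.hom_ext fun p q h => ?_
  show HomologicalComplex.ιMapBifunctor X P (ModSite.tensorBi O) up p q n h ≫
      (HomologicalComplex.mapBifunctorMap (s • 𝟙 X) (𝟙 P) (ModSite.tensorBi O) up).f n =
    HomologicalComplex.ιMapBifunctor X P (ModSite.tensorBi O) up p q n h ≫
      (s • 𝟙 (HomologicalComplex.mapBifunctor X P (ModSite.tensorBi O) up)).f n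
  rw [HomologicalComplex.ι_mapBifunctorMap, HomologicalComplex.id_f, CategoryTheory.Functor.map_id,
    Category.id_comp]
  refine Eq.trans ?_ ((Linear.comp_smul (C := ModSite.Mod O) _ _ _ (HomologicalComplex.ιMapBifunctor X P (ModSite.tensorBi O) up p q n h) s
    (𝟙 ((HomologicalComplex.mapBifunctor X P (ModSite.tensorBi O) up).X n))).trans
    (congrArg (s • ·) (Category.comp_id _))).symm
  have e : ((ModSite.tensorBi O).map ((s • 𝟙 X : X ⟶ X).f p)).app (P.X q) =
      s • 𝟙 (((ModSite.tensorBi O).obj (X.X p)).obj (P.X q)) := by
    rw [HomologicalComplex.smul_f_apply, HomologicalComplex.id_f, DerComp.smul_def, DerComp.smul_def, Category.comp_id,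
      Category.comp_id]
    exact tensor_map_smulEnd_left s _ _
  rw [e, Linear.smul_comp, Category.id_comp]

end Groth.DAlg.ExtZeroTensorTot
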