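import Groth.Agent.SiteCohomology.ExtBasic
import Mathlib.CategoryTheory.Abelian.GrothendieckCategory.EnoughInjectives
import Mathlib.CategoryTheory.Abelian.GrothendieckCategory.HasExt
import Mathlib.Algebra.Homology.ShortComplex.HomologicalComplex
import Mathlib.Algebra.Homology.Embedding.CochainComplex

/-!
A left adjoint carries acyclic bounded above complexes with adapted terms to acyclic complexes.
-/

universe v v' u u'

open CategoryTheory CategoryTheory.Limits HomologicalComplex Abelian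

namespace Groth.DAlg.FAcyclic

section Detect

variable {A : Type u} [Category.{v} A] [Abelian A] [EnoughInjectives A]

/-- Exactness is detected by maps into injective objects. -/
lemma exact_of_forall_injective (S : ShortComplex A)
    (h : ∀ (I : A), Injective I → ∀ φ : S.X₂ ⟶ I, S.f ≫ φ = 0 → ∃ ψ : S.X₃ ⟶ I, S.g ≫ ψ = φ) : S.Exact := by
  rw [ShortComplex.exact_iff_kernel_ι_comp_cokernel_π_zero, ← cancel_mono (Injective.ι (cokernel S.f)),
    zero_comp, Category.assoc]
  obtain ⟨ψ, hψ⟩ := h _ inferInstance (cokernel.π S.f ≫ Injective.ι _) (by simp)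
  rw [← hψ, kernel.condition_assoc, zero_comp]

end Detect

variable {A : Type u} [Category.{v} A] [Abelian A] [EnoughInjectives A]
  {B : Type u'} [Category.{v'} B] [Abelian B] [HasExt.{v'} B] [EnoughInjectives B]
  {F : B ⥤ A} {G : A ⥤ B} (adj : F ⊣ G) [F.PreservesZeroMorphisms]

/-- No extensions into the images of injective objects. -/
def Acy (G : A ⥤ B) (Y : B) : Prop :=
  ∀ I : A, Injective I → ∀ q : ℕ, Subsingleton (Ext Y (G.obj I) (q + 1))


set_option linter.unusedSectionVars false
set_option linter.style.haveILetI false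

lemma acy_of_isZero {Y : B} (h : IsZero Y) : Acy G Y := fun I _ q =>
  subsingleton_of_forall_eq 0 fun e => by
    rw [← Ext.mk₀_id_comp e, h.eq_of_src (𝟙 Y) 0, Ext.mk₀_zero, Ext.zero_comp]

lemma acy_of_iso {Y Y' : B} (e : Y ≅ Y') (h : Acy G Y) : Acy G Y' := fun I hI q => by
  haveI := h I hI q
  refine subsingleton_of_forall_eq 0 fun x => ?_
  rw [← Ext.mk₀_id_comp x, ← e.inv_hom_id, ← Ext.mk₀_comp_mk₀, Ext.comp_assoc_of_second_deg_zero,
    Subsingleton.elim ((Ext.mk₀ e.hom).comp x (zero_add _)) 0, Ext.comp_zero]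

lemma acy_coproduct {α : Type v'} {X : α → B} [HasCoproduct X] (h : ∀ a, Acy G (X a)) : Acy G (∐ X) :=
  fun I hI q => Groth.SiteCohomology.subsingleton_ext_coproduct (coproductIsCoproduct X) _ _ fun a => h a I hI q

lemma acy_biprod {Y Y' : B} (h : Acy G Y) (h' : Acy G Y') : Acy G (Y ⊞ Y') := fun I hI q => by
  haveI := h I hI q
  haveI := h' I hI q
  refine subsingleton_of_forall_eq 0 fun e => ?_
  rw [← Ext.mk₀_id_comp e, ← biprod.total, Ext.mk₀_add, Ext.add_comp, ← Ext.mk₀_comp_mk₀,
    ← Ext.mk₀_comp_mk₀, Ext.comp_assoc_of_second_deg_zero, Ext.comp_assoc_of_second_deg_zero,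
    Subsingleton.elim ((Ext.mk₀ biprod.inl).comp e (zero_add _)) 0,
    Subsingleton.elim ((Ext.mk₀ biprod.inr).comp e (zero_add _)) 0, Ext.comp_zero, Ext.comp_zero, add_zero]

lemma acy_left {S : ShortComplex B} (hS : S.ShortExact) (h₂ : Acy G S.X₂) (h₃ : Acy G S.X₃) : Acy G S.X₁ :=
  fun I hI q => by
    haveI := h₂ I hI q
    haveI := h₃ I hI (q + 1)
    refine subsingleton_of_forall_eq 0 fun e => ?_
    obtain ⟨x, rfl⟩ := Ext.contravariant_sequence_exact₁ hS _ e (n₁ := q + 1 + 1) (by omega) (Subsingleton.elim _ _)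
    rw [Subsingleton.elim x 0, Ext.comp_zero]

section Cycles

variable (N : CochainComplex B ℤ) (hN : N.Acyclic) (i : ℤ)

/-- `0 → Zⁱ → Nⁱ → Zⁱ⁺¹ → 0`. -/
noncomputable abbrev cyclesSC : ShortComplex B :=
  ShortComplex.mk (N.iCycles i) (N.toCycles i (i + 1)) (by
    rw [← cancel_mono (N.iCycles (i + 1)), Category.assoc, toCycles_i, iCycles_d, zero_comp])

include hN in
lemma cyclesSC_shortExact : (cyclesSC N i).ShortExact := by
  have hepi : Epi (N.toCycles i (i + 1)) :=
    Preadditive.epi_of_isZero_cokernel' _ (N.homologyIsCokernel i (i + 1) (by simp)) (hN (i + 1)).isZero_homology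
  exact ShortComplex.ShortExact.mk' (ShortComplex.exact_of_f_is_kernel _ (KernelFork.IsLimit.ofι' _ _
    fun {W} k hk => ⟨N.liftCycles k (i + 1) (by simp) (by
      rw [← N.toCycles_i i (i + 1), reassoc_of% hk, zero_comp]), N.liftCycles_i ..⟩))
    inferInstance hepi

include hN in
lemma acy_cycles {b : ℤ} (h0 : ∀ q, b < q → IsZero (N.X q)) (hT : ∀ q, Acy G (N.X q)) :
    Acy G (N.cycles i) := by
  suffices ∀ (k : ℕ) (i : ℤ), b - k < i → Acy G (N.cycles i) from this (b - i + 1).toNat i (by omega)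
  intro k
  induction k with
  | zero => exact fun i hi => acy_of_isZero (IsZero.of_mono (N.iCycles i) (h0 i (by omega)))
  | succ k ih => exact fun i hi => acy_left (cyclesSC_shortExact N hN i) (hT i) (ih (i + 1) (by omega))

end Cycles

include adj in
/-- The left adjoint carries acyclic bounded above complexes with adapted terms to acyclic complexes. -/
theorem acyclic_map {N : CochainComplex B ℤ} (hN : N.Acyclic) {b : ℤ} (h0 : ∀ q, b < q → IsZero (N.X q))
    (hT : ∀ q, Acy G (N.X q)) : ((F.mapHomologicalComplex (ComplexShape.up ℤ)).obj N).Acyclic := fun i => by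
  rw [exactAt_iff' _ (i - 1) i (i + 1) (by simp) (by simp)]
  refine exact_of_forall_injective _ fun I hI φ (hφ : F.map (N.d (i - 1) i) ≫ φ = 0) => ?_
  let φ' := adj.homEquiv _ _ φ
  have hφ' : N.d (i - 1) i ≫ φ' = 0 := by
    apply (adj.homEquiv _ _).symm.injective
    simp only [φ']
    erw [adj.homEquiv_naturality_left_symm, Equiv.symm_apply_apply, adj.homEquiv_counit, F.map_zero, zero_comp]
    exact hφ
  have hc : N.iCycles i ≫ φ' = 0 := by
    have hepi : Epi (N.toCycles (i - 1) i) :=
      Preadditive.epi_of_isZero_cokernel' _ (N.homologyIsCokernel (i - 1) i (by simp)) (hN i).isZero_homology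
    rw [← cancel_epi (N.toCycles (i - 1) i), toCycles_i_assoc, hφ', comp_zero]
  have hS := cyclesSC_shortExact N hN i
  have := hS.epi_g
  let χ := hS.exact.desc φ' hc
  haveI := acy_cycles N hN (i + 1 + 1) h0 hT I hI 0
  obtain ⟨x, hx⟩ := Ext.contravariant_sequence_exact₁ (cyclesSC_shortExact N hN (i + 1)) _ (Ext.mk₀ χ)
    (n₁ := 1) rfl (Subsingleton.elim _ _)
  obtain ⟨ξ, rfl⟩ := (Ext.mk₀_bijective _ _).2 x
  rw [Ext.mk₀_comp_mk₀] at hx
  refine ⟨(adj.homEquiv _ _).symm ξ, ?_⟩
  apply (adj.homEquiv _ _).injective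
  show adj.homEquiv _ _ (F.map (N.d i (i + 1)) ≫ _) = φ'
  rw [adj.homEquiv_naturality_left, Equiv.apply_symm_apply, ← N.toCycles_i i (i + 1), Category.assoc,
    (Ext.mk₀_bijective _ _).1 hx]
  exact hS.exact.g_desc _ _

end Groth.DAlg.FAcyclic
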