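import Groth.Agent.FlatMorOne.FlatLocusModelFlat
import Groth.Agent.Flatmor4.PCohBaseChange
import Groth.Agent.PCohHom.Hom
import Groth.Agent.DAlg.Classes

/-!
Finitely presented modules over a flat finitely presented algebra which are flat over the base are
pseudo-coherent.
-/

universe u

open TensorProduct

attribute [local instance] HasDerivedCategory.standard
set_option linter.style.haveILetI false

namespace Groth.DAlg

theorem isPseudoCoherentModule'_of_flat_finitePresentation (R A : Type u) [CommRing R] [CommRing A] [Algebra R A]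
    [Module.Flat R A] [Algebra.FinitePresentation R A] (M : Type u) [AddCommGroup M] [Module A M] [Module R M]
    [IsScalarTower R A M] [Module.FinitePresentation A M] [Module.Flat R M] :
    DRing.IsPseudoCoherentModule' A M := by
  obtain ⟨R₁, _, _, S₁, _, _, _, _, _, _, M₁, _, _, _, _, _, _, f, hZ, hft, hfin, hflat, hpush, hf⟩ :=
    Groth.FlatMorOne.exists_flat_model R A M
  haveI : IsNoetherianRing R₁ := Algebra.FiniteType.isNoetherianRing ℤ R₁
  obtain ⟨n, π, hπ⟩ := Algebra.FiniteType.iff_quotient_mvPolynomial''.mp hft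
  let φ : MvPolynomial (Fin n) R →ₐ[R] A :=
    MvPolynomial.aeval fun i => algebraMap S₁ A (π (MvPolynomial.X i))
  have hφπ : ∀ q : MvPolynomial (Fin n) R₁,
      φ (MvPolynomial.map (algebraMap R₁ R) q) = algebraMap S₁ A (π q) := by
    intro q
    have : (φ.toRingHom.comp (MvPolynomial.map (algebraMap R₁ R))) =
        (algebraMap S₁ A).comp π.toRingHom := by
      refine MvPolynomial.ringHom_ext (fun a => ?_) fun i => ?_
      · show φ (MvPolynomial.map (algebraMap R₁ R) (MvPolynomial.C a)) = algebraMap S₁ A (π (MvPolynomial.C a))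
        rw [MvPolynomial.map_C, MvPolynomial.aeval_C, ← IsScalarTower.algebraMap_apply,
          ← MvPolynomial.algebraMap_eq, AlgHom.commutes, ← IsScalarTower.algebraMap_apply]
      · show φ (MvPolynomial.map (algebraMap R₁ R) (MvPolynomial.X i)) = _
        rw [MvPolynomial.map_X, MvPolynomial.aeval_X]
        rfl
    exact RingHom.congr_fun this q
  have hsurj : Function.Surjective φ := by
    intro b
    obtain ⟨z, rfl⟩ := (Algebra.IsPushout.equiv R₁ R S₁ A).surjective b
    induction z using TensorProduct.induction_on with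
    | zero => exact ⟨0, by simp⟩
    | tmul a s =>
      obtain ⟨q, rfl⟩ := hπ s
      refine ⟨MvPolynomial.C a * MvPolynomial.map (algebraMap R₁ R) q, ?_⟩
      rw [map_mul, hφπ, Algebra.IsPushout.equiv_tmul, MvPolynomial.aeval_C]
    | add x y hx hy =>
      obtain ⟨p, hp⟩ := hx
      obtain ⟨q, hq⟩ := hy
      exact ⟨p + q, by rw [map_add, map_add, hp, hq]⟩
  letI : Algebra (MvPolynomial (Fin n) R) A := φ.toRingHom.toAlgebra
  letI : Algebra (MvPolynomial (Fin n) R₁) (MvPolynomial (Fin n) R) := MvPolynomial.algebraMvPolynomial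
  letI : Algebra (MvPolynomial (Fin n) R₁) S₁ := π.toRingHom.toAlgebra
  haveI : IsScalarTower R₁ (MvPolynomial (Fin n) R₁) S₁ :=
    IsScalarTower.of_algebraMap_eq fun a => (π.commutes a).symm
  haveI : IsScalarTower R (MvPolynomial (Fin n) R) A :=
    IsScalarTower.of_algebraMap_eq fun a => (φ.commutes a).symm
  haveI : Module.Finite (MvPolynomial (Fin n) R₁) S₁ :=
    Module.Finite.of_surjective (Algebra.linearMap _ S₁) hπ
  haveI : Algebra.IsPushout R₁ R S₁ A := hpush
  haveI : Algebra.IsPushout R₁ (MvPolynomial (Fin n) R₁) R (MvPolynomial (Fin n) R) := inferInstance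
  haveI hP : Algebra.IsPushout R₁ R (MvPolynomial (Fin n) R₁) (MvPolynomial (Fin n) R) := inferInstance
  letI : Module (MvPolynomial (Fin n) R₁) M₁ := Module.compHom M₁ π.toRingHom
  haveI : IsScalarTower (MvPolynomial (Fin n) R₁) S₁ M₁ := IsScalarTower.of_algebraMap_smul fun _ _ => rfl
  haveI : IsScalarTower R₁ (MvPolynomial (Fin n) R₁) M₁ := IsScalarTower.of_algebraMap_smul fun a m => by
    show π (algebraMap R₁ _ a) • m = a • m
    rw [AlgHom.commutes, algebraMap_smul]
  haveI : Module.Finite (MvPolynomial (Fin n) R₁) M₁ := Module.Finite.trans S₁ M₁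
  haveI : Module.Flat R₁ M₁ := hflat
  letI : Module (MvPolynomial (Fin n) R) M := Module.compHom M φ.toRingHom
  haveI : IsScalarTower (MvPolynomial (Fin n) R) A M := IsScalarTower.of_algebraMap_smul fun _ _ => rfl
  letI : Module (MvPolynomial (Fin n) R₁) M := Module.compHom M ((algebraMap S₁ A).comp π.toRingHom)
  haveI : IsScalarTower (MvPolynomial (Fin n) R₁) (MvPolynomial (Fin n) R) M :=
    IsScalarTower.of_algebraMap_smul fun q m => by
      show φ (MvPolynomial.map (algebraMap R₁ R) q) • m = algebraMap S₁ A (π q) • m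
      rw [hφπ]
  let f' : M₁ →ₗ[MvPolynomial (Fin n) R₁] M :=
    { toFun := f
      map_add' := f.map_add
      map_smul' := fun q m => by
        show f (π q • m) = algebraMap S₁ A (π q) • f m
        rw [map_smul, algebraMap_smul] }
  let g : MvPolynomial (Fin n) R ⊗[MvPolynomial (Fin n) R₁] M₁ →ₗ[MvPolynomial (Fin n) R] M :=
    f'.liftBaseChange (MvPolynomial (Fin n) R)
  let e1 := Algebra.IsPushout.cancelBaseChange R₁ R (MvPolynomial (Fin n) R₁) (MvPolynomial (Fin n) R) M₁
  let e2 := Algebra.IsPushout.cancelBaseChange R₁ R S₁ A M₁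
  have hg : ∀ z, g (e1.symm z) = hf.equiv (e2.symm z) := by
    intro z
    induction z with
    | zero => simp
    | add x y hx hy => simp only [map_add, hx, hy]
    | tmul a m =>
      rw [Algebra.IsPushout.cancelBaseChange_symm_tmul, Algebra.IsPushout.cancelBaseChange_symm_tmul,
        IsBaseChange.equiv_tmul, LinearMap.liftBaseChange_tmul]
      show φ (algebraMap R (MvPolynomial (Fin n) R) a) • f m = algebraMap R A a • f m
      rw [AlgHom.commutes]
  have hbij : Function.Bijective g := by
    have : (g : _ → M) = (fun w => hf.equiv (e2.symm w)) ∘ e1 := funext fun w => by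
      show g w = hf.equiv (e2.symm (e1 w))
      rw [← hg, LinearEquiv.symm_apply_apply]
    rw [this]
    exact (hf.equiv.bijective.comp e2.symm.bijective).comp e1.bijective
  have hA : DRing.IsPseudoCoherentModule' (MvPolynomial (Fin n) R) A :=
    PCohHom.pcAlong_algebraMap.1 ((PCohHom.pcHom_iff φ hsurj).1 (PCohHom.pcHom_of_flat_finitePresentation R A))
  exact (PCohHom.pc_iff_restrictScalars hA M).2
    (Groth.Flatmor4.PCohBC.isPseudoCoherentModule'_baseChange R₁ R (MvPolynomial (Fin n) R₁)
      (MvPolynomial (Fin n) R) M₁ M (LinearEquiv.ofBijective g hbij))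

end Groth.DAlg
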