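import Groth.Agent.DAlg.TorAmp
import Groth.Agent.Calg7.Derived.Tor
import Mathlib.CategoryTheory.Abelian.Projective.Dimension

/-!
Tor dimension of modules and tor amplitude.
-/

universe u

open CategoryTheory CategoryTheory.Limits CategoryTheory.Pretriangulated HomologicalComplex

attribute [local instance] HasDerivedCategory.standard
set_option linter.style.haveILetI false

namespace Groth.DAlg

open Calg7

variable {R : Type u} [CommRing R]

/-- The upper end of the tor amplitude is detected by cohomology. -/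
lemma TorAmp.top {K : Dual.D R} {a b b' : ℤ} (h : DRing.HasTorAmplitudeIn R a b' K)
    (hb : ∀ i, b < i → Subsingleton (Dual.HD R K i)) : DRing.HasTorAmplitudeIn R a b K := by
  obtain ⟨P, hP, hfree, ⟨e⟩⟩ := exists_free_rep R hb
  have hflat : DRing.TermwiseFlat P := fun i => haveI := hfree i; inferInstance
  obtain ⟨E, hE, hEf, ⟨e'⟩⟩ := torAmplitude_of_isZero P hP hflat fun M i hi =>
    isZero_of_torAmplitude P hP hflat (TorAmp.of_iso h e.symm) M i (Or.inl hi)
  exact ⟨E, hE, hEf, ⟨e' ≪≫ e⟩⟩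

lemma flat_of_torAmp_zero {M : ModuleCat.{u} R} (h : DRing.HasTorAmplitudeIn R 0 0 (mD M)) : Module.Flat R M := by
  obtain ⟨E, hE, hEf, ⟨e⟩⟩ := h
  have : E.IsStrictlyGE 0 := (CochainComplex.isStrictlyGE_iff E 0).2 fun i hi => hE i (Or.inl hi)
  have : E.IsStrictlyLE 0 := (CochainComplex.isStrictlyLE_iff E 0).2 fun i hi => hE i (Or.inr hi)
  obtain ⟨Y, ⟨eY⟩⟩ := CochainComplex.exists_iso_single E 0
  have : IsIso (eY.hom.f 0) := inferInstanceAs (IsIso ((HomologicalComplex.eval _ _ 0).map eY.hom))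
  have := hEf 0
  have : Module.Flat R Y := Module.Flat.of_linearEquiv
    (asIso (eY.hom.f 0) ≪≫ singleObjXSelf (ComplexShape.up ℤ) 0 Y).symm.toLinearEquiv
  exact Module.Flat.of_linearEquiv
    ((PCohPunctual.homologySingleIso M 0).symm ≪≫ (DerivedCategory.homologyFunctor _ 0).mapIso
      (e.symm ≪≫ DerivedCategory.Q.mapIso eY ≪≫ ((DerivedCategory.singleFunctorIsoCompQ _ 0).app Y).symm) ≪≫
        PCohPunctual.homologySingleIso Y 0).toLinearEquiv

lemma subsingleton_HD_mD (M : ModuleCat.{u} R) {i : ℤ} (hi : i ≠ 0) : Subsingleton (Dual.HD R (mD M) i) :=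
  ModuleCat.subsingleton_of_isZero (PCohPunctual.homology_single_isZero M hi)

/-- Shifting tor amplitude along a presentation. -/
lemma torAmp_syzygy_iff {S : ShortComplex (ModuleCat.{u} R)} (hS : S.ShortExact) [Module.Flat R S.X₂] (d : ℕ) :
    DRing.HasTorAmplitudeIn R (-((d + 1 : ℕ) : ℤ)) 0 (mD S.X₃) ↔
      DRing.HasTorAmplitudeIn R (-(d : ℤ)) 0 (mD S.X₁) := by
  have h₂ := torAmp_mD_of_flat S.X₂
  constructor
  · intro h
    have h' := TorAmp.fiber (a := -((d + 1 : ℕ) : ℤ)) (b := 0) hS.singleTriangle_distinguished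
      (TorAmp.mono h₂ (by omega) (by omega)) h
    exact TorAmp.top (TorAmp.mono h' (by omega) le_rfl) fun i hi => subsingleton_HD_mD _ (ne_of_gt hi)
  · intro h
    exact TorAmp.cone hS.singleTriangle_distinguished (TorAmp.mono h (by omega) (by omega))
      (TorAmp.mono h₂ (by omega) le_rfl)

lemma flat_of_isZero_tor (M : ModuleCat.{u} R) (h : ∀ N, IsZero (Tor.T 1 M N)) : Module.Flat R M := by
  refine Module.Flat.iff_lTensor_preserves_injective_linearMap.2 fun N' N _ _ _ _ g hg => ?_
  let S : ShortComplex (ModuleCat.{u} R) := ShortComplex.mk (ModuleCat.ofHom g)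
    (ModuleCat.ofHom (LinearMap.range g).mkQ) (ModuleCat.hom_ext (LinearMap.range_mkQ_comp g))
  have hS : S.ShortExact :=
    { exact := (ShortComplex.ShortExact.moduleCat_exact_iff_function_exact _).2 (LinearMap.exact_map_mkQ_range g)
      mono_f := (ModuleCat.mono_iff_injective _).2 hg
      epi_g := (ModuleCat.epi_iff_surjective _).2 (Submodule.mkQ_surjective _) }
  exact (Tor.isZero_one_iff M hS (h _)).1 (h _)

lemma isZero_tor_succ_iff {S : ShortComplex (ModuleCat.{u} R)} (hS : S.ShortExact) [Module.Flat R S.X₂]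
    (N : ModuleCat.{u} R) (p : ℕ) : IsZero (Tor.T (p + 2) S.X₃ N) ↔ IsZero (Tor.T (p + 1) S.X₁ N) :=
  ⟨fun h => (Tor.exactL₁ hS N (p + 1)).isZero_of_both_zeros (h.eq_of_src _ _)
      ((Tor.isZero_of_flat_left N p).eq_of_tgt _ _),
    fun h => (Tor.exactL₃ hS N (p + 1)).isZero_of_both_zeros
      ((Tor.isZero_of_flat_left N (p + 1)).eq_of_src _ _) (h.eq_of_tgt _ _)⟩

/-- Tor dimension `≤ d` is tor amplitude `[-d, 0]`. -/
theorem isZero_tor_iff_torAmp (M : ModuleCat.{u} R) (d : ℕ) :
    (∀ (N : ModuleCat.{u} R) (p : ℕ), d < p → IsZero (Tor.T p M N)) ↔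
      DRing.HasTorAmplitudeIn R (-(d : ℤ)) 0 (mD M) := by
  induction d generalizing M with
  | zero =>
    constructor
    · intro h
      have := flat_of_isZero_tor M fun N => h N 1 one_pos
      exact TorAmp.mono (torAmp_mD_of_flat M) (by omega) le_rfl
    · intro h N p hp
      have := flat_of_torAmp_zero (TorAmp.mono h (by omega) le_rfl)
      obtain ⟨q, rfl⟩ := Nat.exists_eq_add_of_le' hp
      exact Tor.isZero_of_flat_left N q
  | succ d ih =>
    have hS := Tor.presentation_shortExact M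
    refine Iff.trans ⟨fun h N p hp => ?_, fun h N p hp => ?_⟩
      ((ih (Tor.presentation M).X₁).trans (torAmp_syzygy_iff hS d).symm)
    · obtain ⟨q, rfl⟩ := Nat.exists_eq_add_of_le' (show 1 ≤ p by omega)
      exact (isZero_tor_succ_iff hS N q).1 (h N (q + 2) (by omega))
    · obtain ⟨q, rfl⟩ := Nat.exists_eq_add_of_le' (show 2 ≤ p by omega)
      exact (isZero_tor_succ_iff hS N q).2 (h N (q + 1) (by omega))

theorem hasTorDimLE_iff (M : Type u) [AddCommGroup M] [Module R M] (d : ℕ) :
    DRing.HasTorDimLE R d M ↔ DRing.HasTorAmplitudeIn R (-(d : ℤ)) 0 (Dual.inD R M) := by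
  refine Iff.trans ?_ (isZero_tor_iff_torAmp (ModuleCat.of R M) d)
  exact ⟨fun h N p hp => ModuleCat.isZero_iff_subsingleton.2 (h N p hp),
    fun h N _ _ p hp => ModuleCat.subsingleton_of_isZero (h (ModuleCat.of R N) p hp)⟩

lemma torAmp_of_projectiveDimension (d : ℕ) (M : ModuleCat.{u} R) (h : HasProjectiveDimensionLT M (d + 1)) :
    DRing.HasTorAmplitudeIn R (-(d : ℤ)) 0 (mD M) := by
  induction d generalizing M with
  | zero =>
    have : Module.Projective R M :=
      (IsProjective.iff_projective M).2 ((projective_iff_hasProjectiveDimensionLT_one (X := M)).2 h)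
    exact TorAmp.mono (torAmp_mD_of_flat M) (by omega) le_rfl
  | succ d ih =>
    have hS := Tor.presentation_shortExact M
    have : Module.Projective R (Tor.presentation M).X₂ := inferInstanceAs (Module.Projective R (M →₀ R))
    have hp : HasProjectiveDimensionLT (Tor.presentation M).X₂ (d + 1) := by
      have := (IsProjective.iff_projective (Tor.presentation M).X₂).1 ‹_›
      exact inferInstance
    exact (torAmp_syzygy_iff hS d).2 (ih _ (hS.hasProjectiveDimensionLT_X₁ (d + 1) hp h))

/-- Bounded cohomology of uniformly bounded tor dimension. -/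
theorem torAmp_of_bounded_homology (d : ℕ) (hd : ∀ M : ModuleCat.{u} R, DRing.HasTorAmplitudeIn R (-(d : ℤ)) 0 (mD M))
    (K : Dual.D R) (a b : ℤ) (hK : ∀ i : ℤ, (i < a ∨ b < i) → Subsingleton (Dual.HD R K i)) :
    DRing.HasTorAmplitudeIn R (a - d) b K := by
  refine bounded_homology_induction (fun X => DRing.HasTorAmplitudeIn R (a - d) b X)
    (fun X Y e h => TorAmp.of_iso h e) (fun T hT h1 h3 => TorAmp.ext hT h1 h3)
    (fun X hX => TorAmp.of_isZero hX _ _) K a b
    (fun i hi => ModuleCat.isZero_iff_subsingleton.2 (hK i hi)) fun i => ?_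
  by_cases hi : i < a ∨ b < i
  · exact TorAmp.of_isZero (Functor.map_isZero _ (ModuleCat.isZero_iff_subsingleton.2 (hK i hi))) _ _
  · have h := TorAmp.shift (hd (ModuleCat.of R (Dual.HD R K i))) (-i)
    exact TorAmp.of_iso (TorAmp.mono h (by omega) (by omega)) (singleShift _ i)

end Groth.DAlg
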