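import Groth.Agent.DAlg.Fibre
import Groth.Agent.DAlg.TorDim
import Groth.Agent.DAlg.BaseChange
import Groth.Agent.DAlg.KFlat
import Groth.Agent.Ega4Algebra1.GlobalDim
import Mathlib.RingTheory.RegularLocalRing.Polynomial
import Mathlib.RingTheory.KrullDimension.Polynomial
import Mathlib.RingTheory.Ideal.Height
import Mathlib.RingTheory.LocalRing.ResidueField.Ideal
import Mathlib.RingTheory.TensorProduct.MvPolynomial

/-!
Tor amplitude at a prime of a polynomial ring from the fibre over the base.
-/

universe u

open CategoryTheory CategoryTheory.Limits HomologicalComplex MonoidalCategory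
open scoped TensorProduct

attribute [local instance] HasDerivedCategory.standard
set_option linter.style.haveILetI false

namespace Groth.DAlg

open FlatCxBase DerivedCoh KFlatMod

/-- Tensoring with a flat module preserves exactness. -/
lemma isZero_tensorCx_of_flat {R : Type u} [CommRing R] (F : DRing.Cx R) (M : ModuleCat.{u} R) [Module.Flat R M]
    {i : ℤ} (h : IsZero (F.homology i)) : IsZero ((DRing.tensorCx F M).homology i) := by
  rw [← exactAt_iff_isZero_homology] at h ⊢
  have h1 : ((((T R).obj M).mapHomologicalComplex (ComplexShape.up ℤ)).obj F).ExactAt i :=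
    (exactAt_iff _ i).2 (Module.Flat.lTensor_shortComplex_exact M (F.sc i) ((exactAt_iff _ i).1 h))
  exact ExactAt.of_iso h1 (leftTensorIso M F)

/-- Base change along a flat map after a base change. -/
lemma isZero_extCx_trans {P Q S : Type u} [CommRing P] [CommRing Q] [CommRing S] [Algebra P Q] [Algebra P S]
    [Algebra Q S] [IsScalarTower P Q S] [Module.Flat Q S] (F : DRing.Cx P) {i : ℤ}
    (h : IsZero ((extCx (algebraMap P Q) F).homology i)) : IsZero ((extCx (algebraMap P S) F).homology i) :=
  (isZero_extCx_iff F i).2 ((isZero_extCx_tensor_iff (S := Q) F S i).1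
    (isZero_tensorCx_of_flat _ (ModuleCat.of Q S) h))

/-- Base change of a finite projective complex to a residue field, through an intermediate ring. -/
lemma isZero_extCx_residue_iff {P T κ : Type u} [CommRing P] [CommRing T] [CommRing κ] [Algebra P T] [Algebra P κ]
    [Algebra T κ] [IsScalarTower P T κ] (F : DRing.Cx P) (i : ℤ) :
    IsZero ((extCx (algebraMap T κ) (extCx (algebraMap P T) F)).homology i) ↔
      IsZero ((extCx (algebraMap P κ) F).homology i) := by
  rw [isZero_extCx_iff, isZero_extCx_iff, isZero_extCx_tensor_iff (S := T) F κ i]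

/-- Tor amplitude over a local ring from vanishing over a ring of finite global tor dimension. -/
theorem torAmp_of_regular {T S : Type u} [CommRing T] [IsLocalRing T] [CommRing S] [Algebra T S]
    [Algebra S (IsLocalRing.ResidueField T)] [IsScalarTower T S (IsLocalRing.ResidueField T)]
    (F : DRing.Cx T) {B : ℤ} (hB : DRing.VanishesAbove F B) (hF : DRing.TermwiseFiniteProjective F) (d : ℕ)
    (hd : ∀ M : ModuleCat.{u} S, DRing.HasTorAmplitudeIn S (-(d : ℤ)) 0 (mD M)) (a b : ℤ)
    (h : ∀ i, (i < a ∨ b < i) → IsZero ((extCx (algebraMap T S) F).homology i)) :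
    DRing.HasTorAmplitudeIn T (a - d) b (DRing.toD F) := by
  have hflat : DRing.TermwiseFlat F := fun i => haveI := (hF i).2; inferInstance
  have hS := torAmp_of_bounded_homology d hd (DRing.toD (extCx (algebraMap T S) F)) a b
    fun i hi => subsingleton_HD_toD (h i hi)
  have hSb : DRing.VanishesAbove (extCx (algebraMap T S) F) B := fun i hi =>
    (ModuleCat.extendScalars _).map_isZero (hB i hi)
  refine torAmp_of_forall_tensor F hB hflat (Iso.refl _) fun M j hj => ?_
  refine isZero_tensor_of_forall_maximal F hF j (fun m hm => ?_) M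
  haveI : Module.Projective T (F.X (j + 1)) := (hF (j + 1)).2
  obtain ⟨r, hr⟩ := exists_retraction_mod (S := IsLocalRing.ResidueField T) F (i := j - 1)
    IsLocalRing.residue_surjective (by omega) (rfl : j + 1 = j + 1) ((isZero_extCx_iff F j).2
      ((isZero_extCx_tensor_iff (S := S) F (IsLocalRing.ResidueField T) j).1
        (isZero_of_torAmplitude _ hSb (termwiseFlat_extCx _ hflat) hS _ j hj)))
  refine ⟨r, fun x => Submodule.smul_mono_left ?_ (hr x)⟩
  rw [show algebraMap T (IsLocalRing.ResidueField T) = IsLocalRing.residue T from rfl,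
    IsLocalRing.ker_residue, IsLocalRing.eq_maximalIdeal hm]

variable {R : Type u} [CommRing R] {d : ℕ}

variable (p : Ideal R) [p.IsPrime] (q : Ideal (MvPolynomial (Fin d) R)) [q.IsPrime]

/-- The fibre over `κ(p)` of `R[x]_q`. -/
theorem localFibre [Algebra (Localization.AtPrime p) (Localization.AtPrime q)]
    [IsScalarTower R (Localization.AtPrime p) (Localization.AtPrime q)] (hpq : p = q.comap (algebraMap R _)) :
    ∃ (U : Type u) (_ : CommRing U) (_ : Algebra (Localization.AtPrime q) U)
      (_ : Algebra U (IsLocalRing.ResidueField (Localization.AtPrime q)))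
      (_ : Algebra p.ResidueField U) (_ : Algebra (Localization.AtPrime p) U)
      (_ : IsScalarTower (Localization.AtPrime q) U (IsLocalRing.ResidueField (Localization.AtPrime q)))
      (_ : IsScalarTower (Localization.AtPrime p) p.ResidueField U)
      (_ : IsScalarTower (Localization.AtPrime p) (Localization.AtPrime q) U),
      Algebra.IsPushout (Localization.AtPrime p) p.ResidueField (Localization.AtPrime q) U ∧
      (∀ M : ModuleCat.{u} U, DRing.HasTorAmplitudeIn U (-(d : ℤ)) 0 (mD M)) ∧
      ∃ φ : MvPolynomial (Fin d) p.ResidueField →+* U, φ.Flat ∧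
        φ.comp (MvPolynomial.map (algebraMap R p.ResidueField)) =
          (algebraMap (Localization.AtPrime q) U).comp (algebraMap (MvPolynomial (Fin d) R) (Localization.AtPrime q)) := by
  let Rp := Localization.AtPrime p
  let T := Localization.AtPrime q
  let κ := IsLocalRing.ResidueField T
  have hloc : algebraMap Rp T = Localization.localRingHom p q (algebraMap R _) hpq := by
    refine (Localization.localRingHom_unique _ _ _ _ fun x => ?_).symm
    rw [← IsScalarTower.algebraMap_apply R Rp T, IsScalarTower.algebraMap_apply R (MvPolynomial (Fin d) R) T]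
  haveI : IsLocalHom (algebraMap Rp T) := hloc ▸ Localization.isLocalHom_localRingHom p q _ hpq
  letI := Algebra.TensorProduct.rightAlgebra (R := Rp) (A := p.ResidueField) (B := T)
  let U := p.ResidueField ⊗[Rp] T
  let ν : U →ₐ[Rp] κ := Algebra.TensorProduct.lift (IsScalarTower.toAlgHom Rp p.ResidueField κ)
    (IsScalarTower.toAlgHom Rp T κ) (fun _ _ => Commute.all _ _)
  have hνt : ∀ t : T, ν ((1 : p.ResidueField) ⊗ₜ t) = IsLocalRing.residue T t := fun t => by
    refine (Algebra.TensorProduct.lift_tmul _ _ _ _ _).trans ?_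
    rw [map_one, one_mul]
    rfl
  letI : Algebra U κ := ν.toRingHom.toAlgebra
  haveI : IsScalarTower T U κ := IsScalarTower.of_algebraMap_eq fun t => (hνt t).symm
  have hTU : Function.Surjective (algebraMap T U) :=
    TensorProduct.mk_surjective Rp T p.ResidueField IsLocalRing.residue_surjective
  haveI : Nontrivial U := ν.toRingHom.domain_nontrivial
  haveI : IsLocalRing U := IsLocalRing.of_surjective' (algebraMap T U) hTU
  have hunit : ∀ z : U, ν z ≠ 0 → IsUnit z := fun z hz => by
    obtain ⟨t, rfl⟩ := hTU z
    refine IsUnit.map _ (by_contra fun ht => hz ?_)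
    exact (hνt t).trans ((IsLocalRing.residue_eq_zero_iff t).2 ((IsLocalRing.mem_maximalIdeal t).2 ht))
  let g : MvPolynomial (Fin d) R →+* U := (algebraMap T U).comp (algebraMap _ T)
  let φ : MvPolynomial (Fin d) p.ResidueField →+* U :=
    MvPolynomial.eval₂Hom (algebraMap p.ResidueField U) fun i => g (MvPolynomial.X i)
  have hφ : φ.comp (MvPolynomial.map (algebraMap R p.ResidueField)) = g := by
    refine MvPolynomial.ringHom_ext (fun r => ?_) fun i => ?_
    · simp only [RingHom.comp_apply, MvPolynomial.map_C, φ, MvPolynomial.eval₂Hom_C, g]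
      rw [← MvPolynomial.algebraMap_eq, ← IsScalarTower.algebraMap_apply R (MvPolynomial (Fin d) R) T,
        IsScalarTower.algebraMap_apply R Rp p.ResidueField, IsScalarTower.algebraMap_apply R Rp T,
        ← IsScalarTower.algebraMap_apply Rp p.ResidueField U, ← IsScalarTower.algebraMap_apply Rp T U]
    · simp [φ]
  let χ : MvPolynomial (Fin d) p.ResidueField →+* κ := ν.toRingHom.comp φ
  let q' : Ideal (MvPolynomial (Fin d) p.ResidueField) := RingHom.ker χ
  haveI : q'.IsPrime := RingHom.ker_isPrime χ
  let ψ : Localization.AtPrime q' →+* U := IsLocalization.lift (M := q'.primeCompl) (g := φ)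
    fun s => hunit _ (fun h => s.2 h)
  have hψ : ∀ x, ψ (algebraMap _ (Localization.AtPrime q') x) = φ x := fun x => IsLocalization.lift_eq _ x
  let iP : MvPolynomial (Fin d) R →+* Localization.AtPrime q' :=
    (algebraMap _ (Localization.AtPrime q')).comp (MvPolynomial.map (algebraMap R p.ResidueField))
  have hiP : ∀ s : q.primeCompl, IsUnit (iP s) := fun s =>
    IsLocalization.map_units (M := q'.primeCompl) _ ⟨MvPolynomial.map (algebraMap R p.ResidueField) s, fun h => by
      have h1 : ν (φ (MvPolynomial.map (algebraMap R p.ResidueField) s)) = 0 := h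
      rw [show φ (MvPolynomial.map (algebraMap R p.ResidueField) s) = g s from RingHom.congr_fun hφ _] at h1
      exact (IsLocalRing.notMem_maximalIdeal.2 (IsLocalization.map_units (M := q.primeCompl) T s))
        ((IsLocalRing.residue_eq_zero_iff _).1 ((hνt _).symm.trans h1))⟩
  let jT : T →+* Localization.AtPrime q' := IsLocalization.lift hiP
  have hjT : ∀ x, jT (algebraMap _ T x) = iP x := fun x => IsLocalization.lift_eq hiP x
  let jk : p.ResidueField →+* Localization.AtPrime q' :=
    (algebraMap (MvPolynomial (Fin d) p.ResidueField) (Localization.AtPrime q')).comp MvPolynomial.C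
  have hjk : jk.comp (algebraMap Rp p.ResidueField) = jT.comp (algebraMap Rp T) := by
    refine IsLocalization.ringHom_ext p.primeCompl (RingHom.ext fun r => ?_)
    simp only [RingHom.comp_apply]
    rw [← IsScalarTower.algebraMap_apply R Rp T, IsScalarTower.algebraMap_apply R (MvPolynomial (Fin d) R) T, hjT,
      ← IsScalarTower.algebraMap_apply R Rp p.ResidueField]
    simp [iP, jk]
  have hkS : ∀ r : Rp, jk (algebraMap Rp p.ResidueField r) = algebraMap Rp (Localization.AtPrime q') r := fun r => by
    rw [IsScalarTower.algebraMap_apply Rp (MvPolynomial (Fin d) p.ResidueField) (Localization.AtPrime q')]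
    simp [jk, MvPolynomial.algebraMap_apply]
  let jk' : p.ResidueField →ₐ[Rp] Localization.AtPrime q' := ⟨jk, hkS⟩
  let jT' : T →ₐ[Rp] Localization.AtPrime q' := ⟨jT, fun r => (RingHom.congr_fun hjk r).symm.trans (hkS r)⟩
  let θ : U →ₐ[Rp] Localization.AtPrime q' := Algebra.TensorProduct.lift jk' jT' (fun _ _ => Commute.all _ _)
  have h₁ : ψ.comp θ.toRingHom = RingHom.id U := by
    refine Algebra.TensorProduct.ringHom_ext (RingHom.ext fun k => ?_) (RingHom.ext fun t => ?_)
    · show ψ (θ (k ⊗ₜ 1)) = k ⊗ₜ 1
      rw [show θ (k ⊗ₜ (1 : T)) = jk k * jT 1 from Algebra.TensorProduct.lift_tmul _ _ _ k 1, map_one, mul_one]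
      show ψ (algebraMap (MvPolynomial (Fin d) p.ResidueField) (Localization.AtPrime q') (MvPolynomial.C k)) = _
      rw [hψ]
      simp [φ, U]
      rfl
    · show ψ (θ ((1 : p.ResidueField) ⊗ₜ t)) = (1 : p.ResidueField) ⊗ₜ t
      rw [show θ ((1 : p.ResidueField) ⊗ₜ t) = jk 1 * jT t from Algebra.TensorProduct.lift_tmul _ _ _ 1 t, map_one, one_mul]
      show ψ (jT t) = algebraMap T U t
      suffices ψ.comp jT = algebraMap T U from RingHom.congr_fun this t
      refine IsLocalization.ringHom_ext q.primeCompl (RingHom.ext fun x => ?_)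
      show ψ (jT (algebraMap _ T x)) = g x
      rw [hjT]
      exact (hψ _).trans (RingHom.congr_fun hφ x)
  have h₂ : θ.toRingHom.comp ψ = RingHom.id _ := by
    refine IsLocalization.ringHom_ext q'.primeCompl ?_
    refine MvPolynomial.ringHom_ext (fun k => ?_) fun i => ?_
    · show θ (ψ (algebraMap _ _ (MvPolynomial.C k))) = algebraMap _ _ (MvPolynomial.C k)
      rw [hψ]
      rw [show φ (MvPolynomial.C k) = k ⊗ₜ[Rp] (1 : T) from MvPolynomial.eval₂Hom_C _ _ k]
      refine (Algebra.TensorProduct.lift_tmul _ _ _ k 1).trans ?_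
      rw [map_one, mul_one]
      rfl
    · show θ (ψ (algebraMap _ _ (MvPolynomial.X i))) = algebraMap _ _ (MvPolynomial.X i)
      rw [hψ]
      simp only [φ, MvPolynomial.eval₂Hom_X']
      show θ ((1 : p.ResidueField) ⊗ₜ algebraMap _ T (MvPolynomial.X i)) = _
      refine (Algebra.TensorProduct.lift_tmul _ _ _ _ _).trans ?_
      rw [map_one, one_mul]
      show jT _ = _
      rw [hjT]
      simp [iP]
  let e : Localization.AtPrime q' ≃+* U := RingEquiv.ofRingHom ψ θ.toRingHom h₁ h₂
  have hflat : φ.Flat := by
    letI := φ.toAlgebra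
    haveI : IsLocalization q'.primeCompl U :=
      IsLocalization.isLocalization_of_algEquiv q'.primeCompl (AlgEquiv.ofRingEquiv (f := e) hψ)
    exact RingHom.flat_algebraMap_iff.2 (IsLocalization.flat U q'.primeCompl)
  refine ⟨U, inferInstance, inferInstance, inferInstance, inferInstance, inferInstance, inferInstance,
    inferInstance, inferInstance, inferInstance, fun M => ?_, φ, hflat, hφ⟩
  haveI : IsRegularLocalRing U := IsRegularLocalRing.of_ringEquiv e
  obtain ⟨n, hn⟩ : ∃ n : ℕ, ringKrullDim U = n :=
    ⟨_, (IsRegularLocalRing.spanFinrank_maximalIdeal (R := U)).symm⟩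
  have hnd : n ≤ d := by
    have h1 : ringKrullDim U ≤ (d : WithBot ℕ∞) := by
      rw [← ringKrullDim_eq_of_ringEquiv e, IsLocalization.AtPrime.ringKrullDim_eq_height q']
      refine (Ideal.height_le_ringKrullDim_of_ne_top Ideal.IsPrime.ne_top').trans ?_
      rw [MvPolynomial.ringKrullDim_of_isNoetherianRing, ringKrullDim_eq_zero_of_field, zero_add, Nat.card_fin]
    rw [hn] at h1
    exact_mod_cast h1
  haveI := Groth.Ega4Algebra1.pdLT_all_of_isRegularLocalRing U n hn M
  exact torAmp_of_projectiveDimension d M (hasProjectiveDimensionLT_of_ge M (n + 1) (d + 1) (by omega))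

end Groth.DAlg
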