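import Groth.Agent.DAlg.Fibre
import Groth.Agent.DAlg.BaseChange
import Groth.Agent.DAlg.RelPerfectFibre
import Mathlib.RingTheory.Spectrum.Prime.FreeLocus

/-!
Tor amplitude of a bounded above complex of finite projectives from its localizations at the primes.
-/

universe u

open CategoryTheory CategoryTheory.Limits HomologicalComplex
open scoped TensorProduct

attribute [local instance] HasDerivedCategory.standard
set_option linter.style.haveILetI false

namespace Groth.DAlg

open FlatCxBase

variable {P : Type u} [CommRing P]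

theorem torAmp_of_flat_coker (F : DRing.Cx P) {B : ℤ} (hB : DRing.VanishesAbove F B) (hF : DRing.TermwiseFlat F)
    (a : ℤ) (hQ : Module.Flat P (Coker F (a - 1) a)) (hz : ∀ i < a, IsZero (F.homology i)) :
    DRing.HasTorAmplitudeIn P a B (DRing.toD F) := by
  let Φ : ObjectProperty (ModuleCat.{u} P) := fun X => Module.Flat P X
  haveI : Φ.IsClosedUnderIsomorphisms :=
    ⟨fun {X Y} e (hX : Module.Flat P X) => Module.Flat.of_linearEquiv e.toLinearEquiv.symm⟩
  exact ⟨F.truncGE a, vanishesOutside_truncGE F a hB,
    truncGE_X_of_prop Φ F a (fun X hX => haveI := ModuleCat.subsingleton_of_isZero hX; show Module.Flat P X from inferInstance)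
      (fun i _ => hF i) hQ, nonempty_truncGE_iso hz⟩

variable (F : DRing.Cx P) {B : ℤ} (hB : DRing.VanishesAbove F B) (hF : DRing.TermwiseFiniteProjective F)

include hF in
lemma termwiseFlat_of_finProj : DRing.TermwiseFlat F := fun i => haveI := (hF i).2; inferInstance

include hF in
lemma finitePresentation_coker' (i j : ℤ) : Module.FinitePresentation P (Coker F i j) :=
  haveI := (hF i).1; haveI := (hF j).1; haveI := (hF j).2
  finitePresentation_coker (P := F) i j

include hB hF in
lemma mem_freeLocus_of_torAmp (y : PrimeSpectrum P) (a : ℤ)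
    (h : DRing.HasTorAmplitudeIn (Localization.AtPrime y.asIdeal) a B
      (DRing.toD (extCx (algebraMap P (Localization.AtPrime y.asIdeal)) F))) :
    y ∈ Module.freeLocus P (Coker F (a - 1) a) := by
  haveI := finitePresentation_coker' F hF (a - 1) a
  haveI : ∀ i, Module.Flat (Localization.AtPrime y.asIdeal)
      ((extCx (algebraMap P (Localization.AtPrime y.asIdeal)) F).X i) :=
    termwiseFlat_extCx _ (termwiseFlat_of_finProj F hF)
  have hQ := flat_coker_of_isZero (extCx (algebraMap P (Localization.AtPrime y.asIdeal)) F) a fun M =>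
    isZero_of_torAmplitude _ (b' := B) (fun i hi => (ModuleCat.extendScalars _).map_isZero (hB i hi))
      (termwiseFlat_extCx _ (termwiseFlat_of_finProj F hF)) h M (a - 1) (Or.inl (by omega))
  rw [Module.mem_freeLocus_iff_tensor y (Localization.AtPrime y.asIdeal)]
  haveI : Module.Flat (Localization.AtPrime y.asIdeal) (Localization.AtPrime y.asIdeal ⊗[P] Coker F (a - 1) a) :=
    (Module.Flat.equiv_iff (cokerBCEquiv (Localization.AtPrime y.asIdeal) F (a - 1) a)).1 hQ
  exact Module.free_of_flat_of_isLocalRing

include hB hF in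
lemma torAmp_of_mem_freeLocus (y : PrimeSpectrum P) (a : ℤ) (hz : ∀ i < a, IsZero (F.homology i))
    (h : y ∈ Module.freeLocus P (Coker F (a - 1) a)) :
    DRing.HasTorAmplitudeIn (Localization.AtPrime y.asIdeal) a B
      (DRing.toD (extCx (algebraMap P (Localization.AtPrime y.asIdeal)) F)) := by
  haveI := finitePresentation_coker' F hF (a - 1) a
  haveI : Module.Flat P (Localization.AtPrime y.asIdeal) := IsLocalization.flat _ y.asIdeal.primeCompl
  rw [Module.mem_freeLocus_iff_tensor y (Localization.AtPrime y.asIdeal)] at h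
  refine torAmp_of_flat_coker _ (fun i hi => (ModuleCat.extendScalars _).map_isZero (hB i hi))
    (termwiseFlat_extCx _ (termwiseFlat_of_finProj F hF)) a ?_ fun i hi =>
      (isZero_extCx_iff F i).2 (isZero_tensorCx_of_flat F _ (hz i hi))
  exact (Module.Flat.equiv_iff (cokerBCEquiv (Localization.AtPrime y.asIdeal) F (a - 1) a)).2 inferInstance

include hB hF in
/-- Pointwise bounds on tor amplitude are uniform for objects with bounded below cohomology. -/
theorem exists_torAmp_of_forall_prime (a₀ : ℤ) (hz : ∀ i < a₀, IsZero (F.homology i))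
    (h : ∀ y : PrimeSpectrum P, ∃ a : ℤ, DRing.HasTorAmplitudeIn (Localization.AtPrime y.asIdeal) a B
      (DRing.toD (extCx (algebraMap P (Localization.AtPrime y.asIdeal)) F))) :
    ∃ a : ℤ, DRing.HasTorAmplitudeIn P a B (DRing.toD F) := by
  haveI := fun i j => finitePresentation_coker' F hF i j
  let U : ℕ → Set (PrimeSpectrum P) := fun n => Module.freeLocus P (Coker F (a₀ - n - 1) (a₀ - n))
  have hmono : ∀ {m n : ℕ}, m ≤ n → U m ⊆ U n := fun {m n} hmn y hy => by
    have h1 := torAmp_of_mem_freeLocus F hB hF y (a₀ - m) (fun i hi => hz i (by omega)) hy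
    exact mem_freeLocus_of_torAmp F hB hF y _ (TorAmp.mono h1 (by omega) le_rfl)
  have hcov : ∀ y, ∃ n, y ∈ U n := fun y => by
    obtain ⟨a, ha⟩ := h y
    exact ⟨(a₀ - a).toNat, mem_freeLocus_of_torAmp F hB hF y _ (TorAmp.mono ha (by omega) le_rfl)⟩
  obtain ⟨t, ht⟩ := isCompact_univ.elim_finite_subcover U (fun n => Module.isOpen_freeLocus)
    fun y _ => Set.mem_iUnion.2 (hcov y)
  let N := t.sup id
  have hall : U N = Set.univ := Set.eq_univ_of_forall fun y => by
    obtain ⟨n, hn, hy⟩ := Set.mem_iUnion₂.1 (ht (Set.mem_univ y))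
    exact hmono (Finset.le_sup (f := id) hn) hy
  haveI := Module.freeLocus_eq_univ_iff.1 hall
  exact ⟨a₀ - N, torAmp_of_flat_coker F hB (termwiseFlat_of_finProj F hF) _ inferInstance
    fun i hi => hz i (by omega)⟩

end Groth.DAlg
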