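import Groth.Agent.DAlg.KFlatOps
import Groth.Agent.DAlg.TotFinite
import Groth.Agent.DAlg.LeftDerived
import Groth.Prelude.Def_DRing4
import Mathlib.RingTheory.Finiteness.Projective

/-!
The Hom complex out of a perfect complex into a K-flat complex is K-flat.
-/

universe u

open CategoryTheory CategoryTheory.Limits HomologicalComplex MonoidalCategory
open CochainComplex CochainComplex.HomComplex

attribute [local instance] HasDerivedCategory.standard
set_option linter.style.haveILetI false

namespace Groth.DAlg.HomCxKFlat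

open DerivedCoh KFlatMod PCohPunctual

variable {A : Type u} [CommRing A]

local notation "up" => ComplexShape.up ℤ

variable (K : DRing.Cx A)

/-- Precomposition with a cochain of degree zero. -/
noncomputable def preLin {X Y : DRing.Cx A} (α : Cochain X Y 0) (i : ℤ) : Cochain Y K i →ₗ[A] Cochain X K i where
  toFun z := α.comp z (zero_add i)
  map_add' z z' := Cochain.comp_add α z z' _
  map_smul' a z := Cochain.comp_smul α a z _

/-- Precomposition. -/
noncomputable def preCx {X Y : DRing.Cx A} (g : X ⟶ Y) : DRing.homCx Y K ⟶ DRing.homCx X K where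
  f i := ModuleCat.ofHom (preLin K (Cochain.ofHom g) i)
  comm' i j _ := by
    ext (z : Cochain Y K i)
    change δ i j ((Cochain.ofHom g).comp z (zero_add i)) = (Cochain.ofHom g).comp (δ i j z) (zero_add j)
    exact δ_ofHom_comp g z j

lemma preCx_comp {X Y Z : DRing.Cx A} (f : X ⟶ Y) (g : Y ⟶ Z) : preCx K (f ≫ g) = preCx K g ≫ preCx K f := by
  refine HomologicalComplex.hom_ext _ _ fun i => ModuleCat.hom_ext (LinearMap.ext fun (z : Cochain Z K i) => ?_)
  change (Cochain.ofHom (f ≫ g)).comp z (zero_add i) =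
    (Cochain.ofHom f).comp ((Cochain.ofHom g).comp z (zero_add i)) (zero_add i)
  rw [Cochain.ofHom_comp, Cochain.comp_assoc_of_first_is_zero_cochain]

lemma preCx_id (X : DRing.Cx A) : preCx K (𝟙 X) = 𝟙 _ := by
  refine HomologicalComplex.hom_ext _ _ fun i => ModuleCat.hom_ext (LinearMap.ext fun (z : Cochain X K i) => ?_)
  change (Cochain.ofHom (𝟙 X)).comp z (zero_add i) = z
  exact Cochain.id_comp z

/-- Precomposition with an isomorphism. -/
noncomputable def preIso {X Y : DRing.Cx A} (e : X ≅ Y) : DRing.homCx Y K ≅ DRing.homCx X K where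
  hom := preCx K e.hom
  inv := preCx K e.inv
  hom_inv_id := by rw [← preCx_comp, Iso.inv_hom_id, preCx_id]
  inv_hom_id := by rw [← preCx_comp, Iso.hom_inv_id, preCx_id]

/-- The components of the homotopy. -/
noncomputable def preH {X Y : DRing.Cx A} (γ : Cochain X Y (-1)) (i j : ℤ) :
    (DRing.homCx Y K).X i ⟶ (DRing.homCx X K).X j :=
  ModuleCat.ofHom (if h : -1 + i = j then
    i.negOnePow • ({ toFun := fun z => γ.comp z h
                     map_add' := fun z z' => Cochain.comp_add γ z z' h
                     map_smul' := fun a z => Cochain.comp_smul γ a z h } : Cochain Y K i →ₗ[A] Cochain X K j)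
    else 0)

/-- Precomposition respects homotopies. -/
noncomputable def preHomotopy {X Y : DRing.Cx A} {f g : X ⟶ Y} (h : Homotopy f g) :
    Homotopy (preCx K f) (preCx K g) where
  hom := preH K (Cochain.ofHomotopy h)
  zero i j hij := by
    refine ModuleCat.hom_ext ?_
    rw [preH, dif_neg (fun hh => hij (by simp only [ComplexShape.up_Rel]; omega))]
    rfl
  comm i := by
    rw [dNext_eq _ (show (ComplexShape.up ℤ).Rel i (i + 1) from rfl),
      prevD_eq _ (show (ComplexShape.up ℤ).Rel (i - 1) i by simp)]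
    refine ModuleCat.hom_ext (LinearMap.ext fun (z : Cochain Y K i) => ?_)
    change (Cochain.ofHom f).comp z (zero_add i) =
      (show Cochain X K i from (preH K (Cochain.ofHomotopy h) (i + 1) i).hom (δ i (i + 1) z)) +
        δ (i - 1) i (show Cochain X K (i - 1) from (preH K (Cochain.ofHomotopy h) i (i - 1)).hom z) + (Cochain.ofHom g).comp z (zero_add i)
    simp only [preH, dif_pos (show -1 + (i + 1) = i by omega), dif_pos (show -1 + i = i - 1 by omega)]
    change (Cochain.ofHom f).comp z (zero_add i) =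
      (i + 1).negOnePow • ((Cochain.ofHomotopy h).comp (δ i (i + 1) z) (show -1 + (i + 1) = i by omega)) +
        δ (i - 1) i (i.negOnePow • ((Cochain.ofHomotopy h).comp z (show -1 + i = i - 1 by omega))) +
          (Cochain.ofHom g).comp z (zero_add i)
    rw [δ_units_smul]
    rw [δ_comp (Cochain.ofHomotopy h) z (show -1 + i = i - 1 by omega) 0 (i + 1) i (by omega) (by omega) rfl,
      δ_ofHomotopy, Cochain.sub_comp, smul_add, smul_smul, ← Int.negOnePow_add,
      Int.negOnePow_even (i + i) ⟨i, rfl⟩, one_smul, Int.negOnePow_succ, Units.neg_smul]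
    abel

/-- Homotopy equivalent complexes have homotopy equivalent Hom complexes. -/
noncomputable def preEquiv {X Y : DRing.Cx A} (e : HomotopyEquiv X Y) :
    HomotopyEquiv (DRing.homCx Y K) (DRing.homCx X K) where
  hom := preCx K e.hom
  inv := preCx K e.inv
  homotopyHomInvId := (Homotopy.ofEq (preCx_comp K e.inv e.hom).symm).trans
    ((preHomotopy K e.homotopyInvHomId).trans (Homotopy.ofEq (preCx_id K Y)))
  homotopyInvHomId := (Homotopy.ofEq (preCx_comp K e.hom e.inv).symm).trans
    ((preHomotopy K e.homotopyHomInvId).trans (Homotopy.ofEq (preCx_id K X)))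

/-- K-flatness passes to retracts. -/
theorem isKFlat_retract {M N : DRing.Cx A} (s : M ⟶ N) (r : N ⟶ M) (hsr : s ≫ r = 𝟙 M)
    (h : KFlat.IsKFlat (T A) N) : KFlat.IsKFlat (T A) M := fun L hL i => by
  rw [exactAt_iff_isZero_homology, IsZero.iff_id_eq_zero]
  have h0 := ((exactAt_iff_isZero_homology _ _).1 (h L hL i))
  have he : 𝟙 ((KFlat.tot (T A) L M).homology i) =
      homologyMap ((KFlat.totR (T A) L).map s) i ≫ homologyMap ((KFlat.totR (T A) L).map r) i := by
    rw [← homologyMap_comp, ← Functor.map_comp, hsr, CategoryTheory.Functor.map_id, homologyMap_id]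
    rfl
  rw [he]
  exact (congrArg (· ≫ _) (h0.eq_of_tgt (homologyMap ((KFlat.totR (T A) L).map s) i) 0)).trans zero_comp

/-- A complex of zero objects is K-flat. -/
theorem isKFlat_of_isZero {M : DRing.Cx A} (h : ∀ i, IsZero (M.X i)) : KFlat.IsKFlat (T A) M :=
  isKFlatCx_iff.1 (isKFlatCx_of_flat M (b := 0) (fun i _ => h i) fun i =>
    haveI := ModuleCat.subsingleton_of_isZero (h i)
    inferInstance)

/-- `Hom•(-, K)` of a degreewise split short exact sequence. -/
theorem isKFlat_pre_ext (S : ShortComplex (DRing.Cx A)) (sp : ∀ p, (S.map (eval _ up p)).Splitting)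
    (h₁ : KFlat.IsKFlat (T A) (DRing.homCx S.X₁ K)) (h₃ : KFlat.IsKFlat (T A) (DRing.homCx S.X₃ K)) :
    KFlat.IsKFlat (T A) (DRing.homCx S.X₂ K) := by
  let S' : ShortComplex (DRing.Cx A) := ShortComplex.mk (preCx K S.g) (preCx K S.f) (by
    rw [← preCx_comp, S.zero]
    refine HomologicalComplex.hom_ext _ _ fun i => ModuleCat.hom_ext (LinearMap.ext fun (z : Cochain S.X₃ K i) => ?_)
    change (Cochain.ofHom (0 : S.X₁ ⟶ S.X₃)).comp z (zero_add i) = 0
    rw [Cochain.ofHom_zero, Cochain.zero_comp])
  let σ : Cochain S.X₃ S.X₂ 0 := Cochain.ofHoms fun p => (sp p).s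
  let ρ : Cochain S.X₂ S.X₁ 0 := Cochain.ofHoms fun p => (sp p).r
  refine (KFlat.isKFlat_two_of_three (T A) S' fun Y q => ((?_ : (S'.map (eval _ up q)).Splitting).map
    ((T A).obj Y)).shortExact).2.1 h₃ h₁
  refine { r := ModuleCat.ofHom (preLin K σ q), s := ModuleCat.ofHom (preLin K ρ q), f_r := ?_, s_g := ?_, id := ?_ }
  · refine ModuleCat.hom_ext (LinearMap.ext fun (z : Cochain S.X₃ K q) => Cochain.ext _ _ fun p p' hp => ?_)
    change (σ.comp ((Cochain.ofHom S.g).comp z (zero_add q)) (zero_add q)).v p p' hp = z.v p p' hp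
    simp only [σ, Cochain.zero_cochain_comp_v, Cochain.ofHom_v, Cochain.ofHoms_v, ← Category.assoc]
    erw [(sp p).s_g]
    exact Category.id_comp _
  · refine ModuleCat.hom_ext (LinearMap.ext fun (z : Cochain S.X₁ K q) => Cochain.ext _ _ fun p p' hp => ?_)
    change ((Cochain.ofHom S.f).comp (ρ.comp z (zero_add q)) (zero_add q)).v p p' hp = z.v p p' hp
    simp only [ρ, Cochain.zero_cochain_comp_v, Cochain.ofHom_v, Cochain.ofHoms_v, ← Category.assoc]
    erw [(sp p).f_r]
    exact Category.id_comp _
  · refine ModuleCat.hom_ext (LinearMap.ext fun (z : Cochain S.X₂ K q) => Cochain.ext _ _ fun p p' hp => ?_)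
    change ((Cochain.ofHom S.g).comp (σ.comp z (zero_add q)) (zero_add q) +
      ρ.comp ((Cochain.ofHom S.f).comp z (zero_add q)) (zero_add q)).v p p' hp = z.v p p' hp
    simp only [σ, ρ, Cochain.add_v, Cochain.zero_cochain_comp_v, Cochain.ofHom_v, Cochain.ofHoms_v, ← Category.assoc,
      ← Preadditive.add_comp]
    have hid : S.g.f p ≫ (show S.X₃.X p ⟶ S.X₂.X p from (sp p).s) +
        (show S.X₂.X p ⟶ S.X₁.X p from (sp p).r) ≫ S.f.f p = 𝟙 (S.X₂.X p) := (add_comm _ _).trans (sp p).id
    erw [hid]
    exact Category.id_comp _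

/-- The terms of the Hom complex out of a zero complex. -/
lemma isZero_homCx_of_isZero {X : DRing.Cx A} (h : ∀ i, IsZero (X.X i)) (i : ℤ) : IsZero ((DRing.homCx X K).X i) := by
  haveI : Subsingleton (Cochain X K i) :=
    ⟨fun z z' => Cochain.ext _ _ fun p q hpq => (h p).eq_of_src _ _⟩
  exact ModuleCat.isZero_of_subsingleton (ModuleCat.of A (Cochain X K i))

/-- Evaluation of cochains out of `A` in degree `j`. -/
noncomputable def ev (j i : ℤ) :
    Cochain ((single (ModuleCat.{u} A) up j).obj (ModuleCat.of A A)) K i ≃ₗ[A] K.X (i + j) where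
  toFun z := ((singleObjXSelf up j (ModuleCat.of A A)).inv ≫ z.v j (i + j) (add_comm j i)).hom (1 : A)
  map_add' z z' := by simp [Cochain.add_v]
  map_smul' a z := by simp [Cochain.smul_v]
  invFun x := Cochain.mk fun p q hpq =>
    if hp : p = j then (singleObjXIsoOfEq up j (ModuleCat.of A A) p hp).hom ≫
      ModuleCat.ofHom (LinearMap.toSpanSingleton A (K.X (i + j)) x) ≫ (K.XIsoOfEq (by omega)).hom
    else 0
  left_inv z := by
    refine Cochain.ext _ _ fun p q hpq => ?_
    by_cases hp : p = j
    · subst hp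
      obtain rfl : q = i + p := by omega
      simp only [Cochain.mk_v, ↓reduceDIte]
      rw [show (singleObjXIsoOfEq up p (ModuleCat.of A A) p rfl).hom = (singleObjXSelf up p (ModuleCat.of A A)).hom from rfl,
        ← Iso.cancel_iso_inv_left (singleObjXSelf up p (ModuleCat.of A A)), Iso.inv_hom_id_assoc]
      refine ModuleCat.hom_ext (LinearMap.ext_ring ?_)
      simp [XIsoOfEq]
    · exact (isZero_single_obj_X up j (ModuleCat.of A A) p hp).eq_of_src _ _
  right_inv x := by
    simp only [Cochain.mk_v, ↓reduceDIte]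
    rw [show (singleObjXIsoOfEq up j (ModuleCat.of A A) j rfl).hom = (singleObjXSelf up j (ModuleCat.of A A)).hom from rfl,
      Iso.inv_hom_id_assoc]
    simp [XIsoOfEq]

lemma ev_δ (j i : ℤ) (z : Cochain ((single (ModuleCat.{u} A) up j).obj (ModuleCat.of A A)) K i) :
    ev K j (i + 1) (δ i (i + 1) z) = (K.d (i + j) (i + 1 + j)).hom (ev K j i z) := by
  change ((singleObjXSelf up j (ModuleCat.of A A)).inv ≫ (δ i (i + 1) z).v j (i + 1 + j) (add_comm _ _)).hom (1 : A) = _
  rw [δ_v i (i + 1) rfl z j (i + 1 + j) (add_comm _ _) (i + j) (j + 1) (by omega) rfl]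
  simp [single_obj_d]
  rfl

/-- `Hom•(A[-j], K) = K[j]`. -/
noncomputable def singleIso (j : ℤ) :
    DRing.homCx ((single (ModuleCat.{u} A) up j).obj (ModuleCat.of A A)) K ≅ K⟦j⟧ :=
  Hom.isoOfComponents (fun i => ((ev K j i).trans
      (LinearEquiv.smulOfUnit (Units.map (Int.castRingHom A).toMonoidHom (j * i).negOnePow))).toModuleIso)
    fun i i' hi => by
      obtain rfl : i + 1 = i' := hi
      refine ModuleCat.hom_ext (LinearMap.ext fun z => ?_)
      show (j.negOnePow • K.d (i + j) (i + 1 + j)).hom ((((j * i).negOnePow : ℤ) : A) • ev K j i z) =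
        (((j * (i + 1)).negOnePow : ℤ) : A) • ev K j (i + 1) (δ i (i + 1) z)
      rw [ev_δ, Units.smul_def, ModuleCat.hom_zsmul, LinearMap.smul_apply, map_smul, ← Int.cast_smul_eq_zsmul A,
        smul_smul, ← Int.cast_mul, ← Units.val_mul, ← Int.negOnePow_add, show j + j * i = j * (i + 1) by ring]

variable {K}

/-- The Hom complex out of a bounded complex of finite projective modules. -/
theorem isKFlat_homCx_bounded (hK : KFlat.IsKFlat (T A) K) (E : DRing.Cx A) {a b : ℤ}
    (hE : DRing.VanishesOutside E a b) (hf : DRing.TermwiseFiniteProjective E) :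
    KFlat.IsKFlat (T A) (DRing.homCx E K) := by
  let Φ : DRing.Cx A → Prop := fun X => KFlat.IsKFlat (T A) (DRing.homCx X K)
  have hiso : ∀ {X Y : DRing.Cx A}, (X ≅ Y) → Φ X → Φ Y := fun e h =>
    isKFlat_retract (preIso K e).hom (preIso K e).inv (preIso K e).hom_inv_id h
  have hzero : ∀ X : DRing.Cx A, (∀ i, IsZero (X.X i)) → Φ X := fun X h =>
    isKFlat_of_isZero (isZero_homCx_of_isZero K h)
  have hfree : ∀ (j : ℤ) (M : ModuleCat.{u} A), finFree A M → Φ ((single _ up j).obj M) := fun j M hM => by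
    refine finFree_induction (fun M => Φ ((single _ up j).obj M)) (fun e h => hiso ((single _ up j).mapIso e) h)
      (fun X hX => hzero _ fun i => by
        by_cases hi : i = j
        · exact hX.of_iso (singleObjXIsoOfEq up j X i hi)
        · exact isZero_single_obj_X up j X i hi)
      (fun S sp h₁ h₃ => isKFlat_pre_ext K (S.map (single _ up j))
        (fun p => (sp.map (single _ up j ⋙ eval _ up p))) h₁ h₃) ?_ hM
    exact isKFlat_retract (singleIso K j).hom (singleIso K j).inv (singleIso K j).hom_inv_id (hK.shift (T A) j)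
  have hproj : ∀ j, Φ ((single _ up j).obj (E.X j)) := fun j => by
    haveI := (hf j).1
    haveI := (hf j).2
    obtain ⟨n, f, g, -, -, hfg⟩ := Module.Finite.exists_comp_eq_id_of_projective A (E.X j)
    have h := hfree j (ModuleCat.of A (Fin n → A)) ⟨inferInstance, inferInstance⟩
    refine isKFlat_retract (preCx K ((single _ up j).map (ModuleCat.ofHom f)))
      (preCx K ((single _ up j).map (ModuleCat.ofHom g))) ?_ h
    rw [← preCx_comp, ← Functor.map_comp, show (ModuleCat.ofHom g : E.X j ⟶ ModuleCat.of A (Fin n → A)) ≫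
      ModuleCat.ofHom f = 𝟙 _ from ModuleCat.hom_ext hfg, CategoryTheory.Functor.map_id, preCx_id]
  suffices ∀ (d : ℕ) (k : ℤ), b < k + d → Φ (KFlat.ge E k) by
    have hk : IsIso (KFlat.geHom E a) := by
      haveI : ∀ p, IsIso ((KFlat.geHom E a).f p) := fun p => by
        by_cases hp : a ≤ p
        · exact KFlat.isIso_geι E hp
        · exact ⟨0, (KFlat.isZero_geX E (by omega)).eq_of_src _ _, (hE p (Or.inl (by omega))).eq_of_src _ _⟩
      exact HomologicalComplex.Hom.isIso_of_components _
    exact hiso (@asIso _ _ _ _ (KFlat.geHom E a) hk) (this (b + 1 - a).toNat a (by omega))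
  intro d
  induction d with
  | zero =>
    intro k hk
    refine hzero _ fun p => ?_
    by_cases hp : k ≤ p
    · haveI := KFlat.isIso_geι E hp
      let e : KFlat.geX E k p ≅ E.X p := asIso (KFlat.geι E k p)
      exact (hE p (Or.inr (by omega))).of_iso e
    · exact KFlat.isZero_geX E (by omega)
  | succ d ih =>
    intro k hk
    exact isKFlat_pre_ext K (KFlat.geSC E k) (KFlat.geSplitting E k) (ih (k + 1) (by omega)) (hproj k)

/-- The Hom complex out of a perfect bounded above complex of projectives. -/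
theorem isKFlatCx_homCx (P : DRing.Cx A) {b : ℤ} (hPb : DRing.VanishesAbove P b)
    (hPp : ∀ i, Module.Projective A (P.X i)) (hperf : DRing.IsPerfect A (DRing.toD P)) (hK : IsKFlatCx A K) :
    IsKFlatCx A (DRing.homCx P K) := by
  obtain ⟨E, a, c, hE, hEf, ⟨e⟩⟩ := hperf
  obtain ⟨f, hf⟩ := exists_map_of_projective (E := P) (fun i hi => hE i (Or.inr hi)) (fun i => (hEf i).2) e.hom
  obtain ⟨g, hg⟩ := exists_map_of_projective (E := E) hPb hPp e.inv
  haveI := isKProjective_of_bounded (fun i hi => hE i (Or.inr hi)) (fun i => (hEf i).2)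
  haveI := isKProjective_of_bounded hPb hPp
  have key : ∀ {X : DRing.Cx A} [X.IsKProjective] (u : X ⟶ X), DerivedCategory.Q.map u = 𝟙 _ →
      Nonempty (Homotopy u (𝟙 X)) := fun {X} _ u hu => ⟨HomotopyCategory.homotopyOfEq _ _
    ((bijective_Qh_map_of_isKProjective X _).1 (by
      rw [← cancel_mono ((DerivedCategory.quotientCompQhIso (ModuleCat.{u} A)).hom.app X)]
      refine ((DerivedCategory.quotientCompQhIso (ModuleCat.{u} A)).hom.naturality u).trans
        (Eq.trans ?_ ((DerivedCategory.quotientCompQhIso (ModuleCat.{u} A)).hom.naturality (𝟙 X)).symm)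
      rw [hu, CategoryTheory.Functor.map_id]))⟩
  obtain ⟨h₁⟩ := key (f ≫ g) (by rw [Functor.map_comp, hf, hg, Iso.hom_inv_id])
  obtain ⟨h₂⟩ := key (g ≫ f) (by rw [Functor.map_comp, hf, hg, Iso.inv_hom_id])
  exact isKFlatCx_iff.2 (isKFlat_of_homotopyEquiv (preEquiv K ⟨g, f, h₂, h₁⟩)
    (isKFlat_homCx_bounded (isKFlatCx_iff.1 hK) E hE hEf))

end Groth.DAlg.HomCxKFlat
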