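import Groth.Agent.KTheory.BoundedInjective
import Groth.Agent.DualCore.ModuleHom
import Groth.Prelude.Def_DRing2
import Mathlib.Algebra.Category.ModuleCat.Injective
import Mathlib.Algebra.Category.ModuleCat.EnoughInjectives

/-!
Injective amplitude via maps from cyclic modules.
-/

universe u

open CategoryTheory CategoryTheory.Limits ZeroObject CategoryTheory.Pretriangulated HomologicalComplex
open Groth.Agent.BoundedInjective

attribute [local instance] HasDerivedCategory.standard

namespace Groth.DAlg.InjAmp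

variable {R : Type u} [CommRing R]

lemma eq_zero_transfer {F : ModuleCat.{u} R} {X : Dual.D R} {i : ℤ}
    (h : ∀ φ : (DerivedCategory.singleFunctor _ 0).obj F ⟶ X⟦i⟧, φ = 0)
    (φ : (DerivedCategory.singleFunctor _ i).obj F ⟶ X) : φ = 0 := by
  apply (shiftFunctor (Dual.D R) i).map_injective
  rw [Functor.map_zero, ← cancel_epi
    (((DerivedCategory.singleFunctors (ModuleCat.{u} R)).shiftIso i 0 i (by omega)).app F).inv, comp_zero]
  exact h _

variable (E : DRing.Cx R) [E.IsKInjective]

omit [E.IsKInjective] in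
lemma cochain_zero_comp (j k : ℤ) (_hjk : j + 1 = k) : (E.d k (k + 1)).hom ∘ₗ (E.d j k).hom = 0 :=
  LinearMap.ext fun x => ConcreteCategory.congr_hom (E.d_comp_d j k (k + 1)) x

/-- Cycles are injective when cyclic modules receive no classes in the next degree. -/
lemma injective_ker (j k : ℤ) (hjk : j + 1 = k) (hj : Injective (E.X j))
    (h : ∀ (J : Ideal R) (φ : (DerivedCategory.singleFunctor _ k).obj (ModuleCat.of R (R ⧸ J)) ⟶
      DerivedCategory.Q.obj E), φ = 0) : Module.Injective R (LinearMap.ker (E.d j k).hom) := by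
  refine Module.Baer.injective fun J g => ?_
  have hE : Module.Injective R (E.X j) := (Module.injective_iff_injective_object R (E.X j)).2 hj
  obtain ⟨g₁, hg₁⟩ := Module.Baer.of_injective hE J ((LinearMap.ker (E.d j k).hom).subtype ∘ₗ g)
  let t : R ⧸ J →ₗ[R] E.X k := Submodule.liftQ J ((E.d j k).hom ∘ₗ g₁) fun x hx => by
    rw [LinearMap.mem_ker, LinearMap.comp_apply, hg₁ x hx]
    exact (g ⟨x, hx⟩).2
  let f : (CochainComplex.singleFunctor (ModuleCat.{u} R) k).obj (ModuleCat.of R (R ⧸ J)) ⟶ E :=
    mkHomFromSingle (ModuleCat.ofHom t) fun l hl => by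
      obtain rfl : k + 1 = l := hl
      refine ModuleCat.hom_ext (Submodule.linearMap_qext _ (LinearMap.ext fun x => ?_))
      exact LinearMap.congr_fun (cochain_zero_comp E j k hjk) (g₁ x)
  obtain ⟨H⟩ := homotopic_zero f (h J (DerivedCategory.Q.map f))
  obtain rfl : j = k - 1 := by omega
  let k₀ := ((singleObjXSelf (ComplexShape.up ℤ) k (ModuleCat.of R (R ⧸ J))).inv ≫ H.hom k (k - 1)).hom
  have hk₀ : ∀ y, E.d (k - 1) k (k₀ y) = t y := fun y => by
    have hc := H.comm k
    rw [dNext_eq _ (show (ComplexShape.up ℤ).Rel k (k + 1) from rfl),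
      prevD_eq _ (show (ComplexShape.up ℤ).Rel (k - 1) k by simp)] at hc
    have hd : ((CochainComplex.singleFunctor (ModuleCat.{u} R) k).obj (ModuleCat.of R (R ⧸ J))).d k (k + 1) = 0 :=
      CochainComplex.singleFunctor_obj_d _ _ _ _
    rw [hd, zero_comp, zero_add, HomologicalComplex.zero_f, add_zero] at hc
    have : (singleObjXSelf (ComplexShape.up ℤ) k (ModuleCat.of R (R ⧸ J))).inv ≫ f.f k = ModuleCat.ofHom t := by
      simp only [f, mkHomFromSingle_f]
      exact Iso.inv_hom_id_assoc _ _
    exact (ConcreteCategory.congr_hom (congrArg (_ ≫ ·) hc.symm) y).trans (ConcreteCategory.congr_hom this y)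
  refine ⟨LinearMap.codRestrict _ (g₁ - k₀ ∘ₗ J.mkQ) fun x => ?_, fun x hx => Subtype.ext ?_⟩
  · rw [LinearMap.mem_ker, LinearMap.sub_apply, map_sub, sub_eq_zero, LinearMap.comp_apply]
    exact ((hk₀ (J.mkQ x)).trans (Submodule.liftQ_apply _ _ x)).symm
  · show g₁ x - k₀ (J.mkQ x) = (g ⟨x, hx⟩ : E.X (k - 1))
    rw [hg₁ x hx, show J.mkQ x = 0 from (Submodule.Quotient.mk_eq_zero J).2 hx, map_zero, sub_zero]
    rfl

/-- No classes in a degree where the complex is exact and the previous cycles are injective. -/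
lemma van_of_injective_ker (j k : ℤ) (hjk : j + 1 = k) (hj : Module.Injective R (LinearMap.ker (E.d j k).hom))
    (hk : E.ExactAt k) : Van (DerivedCategory.Q.obj E) k := fun F φ => by
  obtain rfl : j = k - 1 := by omega
  obtain ⟨f, rfl⟩ := Q_map_surjective ((CochainComplex.singleFunctor (ModuleCat.{u} R) k).obj F) E φ
  set e := singleObjXSelf (ComplexShape.up ℤ) k F
  obtain ⟨ρ, hρ⟩ := hj.out (LinearMap.ker (E.d (k - 1) k).hom).subtype Subtype.val_injective LinearMap.id
  let σ : LinearMap.range (E.d (k - 1) k).hom →ₗ[R] E.X (k - 1) :=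
    (Submodule.liftQ (LinearMap.ker (E.d (k - 1) k).hom) (LinearMap.id - Submodule.subtype _ ∘ₗ ρ) fun x hx => by
      rw [LinearMap.mem_ker, LinearMap.sub_apply, LinearMap.id_apply, LinearMap.comp_apply,
        show ρ x = ⟨x, hx⟩ from hρ ⟨x, hx⟩]
      exact sub_self x) ∘ₗ (E.d (k - 1) k).hom.quotKerEquivRange.symm.toLinearMap
  have hσ : ∀ y, E.d (k - 1) k (σ y) = y.1 := fun y => by
    obtain ⟨_, x, rfl⟩ := y
    have : (E.d (k - 1) k).hom.quotKerEquivRange.symm ⟨E.d (k - 1) k x, x, rfl⟩ = Submodule.Quotient.mk x :=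
      (LinearEquiv.symm_apply_eq _).2 (Subtype.ext rfl)
    simp only [σ, LinearMap.comp_apply, LinearEquiv.coe_coe]
    erw [this]
    refine (congrArg (E.d (k - 1) k) (Submodule.liftQ_apply _ _ x)).trans ?_
    show E.d (k - 1) k (x - (ρ x).1) = E.d (k - 1) k x
    rw [map_sub, sub_eq_self]
    exact (ρ x).2
  rw [exactAt_iff' _ (k - 1) k (k + 1) (by simp) (by simp), ShortComplex.moduleCat_exact_iff] at hk
  let v : F ⟶ E.X k := e.inv ≫ f.f k
  have hv : ∀ y, v y ∈ LinearMap.range (E.d (k - 1) k).hom := fun y => by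
    refine hk (v y) ?_
    have h := ConcreteCategory.congr_hom (f.comm k (k + 1)) (e.inv y)
    refine h.trans ?_
    rw [show ((CochainComplex.singleFunctor (ModuleCat.{u} R) k).obj F).d k (k + 1) = 0 from
      CochainComplex.singleFunctor_obj_d _ _ _ _, zero_comp]
    rfl
  let w : F ⟶ E.X (k - 1) := ModuleCat.ofHom (σ ∘ₗ LinearMap.codRestrict _ v.hom hv)
  let s : ∀ i l, (ComplexShape.up ℤ).Rel l i →
      (((CochainComplex.singleFunctor (ModuleCat.{u} R) k).obj F).X i ⟶ E.X l) :=
    fun i l hil => if hi : i = k then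
      eqToHom (by subst hi; rfl) ≫ e.hom ≫ w ≫
        eqToHom (by rw [show l = k - 1 by simp only [ComplexShape.up_Rel] at hil; lia])
      else 0
  have hf : f = Homotopy.nullHomotopicMap' s := by
    apply from_single_hom_ext
    rw [Homotopy.nullHomotopicMap'_f (show (ComplexShape.up ℤ).Rel (k - 1) k by simp)
      (show (ComplexShape.up ℤ).Rel k (k + 1) by simp)]
    erw [show ((CochainComplex.singleFunctor (ModuleCat.{u} R) k).obj F).d k (k + 1) = 0 from
      CochainComplex.singleFunctor_obj_d _ _ _ _, zero_comp, zero_add]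
    apply (cancel_epi e.inv).1
    simp only [s, dite_true, eqToHom_refl, Category.id_comp, Category.comp_id, Category.assoc]
    refine Eq.trans ?_ (congrArg (e.inv ≫ ·) (Category.id_comp _)).symm
    rw [Iso.inv_hom_id_assoc]
    exact ModuleCat.hom_ext (LinearMap.ext fun y => (hσ ⟨v y, hv y⟩).symm)
  have h0 := HomotopyCategory.eq_of_homotopy f 0 (hf ▸ Homotopy.nullHomotopy' s)
  have hq : DerivedCategory.Q.map f = (0 : DerivedCategory.Q.obj _ ⟶ DerivedCategory.Q.obj E) := by
    rw [← cancel_epi ((DerivedCategory.quotientCompQhIso (ModuleCat.{u} R)).hom.app _),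
      ← (DerivedCategory.quotientCompQhIso (ModuleCat.{u} R)).hom.naturality f, comp_zero,
      Functor.comp_map, h0, Functor.map_zero, Functor.map_zero, zero_comp]
  exact hq

/-- Injective amplitude in terms of maps from cyclic modules. -/
theorem tfae (K : Dual.D R) (a b : ℤ) :
    [DRing.HasInjAmplitudeIn R a b K,
      ∀ (N : Type u) [AddCommGroup N] [Module R N] (i : ℤ), (i < a ∨ b < i) →
        Subsingleton (DRing.ExtD R (Dual.inD R N) K i),
      ∀ (I : Ideal R) (i : ℤ), (i < a ∨ b < i) → Subsingleton (DRing.ExtD R (Dual.inD R (R ⧸ I)) K i)].TFAE := by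
  tfae_have 1 → 2 := fun h N _ _ i hi => by
    obtain ⟨E, hE, hinj, ⟨e⟩⟩ := h
    have : E.IsStrictlyGE a := (E.isStrictlyGE_iff a).2 fun n hn => hE n (Or.inl hn)
    have : ∀ n, Injective (E.X n) := fun n => (Module.injective_iff_injective_object R (E.X n)).1 (hinj n)
    have := CochainComplex.isKInjective_of_injective E a
    exact subsingleton_of_forall_eq 0
      fun φ => (van_iff K i).2 (van_of_isZero E i (hE i hi) e) (ModuleCat.of R N) φ
  tfae_have 2 → 3 := fun h I i hi => h (R ⧸ I) i hi
  tfae_have 3 → 1 := fun h => by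
    have hR : ∀ i, (i < a ∨ b < i) → Subsingleton (Dual.HD R K i) := fun i hi => by
      have h0 := h ⊥ i hi
      have e₀ : Dual.inD R (R ⧸ (⊥ : Ideal R)) ≅ Dual.inD R R :=
        (DerivedCategory.singleFunctor _ 0).mapIso (Submodule.quotEquivOfEqBot (⊥ : Ideal R) rfl).toModuleIso
      have : Subsingleton (Dual.inD R R ⟶ K⟦i⟧) := (Iso.homFromEquiv e₀.symm).subsingleton
      exact ((LinearEquiv.ofBijective _ (DualCore.evalOne_bijective (K⟦i⟧))).trans
        (((DerivedCategory.homologyFunctor (ModuleCat.{u} R) 0).shiftIso i 0 i (add_zero i)).app K).toLinearEquiv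
        ).symm.toEquiv.subsingleton
    rcases lt_or_ge b a with hba | hab
    · refine ⟨(0 : DRing.Cx R), fun i _ => Functor.map_isZero (HomologicalComplex.eval _ _ i) (isZero_zero _),
        fun i => (Module.injective_iff_injective_object R _).2
          (Functor.map_isZero (HomologicalComplex.eval _ _ i) (isZero_zero _)).injective, ⟨?_⟩⟩
      have hz : IsZero K := by
        have : K.IsLE (a - 1) := (DerivedCategory.isLE_iff K _).2 fun i hi =>
          @ModuleCat.isZero_of_subsingleton _ _ _ (hR i (by omega))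
        have : K.IsGE a := (DerivedCategory.isGE_iff K _).2 fun i hi =>
          @ModuleCat.isZero_of_subsingleton _ _ _ (hR i (Or.inl hi))
        exact DerivedCategory.TStructure.t.isZero K (a - 1) a (by omega)
      exact (Functor.map_isZero _ (isZero_zero _)).iso hz
    have : K.IsGE a := (DerivedCategory.isGE_iff K _).2 fun i hi =>
      @ModuleCat.isZero_of_subsingleton _ _ _ (hR i (Or.inl hi))
    obtain ⟨L, _, ⟨e⟩⟩ := DerivedCategory.exists_iso_Q_obj_of_isGE K a
    obtain ⟨E, ι, _, hE, _⟩ := CochainComplex.Plus.modelCategoryQuillen.exists_quasiIso_injective L a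
    let e' : DerivedCategory.Q.obj E ≅ K := (asIso (DerivedCategory.Q.map ι)).symm ≪≫ e.symm
    have := CochainComplex.isKInjective_of_injective E a
    have hker : ∀ k, b < k → Module.Injective R (LinearMap.ker (E.d (k - 1) k).hom) := fun k hk =>
      injective_ker E (k - 1) k (by omega) (hE _) fun J φ =>
        (cancel_mono e'.hom).1 ((eq_zero_transfer (fun ψ => (h J k (Or.inr hk)).elim ψ 0) _).trans zero_comp.symm)
    obtain ⟨J, f, hf, hJ, hJa, hJb⟩ := exists_trunc E a b (by omega) hE fun k hk =>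
      van_of_injective_ker E (k - 1) k (by omega) (hker k hk) ((exactAt_iff_isZero_homology _ _).2
        ((@ModuleCat.isZero_of_subsingleton _ _ _ (hR k (Or.inr hk))).of_iso
          (((DerivedCategory.homologyFunctorFactors (ModuleCat.{u} R) k).app E).symm ≪≫
            (DerivedCategory.homologyFunctor _ k).mapIso e')))
    exact ⟨J, fun i hi => hi.elim (fun h => J.isZero_of_isStrictlyGE a i h) fun h => J.isZero_of_isStrictlyLE b i h,
      fun i => (Module.injective_iff_injective_object R (J.X i)).2 (hJ i),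
      ⟨(asIso (DerivedCategory.Q.map f)).symm ≪≫ e'⟩⟩
  tfae_finish

end Groth.DAlg.InjAmp
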