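import Groth.Agent.DAlg.KFlat
import Groth.Agent.FlatCxBase.Criteria
import Mathlib.Algebra.Module.FinitePresentation
import Mathlib.LinearAlgebra.Finsupp.Supported

/-!
Cohomology of `P ⊗ -` is detected on finitely presented modules.
-/

universe u

set_option linter.style.haveILetI false

open CategoryTheory CategoryTheory.Limits HomologicalComplex MonoidalCategory
open scoped TensorProduct

namespace Groth.DAlg.KFlatMod

open FlatCxBase

variable {R : Type u} [CommRing R]

/-- A cocycle of `P ⊗ M` comes from a cocycle of `P ⊗ Q` with `Q` finitely presented, given a cover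
of `M` in which finitely many elements lie in a finitely generated free direct summand. -/
lemma exists_fp_cocycle_of_cover {X Y : Type u} [AddCommGroup X] [Module R X] [AddCommGroup Y] [Module R Y]
    (d : X →ₗ[R] Y) {M F : Type u} [AddCommGroup M] [Module R M] [AddCommGroup F] [Module R F]
    (π : F →ₗ[R] M) (hπ : Function.Surjective π)
    (hF : ∀ t : Finset F, ∃ (n : ℕ) (g : (Fin n → R) →ₗ[R] F) (r : F →ₗ[R] (Fin n → R)),
      ∀ v ∈ t, g (r v) = v)
    (x : X ⊗[R] M) (hx : d.rTensor M x = 0) :
    ∃ (Q : Type u) (_ : AddCommGroup Q) (_ : Module R Q) (_ : Module.FinitePresentation R Q)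
      (ψ : Q →ₗ[R] M) (x' : X ⊗[R] Q), d.rTensor Q x' = 0 ∧ ψ.lTensor X x' = x := by
  classical
  obtain ⟨x₁, hx₁⟩ := LinearMap.lTensor_surjective X hπ x
  have hdx : π.lTensor Y (d.rTensor F x₁) = 0 := by rw [lTensor_rTensor, hx₁, hx]
  have hex : Function.Exact (LinearMap.ker π).subtype π := LinearMap.exact_subtype_ker_map π
  obtain ⟨z, hz⟩ := (lTensor_exact Y hex hπ _).1 hdx
  obtain ⟨A, hA⟩ := TensorProduct.exists_finset z
  obtain ⟨B, hB⟩ := TensorProduct.exists_finset x₁
  obtain ⟨n, g, r, hrg⟩ := hF (A.image (fun a => (a.2 : F)) ∪ B.image Prod.snd)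
  let N : Submodule R (Fin n → R) := Submodule.span R ((A.image fun a => r (a.2 : F)) : Finset _)
  haveI : Module.FinitePresentation R ((Fin n → R) ⧸ N) :=
    Module.finitePresentation_of_surjective N.mkQ N.mkQ_surjective (by
      rw [Submodule.ker_mkQ]; exact ⟨_, rfl⟩)
  have hker : N ≤ LinearMap.ker (π.comp g) := by
    refine Submodule.span_le.2 fun v hv => ?_
    obtain ⟨a, ha, rfl⟩ := Finset.mem_image.1 (Finset.mem_coe.1 hv)
    show π (g (r _)) = 0
    rw [hrg _ (Finset.mem_union_left _ (Finset.mem_image_of_mem _ ha))]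
    exact a.2.2
  refine ⟨_, inferInstance, inferInstance, inferInstance, N.liftQ (π.comp g) hker,
    (N.mkQ.comp r).lTensor X x₁, ?_, ?_⟩
  · rw [← lTensor_rTensor, ← hz, hA, map_sum, map_sum]
    refine Finset.sum_eq_zero fun a ha => ?_
    have h : N.mkQ (r (a.2 : F)) = 0 :=
      (Submodule.Quotient.mk_eq_zero N).2 (Submodule.subset_span (Finset.mem_coe.2 (Finset.mem_image_of_mem _ ha)))
    simp only [LinearMap.lTensor_tmul, Submodule.subtype_apply, LinearMap.comp_apply, h, TensorProduct.tmul_zero]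
  · rw [← hx₁, hB, map_sum, map_sum, map_sum]
    refine Finset.sum_congr rfl fun b hb => ?_
    have h := congrArg π (hrg b.2 (Finset.mem_union_right _ (Finset.mem_image_of_mem _ hb)))
    simp only [LinearMap.lTensor_tmul]
    exact congrArg (b.1 ⊗ₜ[R] ·) h

/-- A cocycle of `P ⊗ M` comes from a cocycle of `P ⊗ Q` with `Q` finitely presented. -/
lemma exists_fp_cocycle {X Y : Type u} [AddCommGroup X] [Module R X] [AddCommGroup Y] [Module R Y]
    (d : X →ₗ[R] Y) {M : Type u} [AddCommGroup M] [Module R M] (x : X ⊗[R] M) (hx : d.rTensor M x = 0) :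
    ∃ (Q : Type u) (_ : AddCommGroup Q) (_ : Module R Q) (_ : Module.FinitePresentation R Q)
      (ψ : Q →ₗ[R] M) (x' : X ⊗[R] Q), d.rTensor Q x' = 0 ∧ ψ.lTensor X x' = x := by
  classical
  refine exists_fp_cocycle_of_cover d (Finsupp.linearCombination R (id : M → M))
    (fun m => ⟨Finsupp.single m 1, by simp⟩) (fun t => ?_) x hx
  let s : Finset M := t.biUnion Finsupp.support
  let e : Fin s.card → M := fun i => (s.equivFin.symm i).1
  have he : Function.Injective e := Subtype.val_injective.comp s.equivFin.symm.injective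
  refine ⟨s.card, (Finsupp.lmapDomain R R e).comp (Finsupp.linearEquivFunOnFinite R R (Fin s.card)).symm.toLinearMap,
    (Finsupp.linearEquivFunOnFinite R R (Fin s.card)).toLinearMap.comp (Finsupp.lcomapDomain e he), fun v hv => ?_⟩
  show Finsupp.mapDomain e ((Finsupp.linearEquivFunOnFinite R R _).symm
    (Finsupp.linearEquivFunOnFinite R R _ (Finsupp.comapDomain e v he.injOn))) = v
  rw [LinearEquiv.symm_apply_apply, Finsupp.mapDomain_comapDomain e he v]
  intro m hm
  exact ⟨s.equivFin ⟨m, Finset.mem_biUnion.2 ⟨v, hv, hm⟩⟩, by simp [e]⟩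

/-- Acyclicity of `P ⊗ M` for all modules follows from the finitely presented ones. -/
theorem isZero_tensor_of_finitePresentation (P : DRing.Cx R) (j : ℤ)
    (h : ∀ (Q : Type u) [AddCommGroup Q] [Module R Q], Module.FinitePresentation R Q →
      IsZero ((DRing.tensorCx P (ModuleCat.of R Q)).homology j))
    (M : ModuleCat.{u} R) : IsZero ((DRing.tensorCx P M).homology j) := by
  refine (isZero_T_iff P (cochain_prev j) (cochain_next j) M).2 fun x hx => ?_
  obtain ⟨Q, _, _, hQ, ψ, x', hx', rfl⟩ := exists_fp_cocycle (P.d j (j + 1)).hom x hx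
  obtain ⟨w, hw⟩ := (isZero_T_iff P (cochain_prev j) (cochain_next j) _).1 (h Q hQ) x' hx'
  refine ⟨ψ.lTensor _ w, ?_⟩
  show (P.d (j - 1) j).hom.rTensor M _ = _
  rw [← lTensor_rTensor]
  exact congrArg _ hw

/-- A complex which is acyclic after tensoring with finitely presented modules is K-flat. -/
theorem isKFlatCx_of_finitePresentation (K : DRing.Cx R)
    (h : ∀ (Q : Type u) [AddCommGroup Q] [Module R Q], Module.FinitePresentation R Q →
      ∀ i : ℤ, IsZero ((DRing.tensorCx K (ModuleCat.of R Q)).homology i)) : IsKFlatCx R K :=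
  isKFlatCx_of_forall K fun M i => isZero_tensor_of_finitePresentation K i (fun Q _ _ hQ => h Q hQ i) M

end Groth.DAlg.KFlatMod
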