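import Groth.Agent.DAlg.TelescopeHom
import Mathlib.Algebra.Homology.DerivedCategory.Linear
import Mathlib.Algebra.Homology.Linear

/-!
Iterated cones of multiplications in a linear abelian category.
-/

universe w₁ w₂ v u t r

set_option backward.defeqAttrib.useBackward true
set_option backward.isDefEq.respectTransparency false
set_option linter.unusedSectionVars false
set_option linter.style.haveILetI false

open CategoryTheory CategoryTheory.Limits CategoryTheory.Pretriangulated HomologicalComplex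

namespace Groth.DAlg.KosCx

open TelescopeHom

section Group

variable {G : Type*} [AddCommGroup G]

lemma eq_zero_of_tBij {e : G →+ G} (h : TBij e) (hs : Function.Surjective e) (x : G) :
    x = 0 := by
  choose p hp using hs
  let y : ℕ → G := fun n => p^[n] x
  have hy : ∀ n, y n = e (y (n + 1)) := fun n => by
    simp only [y, Function.iterate_succ_apply', hp]
  exact congrFun (h.eq_zero hy) 0

end Group

variable {A : Type u} [Category.{v} A] [Abelian A] {R : Type r} [CommRing R] [Linear R A] {ι : Type t} (c : ι → R)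

/-- The iterated cone. -/
noncomputable def kos : List ι → CochainComplex A ℤ → CochainComplex A ℤ
  | [], X => X
  | i :: l, X => kos l (CochainComplex.mappingCone (c i • 𝟙 X))

@[simp] lemma kos_nil (X : CochainComplex A ℤ) : kos c [] X = X := rfl

lemma kos_cons (i : ι) (l : List ι) (X : CochainComplex A ℤ) :
    kos c (i :: l) X = kos c l (CochainComplex.mappingCone (c i • 𝟙 X)) := rfl

variable [HasDerivedCategory.{w₁} A]

local notation "QA" => DerivedCategory.Q (C := A)

/-- All morphisms to all shifts vanish. -/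
def Orth (X Y : DerivedCategory A) : Prop := ∀ (n : ℤ) (φ : X ⟶ Y⟦n⟧), φ = 0

lemma Orth.of_iso_left {X X' Y : DerivedCategory A} (h : Orth X Y) (e : X ≅ X') : Orth X' Y := fun n φ => by
  rw [← cancel_epi e.hom, comp_zero]
  exact h n _

lemma Orth.of_iso_right {X Y Y' : DerivedCategory A} (h : Orth X Y) (e : Y ≅ Y') : Orth X Y' := fun n φ => by
  rw [← cancel_mono ((shiftFunctor _ n).mapIso e).inv, zero_comp]
  exact h n _

lemma Orth.shift_left {X Y : DerivedCategory A} (h : Orth X Y) (a : ℤ) : Orth (X⟦a⟧) Y := fun n φ => by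
  apply (shiftFunctor (DerivedCategory A) (-a)).map_injective
  rw [Functor.map_zero, ← cancel_epi ((shiftFunctorCompIsoId _ a (-a) (by lia)).app X).inv, comp_zero,
    ← cancel_mono ((shiftFunctorAdd' (DerivedCategory A) n (-a) (n - a) (by lia)).app Y).inv, zero_comp]
  exact h _ _

lemma Orth.shift_right {X Y : DerivedCategory A} (h : Orth X Y) (a : ℤ) : Orth X (Y⟦a⟧) := fun n φ => by
  rw [← cancel_mono ((shiftFunctorAdd' (DerivedCategory A) a n (a + n) rfl).app Y).inv, zero_comp]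
  exact h _ _

lemma Orth.ext₂ {T : Triangle (DerivedCategory A)} (hT : T ∈ distTriang _) {Y : DerivedCategory A}
    (h₁ : Orth T.obj₁ Y) (h₃ : Orth T.obj₃ Y) : Orth T.obj₂ Y := fun n φ => by
  obtain ⟨g, rfl⟩ := T.yoneda_exact₂ hT φ (h₁ n _)
  rw [h₃ n g, comp_zero]

lemma Orth.ext₃ {T : Triangle (DerivedCategory A)} (hT : T ∈ distTriang _) {Y : DerivedCategory A}
    (h₁ : Orth T.obj₁ Y) (h₂ : Orth T.obj₂ Y) : Orth T.obj₃ Y :=
  Orth.ext₂ (rot_of_distTriang _ hT) h₂ (h₁.shift_left 1)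

lemma Orth.ext₁ {T : Triangle (DerivedCategory A)} (hT : T ∈ distTriang _) {Y : DerivedCategory A}
    (h₂ : Orth T.obj₂ Y) (h₃ : Orth T.obj₃ Y) : Orth T.obj₁ Y :=
  Orth.ext₂ (inv_rot_of_distTriang _ hT) (h₃.shift_left (-1)) h₂

lemma Q_map_smul (a : R) (X : CochainComplex A ℤ) : (QA).map (a • 𝟙 X) = a • 𝟙 ((QA).obj X) := by
  rw [Functor.map_smul, CategoryTheory.Functor.map_id]

/-- The triangle of a cone of a multiplication. -/
lemma exists_triangle (a : R) (X : CochainComplex A ℤ) :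
    ∃ (p : (QA).obj X ⟶ (QA).obj (CochainComplex.mappingCone (a • 𝟙 X)))
      (q : (QA).obj (CochainComplex.mappingCone (a • 𝟙 X)) ⟶ ((QA).obj X)⟦(1 : ℤ)⟧),
      Triangle.mk (a • 𝟙 ((QA).obj X)) p q ∈ distTriang _ := by
  let T := (QA).mapTriangle.obj (CochainComplex.mappingCone.triangle (a • 𝟙 X))
  have hT : T ∈ distTriang _ := (DerivedCategory.mem_distTriang_iff _).2 ⟨_, _, a • 𝟙 X, ⟨Iso.refl _⟩⟩
  refine ⟨T.mor₂, T.mor₃, ?_⟩
  rw [← Q_map_smul]
  exact hT

lemma surjective_smul_of_orth_right {a : R} {X Y : DerivedCategory A} {Z : DerivedCategory A}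
    {p : Y ⟶ Z} {q : Z ⟶ Y⟦(1 : ℤ)⟧} (hT : Triangle.mk (a • 𝟙 Y) p q ∈ distTriang _) (h : Orth X Z) (n : ℤ)
    (φ : X ⟶ Y⟦n⟧) : ∃ ψ : X ⟶ Y⟦n⟧, a • ψ = φ := by
  have hTn := Triangle.shift_distinguished _ hT n
  obtain ⟨(ψ : X ⟶ Y⟦n⟧), hψ⟩ := Triangle.coyoneda_exact₂ _ hTn φ (h n _)
  refine ⟨n.negOnePow • ψ, ?_⟩
  refine Eq.trans ?_ hψ.symm
  show a • (n.negOnePow • ψ) = ψ ≫ (n.negOnePow • (a • 𝟙 Y)⟦n⟧')
  rw [Linear.comp_units_smul, Functor.map_smul, CategoryTheory.Functor.map_id, Linear.comp_smul, Category.comp_id,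
    smul_comm]

lemma eq_zero_of_smul_orth_right {a : R} {X Y : DerivedCategory A} {Z : DerivedCategory A}
    {p : Y ⟶ Z} {q : Z ⟶ Y⟦(1 : ℤ)⟧} (hT : Triangle.mk (a • 𝟙 Y) p q ∈ distTriang _) (h : Orth X Z) (n : ℤ)
    (φ : X ⟶ Y⟦n⟧) (hφ : a • φ = 0) : φ = 0 := by
  have hTn := inv_rot_of_distTriang _ (Triangle.shift_distinguished _ hT n)
  obtain ⟨ψ, hψ⟩ := Triangle.coyoneda_exact₂ _ hTn φ (by
    show φ ≫ (n.negOnePow • (a • 𝟙 Y)⟦n⟧') = 0
    rw [Linear.comp_units_smul, Functor.map_smul, CategoryTheory.Functor.map_id, Linear.comp_smul,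
      Category.comp_id, hφ, smul_zero])
  rw [hψ, (h.shift_right n) (-1) ψ]
  exact zero_comp

lemma surjective_smul_of_orth_left {a : R} {X Y : DerivedCategory A} {Z : DerivedCategory A}
    {p : X ⟶ Z} {q : Z ⟶ X⟦(1 : ℤ)⟧} (hT : Triangle.mk (a • 𝟙 X) p q ∈ distTriang _) (h : Orth Z Y) (n : ℤ)
    (φ : X ⟶ Y⟦n⟧) : ∃ ψ : X ⟶ Y⟦n⟧, a • ψ = φ := by
  obtain ⟨ψ, hψ⟩ := Triangle.yoneda_exact₂ _ (inv_rot_of_distTriang _ hT) φ ((h.shift_left (-1)) n _)
  refine ⟨ψ, Eq.trans ?_ hψ.symm⟩
  show a • ψ = (a • 𝟙 X) ≫ ψ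
  rw [Linear.smul_comp, Category.id_comp]

lemma eq_zero_of_smul_orth_left {a : R} {X Y : DerivedCategory A} {Z : DerivedCategory A}
    {p : X ⟶ Z} {q : Z ⟶ X⟦(1 : ℤ)⟧} (hT : Triangle.mk (a • 𝟙 X) p q ∈ distTriang _) (h : Orth Z Y) (n : ℤ)
    (φ : X ⟶ Y⟦n⟧) (hφ : a • φ = 0) : φ = 0 := by
  obtain ⟨ψ, hψ⟩ := Triangle.yoneda_exact₂ _ hT φ (by
    show (a • 𝟙 X) ≫ φ = 0
    rw [Linear.smul_comp, Category.id_comp, hφ])
  rw [hψ, h n ψ, comp_zero]

/-- All towers of a multiplication into the shifts of an object are trivial. -/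
def Van (a : R) (Y : DerivedCategory A) : Prop :=
  ∀ (W : DerivedCategory A) (n : ℤ), TBij (DistribSMul.toAddMonoidHom (W ⟶ Y⟦n⟧) a)

/-- A multiplication is nilpotent on an object. -/
def Nil (a : R) (X : DerivedCategory A) : Prop := ∃ N : ℕ, (a ^ N) • 𝟙 X = 0

/-- Orthogonality descends from an iterated cone to complete targets. -/
theorem orth_of_orth_kos : ∀ (l : List ι) (X : CochainComplex A ℤ) (Y : DerivedCategory A),
    (∀ i ∈ l, Van (c i) Y) → Orth ((QA).obj (kos c l X)) Y → Orth ((QA).obj X) Y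
  | [], _, _, _, h => h
  | i :: l, X, Y, hl, h => by
    have h' := orth_of_orth_kos l _ Y (fun j hj => hl j (List.mem_cons_of_mem _ hj)) h
    obtain ⟨p, q, hT⟩ := exists_triangle (c i) X
    intro n φ
    exact eq_zero_of_tBij (hl i List.mem_cons_self _ n) (fun y => surjective_smul_of_orth_left hT h' n y) φ

/-- Orthogonality descends from an iterated cone of the target to nilpotent sources. -/
theorem orth_of_orth_kos_right : ∀ (l : List ι) (X : DerivedCategory A) (Y : CochainComplex A ℤ),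
    (∀ i ∈ l, Nil (c i) X) → Orth X ((QA).obj (kos c l Y)) → Orth X ((QA).obj Y)
  | [], _, _, _, h => h
  | i :: l, X, Y, hl, h => by
    have h' := orth_of_orth_kos_right l X _ (fun j hj => hl j (List.mem_cons_of_mem _ hj)) h
    obtain ⟨p, q, hT⟩ := exists_triangle (c i) Y
    obtain ⟨N, hN⟩ := hl i List.mem_cons_self
    intro n φ
    have hi : ∀ k : ℕ, ∀ ψ : X ⟶ ((QA).obj Y)⟦n⟧, (c i ^ k) • ψ = 0 → ψ = 0 := fun k => by
      induction k with
      | zero => intro ψ hψ; simpa using hψ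
      | succ k ih =>
        intro ψ hψ
        refine ih ψ (eq_zero_of_smul_orth_right hT h' n _ ?_)
        rwa [smul_smul, ← pow_succ']
    refine hi N φ ?_
    rw [← Category.id_comp φ, ← Linear.smul_comp, hN, zero_comp]

/-- Orthogonality passes to iterated cones. -/
theorem orth_kos : ∀ (l : List ι) (X : CochainComplex A ℤ) (Y : DerivedCategory A),
    Orth ((QA).obj X) Y → Orth ((QA).obj (kos c l X)) Y
  | [], _, _, h => h
  | i :: l, X, Y, h => by
    obtain ⟨p, q, hT⟩ := exists_triangle (c i) X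
    exact orth_kos l _ Y (Orth.ext₃ hT h h)

lemma nil_cone (a b : R) (X : CochainComplex A ℤ) (h : a = b ∨ Nil b ((QA).obj X)) :
    Nil b ((QA).obj (CochainComplex.mappingCone (a • 𝟙 X))) := by
  obtain ⟨p, q, hT⟩ := exists_triangle a X
  suffices ∃ M : ℕ, p ≫ ((b ^ M) • 𝟙 _) = 0 ∧ q ≫ ((b ^ M) • 𝟙 _) = 0 by
    obtain ⟨M, hp, hq⟩ := this
    obtain ⟨χ, hχ⟩ := Triangle.yoneda_exact₂ _ (rot_of_distTriang _ hT) _ hp
    refine ⟨M + M, ?_⟩
    calc (b ^ (M + M)) • 𝟙 ((QA).obj (CochainComplex.mappingCone (a • 𝟙 X)))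
        = ((b ^ M) • 𝟙 _) ≫ ((b ^ M) • 𝟙 _) := by
          rw [Linear.comp_smul, Category.comp_id, smul_smul, ← pow_add]
      _ = q ≫ χ ≫ ((b ^ M) • 𝟙 _) := by
          conv_lhs => arg 1; rw [hχ]
          exact Category.assoc _ _ _
      _ = (q ≫ ((b ^ M) • 𝟙 _)) ≫ χ := by
          simp only [Linear.comp_smul, Category.comp_id, Linear.smul_comp]
      _ = 0 := by rw [hq, zero_comp]
  rcases h with rfl | ⟨M, hM⟩
  · refine ⟨1, ?_, ?_⟩
    · have := comp_distTriang_mor_zero₁₂ _ hT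
      dsimp at this
      rw [pow_one, Linear.comp_smul, Category.comp_id]
      rwa [Linear.smul_comp, Category.id_comp] at this
    · have := comp_distTriang_mor_zero₃₁ _ hT
      dsimp at this
      rw [pow_one, Linear.comp_smul, Category.comp_id]
      rwa [Functor.map_smul, CategoryTheory.Functor.map_id, Linear.comp_smul, Category.comp_id] at this
  · refine ⟨M, ?_, ?_⟩
    · rw [show p ≫ ((b ^ M) • 𝟙 _) = ((b ^ M) • 𝟙 _) ≫ p by
        rw [Linear.comp_smul, Category.comp_id, Linear.smul_comp, Category.id_comp], hM, zero_comp]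
    · rw [show (b ^ M) • 𝟙 (((QA).obj X)⟦(1 : ℤ)⟧) = ((b ^ M) • 𝟙 ((QA).obj X))⟦(1 : ℤ)⟧' by
        rw [Functor.map_smul, CategoryTheory.Functor.map_id], hM, Functor.map_zero, comp_zero]

/-- Nilpotence persists in iterated cones. -/
theorem nil_kos_of_nil (b : R) : ∀ (l : List ι) (X : CochainComplex A ℤ),
    Nil b ((QA).obj X) → Nil b ((QA).obj (kos c l X))
  | [], _, h => h
  | i :: l, X, h => nil_kos_of_nil b l _ (nil_cone (c i) b X (Or.inr h))

/-- The multiplications defining an iterated cone are nilpotent on it. -/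
theorem nil_kos : ∀ (l : List ι) (X : CochainComplex A ℤ), ∀ i ∈ l, Nil (c i) ((QA).obj (kos c l X))
  | [], _, _, hi => (List.not_mem_nil hi).elim
  | j :: l, X, i, hi => by
    rcases List.mem_cons.1 hi with rfl | hi
    · exact nil_kos_of_nil c (c i) l _ (nil_cone (c i) (c i) X (Or.inl rfl))
    · exact nil_kos l _ i hi

lemma van_of_nil {a : R} {Y : DerivedCategory A} (h : Nil a Y) : Van a Y := fun W n => by
  obtain ⟨N, hN⟩ := h
  have hz : ∀ φ : W ⟶ Y⟦n⟧, (a ^ N) • φ = 0 := fun φ => by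
    rw [← Category.comp_id φ, ← Linear.comp_smul, ← CategoryTheory.Functor.map_id, ← Functor.map_smul, hN,
      Functor.map_zero, comp_zero]
  constructor
  · intro x y hxy
    funext i
    have key : ∀ k : ℕ, ∀ i, x i - y i = (a ^ k) • (x (i + k) - y (i + k)) := fun k => by
      induction k with
      | zero => intro i; simp
      | succ k ih =>
        intro i
        have e := congrFun hxy (i + k)
        have e' : x (i + k) - y (i + k) = a • (x (i + k + 1) - y (i + k + 1)) := by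
          rw [smul_sub]
          exact sub_eq_sub_iff_sub_eq_sub.1 e
        rw [ih i, e', smul_smul, ← pow_succ, add_assoc]
    exact sub_eq_zero.1 ((key N i).trans (hz _))
  · intro b
    refine ⟨fun i => ∑ k ∈ Finset.range N, (a ^ k) • b (i + k), funext fun i => ?_⟩
    show ∑ k ∈ Finset.range N, (a ^ k) • b (i + k) - a • (∑ k ∈ Finset.range N, (a ^ k) • b (i + 1 + k)) = b i
    rw [Finset.smul_sum, ← Finset.sum_sub_distrib]
    have : ∀ k, (a ^ k) • b (i + k) - a • ((a ^ k) • b (i + 1 + k)) =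
        (a ^ k) • b (i + k) - (a ^ (k + 1)) • b (i + (k + 1)) := fun k => by
      rw [smul_smul, ← pow_succ', add_right_comm i, add_assoc i]
    simp only [this]
    rw [Finset.sum_range_sub', hz, sub_zero, pow_zero, one_smul, add_zero]

section Map

omit [HasDerivedCategory A]

variable {A' : Type*} [Category A'] [Abelian A'] {R' : Type*} [CommRing R'] [Linear R' A']
  {B : Type*} [Category B] [Abelian B] (F : A ⥤ B) [F.Additive] (F' : A' ⥤ B) [F'.Additive]

open CochainComplex in
lemma mapHomologicalComplexIso_naturality {A₀ : Type*} [Category A₀] [Abelian A₀] {B₀ : Type*} [Category B₀]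
    [Abelian B₀] (G : A₀ ⥤ B₀) [G.Additive] {K₁ L₁ K₂ L₂ : CochainComplex A₀ ℤ} (φ₁ : K₁ ⟶ L₁) (φ₂ : K₂ ⟶ L₂)
    (x : K₁ ⟶ K₂) (y : L₁ ⟶ L₂) (w : φ₁ ≫ y = x ≫ φ₂) :
    (G.mapHomologicalComplex _).map (mappingCone.map φ₁ φ₂ x y w) ≫ (mappingCone.mapHomologicalComplexIso φ₂ G).hom =
      (mappingCone.mapHomologicalComplexIso φ₁ G).hom ≫
        mappingCone.map _ _ ((G.mapHomologicalComplex _).map x) ((G.mapHomologicalComplex _).map y)
          (by rw [← Functor.map_comp, ← Functor.map_comp, w]) := by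
  ext n
  simp [mappingCone.mapHomologicalComplexIso, mappingCone.mapHomologicalComplexXIso_eq _ G n (n + 1) rfl,
    mappingCone.mapHomologicalComplexXIso'_hom, mappingCone.map, mappingCone.ext_to_iff _ _ _ rfl,
    ← Functor.map_comp_assoc, -Functor.map_comp]
  constructor <;> congr 1 <;> simp [mappingCone.ext_from_iff _ (n + 1) n rfl]

open CochainComplex in
lemma smul_id_cone (a b : R) (X : CochainComplex A ℤ) :
    b • 𝟙 (mappingCone (a • 𝟙 X)) = mappingCone.map (a • 𝟙 X) (a • 𝟙 X) (b • 𝟙 X) (b • 𝟙 X) (by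
      rw [Linear.smul_comp, Linear.comp_smul, Category.id_comp, smul_smul, Linear.smul_comp, Linear.comp_smul,
        Category.comp_id, smul_smul, mul_comm]) := by
  ext n
  simp [mappingCone.map, mappingCone.ext_from_iff _ _ _ rfl]

open CochainComplex in
/-- Images of iterated cones under two functors agree when the multiplications correspond. -/
theorem exists_kos_iso (c' : ι → R') : ∀ (l : List ι) (X : CochainComplex A ℤ) (X' : CochainComplex A' ℤ)
    (i : (F.mapHomologicalComplex _).obj X ≅ (F'.mapHomologicalComplex _).obj X'),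
    (∀ k, (F.mapHomologicalComplex _).map (c k • 𝟙 X) ≫ i.hom =
      i.hom ≫ (F'.mapHomologicalComplex _).map (c' k • 𝟙 X')) →
    ∃ j : (F.mapHomologicalComplex _).obj (kos c l X) ≅ (F'.mapHomologicalComplex _).obj (kos c' l X'),
      ∀ k, (F.mapHomologicalComplex _).map (c k • 𝟙 (kos c l X)) ≫ j.hom =
        j.hom ≫ (F'.mapHomologicalComplex _).map (c' k • 𝟙 (kos c' l X'))
  | [], _, _, i, h => ⟨i, h⟩
  | a :: l, X, X', i, h => by
    let φ := c a • 𝟙 X
    let φ' := c' a • 𝟙 X'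
    let m : mappingCone ((F.mapHomologicalComplex _).map φ) ≅ mappingCone ((F'.mapHomologicalComplex _).map φ') :=
      { hom := mappingCone.map _ _ i.hom i.hom (h a)
        inv := mappingCone.map _ _ i.inv i.inv (by rw [Iso.eq_inv_comp, ← Category.assoc, Iso.comp_inv_eq, ← h a])
        hom_inv_id := by rw [← mappingCone.map_comp]; simp only [Iso.hom_inv_id]; exact mappingCone.map_id _
        inv_hom_id := by rw [← mappingCone.map_comp]; simp only [Iso.inv_hom_id]; exact mappingCone.map_id _ }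
    refine exists_kos_iso c' l _ _
      (mappingCone.mapHomologicalComplexIso φ F ≪≫ m ≪≫ (mappingCone.mapHomologicalComplexIso φ' F').symm) fun k => ?_
    rw [smul_id_cone, smul_id_cone]
    simp only [Iso.trans_hom, Iso.symm_hom]
    rw [← Category.assoc, mapHomologicalComplexIso_naturality, Category.assoc, Category.assoc, Category.assoc]
    refine congrArg (_ ≫ ·) ?_
    rw [← cancel_mono (mappingCone.mapHomologicalComplexIso φ' F').hom]
    simp only [Category.assoc, Iso.inv_hom_id, Category.comp_id]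
    rw [mapHomologicalComplexIso_naturality, Iso.inv_hom_id_assoc]
    show mappingCone.map _ _ _ _ _ ≫ mappingCone.map _ _ i.hom i.hom (h a) =
      mappingCone.map _ _ i.hom i.hom (h a) ≫ mappingCone.map _ _ _ _ _
    rw [← mappingCone.map_comp, ← mappingCone.map_comp]
    simp only [h k]

end Map

end Groth.DAlg.KosCx
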