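import Groth.Agent.DAlg.KosCx
import Groth.Agent.DualCore.ModuleHom
import Groth.Agent.LocCohTransform.ExtCechBase
import Groth.Prelude.Def_LCI2
import Mathlib.Algebra.Homology.DerivedCategory.Linear

/-!
Koszul regular sequences and the extended alternating Čech complex.
-/

universe u

open CategoryTheory CategoryTheory.Limits CategoryTheory.Pretriangulated
open Groth.DualCore

attribute [local instance] HasDerivedCategory.standard

namespace Groth.DAlg.KoszulCech

variable {A : Type u} [CommRing A]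

/-- `Hom(K⟦a⟧, X⟦b⟧) = Hom(K, X⟦c⟧)`. -/
noncomputable def shiftHom (K X : Dual.D A) (a b c : ℤ) (h : c + a = b) :
    (K ⟶ X⟦c⟧) ≃ₗ[A] (K⟦a⟧ ⟶ X⟦b⟧) :=
  LinearEquiv.ofBijective
    { toFun := fun φ => φ⟦a⟧' ≫ ((shiftFunctorAdd' (Dual.D A) c a b h).app X).inv
      map_add' := fun x y => by rw [Functor.map_add, Preadditive.add_comp]
      map_smul' := fun r x => by rw [Functor.map_smul, Linear.smul_comp]; rfl }
    ⟨fun x y hxy => (shiftFunctor _ a).map_injective ((cancel_mono _).1 hxy), fun y => by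
      obtain ⟨x, hx⟩ := (shiftFunctor (Dual.D A) a).map_surjective
        (y ≫ ((shiftFunctorAdd' (Dual.D A) c a b h).app X).hom)
      exact ⟨x, by simp [hx]⟩⟩

/-- Shifting both sides. -/
noncomputable def shiftHom₀ (K X : Dual.D A) (a c : ℤ) (h : c + a = 0) :
    (K ⟶ X⟦c⟧) ≃ₗ[A] (K⟦a⟧ ⟶ X) :=
  (shiftHom K X a 0 c h).trans (Linear.homCongr A (Iso.refl _) ((shiftFunctorZero (Dual.D A) ℤ).app X))

section Criteria

variable {a : A} {X C : Dual.D A} {p : X ⟶ C} {q : C ⟶ X⟦(1 : ℤ)⟧}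

lemma smul_mor₂ (hT : Triangle.mk (a • 𝟙 X) p q ∈ distTriang _) : a • p = 0 := by
  have : (a • 𝟙 X) ≫ p = 0 := comp_distTriang_mor_zero₁₂ _ hT
  rwa [Linear.smul_comp, Category.id_comp] at this

lemma smul_mor₃ (hT : Triangle.mk (a • 𝟙 X) p q ∈ distTriang _) : a • q = 0 := by
  have : q ≫ (a • 𝟙 X)⟦(1 : ℤ)⟧' = 0 := comp_distTriang_mor_zero₃₁ _ hT
  rwa [Functor.map_smul, CategoryTheory.Functor.map_id, Linear.comp_smul, Category.comp_id] at this

lemma subsingleton_from_cone (hT : Triangle.mk (a • 𝟙 X) p q ∈ distTriang _) (W : Dual.D A) :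
    Subsingleton (C ⟶ W) ↔ Function.Surjective (fun x : X⟦(1 : ℤ)⟧ ⟶ W => a • x) ∧
      Function.Injective (fun x : X ⟶ W => a • x) := by
  constructor
  · intro hC
    refine ⟨fun x => ?_, fun x y hxy => ?_⟩
    · obtain ⟨(g : X⟦(1 : ℤ)⟧ ⟶ W), (hg : x = (-(a • 𝟙 X)⟦(1 : ℤ)⟧') ≫ g)⟩ :=
        Triangle.yoneda_exact₃ _ (rot_of_distTriang _ hT) x (hC.elim _ _)
      refine ⟨-g, ?_⟩
      rw [hg]
      simp [Functor.map_smul]
    · rw [← sub_eq_zero]
      obtain ⟨g, hg⟩ := Triangle.yoneda_exact₂ _ hT (x - y) (by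
        show (a • 𝟙 X) ≫ (x - y) = 0
        rw [Linear.smul_comp, Category.id_comp, smul_sub]
        exact sub_eq_zero.2 hxy)
      exact hg.trans ((congrArg (p ≫ ·) (hC.elim g 0)).trans comp_zero)
  · rintro ⟨hs, hi⟩
    refine ⟨fun u v => ?_⟩
    rw [← sub_eq_zero]
    have h0 : p ≫ (u - v) = 0 := hi (by
      show a • (p ≫ (u - v)) = a • 0
      rw [smul_zero, ← Linear.smul_comp, smul_mor₂ hT, zero_comp])
    obtain ⟨(g : X⟦(1 : ℤ)⟧ ⟶ W), (hg : u - v = q ≫ g)⟩ := Triangle.yoneda_exact₃ _ hT (u - v) h0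
    obtain ⟨g', rfl⟩ := hs g
    rw [hg, Linear.comp_smul, ← Linear.smul_comp, smul_mor₃ hT, zero_comp]

lemma subsingleton_to_cone (hT : Triangle.mk (a • 𝟙 X) p q ∈ distTriang _) (W : Dual.D A) :
    Subsingleton (W ⟶ C) ↔ Function.Surjective (fun x : W ⟶ X => a • x) ∧
      Function.Injective (fun x : W ⟶ X⟦(1 : ℤ)⟧ => a • x) := by
  constructor
  · intro hC
    refine ⟨fun x => ?_, fun x y hxy => ?_⟩
    · obtain ⟨(g : W ⟶ X), (hg : x = g ≫ (a • 𝟙 X))⟩ := Triangle.coyoneda_exact₂ _ hT x (hC.elim _ _)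
      exact ⟨g, by rw [hg, Linear.comp_smul, Category.comp_id]⟩
    · rw [← sub_eq_zero]
      obtain ⟨(g : W ⟶ C), hg⟩ := Triangle.coyoneda_exact₁ _ hT (x - y) (by
        show (x - y) ≫ (a • 𝟙 X)⟦(1 : ℤ)⟧' = 0
        rw [Functor.map_smul, CategoryTheory.Functor.map_id, Linear.comp_smul, Category.comp_id, smul_sub]
        exact sub_eq_zero.2 hxy)
      exact hg.trans ((congrArg (· ≫ q) (hC.elim g 0)).trans zero_comp)
  · rintro ⟨hs, hi⟩
    refine ⟨fun u v => ?_⟩
    rw [← sub_eq_zero]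
    have h0 : (u - v) ≫ q = 0 := hi (by
      show a • ((u - v) ≫ q) = a • 0
      rw [smul_zero, ← Linear.comp_smul, smul_mor₃ hT, comp_zero])
    obtain ⟨(g : W ⟶ X), (hg : u - v = g ≫ p)⟩ := Triangle.coyoneda_exact₃ _ hT (u - v) h0
    obtain ⟨g', rfl⟩ := hs g
    rw [hg, Linear.smul_comp, ← Linear.comp_smul, smul_mor₂ hT, comp_zero]

end Criteria

lemma transfer {a : A} {M N : Type*} [AddCommGroup M] [Module A M] [AddCommGroup N] [Module A N] (e : M ≃ₗ[A] N) :
    (Function.Surjective (fun x : M => a • x) ↔ Function.Surjective (fun x : N => a • x)) ∧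
      (Function.Injective (fun x : M => a • x) ↔ Function.Injective (fun x : N => a • x)) := by
  have h : (fun x : N => a • x) = e ∘ (fun x : M => a • x) ∘ e.symm := funext fun x => by simp
  refine ⟨?_, ?_⟩ <;> rw [h]
  · simp
  · simp

/-- `Hom(A[0], X⟦k⟧) = H^k(X)`. -/
noncomputable def homUnitEquiv (X : Dual.D A) (k : ℤ) :
    (Dual.inD A A ⟶ X⟦k⟧) ≃ₗ[A] Dual.HD A X k :=
  (LinearEquiv.ofBijective (evalOne (X⟦k⟧)) (evalOne_bijective _)).trans
    (((DerivedCategory.homologyFunctor (ModuleCat.{u} A) 0).shiftIso k 0 k (add_zero k)).app X).toLinearEquiv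

/-- `A[0]` as the empty Koszul complex. -/
noncomputable def koszulNilIso : DerivedCategory.Q.obj (Koszul.koszul A []) ≅ Dual.inD A A :=
  ((DerivedCategory.singleFunctorIsoCompQ (ModuleCat.{u} A) 0).app _).symm

/-- Koszul duality for vanishing. -/
theorem subsingleton_koszul_hom : ∀ (l : List A) (X : DRing.Cx A) (n : ℤ),
    Subsingleton (DerivedCategory.Q.obj (Koszul.koszul A l) ⟶ (DerivedCategory.Q.obj X)⟦n⟧) ↔
      Subsingleton (Dual.inD A A ⟶ (DerivedCategory.Q.obj (KosCx.kos id l X))⟦n - (l.length : ℤ)⟧)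
  | [], X, n => by
    simp only [KosCx.kos_nil, List.length_nil, Nat.cast_zero, sub_zero]
    exact (Iso.homFromEquiv koszulNilIso).subsingleton_congr
  | f :: l, X, n => by
    obtain ⟨p, q, hT⟩ := KosCx.exists_triangle f (Koszul.koszul A l)
    obtain ⟨p', q', hT'⟩ := KosCx.exists_triangle f X
    have ih := subsingleton_koszul_hom l (CochainComplex.mappingCone (f • 𝟙 X)) (n - 1)
    rw [show n - 1 - (l.length : ℤ) = n - ((f :: l).length : ℤ) by simp; omega] at ih
    refine Iff.trans ?_ ih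
    refine (subsingleton_from_cone hT _).trans (Iff.trans ?_ (Iff.trans (subsingleton_to_cone hT' _).symm
      (shiftHom₀ (DerivedCategory.Q.obj (Koszul.koszul A l)) _ (-(n - 1)) (n - 1) (by omega)).toEquiv.subsingleton_congr.symm))
    refine and_congr ?_ ?_
    · exact (transfer (shiftHom _ _ 1 n (n - 1) (by omega))).1.symm.trans
        (transfer (shiftHom₀ _ _ (-(n - 1)) (n - 1) (by omega))).1
    · exact (transfer (shiftHom _ _ (-(n - 1)) 1 n (by omega))).2

lemma kos_koszul : ∀ l m : List A, KosCx.kos id l (Koszul.koszul A m) = Koszul.koszul A (l.reverse ++ m)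
  | [], m => rfl
  | i :: l, m => by
    rw [KosCx.kos_cons]
    exact (kos_koszul l (i :: m)).trans (by simp)

lemma nil_koszul : ∀ (l : List A), ∀ f ∈ l, KosCx.Nil f (DerivedCategory.Q.obj (Koszul.koszul A l))
  | [], _, h => (List.not_mem_nil h).elim
  | g :: l, f, h => KosCx.nil_cone g f _ ((List.mem_cons.1 h).imp Eq.symm (nil_koszul l f))

/-- Elements killed by the sequence lift to the Koszul complex in the lowest degree. -/
theorem exists_lift (X : Dual.D A) (q : ℤ) (hX : ∀ k < q, Subsingleton (Dual.inD A A ⟶ X⟦k⟧)) : ∀ l : List A,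
    ∃ ι : Dual.inD A A ⟶ DerivedCategory.Q.obj (Koszul.koszul A l),
      (∀ k < q, Subsingleton (DerivedCategory.Q.obj (Koszul.koszul A l) ⟶ X⟦k⟧)) ∧
      Function.Injective (fun ψ : DerivedCategory.Q.obj (Koszul.koszul A l) ⟶ X⟦q⟧ => ι ≫ ψ) ∧
      ∀ x : Dual.inD A A ⟶ X⟦q⟧, (∀ f ∈ l, f • x = 0) → ∃ ψ, ι ≫ ψ = x
  | [] => ⟨koszulNilIso.inv, fun k hk => (Iso.homFromEquiv koszulNilIso).subsingleton_congr.2 (hX k hk),
      fun a b h => (cancel_epi koszulNilIso.inv).1 h, fun x _ => ⟨koszulNilIso.hom ≫ x, Iso.inv_hom_id_assoc _ _⟩⟩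
  | f :: l => by
    obtain ⟨ι, hz, hinj, hlift⟩ := exists_lift X q hX l
    obtain ⟨p, δ, hT⟩ := KosCx.exists_triangle f (Koszul.koszul A l)
    have h1 : ∀ k ≤ q, Subsingleton ((DerivedCategory.Q.obj (Koszul.koszul A l))⟦(1 : ℤ)⟧ ⟶ X⟦k⟧) := fun k hk => by
      have := hz (k - 1) (by omega)
      exact (shiftHom _ _ 1 k (k - 1) (by omega)).toEquiv.symm.subsingleton
    refine ⟨ι ≫ p, fun k hk => (subsingleton_from_cone hT _).2 ⟨fun x => ⟨0, ((h1 k hk.le)).elim _ _⟩,
      fun x y _ => (hz k hk).elim x y⟩, fun a b hab => ?_, fun x hx => ?_⟩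
    · have h0 : p ≫ (a - b) = 0 := by
        refine hinj ?_
        show ι ≫ p ≫ (a - b) = ι ≫ 0
        exact ((Category.assoc _ _ _).symm.trans ((Preadditive.comp_sub _ _ _).trans (sub_eq_zero.2 hab))).trans
          comp_zero.symm
      obtain ⟨g, hg⟩ := Triangle.yoneda_exact₃ _ hT (a - b) h0
      rw [← sub_eq_zero]
      exact hg.trans ((congrArg _ ((h1 q le_rfl).elim g 0)).trans comp_zero)
    · obtain ⟨ψ, hψ⟩ := hlift x fun g hg => hx g (List.mem_cons_of_mem f hg)
      have h0 : f • ψ = 0 := by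
        refine hinj ?_
        show ι ≫ (f • ψ) = ι ≫ 0
        rw [Linear.comp_smul, hψ, hx f List.mem_cons_self, comp_zero]
      obtain ⟨g, hg⟩ := Triangle.yoneda_exact₂ _ hT ψ (by
        show (f • 𝟙 _) ≫ ψ = 0
        exact (Linear.smul_comp _ _ _ _ _ _).trans ((congrArg (f • ·) (Category.id_comp ψ)).trans h0))
      exact ⟨g, (Category.assoc _ _ _).trans ((congrArg (ι ≫ ·) hg.symm).trans hψ)⟩

/-- Nothing maps from an `f`-nilpotent object to one on which `f` is invertible. -/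
lemma hom_eq_zero {f : A} {K : Dual.D A} (hK : KosCx.Nil f K) {Y : DRing.Cx A}
    (hY : ∀ i, Function.Bijective fun x : Y.X i => f • x) (j : ℤ) (φ : K ⟶ (DerivedCategory.Q.obj Y)⟦j⟧) : φ = 0 := by
  obtain ⟨N, hN⟩ := hK
  have : ∀ i, IsIso ((f • 𝟙 Y : Y ⟶ Y).f i) := fun i => (ConcreteCategory.isIso_iff_bijective _).2 (hY i)
  have hb : IsIso (f • 𝟙 Y : Y ⟶ Y) := HomologicalComplex.Hom.isIso_of_components _
  have hQ : IsIso ((shiftFunctor (Dual.D A) j).map (DerivedCategory.Q.map (f • 𝟙 Y))) := inferInstance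
  have hcan : ∀ ψ : K ⟶ (DerivedCategory.Q.obj Y)⟦j⟧, f • ψ = 0 → ψ = 0 := fun ψ hψ => by
    rw [← cancel_mono ((shiftFunctor (Dual.D A) j).map (DerivedCategory.Q.map (f • 𝟙 Y))), zero_comp, KosCx.Q_map_smul,
      Functor.map_smul, CategoryTheory.Functor.map_id, Linear.comp_smul, Category.comp_id, hψ]
  have : ∀ (k : ℕ) (ψ : K ⟶ (DerivedCategory.Q.obj Y)⟦j⟧), (f ^ k) • ψ = 0 → ψ = 0 := fun k => by
    induction k with
    | zero => intro ψ hψ; simpa using hψ
    | succ k ih => intro ψ hψ; exact ih ψ (hcan _ (by rwa [smul_smul, ← pow_succ']))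
  refine this N φ ?_
  rw [← Category.id_comp φ, ← Linear.smul_comp, hN, zero_comp]

theorem subsingleton_koszul_extCech (L : List A) (k : ℤ)
    (h : Subsingleton (DerivedCategory.Q.obj (Koszul.koszul A L) ⟶ (DerivedCategory.Q.obj (Koszul.koszul A []))⟦k⟧)) :
    ∀ fs : List A, (∀ f ∈ fs, f ∈ L) →
      Subsingleton (DerivedCategory.Q.obj (Koszul.koszul A L) ⟶ (DerivedCategory.Q.obj (DerCA.extCech (ModuleCat.of A A) fs))⟦k⟧)
  | [], _ => h
  | f :: fs, hfs => by
    have ih := subsingleton_koszul_extCech L k h fs fun g hg => hfs g (List.mem_cons_of_mem f hg)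
    let φ := DerCA.locCxUnit (Submonoid.powers f) (DerCA.extCech (ModuleCat.of A A) fs)
    have hT := DerivedCategory.mappingCocone_triangle_distinguished φ
    have hY : ∀ i, Function.Bijective
        fun x : ((DerCA.locCx (Submonoid.powers f)).obj (DerCA.extCech (ModuleCat.of A A) fs)).X i => f • x := fun i =>
      (Module.End.isUnit_iff _).1 (IsLocalizedModule.map_units
        (LocalizedModule.mkLinearMap (Submonoid.powers f) ((DerCA.extCech (ModuleCat.of A A) fs).X i))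
        ⟨f, Submonoid.mem_powers f⟩)
    refine (shiftHom₀ _ _ (-k) k (by omega)).toEquiv.subsingleton_congr.2 ⟨fun u v => ?_⟩
    rw [← sub_eq_zero]
    obtain ⟨g, hg⟩ := Triangle.coyoneda_exact₂ _ (inv_rot_of_distTriang _ hT) (u - v)
      (((shiftHom₀ _ _ (-k) k (by omega)).toEquiv.subsingleton_congr.1 ih).elim _ _)
    have hg0 : g = 0 := by
      obtain ⟨g', rfl⟩ := (shiftHom (DerivedCategory.Q.obj (Koszul.koszul A L))
        (DerivedCategory.Q.obj ((DerCA.locCx (Submonoid.powers f)).obj (DerCA.extCech (ModuleCat.of A A) fs))) (-k) (-1) (k - 1)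
        (by omega)).surjective g
      rw [hom_eq_zero (nil_koszul L f (hfs f List.mem_cons_self)) hY (k - 1) g', map_zero]
      rfl
    rw [hg, hg0]
    exact zero_comp

lemma exists_killed {M : Type*} [AddCommGroup M] [Module A M] : ∀ (l : List A) (x : M), x ≠ 0 →
    (∀ f ∈ l, ∀ y : M, ∃ k : ℕ, f ^ k • y = 0) → ∃ y : M, y ≠ 0 ∧ ∀ f ∈ l, f • y = 0
  | [], x, hx, _ => ⟨x, hx, fun _ h => (List.not_mem_nil h).elim⟩
  | f :: l, x, hx, h => by
    obtain ⟨y, hy, hl⟩ := exists_killed l x hx fun g hg => h g (List.mem_cons_of_mem f hg)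
    classical
    let k := Nat.find (h f List.mem_cons_self y)
    have hk : f ^ k • y = 0 := Nat.find_spec (h f List.mem_cons_self y)
    rcases hk0 : k with _ | j
    · rw [hk0, pow_zero, one_smul] at hk; exact absurd hk hy
    refine ⟨f ^ j • y, Nat.find_min (h f List.mem_cons_self y) (m := j) (by omega), fun g hg => ?_⟩
    rcases List.mem_cons.1 hg with rfl | hg
    · rw [smul_smul, ← pow_succ', ← hk0, hk]
    · rw [smul_comm, hl g hg, smul_zero]

/-- The extended Čech complex of a Koszul regular sequence lives in the top degree. -/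
theorem isZero_extCechH (fs : List A) (hfs : LCI.IsKoszulRegularSeq A fs) (q : ℤ) (hq : q ≠ (fs.length : ℤ)) :
    IsZero (DerCA.extCechH fs (ModuleCat.of A A) q) := by
  rcases lt_or_gt_of_ne hq with hq | hq
  swap
  · exact @ModuleCat.isZero_of_subsingleton _ _ _
      (LocCohTransform.subsingleton_extCech_homology _ fs q (Or.inr hq))
  set C := DerCA.extCech (ModuleCat.of A A) fs
  let e : ∀ (X : DRing.Cx A) (k : ℤ), (Dual.inD A A ⟶ (DerivedCategory.Q.obj X)⟦k⟧) ≃ₗ[A] X.homology k := fun X k =>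
    (homUnitEquiv _ k).trans (((DerivedCategory.homologyFunctorFactors (ModuleCat.{u} A) k).app X).toLinearEquiv)
  have hK : ∀ k : ℤ, k < (fs.length : ℤ) →
      Subsingleton (DerivedCategory.Q.obj (Koszul.koszul A fs.reverse) ⟶ (DerivedCategory.Q.obj C)⟦k⟧) := fun k hk => by
    refine subsingleton_koszul_extCech _ k ((subsingleton_koszul_hom _ _ _).2 ?_) fs fun f hf => List.mem_reverse.2 hf
    rw [kos_koszul, List.reverse_reverse, List.append_nil, List.length_reverse]
    have := ModuleCat.subsingleton_of_isZero (hfs (k - (fs.length : ℤ)) (by omega))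
    exact (e _ _).toEquiv.subsingleton
  suffices ∀ (n : ℕ) (k : ℤ), k < n → k < (fs.length : ℤ) → Subsingleton (Dual.inD A A ⟶ (DerivedCategory.Q.obj C)⟦k⟧) by
    have := this (q.toNat + 1) q (by omega) hq
    exact @ModuleCat.isZero_of_subsingleton _ _ _ (e C q).symm.toEquiv.subsingleton
  intro n
  induction n with
  | zero =>
    intro k hk _
    have := LocCohTransform.subsingleton_extCech_homology (ModuleCat.of A A) fs k (Or.inl (by simpa using hk))
    exact (e C k).toEquiv.subsingleton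
  | succ n ih =>
    intro k hk hk'
    obtain ⟨ι, -, hinj, hlift⟩ := exists_lift (DerivedCategory.Q.obj C) k (fun j hj => ih j (by omega) (by omega)) fs.reverse
    by_contra hne
    rw [not_subsingleton_iff_nontrivial] at hne
    obtain ⟨x, hx⟩ := exists_ne (0 : Dual.inD A A ⟶ (DerivedCategory.Q.obj C)⟦k⟧)
    obtain ⟨y, hy, hyk⟩ := exists_killed fs.reverse ((e C k) x)
      (fun h => hx ((e C k).map_eq_zero_iff.1 h))
      fun f hf z => LocCohTransform.extCech_pow_smul_eq_zero (ModuleCat.of A A) fs f (List.mem_reverse.1 hf) k z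
    obtain ⟨ψ, hψ⟩ := hlift ((e C k).symm y) fun f hf => by rw [← map_smul, hyk f hf, map_zero]
    refine hy ((e C k).symm.map_eq_zero_iff.1 ?_)
    rw [← hψ, (hK k hk').elim ψ 0]
    exact comp_zero

end Groth.DAlg.KoszulCech
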