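import Mathlib.Algebra.Homology.DerivedCategory.ShortExact
import Mathlib.Algebra.Homology.HomologicalComplexAbelian
import Mathlib.Algebra.Homology.HomologicalComplexBiprod
import Mathlib.CategoryTheory.Abelian.Refinements

/-!
Lifting bounded above complexes of projectives along a left adjoint with epimorphic unit.
-/

universe v v' u u'

set_option linter.style.haveILetI false
set_option backward.defeqAttrib.useBackward true
set_option backward.isDefEq.respectTransparency false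

open CategoryTheory CategoryTheory.Limits CategoryTheory.Pretriangulated HomologicalComplex

namespace Groth.DAlg.LiftCx

variable {C : Type u} [Category.{v} C] [Abelian C] {D : Type u'} [Category.{v'} D] [Abelian D]

section Disk

variable (W : ℤ → C)

/-- The sum of the elementary complexes `W (i+1) = W (i+1)` in degrees `i`, `i + 1`. -/
noncomputable abbrev disk : CochainComplex C ℤ :=
  CochainComplex.of (fun i => W i ⊞ W (i + 1)) (fun _ => biprod.snd ≫ biprod.inl)
    (fun i => by simp)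

lemma disk_d (i : ℤ) : (disk W).d i (i + 1) = biprod.snd ≫ biprod.inl := CochainComplex.of_d (fun i => W i ⊞ W (i + 1)) (fun _ => biprod.snd ≫ biprod.inl) i

lemma disk_isZero {i : ℤ} (h₁ : IsZero (W i)) (h₂ : IsZero (W (i + 1))) : IsZero ((disk W).X i) :=
  (IsZero.iff_id_eq_zero _).2 (by
    change 𝟙 (W i ⊞ W (i + 1)) = 0
    rw [← biprod.total, h₁.eq_of_tgt biprod.fst 0, h₂.eq_of_tgt biprod.snd 0, zero_comp, zero_comp, zero_add])

lemma disk_acyclic : (disk W).Acyclic := fun i => by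
  obtain ⟨k, rfl⟩ : ∃ k, i = k + 1 := ⟨i - 1, by omega⟩
  rw [exactAt_iff' _ k (k + 1) (k + 1 + 1) (by simp) (by simp), ShortComplex.exact_iff_exact_up_to_refinements]
  intro T (x : T ⟶ W (k + 1) ⊞ W (k + 1 + 1)) hx
  refine ⟨T, 𝟙 T, inferInstance, x ≫ biprod.fst ≫ biprod.inr, ?_⟩
  change x ≫ (disk W).d (k + 1) (k + 1 + 1) = 0 at hx
  change 𝟙 T ≫ x = (x ≫ biprod.fst ≫ biprod.inr) ≫ (disk W).d k (k + 1)
  rw [disk_d] at hx
  rw [disk_d, Category.id_comp]
  have h0 : x ≫ biprod.snd = 0 := by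
    have := hx =≫ biprod.fst
    simpa using this
  simp only [Category.assoc, biprod.inr_snd_assoc]
  conv_lhs => rw [← Category.comp_id x, ← biprod.total, Preadditive.comp_add, reassoc_of% h0, zero_comp, add_zero]

variable (F : C ⥤ D) [F.Additive] {T : CochainComplex D ℤ}

lemma map_disk_ext {i : ℤ} {Y : D} (f g : ((F.mapHomologicalComplex _).obj (disk W)).X i ⟶ Y)
    (h₁ : F.map (biprod.inl : W i ⟶ W i ⊞ W (i + 1)) ≫ f = F.map (biprod.inl : W i ⟶ W i ⊞ W (i + 1)) ≫ g)
    (h₂ : F.map (biprod.inr : W (i + 1) ⟶ W i ⊞ W (i + 1)) ≫ f = F.map (biprod.inr : W (i + 1) ⟶ W i ⊞ W (i + 1)) ≫ g) :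
    f = g := by
  change F.obj (W i ⊞ W (i + 1)) ⟶ Y at f g
  rw [← Category.id_comp f, ← Category.id_comp g, ← F.map_id, ← biprod.total, F.map_add, F.map_comp, F.map_comp,
    Preadditive.add_comp, Preadditive.add_comp, Category.assoc, Category.assoc, Category.assoc, Category.assoc, h₁, h₂]

variable (a : ∀ i, F.obj (W (i + 1)) ⟶ T.X i)

/-- The degree `i` map out of a sum of elementary complexes. -/
noncomputable def mapF (i : ℤ) : F.obj (W i ⊞ W (i + 1)) ⟶ T.X i :=
  F.map biprod.fst ≫ eqToHom (by rw [sub_add_cancel]) ≫ a (i - 1) ≫ T.d (i - 1) i + F.map biprod.snd ≫ a i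

lemma inr_mapF (i : ℤ) : F.map biprod.inr ≫ mapF W F a i = a i := by
  simp [mapF, ← Functor.map_comp_assoc]

lemma inl_mapF (k : ℤ) : F.map biprod.inl ≫ mapF W F a (k + 1) = a k ≫ T.d k (k + 1) := by
  have key : ∀ (k' : ℤ) (h : k = k') (e : F.obj (W (k + 1)) = F.obj (W (k' + 1))),
      eqToHom e ≫ a k' ≫ T.d k' (k + 1) = a k ≫ T.d k (k + 1) := by rintro _ rfl _; simp
  simp [mapF, ← Functor.map_comp_assoc, key (k + 1 - 1) (by omega)]

/-- Maps out of a sum of elementary complexes. -/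
noncomputable def mapDisk : (F.mapHomologicalComplex _).obj (disk W) ⟶ T where
  f := mapF W F a
  comm' i j hij := by
    obtain rfl : i + 1 = j := hij
    obtain ⟨k, rfl⟩ : ∃ k, i = k + 1 := ⟨i - 1, by omega⟩
    refine map_disk_ext W F _ _ ?_ ?_
    · rw [← Category.assoc, inl_mapF, Category.assoc, T.d_comp_d, comp_zero]
      erw [Functor.mapHomologicalComplex_obj_d, disk_d, ← F.map_comp_assoc, biprod.inl_snd_assoc, zero_comp, F.map_zero,
        zero_comp]
    · rw [← Category.assoc, inr_mapF]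
      erw [Functor.mapHomologicalComplex_obj_d, disk_d, ← F.map_comp_assoc, biprod.inr_snd_assoc, inl_mapF]

lemma map_disk_hom_ext {f g : (F.mapHomologicalComplex _).obj (disk W) ⟶ T}
    (h : ∀ i, F.map (biprod.inr : W (i + 1) ⟶ W i ⊞ W (i + 1)) ≫ f.f i = F.map biprod.inr ≫ g.f i) : f = g := by
  ext i : 1
  refine map_disk_ext W F _ _ ?_ (h i)
  obtain ⟨k, rfl⟩ : ∃ k, i = k + 1 := ⟨i - 1, by omega⟩
  have e : ∀ u : (F.mapHomologicalComplex _).obj (disk W) ⟶ T,
      F.map (biprod.inl : W (k + 1) ⟶ W (k + 1) ⊞ W (k + 1 + 1)) ≫ u.f (k + 1) =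
        (F.map (biprod.inr : W (k + 1) ⟶ W k ⊞ W (k + 1)) ≫ u.f k) ≫ T.d k (k + 1) := fun u => by
    rw [Category.assoc, u.comm]
    erw [Functor.mapHomologicalComplex_obj_d, disk_d, ← F.map_comp_assoc, biprod.inr_snd_assoc]
  rw [e f, e g, h k]

end Disk

/-- The hypotheses on a class of objects to be lifted along `F`. -/
structure Good (F : C ⥤ D) (P : ObjectProperty C) : Prop where
  proj : ∀ {X}, P X → Projective X
  lift : ∀ {X Y}, P X → ∀ g : F.obj X ⟶ F.obj Y, ∃ f, F.map f = g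
  refl : ∀ {X Y} (f : X ⟶ Y), P X → P Y → Epi (F.map f) → Epi f
  cancel : ∀ {X Y}, P X → P (X ⊞ Y) → P Y

lemma good_lift {F : C ⥤ D} {G : D ⥤ C} (adj : F ⊣ G) {X Y : C} [Projective X] [Epi (adj.unit.app Y)]
    (g : F.obj X ⟶ F.obj Y) : ∃ f, F.map f = g := by
  refine ⟨Projective.factorThru (adj.unit.app X ≫ G.map g) (adj.unit.app Y), (adj.homEquiv _ _).injective ?_⟩
  rw [adj.homEquiv_unit, adj.homEquiv_unit, adj.unit_naturality, Projective.factorThru_comp]

section

variable {F : C ⥤ D} [F.Additive] {P : ObjectProperty C} [P.IsClosedUnderIsomorphisms] (hP : Good F P)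
include hP

lemma isSplitMono_of_map {X Y : C} (hX : P X) (hY : P Y) (f : X ⟶ Y) (r : F.obj Y ⟶ F.obj X)
    (h : F.map f ≫ r = 𝟙 _) : IsSplitMono f := by
  obtain ⟨r, rfl⟩ := hP.lift hY r
  rw [← F.map_comp] at h
  have := hP.proj hX
  have : Epi (f ≫ r) := hP.refl _ hX hX (by rw [h]; infer_instance)
  let s := Projective.factorThru (𝟙 X) (f ≫ r)
  have hs : s ≫ f ≫ r = 𝟙 X := Projective.factorThru_comp _ _
  have hFs : F.map s = 𝟙 _ := by
    have := congrArg F.map hs
    rwa [F.map_comp, h, Category.comp_id, F.map_id] at this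
  have : Epi s := hP.refl _ hX hX (by rw [hFs]; infer_instance)
  exact ⟨⟨⟨r ≫ s, (cancel_epi s).1 (by rw [reassoc_of% hs, Category.comp_id])⟩⟩⟩

lemma nonempty_iso_of_map {X Y : C} (hX : P X) (hY : P Y) (e : F.obj X ≅ F.obj Y) : Nonempty (X ≅ Y) := by
  obtain ⟨f, hf⟩ := hP.lift hX e.hom
  have : Epi f := hP.refl _ hX hY (by rw [hf]; infer_instance)
  have := isSplitMono_of_map hP hX hY f e.inv (by rw [hf, e.hom_inv_id])
  have : IsIso f := isIso_of_mono_of_epi f
  exact ⟨asIso f⟩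

lemma isZero_of_map {X : C} {Z : C} (hZ : P Z) (hz : IsZero Z) (hX : P X) (h : IsZero (F.obj X)) : IsZero X :=
  hz.of_iso (nonempty_iso_of_map hP hX hZ (h.iso (F.map_isZero hz))).some

lemma exists_zero {X : C} (hX : P X) : ∃ Z : C, P Z ∧ IsZero Z := by
  refine ⟨kernel (𝟙 X), hP.cancel hX ?_, isZero_kernel_of_mono _⟩
  exact P.prop_of_iso (isoBiprodZero (isZero_kernel_of_mono (𝟙 X))) hX

/-- Kernels of epimorphisms between lifted objects lift. -/
lemma exists_kernel_lift {X Y : C} (hX : P X) (hY : P Y) {M M' : D} (eX : F.obj X ≅ M) (eY : F.obj Y ≅ M')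
    (v : M ⟶ M') [Epi v] :
    IsSplitEpi v ∧ ∃ K : C, P K ∧ Nonempty (F.obj K ≅ kernel v) ∧ Nonempty (X ≅ K ⊞ Y) := by
  obtain ⟨u, hu⟩ := hP.lift hX (eX.hom ≫ v ≫ eY.inv)
  have : Epi u := hP.refl _ hX hY (by rw [hu]; infer_instance)
  have := hP.proj hY
  let S := ShortComplex.mk (kernel.ι u) u (kernel.condition u)
  have hS : S.ShortExact := { exact := ShortComplex.exact_kernel u }
  let sp := hS.splittingOfProjective
  have e : X ≅ kernel u ⊞ Y := sp.isoBinaryBiproduct
  refine ⟨⟨⟨⟨eY.inv ≫ F.map sp.s ≫ eX.hom, ?_⟩⟩⟩, kernel u,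
    hP.cancel hY (P.prop_of_iso (e ≪≫ biprod.braiding _ _) hX), ⟨?_⟩, ⟨e⟩⟩
  · have h1 : eX.hom ≫ v = F.map u ≫ eY.hom := by rw [hu]; simp
    rw [Category.assoc, Category.assoc, h1, ← F.map_comp_assoc, show sp.s ≫ u = 𝟙 Y from sp.s_g, F.map_id,
      Category.id_comp, Iso.inv_hom_id]
  · exact IsLimit.conePointUniqueUpToIso (sp.map F).shortExact.fIsKernel (limit.isLimit _) ≪≫
      kernel.mapIso (F.map u) v eX eY (by rw [hu]; simp)

end

variable {F : C ⥤ D} [F.Additive] {P : ObjectProperty C} [P.IsClosedUnderIsomorphisms]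

/-- Bounded above acyclic complexes of lifted objects lift to sums of elementary complexes. -/
theorem exists_acyclic_lift (hP : Good F P) (N : CochainComplex D ℤ) (b : ℤ)
    (hb : ∀ i, b < i → IsZero (N.X i)) (hN : N.Acyclic) (ht : ∀ i, ∃ X, P X ∧ Nonempty (F.obj X ≅ N.X i)) :
    ∃ W : ℤ → C, (∀ i, b < i → IsZero (W i)) ∧ (∀ i, P ((disk W).X i)) ∧
      Nonempty ((F.mapHomologicalComplex _).obj (disk W) ≅ N) := by
  obtain ⟨X₀, hX₀, -⟩ := ht 0
  obtain ⟨Z, hZ, hz⟩ := exists_zero hP hX₀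
  have w : ∀ i, N.iCycles i ≫ N.toCycles i (i + 1) = 0 := fun i => by
    rw [← cancel_mono (N.iCycles (i + 1))]; simp
  have hep : ∀ i, Epi (N.toCycles i (i + 1)) := fun i =>
    (ShortComplex.exact_of_g_is_cokernel (ShortComplex.mk _ _ (N.toCycles_comp_homologyπ i (i + 1)))
      (N.homologyIsCokernel i (i + 1) (by simp))).epi_f ((hN (i + 1)).isZero_homology.eq_of_tgt _ _)
  have hex : ∀ i, (ShortComplex.mk _ _ (w i)).ShortExact := fun i =>
    haveI := hep i
    { exact := by
        refine ShortComplex.exact_of_f_is_kernel _ (KernelFork.IsLimit.ofι' (N.iCycles i) (w i) fun {T} x hx => ?_)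
        exact ⟨N.liftCycles x (i + 1) (by simp) (by
          rw [← N.toCycles_i i (i + 1), reassoc_of% hx, zero_comp]), N.liftCycles_i _ _ _ _⟩ }
  have hW : ∀ i, ∃ W, P W ∧ Nonempty (F.obj W ≅ N.cycles i) := by
    suffices ∀ (n : ℕ) i, b + 1 ≤ i + n → ∃ W, P W ∧ Nonempty (F.obj W ≅ N.cycles i) from
      fun i => this (b + 1 - i).toNat i (by omega)
    intro n
    induction n with
    | zero => exact fun i hi => ⟨Z, hZ, ⟨(F.map_isZero hz).iso (IsZero.of_mono (N.iCycles i) (hb i (by omega)))⟩⟩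
    | succ n ih =>
      intro i hi
      obtain ⟨W', hW', ⟨e'⟩⟩ := ih (i + 1) (by omega)
      obtain ⟨X, hX, ⟨eX⟩⟩ := ht i
      haveI := hep i
      obtain ⟨-, K, hK, ⟨eK⟩, -⟩ := exists_kernel_lift hP hX hW' eX e' (N.toCycles i (i + 1))
      exact ⟨K, hK, ⟨eK ≪≫ IsLimit.conePointUniqueUpToIso (limit.isLimit _) (hex i).fIsKernel⟩⟩
  choose W hPW hw using hW
  let w' : ∀ i, F.obj (W i) ≅ N.cycles i := fun i => (hw i).some
  have hsec : ∀ i, IsSplitEpi (N.toCycles i (i + 1)) ∧ P (W i ⊞ W (i + 1)) := fun i => by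
    obtain ⟨X, hX, ⟨eX⟩⟩ := ht i
    haveI := hep i
    obtain ⟨hs, K, hK, ⟨eK⟩, ⟨eXK⟩⟩ := exists_kernel_lift hP hX (hPW (i + 1)) eX (w' (i + 1)) (N.toCycles i (i + 1))
    obtain ⟨e⟩ := nonempty_iso_of_map hP hK (hPW i)
      (eK ≪≫ IsLimit.conePointUniqueUpToIso (limit.isLimit _) (hex i).fIsKernel ≪≫ (w' i).symm)
    exact ⟨hs, P.prop_of_iso (eXK ≪≫ biprod.mapIso e (Iso.refl _)) hX⟩
  refine ⟨W, fun i hi => isZero_of_map hP hZ hz (hPW i)
    ((IsZero.of_mono (N.iCycles i) (hb i hi)).of_iso (w' i)), fun i => (hsec i).2, ?_⟩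
  let a : ∀ i, F.obj (W (i + 1)) ⟶ N.X i := fun i => (w' (i + 1)).hom ≫ section_ (N.toCycles i (i + 1)) (hf := (hsec i).1)
  have ha : ∀ i, a i ≫ N.toCycles i (i + 1) = (w' (i + 1)).hom := fun i => by
    simp only [a, Category.assoc]
    rw [IsSplitEpi.id (N.toCycles i (i + 1)) (hf := (hsec i).1), Category.comp_id]
  let g := mapDisk W F a
  have hgi : ∀ i, IsIso (g.f i) := fun i => by
    obtain ⟨k, rfl⟩ : ∃ k, i = k + 1 := ⟨i - 1, by omega⟩
    have hl : F.map (biprod.inl : W (k + 1) ⟶ _ ⊞ W (k + 1 + 1)) ≫ mapF W F a (k + 1) =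
        (w' (k + 1)).hom ≫ N.iCycles (k + 1) := by
      rw [inl_mapF, ← N.toCycles_i k (k + 1), reassoc_of% ha]
    let S := ShortComplex.mk (biprod.inl : W (k + 1) ⟶ _ ⊞ W (k + 1 + 1)) biprod.snd biprod.inl_snd
    let sp : S.Splitting := { r := biprod.fst, s := biprod.inr }
    let φ : S.map F ⟶ ShortComplex.mk _ _ (w (k + 1)) :=
      { τ₁ := (w' (k + 1)).hom, τ₂ := mapF W F a (k + 1), τ₃ := (w' (k + 1 + 1)).hom
        comm₁₂ := hl.symm
        comm₂₃ := by
          refine map_disk_ext W F _ _ ?_ ?_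
          · dsimp [S]
            rw [reassoc_of% hl, w, comp_zero, ← F.map_comp_assoc, biprod.inl_snd, F.map_zero, zero_comp]
          · dsimp [S]
            rw [← Category.assoc, inr_mapF, ha, ← F.map_comp_assoc, biprod.inr_snd, F.map_id, Category.id_comp] }
    exact ShortComplex.isIso₂_of_shortExact_of_isIso₁₃ φ (sp.map F).shortExact (hex (k + 1))
  haveI := hgi
  haveI : IsIso g := HomologicalComplex.Hom.isIso_of_components g
  exact ⟨asIso g⟩

section Main

variable (hsum : ∀ {X Y : C}, P X → P Y → P (X ⊞ Y))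
include hsum

/-- A complex with a quasi-isomorphism from the image of a lifted complex lifts. -/
theorem exists_lift [HasDerivedCategory C] (hP : Good F P) (Q : CochainComplex C ℤ) (c : ℤ) (hQc : ∀ i, c < i → IsZero (Q.X i))
    (hQ : ∀ i, P (Q.X i)) (E : CochainComplex D ℤ) (b : ℤ) (hEb : ∀ i, b < i → IsZero (E.X i))
    (hEt : ∀ i, ∃ X, P X ∧ Nonempty (F.obj X ≅ E.X i))
    (α : (F.mapHomologicalComplex _).obj Q ⟶ E) (hα : QuasiIso α) :
    ∃ (P' : CochainComplex C ℤ) (b' : ℤ), (∀ i, b' < i → IsZero (P'.X i)) ∧ (∀ i, P (P'.X i)) ∧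
      Nonempty (DerivedCategory.Q.obj P' ≅ DerivedCategory.Q.obj Q) ∧
      Nonempty ((F.mapHomologicalComplex _).obj P' ≅ E) := by
  let Φ := F.mapHomologicalComplex (ComplexShape.up ℤ)
  choose X hX hXE using hEt
  let e : ∀ i, F.obj (X i) ≅ E.X i := fun i => (hXE i).some
  obtain ⟨Z, hZ, hz⟩ := exists_zero hP (hX 0)
  -- make `α` termwise split surjective
  let W₀ : ℤ → C := fun j => X (j - 1)
  have hXz : ∀ i, b < i → IsZero (X i) := fun i hi => isZero_of_map hP hZ hz (hX i) ((hEb i hi).of_iso (e i))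
  let a₀ : ∀ i, F.obj (W₀ (i + 1)) ⟶ E.X i := fun i =>
    eqToHom (by simp [W₀]) ≫ (e i).hom
  let C₀ := disk W₀
  let Q' : CochainComplex C ℤ := Q ⊞ C₀
  let β : Φ.obj Q' ⟶ E := Φ.map biprod.fst ≫ α + Φ.map biprod.snd ≫ mapDisk W₀ F a₀
  have hQ' : ∀ i, P (Q'.X i) := fun i =>
    P.prop_of_iso (HomologicalComplex.biprodXIso Q C₀ i).symm (hsum (hQ i) (hsum (hX _) (hX _)))
  have hQ'z : ∀ i, max c (b + 1) < i → IsZero (Q'.X i) := fun i hi =>
    (IsZero.of_iso (by
      rw [IsZero.iff_id_eq_zero, ← biprod.total, (hQc i (by omega)).eq_of_tgt biprod.fst 0,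
        (disk_isZero W₀ (i := i) (hXz _ (by omega)) (hXz _ (by omega))).eq_of_tgt biprod.snd 0,
        zero_comp, zero_comp, zero_add])
      (HomologicalComplex.biprodXIso Q C₀ i))
  have hC₀ : (Φ.obj C₀).Acyclic := fun i => by
    obtain ⟨k, rfl⟩ : ∃ k, i = k + 1 := ⟨i - 1, by omega⟩
    rw [exactAt_iff' _ k (k + 1) (k + 1 + 1) (by simp) (by simp), ShortComplex.exact_iff_exact_up_to_refinements]
    intro T (x : T ⟶ F.obj (W₀ (k + 1) ⊞ W₀ (k + 1 + 1))) hx
    refine ⟨T, 𝟙 T, inferInstance, x ≫ F.map (biprod.fst : W₀ (k + 1) ⊞ W₀ (k + 1 + 1) ⟶ _) ≫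
      F.map (biprod.inr : W₀ (k + 1) ⟶ W₀ k ⊞ _), ?_⟩
    change x ≫ F.map (C₀.d (k + 1) (k + 1 + 1)) = 0 at hx
    change 𝟙 T ≫ x = _ ≫ F.map (C₀.d k (k + 1))
    rw [disk_d] at hx
    rw [disk_d, Category.id_comp]
    have h0 : x ≫ F.map biprod.snd = 0 := by
      have := hx =≫ F.map biprod.fst
      rw [Category.assoc, ← F.map_comp, zero_comp] at this
      simpa using this
    simp only [Category.assoc, ← F.map_comp, biprod.inr_snd_assoc]
    conv_lhs => rw [← Category.comp_id x, ← F.map_id, ← biprod.total, F.map_add, Preadditive.comp_add,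
      F.map_comp, F.map_comp, reassoc_of% h0, zero_comp, add_zero, ← F.map_comp]
  have hinl : Φ.map (biprod.inl : Q ⟶ Q') ≫ β = α := by
    simp only [β, Preadditive.comp_add, ← Functor.map_comp_assoc]
    erw [biprod.inl_fst, biprod.inl_snd]
    simp
  have hβ : QuasiIso β := by
    have : QuasiIso (Φ.map (biprod.inl : Q ⟶ Q')) := by
      refine ⟨fun i => ?_⟩
      rw [quasiIsoAt_iff_isIso_homologyMap]
      refine ⟨homologyMap (Φ.map (biprod.fst : Q' ⟶ Q)) i, ?_, ?_⟩
      · rw [← homologyMap_comp, ← Functor.map_comp, biprod.inl_fst, CategoryTheory.Functor.map_id, homologyMap_id]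
      · rw [← homologyMap_comp, ← Functor.map_comp]
        have ht : (biprod.fst : Q' ⟶ Q) ≫ biprod.inl = 𝟙 Q' - biprod.snd ≫ biprod.inr :=
          eq_sub_of_add_eq (biprod.total)
        rw [ht, Functor.map_sub, Functor.map_comp, homologyMap_sub, homologyMap_comp, CategoryTheory.Functor.map_id, homologyMap_id,
          (hC₀ i).isZero_homology.eq_of_tgt (homologyMap (Φ.map biprod.snd) i) 0, zero_comp, sub_zero]
    have : QuasiIso (Φ.map (biprod.inl : Q ⟶ Q') ≫ β) := by rw [hinl]; exact hα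
    exact quasiIso_of_comp_left (Φ.map (biprod.inl : Q ⟶ Q')) β
  have hsplit : ∀ i, ∃ s, s ≫ β.f i = 𝟙 (E.X i) := fun i => by
    refine ⟨(e i).inv ≫ eqToHom (by simp [W₀]) ≫ F.map (biprod.inr : W₀ (i + 1) ⟶ W₀ i ⊞ W₀ (i + 1)) ≫
      F.map ((biprod.inr : C₀ ⟶ Q').f i), ?_⟩
    have h1 : F.map ((biprod.inr : C₀ ⟶ Q').f i) ≫ β.f i = mapF W₀ F a₀ i := by
      have : Φ.map (biprod.inr : C₀ ⟶ Q') ≫ β = mapDisk W₀ F a₀ := by
        simp only [β, Preadditive.comp_add, ← Functor.map_comp_assoc]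
        erw [biprod.inr_fst, biprod.inr_snd]
        simp
      exact congrArg (fun t => HomologicalComplex.Hom.f t i) this
    simp only [Category.assoc, h1, inr_mapF, a₀, eqToHom_trans_assoc, eqToHom_refl, Category.id_comp]
    exact Iso.inv_hom_id _
  haveI : ∀ i, Epi (β.f i) := fun i => (hsplit i).elim fun s hs => @epi_of_epi_fac _ _ _ _ _ s (β.f i) (𝟙 _) inferInstance hs
  -- the kernel
  have hN : (kernel β).Acyclic := fun i => by
    let S := ShortComplex.mk (kernel.ι β) β (kernel.condition β)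
    haveI : Epi β := HomologicalComplex.epi_of_epi_f β (fun i => inferInstance)
    have hS : S.ShortExact := { exact := ShortComplex.exact_kernel β }
    rw [exactAt_iff_isZero_homology]
    have hiso : ∀ j, IsIso (homologyMap β j) := fun j => by
      have := hβ.quasiIsoAt j
      exact (quasiIsoAt_iff_isIso_homologyMap β j).1 this
    refine (hS.homology_exact₁ (i - 1) i (by simp)).isZero_of_both_zeros ?_ ?_
    · haveI := hiso (i - 1)
      exact (cancel_epi (homologyMap β (i - 1))).1 ((hS.comp_δ (i - 1) i (by simp)).trans comp_zero.symm)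
    · haveI := hiso i
      exact (cancel_mono (homologyMap β i)).1 ((show homologyMap (kernel.ι β) i ≫ homologyMap β i = 0 by
        rw [← homologyMap_comp, kernel.condition, homologyMap_zero]).trans zero_comp.symm)
  let kIso : ∀ i, (kernel β).X i ≅ kernel (β.f i) := fun i => PreservesKernel.iso (HomologicalComplex.eval _ _ i) β
  have hNz : ∀ i, max c (b + 1) < i → IsZero ((kernel β).X i) := fun i hi =>
    (IsZero.of_mono (kernel.ι (β.f i)) (F.map_isZero (hQ'z i hi))).of_iso (kIso i)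
  obtain ⟨W, hWz, hWP, ⟨eN⟩⟩ := exists_acyclic_lift hP (kernel β) (max c (b + 1)) hNz hN fun i => by
    obtain ⟨-, K, hK, ⟨eK⟩, -⟩ := exists_kernel_lift hP (hQ' i) (hX i) (Iso.refl _) (e i) (β.f i)
    exact ⟨K, hK, ⟨eK ≪≫ (kIso i).symm⟩⟩
  -- lift the inclusion
  let j : Φ.obj (disk W) ⟶ Φ.obj Q' := eN.hom ≫ kernel.ι β
  have hlift : ∀ i, ∃ h : W (i + 1) ⟶ Q'.X i, F.map h = F.map biprod.inr ≫ j.f i := fun i => by
    haveI := hP.proj (hWP i)
    obtain ⟨f, hf⟩ := hP.lift (hWP i) (j.f i)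
    exact ⟨biprod.inr ≫ f, (F.map_comp _ _).trans (congrArg _ hf)⟩
  choose h hh using hlift
  let g : disk W ⟶ Q' :=
    { f := mapF W (𝟭 C) (T := Q') h
      comm' := (mapDisk W (𝟭 C) (T := Q') h).comm' }
  have hg : Φ.map g = j := by
    refine map_disk_hom_ext W F fun i => ?_
    change F.map biprod.inr ≫ F.map (g.f i) = _
    rw [← F.map_comp]
    exact (congrArg F.map (inr_mapF W (𝟭 C) (T := Q') h i)).trans (hh i)
  -- split injectivity
  have hjs : ∀ i, ∃ r, F.map (g.f i) ≫ r = 𝟙 _ := fun i => by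
    obtain ⟨s, hs⟩ := hsplit i
    have hc : (𝟙 _ - β.f i ≫ s) ≫ β.f i = 0 := by
      rw [Preadditive.sub_comp, Category.id_comp, Category.assoc, hs, Category.comp_id, sub_self]
    refine ⟨kernel.lift (β.f i) _ hc ≫ (kIso i).inv ≫ eN.inv.f i, ?_⟩
    change (Φ.map g).f i ≫ _ = _
    rw [hg]
    have hι : kernel.lift (β.f i) _ hc ≫ (kIso i).inv ≫ (kernel.ι β).f i = 𝟙 _ - β.f i ≫ s := by
      have : (kIso i).inv ≫ (kernel.ι β).f i = kernel.ι (β.f i) := by
        rw [Iso.inv_comp_eq]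
        simp only [kIso, PreservesKernel.iso_hom]
        exact (kernelComparison_comp_ι β (HomologicalComplex.eval _ _ i)).symm
      rw [this, kernel.lift_ι]
    have : eN.hom.f i ≫ (kernel.ι β).f i ≫ kernel.lift (β.f i) _ hc ≫ (kIso i).inv = eN.hom.f i := by
      haveI : Mono ((kernel.ι β).f i) := inferInstanceAs (Mono ((HomologicalComplex.eval _ _ i).map (kernel.ι β)))
      have hk : (kernel.ι β).f i ≫ β.f i = 0 := by
        rw [← HomologicalComplex.comp_f, kernel.condition, HomologicalComplex.zero_f]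
      rw [← cancel_mono ((kernel.ι β).f i)]
      simp only [Category.assoc, hι, Preadditive.comp_sub, Category.comp_id, reassoc_of% hk, zero_comp, comp_zero,
        sub_zero]
    simp only [j, HomologicalComplex.comp_f, Category.assoc]
    rw [reassoc_of% this, ← HomologicalComplex.comp_f, eN.hom_inv_id, HomologicalComplex.id_f]
    rfl
  have hgm : ∀ i, IsSplitMono (g.f i) := fun i =>
    (hjs i).elim fun r hr => isSplitMono_of_map hP (hWP i) (hQ' i) _ r hr
  haveI : Mono g := HomologicalComplex.mono_of_mono_f g (fun i => haveI := hgm i; inferInstance)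
  let P' := cokernel g
  let cIso : ∀ i, P'.X i ≅ cokernel (g.f i) := fun i => PreservesCokernel.iso (HomologicalComplex.eval _ _ i) g
  have hS : (ShortComplex.mk g (cokernel.π g) (cokernel.condition g)).ShortExact :=
    { exact := ShortComplex.exact_cokernel g }
  let T := ShortComplex.mk g (cokernel.π g) (cokernel.condition g)
  have hsp : ∀ i, Nonempty (T.map (HomologicalComplex.eval _ _ i)).Splitting := fun i => by
    haveI := hgm i
    exact ⟨ShortComplex.Splitting.ofExactOfRetraction _ (hS.map_of_exact (HomologicalComplex.eval _ _ i)).exact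
      (retraction (g.f i)) (IsSplitMono.id (g.f i)) (hS.map_of_exact (HomologicalComplex.eval _ _ i)).epi_g⟩
  have hP' : ∀ i, P (P'.X i) := fun i =>
    hP.cancel (hWP i) (P.prop_of_iso (hsp i).some.isoBinaryBiproduct (hQ' i))
  refine ⟨P', max c (b + 1), fun i hi => IsZero.of_epi ((cokernel.π g).f i) (hQ'z i hi), hP', ?_, ?_⟩
  · have hT := DerivedCategory.triangleOfSES_distinguished hS
    have hz : IsZero (DerivedCategory.triangleOfSES hS).obj₁ := by
      have hq : QuasiIso (0 : disk W ⟶ disk W) := ⟨fun i => by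
        rw [quasiIsoAt_iff_isIso_homologyMap]
        exact ⟨0, (disk_acyclic W i).isZero_homology.eq_of_src _ _, (disk_acyclic W i).isZero_homology.eq_of_src _ _⟩⟩
      have h0 := (DerivedCategory.isIso_Q_map_iff_quasiIso (φ := (0 : disk W ⟶ disk W))).2 hq
      refine (IsZero.iff_id_eq_zero _).2 ?_
      change 𝟙 (DerivedCategory.Q.obj (disk W)) = 0
      rw [← cancel_epi (DerivedCategory.Q.map (0 : disk W ⟶ disk W)), Functor.map_zero, zero_comp, zero_comp]
    have : IsIso (DerivedCategory.Q.map (cokernel.π g)) := (Triangle.isZero₁_iff_isIso₂ _ hT).1 hz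
    have hQQ' : IsIso (DerivedCategory.Q.map (biprod.inl : Q ⟶ Q')) := by
      rw [DerivedCategory.isIso_Q_map_iff_quasiIso]
      refine ⟨fun i => ?_⟩
      rw [quasiIsoAt_iff_isIso_homologyMap]
      refine ⟨homologyMap (biprod.fst : Q' ⟶ Q) i, ?_, ?_⟩
      · rw [← homologyMap_comp, biprod.inl_fst, homologyMap_id]
      · rw [← homologyMap_comp]
        have ht : (biprod.fst : Q' ⟶ Q) ≫ biprod.inl = 𝟙 Q' - biprod.snd ≫ biprod.inr :=
          eq_sub_of_add_eq (biprod.total)
        rw [ht, homologyMap_sub, homologyMap_comp, homologyMap_id,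
          (disk_acyclic W₀ i).isZero_homology.eq_of_tgt (homologyMap biprod.snd i) 0, zero_comp, sub_zero]
    exact ⟨(asIso (DerivedCategory.Q.map (cokernel.π g))).symm ≪≫ (asIso (DerivedCategory.Q.map (biprod.inl : Q ⟶ Q'))).symm⟩
  · have h0 : Φ.map g ≫ β = 0 := by rw [hg]; simp [j]
    have hco : ∀ i, IsColimit (CokernelCofork.ofπ (F.map ((cokernel.π g).f i))
        (show F.map (g.f i) ≫ _ = 0 by rw [← F.map_comp, ← HomologicalComplex.comp_f, cokernel.condition]; simp)) :=
      fun i => ((hsp i).some.map F).shortExact.gIsCokernel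
    let φ : ∀ i, F.obj (P'.X i) ⟶ E.X i := fun i => (hco i).desc (CokernelCofork.ofπ (β.f i)
      (show F.map (g.f i) ≫ β.f i = 0 from congrArg (fun t => HomologicalComplex.Hom.f t i) h0))
    have hφ : ∀ i, F.map ((cokernel.π g).f i) ≫ φ i = β.f i := fun i =>
      (hco i).fac _ WalkingParallelPair.one
    have hepi : ∀ i, Epi (F.map ((cokernel.π g).f i)) := fun i => ((hsp i).some.map F).shortExact.epi_g
    have hiso : ∀ i, IsIso (φ i) := fun i => by
      obtain ⟨s, hs⟩ := hsplit i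
      haveI := hepi i
      refine ⟨s ≫ F.map ((cokernel.π g).f i), ?_, by rw [Category.assoc, hφ, hs]⟩
      rw [← cancel_epi (F.map ((cokernel.π g).f i)), reassoc_of% hφ, Category.comp_id]
      have hc : (𝟙 _ - β.f i ≫ s) ≫ β.f i = 0 := by
        rw [Preadditive.sub_comp, Category.id_comp, Category.assoc, hs, Category.comp_id, sub_self]
      have hx : ∃ y, y ≫ (Φ.map g).f i = 𝟙 _ - β.f i ≫ s := by
        rw [hg]
        refine ⟨kernel.lift (β.f i) _ hc ≫ (kIso i).inv ≫ eN.inv.f i, ?_⟩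
        have hι : (kIso i).inv ≫ (kernel.ι β).f i = kernel.ι (β.f i) := by
          rw [Iso.inv_comp_eq]
          simp only [kIso, PreservesKernel.iso_hom]
          exact (kernelComparison_comp_ι β (HomologicalComplex.eval _ _ i)).symm
        simp only [j, HomologicalComplex.comp_f, Category.assoc]
        rw [← HomologicalComplex.comp_f_assoc, eN.inv_hom_id, HomologicalComplex.id_f, Category.id_comp, hι,
          kernel.lift_ι]
      obtain ⟨y, hy⟩ := hx
      have h2 : (𝟙 _ - β.f i ≫ s) ≫ F.map ((cokernel.π g).f i) = 0 := by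
        rw [← hy, Category.assoc]
        change y ≫ F.map (g.f i) ≫ F.map ((cokernel.π g).f i) = 0
        rw [← F.map_comp, ← HomologicalComplex.comp_f, cokernel.condition]
        simp
      rw [Preadditive.sub_comp, Category.id_comp, sub_eq_zero, Category.assoc] at h2
      exact h2.symm
    haveI := hiso
    refine ⟨HomologicalComplex.Hom.isoOfComponents (fun i => asIso (φ i)) fun i l _ => ?_⟩
    haveI := hepi i
    rw [← cancel_epi (F.map ((cokernel.π g).f i))]
    simp only [asIso_hom, reassoc_of% hφ, Functor.mapHomologicalComplex_obj_d]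
    rw [β.comm]
    change F.map (Q'.d i l) ≫ β.f l = _
    rw [← F.map_comp_assoc, (cokernel.π g).comm, F.map_comp, Category.assoc, hφ]

end Main

end Groth.DAlg.LiftCx
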