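import Groth.Agent.DAlg.LiftCxModule
import Groth.Agent.Hensel1.MatrixLift
import Groth.Agent.Calg7.LiftProjective
import Groth.Agent.S3168
import Mathlib.Algebra.Module.StablyFree.Basic
import Mathlib.RingTheory.LocalRing.Module

/-!
The classes of modules whose complexes lift: projective, finite projective, finite stably free, finite free.
-/

universe u

open CategoryTheory CategoryTheory.Limits HomologicalComplex
open scoped TensorProduct

attribute [local instance] HasDerivedCategory.standard

namespace Groth.DAlg.LiftCx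

variable {R : Type u} [CommRing R] {I : Ideal R}

lemma surjective_of_le_jacobson (hI : I ≤ Ideal.jacobson ⊥) {X Y : ModuleCat.{u} R} (f : X ⟶ Y)
    [Module.Finite R Y] (h : LinearMap.range f.hom ⊔ I • (⊤ : Submodule R Y) = ⊤) : Function.Surjective f.hom :=
  LinearMap.range_eq_top.1 (top_le_iff.1
    (Submodule.le_of_le_smul_of_le_jacobson_bot Module.Finite.fg_top hI h.ge))

lemma surjective_of_isNilpotent (hI : IsNilpotent I) {X Y : ModuleCat.{u} R} (f : X ⟶ Y)
    (h : LinearMap.range f.hom ⊔ I • (⊤ : Submodule R Y) = ⊤) : Function.Surjective f.hom := by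
  have h2 : ∀ k : ℕ, (⊤ : Submodule R Y) ≤ LinearMap.range f.hom ⊔ I ^ k • ⊤ := by
    intro k
    induction k with
    | zero => simp
    | succ k ih =>
      refine h.ge.trans (sup_le le_sup_left ((Submodule.smul_mono le_rfl ih).trans ?_))
      rw [Submodule.smul_sup, ← Submodule.smul_assoc, smul_eq_mul, ← pow_succ']
      exact sup_le (Submodule.smul_le_right.trans le_sup_left) le_sup_right
  obtain ⟨k, hk⟩ := hI
  have := h2 k
  rw [hk, Submodule.zero_eq_bot, Submodule.bot_smul, sup_bot_eq] at this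
  exact LinearMap.range_eq_top.1 (top_le_iff.1 this)

/-- A lift whose reduction is free is free. -/
lemma free_of_reduction {Pc : ObjectProperty (ModuleCat.{u} R)} [Pc.IsClosedUnderIsomorphisms]
    (hG : Good (red I) Pc) (hfree : ∀ (n : ℕ), Pc (ModuleCat.of R (Fin n → R)))
    {X : ModuleCat.{u} R} (hX : Pc X) {E : ModuleCat.{u} (R ⧸ I)} (e : (red I).obj X ≅ E) [Module.Finite (R ⧸ I) E]
    [Module.Free (R ⧸ I) E] : Module.Free R X := by
  rcases subsingleton_or_nontrivial (R ⧸ I) with h | h
  · have hz : IsZero ((red I).obj X) :=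
      (@ModuleCat.isZero_of_subsingleton _ _ _ (Module.subsingleton (R ⧸ I) _))
    have : IsZero X := isZero_of_map hG (Z := ModuleCat.of R (Fin 0 → R)) (hfree 0)
      (@ModuleCat.isZero_of_subsingleton _ _ _ inferInstance) hX hz
    have := ModuleCat.subsingleton_of_isZero this
    exact inferInstance
  · obtain ⟨n, ⟨b⟩⟩ : ∃ n : ℕ, Nonempty (Module.Basis (Fin n) (R ⧸ I) E) :=
      ⟨_, ⟨Module.finBasis (R ⧸ I) E⟩⟩
    have e' : (red I).obj (ModuleCat.of R (Fin n → R)) ≅ E :=
      ((redEquiv I _).symm.trans ((TensorProduct.piScalarRight R (R ⧸ I) (R ⧸ I) (Fin n)).trans b.equivFun.symm)).toModuleIso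
    obtain ⟨i⟩ := nonempty_iso_of_map hG (hfree n) hX (e' ≪≫ e.symm)
    exact Module.Free.of_equiv i.toLinearEquiv

/-- Finite projective modules. -/
abbrev finProjClass : ObjectProperty (ModuleCat.{u} R) := fun X => Module.Finite R X ∧ Module.Projective R X

instance : (finProjClass (R := R)).IsClosedUnderIsomorphisms :=
  ⟨fun e h => ⟨have := h.1; Module.Finite.equiv e.toLinearEquiv, have := h.2; Module.Projective.of_equiv e.toLinearEquiv⟩⟩

theorem good_finProj (hI : I ≤ Ideal.jacobson ⊥) : Good (red I) (finProjClass (R := R)) :=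
  good (fun X h => h.2)
    (fun X Y _ h => by
      obtain ⟨h1, h2⟩ := h
      have h1 : Module.Finite R (X × Y) := h1
      have h2 : Module.Projective R (X × Y) := h2
      exact ⟨Module.Finite.of_surjective (LinearMap.snd R X Y) LinearMap.snd_surjective,
        Module.Projective.of_split (LinearMap.inr R X Y) (LinearMap.snd R X Y) (LinearMap.snd_comp_inr R X Y)⟩)
    (fun X Y f _ hY h => haveI := hY.1; surjective_of_le_jacobson hI f h)

lemma sum_finProj {X Y : ModuleCat.{u} R} (hX : finProjClass X) (hY : finProjClass Y) : finProjClass (X ⊞ Y) := by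
  have := hX.1
  have := hX.2
  have := hY.1
  have := hY.2
  exact ⟨Module.Finite.equiv (ModuleCat.biprodIsoProd X Y).symm.toLinearEquiv,
    Module.Projective.of_equiv (ModuleCat.biprodIsoProd X Y).symm.toLinearEquiv⟩

theorem exists_term_henselian [HenselianRing R I] {E : ModuleCat.{u} (R ⧸ I)} [Module.Finite (R ⧸ I) E]
    [Module.Projective (R ⧸ I) E] : ∃ X, finProjClass (R := R) X ∧ Nonempty ((red I).obj X ≅ E) := by
  obtain ⟨Q, _, _, hf, hp, ⟨e⟩⟩ := Calg7.LiftProj.exists_lift (B := R) (A := R ⧸ I) (fun n e he => by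
    choose l hl using fun i j => Ideal.Quotient.mk_surjective (I := I) (e i j)
    have hM : (Matrix.of l).map (Ideal.Quotient.mk I) = e := Matrix.ext fun i j => hl i j
    obtain ⟨Q, hQ, hQe⟩ := Hensel1.exists_matrix_idempotent_lift I (Matrix.of l) (hM.symm ▸ he)
    exact ⟨Q, hQ, hQe.trans hM⟩) E
  exact exists_term _ ⟨ModuleCat.of R Q, ⟨hf, hp⟩, ⟨e⟩⟩

/-- Projective modules. -/
abbrev projClass : ObjectProperty (ModuleCat.{u} R) := fun X => Module.Projective R X

instance : (projClass (R := R)).IsClosedUnderIsomorphisms :=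
  ⟨fun e h => have := h; Module.Projective.of_equiv e.toLinearEquiv⟩

theorem good_proj (hI : IsNilpotent I) : Good (red I) (projClass (R := R)) :=
  good (fun X h => h)
    (fun X Y _ h => by
      have : Module.Projective R (X × Y) := h
      exact Module.Projective.of_split (LinearMap.inr R X Y) (LinearMap.snd R X Y) (LinearMap.snd_comp_inr R X Y))
    (fun X Y f _ _ h => surjective_of_isNilpotent hI f h)

lemma sum_proj {X Y : ModuleCat.{u} R} (hX : projClass X) (hY : projClass Y) : projClass (X ⊞ Y) := by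
  have : Module.Projective R X := hX
  have : Module.Projective R Y := hY
  exact Module.Projective.of_equiv (ModuleCat.biprodIsoProd X Y).symm.toLinearEquiv

theorem exists_term_proj (hI : IsNilpotent I) {E : ModuleCat.{u} (R ⧸ I)} [Module.Projective (R ⧸ I) E] :
    ∃ X, projClass (R := R) X ∧ Nonempty ((red I).obj X ≅ E) := by
  obtain ⟨P, _, _, hp, ⟨e⟩⟩ := Groth.Agent.S3168.result I hI E
  exact exists_term _ ⟨ModuleCat.of R P, hp, ⟨e⟩⟩

/-- Finite stably free modules. -/
abbrev sfClass : ObjectProperty (ModuleCat.{u} R) := fun X => Module.Finite R X ∧ Module.IsStablyFree R X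

instance : (sfClass (R := R)).IsClosedUnderIsomorphisms :=
  ⟨fun e h => ⟨have := h.1; Module.Finite.equiv e.toLinearEquiv, have := h.2; Module.IsStablyFree.equiv e.toLinearEquiv⟩⟩

lemma sum_sf {X Y : ModuleCat.{u} R} (hX : sfClass X) (hY : sfClass Y) : sfClass (X ⊞ Y) := by
  have := hX.1
  have := hY.1
  refine ⟨Module.Finite.equiv (ModuleCat.biprodIsoProd X Y).symm.toLinearEquiv, ?_⟩
  have := hX.2
  have := hY.2
  obtain ⟨N, _, _, _, _, _⟩ := Module.IsStablyFree.exist_free_prod R X
  obtain ⟨N', _, _, _, _, _⟩ := Module.IsStablyFree.exist_free_prod R Y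
  have : Module.Free R ((X × Y) × (N × N')) := Module.Free.of_equiv (LinearEquiv.prodProdProdComm R X N Y N')
  have : Module.IsStablyFree R (X × Y) := Module.IsStablyFree.of_free_prod R (X × Y) (N × N')
  exact Module.IsStablyFree.equiv (ModuleCat.biprodIsoProd X Y).symm.toLinearEquiv

theorem good_sf (hI : I ≤ Ideal.jacobson ⊥) : Good (red I) (sfClass (R := R)) :=
  good (fun X h => haveI := h.2; inferInstance)
    (fun X Y hX h => by
      obtain ⟨h1, h2⟩ := h
      have h1 : Module.Finite R (X × Y) := h1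
      have h2 : Module.IsStablyFree R (X × Y) := h2
      have := hX.1
      have := hX.2
      obtain ⟨N, _, _, _, _, _⟩ := Module.IsStablyFree.exist_free_prod R (X × Y)
      obtain ⟨N', _, _, _, _, _⟩ := Module.IsStablyFree.exist_free_prod R X
      refine ⟨Module.Finite.of_surjective (LinearMap.snd R X Y) LinearMap.snd_surjective, ?_⟩
      have : Module.Free R (Y × ((X × N') × N)) := by
        have : Module.Free R (((X × Y) × N) × N') := inferInstance
        let e : (((X × Y) × N) × N') ≃ₗ[R] (Y × ((X × N') × N)) :=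
          { toFun := fun p => (p.1.1.2, ((p.1.1.1, p.2), p.1.2))
            invFun := fun p => (((p.2.1.1, p.1), p.2.2), p.2.1.2)
            map_add' := fun _ _ => rfl
            map_smul' := fun _ _ => rfl
            left_inv := fun _ => rfl
            right_inv := fun _ => rfl }
        exact Module.Free.of_equiv e
      exact Module.IsStablyFree.of_free_prod R Y ((X × N') × N))
    (fun X Y f _ hY h => haveI := hY.1; surjective_of_le_jacobson hI f h)

lemma sf_pi (n : ℕ) : sfClass (ModuleCat.of R (Fin n → R)) :=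
  ⟨inferInstanceAs (Module.Finite R (Fin n → R)), inferInstanceAs (Module.IsStablyFree R (Fin n → R))⟩

theorem exists_term_sf (hI : I ≤ Ideal.jacobson ⊥) {E : ModuleCat.{u} (R ⧸ I)} [Module.Finite (R ⧸ I) E]
    [Module.IsStablyFree (R ⧸ I) E] : ∃ X, sfClass (R := R) X ∧ Nonempty ((red I).obj X ≅ E) := by
  rcases subsingleton_or_nontrivial (R ⧸ I) with h | h
  · exact ⟨ModuleCat.of R (Fin 0 → R), sf_pi 0,
      ⟨(@ModuleCat.isZero_of_subsingleton _ _ _ (Module.subsingleton (R ⧸ I) _)).iso
        (@ModuleCat.isZero_of_subsingleton _ _ _ (Module.subsingleton (R ⧸ I) _))⟩⟩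
  obtain ⟨N, _, _, _, _, _⟩ := Module.IsStablyFree.exist_free_prod (R ⧸ I) E
  let bN := Module.finBasis (R ⧸ I) N
  let bM := Module.finBasis (R ⧸ I) (E × N)
  let n := Module.finrank (R ⧸ I) (E × N)
  let m := Module.finrank (R ⧸ I) N
  let v : ModuleCat.of (R ⧸ I) (E × N) ⟶ ModuleCat.of (R ⧸ I) N := ModuleCat.ofHom (LinearMap.snd (R ⧸ I) E N)
  have : Epi v := (ModuleCat.epi_iff_surjective _).2 LinearMap.snd_surjective
  let eX : (red I).obj (ModuleCat.of R (Fin n → R)) ≅ ModuleCat.of (R ⧸ I) (E × N) :=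
    ((redEquiv I _).symm.trans ((TensorProduct.piScalarRight R (R ⧸ I) (R ⧸ I) (Fin n)).trans bM.equivFun.symm)).toModuleIso
  let eY : (red I).obj (ModuleCat.of R (Fin m → R)) ≅ ModuleCat.of (R ⧸ I) N :=
    ((redEquiv I _).symm.trans ((TensorProduct.piScalarRight R (R ⧸ I) (R ⧸ I) (Fin m)).trans bN.equivFun.symm)).toModuleIso
  obtain ⟨-, K, hK, ⟨eK⟩, -⟩ := exists_kernel_lift (good_sf hI) (sf_pi n) (sf_pi m) eX eY v
  refine ⟨K, hK, ⟨eK ≪≫ ModuleCat.kernelIsoKer v ≪≫ LinearEquiv.toModuleIso ?_⟩⟩
  exact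
    { toFun := fun p => p.1.1
      invFun := fun x => ⟨(x, 0), rfl⟩
      map_add' := fun _ _ => rfl
      map_smul' := fun _ _ => rfl
      left_inv := fun p => Subtype.ext (Prod.ext rfl p.2.symm)
      right_inv := fun _ => rfl }

end Groth.DAlg.LiftCx
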