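import Groth.Agent.DAlg.LiftCx
import Groth.Agent.DAlg.Fibre
import Groth.Agent.DAlg.BaseChange

/-!
Lifting complexes of projective modules modulo an ideal.
-/

universe u

open CategoryTheory CategoryTheory.Limits HomologicalComplex
open scoped TensorProduct

attribute [local instance] HasDerivedCategory.standard

namespace Groth.DAlg.LiftCx

open FlatCxBase

variable {R : Type u} [CommRing R] (I : Ideal R)

/-- Reduction modulo `I`. -/
noncomputable abbrev red : ModuleCat.{u} R ⥤ ModuleCat.{u} (R ⧸ I) :=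
  ModuleCat.extendScalars (Ideal.Quotient.mk I)

/-- The reduction of a module as a tensor product. -/
noncomputable def redEquiv (X : ModuleCat.{u} R) :
    (R ⧸ I) ⊗[R] X ≃ₗ[R ⧸ I] (red I).obj X :=
  (extendEquiv (R ⧸ I) X).symm

lemma epi_unit (Y : ModuleCat.{u} R) :
    Epi ((ModuleCat.extendRestrictScalarsAdj.{u, u, u} (Ideal.Quotient.mk I)).unit.app Y) := by
  rw [ModuleCat.epi_iff_surjective]
  intro z
  induction z using TensorProduct.induction_on with
  | zero => exact ⟨0, map_zero _⟩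
  | tmul a m =>
    let _ : Algebra R (R ⧸ I) := (Ideal.Quotient.mk I).toAlgebra
    obtain ⟨r, rfl⟩ := Ideal.Quotient.mk_surjective a
    refine ⟨r • m, ?_⟩
    show (1 : R ⧸ I) ⊗ₜ[R] (r • m) = (Ideal.Quotient.mk I r : R ⧸ I) ⊗ₜ[R] m
    rw [← TensorProduct.smul_tmul]
    congr 1
    exact (Algebra.algebraMap_eq_smul_one r).symm
  | add u v hu hv =>
    obtain ⟨x, hx⟩ := hu
    obtain ⟨y, hy⟩ := hv
    exact ⟨x + y, (map_add _ x y).trans (congrArg₂ (· + ·) hx hy)⟩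

variable {I}

/-- The module-theoretic hypotheses give the categorical ones. -/
theorem good {Pc : ObjectProperty (ModuleCat.{u} R)} [Pc.IsClosedUnderIsomorphisms]
    (h1 : ∀ X : ModuleCat.{u} R, Pc X → Module.Projective R X)
    (h2 : ∀ X Y : ModuleCat.{u} R, Pc X → Pc (ModuleCat.of R (X × Y)) → Pc Y)
    (h3 : ∀ (X Y : ModuleCat.{u} R) (f : X ⟶ Y), Pc X → Pc Y →
      LinearMap.range f.hom ⊔ I • (⊤ : Submodule R Y) = ⊤ → Function.Surjective f.hom) :
    Good (red I) Pc where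
  proj {X} hX := (IsProjective.iff_projective X).1 (h1 X hX)
  lift {X Y} hX g := by
    have := (IsProjective.iff_projective X).1 (h1 X hX)
    have := epi_unit I Y
    exact good_lift (ModuleCat.extendRestrictScalarsAdj.{u, u, u} (Ideal.Quotient.mk I)) g
  refl {X Y} f hX hY hf := by
    rw [ModuleCat.epi_iff_surjective]
    refine h3 X Y f hX hY (eq_top_iff.2 fun y _ => ?_)
    obtain ⟨z, hz⟩ := (ModuleCat.epi_iff_surjective _).1 hf
      ((ModuleCat.extendRestrictScalarsAdj.{u, u, u} (Ideal.Quotient.mk I)).unit.app Y y)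
    obtain ⟨x, rfl⟩ := (ModuleCat.epi_iff_surjective _).1 (epi_unit I X) z
    have h : (1 : R ⧸ I) ⊗ₜ[R] (f x) = (1 : R ⧸ I) ⊗ₜ[R] y := hz
    have h0 : (1 : R ⧸ I) ⊗ₜ[R] (y - f x) = 0 := by rw [TensorProduct.tmul_sub, h, sub_self]
    have := mem_ker_smul_top (R := R) (S := R ⧸ I) Ideal.Quotient.mk_surjective _ h0
    rw [Ideal.Quotient.algebraMap_eq, Ideal.mk_ker] at this
    exact Submodule.mem_sup.2 ⟨f x, ⟨x, rfl⟩, y - f x, this, add_sub_cancel _ _⟩
  cancel {X Y} hX h := h2 X Y hX (Pc.prop_of_iso (ModuleCat.biprodIsoProd X Y) h)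

lemma exists_term (Pc : ObjectProperty (ModuleCat.{u} R)) {E : ModuleCat.{u} (R ⧸ I)}
    (h : ∃ X : ModuleCat.{u} R, Pc X ∧ Nonempty (TensorProduct R (R ⧸ I) X ≃ₗ[R ⧸ I] E)) :
    ∃ X, Pc X ∧ Nonempty ((red I).obj X ≅ E) := by
  obtain ⟨X, hX, ⟨e⟩⟩ := h
  exact ⟨X, hX, ⟨((redEquiv I X).symm.trans e).toModuleIso⟩⟩

/-- Lifting a representative of the derived reduction. -/
theorem exists_lift_rep [DRing.HasLBaseChange (Ideal.Quotient.mk I)] {Pc : ObjectProperty (ModuleCat.{u} R)}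
    [Pc.IsClosedUnderIsomorphisms] (hG : Good (red I) Pc)
    (hp : ∀ {X}, Pc X → Module.Projective R X) (hsum : ∀ {X Y}, Pc X → Pc Y → Pc (X ⊞ Y))
    (Q : DRing.Cx R) (c : ℤ) (hQc : DRing.VanishesAbove Q c) (hQ : ∀ i, Pc (Q.X i)) {K : Dual.D R}
    (e : DRing.toD Q ≅ K) (E : DRing.Cx (R ⧸ I)) (b : ℤ) (hEb : DRing.VanishesAbove E b)
    (hEt : ∀ i, ∃ X, Pc X ∧ Nonempty ((red I).obj X ≅ E.X i))
    (eE : DRing.toD E ≅ (DRing.LBaseChange (Ideal.Quotient.mk I)).obj K) :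
    ∃ (P : DRing.Cx R) (b' : ℤ), DRing.VanishesAbove P b' ∧ (∀ i : ℤ, Pc (P.X i)) ∧
      Nonempty (DRing.toD P ≅ K) ∧ Nonempty (((red I).mapHomologicalComplex (ComplexShape.up ℤ)).obj P ≅ E) := by
  obtain ⟨eQ⟩ := nonempty_lBaseChangeFlatIso (Ideal.Quotient.mk I) Q hQc fun i =>
    haveI := hp (hQ i); inferInstance
  have hproj : ∀ i, Module.Projective (R ⧸ I) ((extCx (Ideal.Quotient.mk I) Q).X i) := fun i =>
    haveI := hp (hQ i)
    Module.Projective.of_equiv (redEquiv I (Q.X i))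
  obtain ⟨α, hα⟩ := exists_map_of_projective (P := extCx (Ideal.Quotient.mk I) Q) (E := E) (b := c)
    (fun i hi => (red I).map_isZero (hQc i hi)) hproj
    (eQ.symm ≪≫ (DRing.LBaseChange (Ideal.Quotient.mk I)).mapIso e ≪≫ eE.symm).hom
  have hq : QuasiIso α := by
    rw [← DerivedCategory.isIso_Q_map_iff_quasiIso, hα]
    infer_instance
  obtain ⟨P, b', hPb, hP, ⟨eP⟩, hred⟩ := exists_lift hsum hG Q c hQc hQ E b hEb hEt α hq
  exact ⟨P, b', hPb, hP, ⟨eP ≪≫ e⟩, hred⟩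

end Groth.DAlg.LiftCx
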