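import Mathlib
import Groth.Prelude.Def_DerCA

/-!
Mittag-Leffler inverse systems of abelian groups.
-/

universe w u

open CategoryTheory CategoryTheory.Limits Opposite

namespace Groth.DAlg.MittagLeffler

variable {ι : Type w} [Preorder ι]

/-- The transition map. -/
abbrev r (F : ιᵒᵖ ⥤ AddCommGrpCat.{max w u}) {i j : ι} (h : i ≤ j) : F.obj (op j) →+ F.obj (op i) :=
  (F.map (homOfLE h).op).hom

lemma r_r (F : ιᵒᵖ ⥤ AddCommGrpCat.{max w u}) {i j k : ι} (h : i ≤ j) (h' : j ≤ k) (x : F.obj (op k)) :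
    r F h (r F h' x) = r F (h.trans h') x := by
  change (F.map (homOfLE h').op ≫ F.map (homOfLE h).op).hom x = _
  rw [← Functor.map_comp]
  rfl

lemma r_self (F : ιᵒᵖ ⥤ AddCommGrpCat.{max w u}) {i : ι} (h : i ≤ i) (x : F.obj (op i)) : r F h x = x := by
  change (F.map (𝟙 (op i))).hom x = x
  rw [CategoryTheory.Functor.map_id]
  rfl

lemma r_nat {A B : ιᵒᵖ ⥤ AddCommGrpCat.{max w u}} (u : A ⟶ B) {i j : ι} (h : i ≤ j) (x : A.obj (op j)) :
    (u.app (op i)).hom (r A h x) = r B h ((u.app (op j)).hom x) :=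
  NatTrans.naturality_apply u (homOfLE h).op x

/-- Images stabilise. -/
def ML (F : ιᵒᵖ ⥤ AddCommGrpCat.{max w u}) : Prop :=
  ∀ i, ∃ (j : ι) (h : i ≤ j), ∀ (k : ι) (h' : i ≤ k) (x : F.obj (op j)), ∃ y : F.obj (op k), r F h' y = r F h x

lemma isMittagLeffler_iff (F : ιᵒᵖ ⥤ AddCommGrpCat.{max w u}) :
    (F ⋙ forget AddCommGrpCat.{max w u}).IsMittagLeffler ↔ ML F := by
  constructor
  · intro h i
    obtain ⟨⟨j⟩, f, hf⟩ := h (op i)
    refine ⟨j, leOfHom f.unop, fun k h' x => ?_⟩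
    obtain ⟨y, hy⟩ := hf (homOfLE h').op ⟨x, rfl⟩
    exact ⟨y, hy⟩
  · intro h i
    obtain ⟨j, hij, hj⟩ := h i.unop
    refine ⟨op j, (homOfLE hij).op, fun k g => ?_⟩
    rintro _ ⟨x, rfl⟩
    obtain ⟨y, hy⟩ := hj k.unop (leOfHom g.unop) x
    exact ⟨y, hy⟩

section Directed

variable [IsDirected ι (· ≤ ·)] {A B C : ιᵒᵖ ⥤ AddCommGrpCat.{max w u}} (u : A ⟶ B) (v : B ⟶ C)

omit [IsDirected ι (· ≤ ·)] in
lemma ml_of_surjective (hv : ∀ i, Function.Surjective (v.app i).hom) (hB : ML B) : ML C := fun i => by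
  obtain ⟨j, h, hj⟩ := hB i
  refine ⟨j, h, fun k h' x => ?_⟩
  obtain ⟨b, rfl⟩ := hv (op j) x
  obtain ⟨y, hy⟩ := hj k h' b
  exact ⟨(v.app (op k)).hom y, by rw [← r_nat, hy, r_nat]⟩

lemma ml_of_extension (hv : ∀ i, Function.Surjective (v.app i).hom)
    (hex : ∀ i, (v.app i).hom.ker = (u.app i).hom.range) (hA : ML A) (hC : ML C) : ML B := fun i => by
  obtain ⟨j, hij, hj⟩ := hA i
  obtain ⟨k, hjk, hk⟩ := hC j
  refine ⟨k, hij.trans hjk, fun l hil x => ?_⟩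
  obtain ⟨l', hll', hjl'⟩ := exists_ge_ge l j
  obtain ⟨c, hc⟩ := hk l' hjl' ((v.app (op k)).hom x)
  obtain ⟨b, rfl⟩ := hv (op l') c
  have hmem : r B hjk x - r B hjl' b ∈ (u.app (op j)).hom.range := by
    rw [← hex, AddMonoidHom.mem_ker, map_sub, r_nat, r_nat, hc, sub_self]
  obtain ⟨a, ha⟩ := hmem
  obtain ⟨a', ha'⟩ := hj l hil a
  refine ⟨r B hll' b + (u.app (op l)).hom a', ?_⟩
  rw [map_add, r_r, ← r_nat, ha', r_nat, ha, map_sub, r_r, r_r, add_sub_cancel]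

end Directed

/-- An element of the limit from a compatible family. -/
lemma exists_limit_mk (F : ιᵒᵖ ⥤ AddCommGrpCat.{max w u}) (b : ∀ i, F.obj (op i))
    (hb : ∀ i j (h : i ≤ j), r F h (b j) = b i) :
    ∃ x : (limit F : AddCommGrpCat.{max w u}), ∀ i, (limit.π F (op i)).hom x = b i := by
  let c : Cone F :=
    { pt := AddCommGrpCat.of (ULift.{max w u} ℤ)
      π :=
        { app := fun i => AddCommGrpCat.ofHom ((zmultiplesHom _ (b i.unop)).comp AddEquiv.ulift.toAddMonoidHom)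
          naturality := fun i j f => by
            refine AddCommGrpCat.ext fun z => ?_
            refine Eq.trans ?_ (map_zsmul (F.map f).hom z.down (b i.unop)).symm
            exact congrArg (z.down • ·) (hb j.unop i.unop (leOfHom f.unop)).symm } }
  refine ⟨(limit.lift F c).hom ⟨1⟩, fun i => ?_⟩
  refine (ConcreteCategory.congr_hom (limit.lift_π c (op i)) (⟨1⟩ : ULift.{max w u} ℤ)).trans ?_
  exact one_zsmul _

lemma r_π (F : ιᵒᵖ ⥤ AddCommGrpCat.{max w u}) {i j : ι} (h : i ≤ j) (x : (limit F : AddCommGrpCat.{max w u})) :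
    r F h ((limit.π F (op j)).hom x) = (limit.π F (op i)).hom x :=
  ConcreteCategory.congr_hom (limit.w F (homOfLE h).op) x

section Seq

variable {A : ιᵒᵖ ⥤ AddCommGrpCat.{max w u}} (j : ℕ → ι) (hj : ∀ n, j n ≤ j (n + 1))
  (hw : ∀ n (k : ι) (h' : j n ≤ k) (x : A.obj (op (j (n + 1)))), ∃ y : A.obj (op k), r A h' y = r A (hj n) x)

include hw in
/-- Solving a telescopic system along a stabilising sequence. -/
lemma exists_seq (d : ∀ n, A.obj (op (j (n + 1)))) (a₀ : A.obj (op (j 1))) :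
    ∃ a : ∀ n, A.obj (op (j (n + 1))), a 0 = a₀ ∧
      ∀ n, r A ((hj n).trans (hj (n + 1))) (a (n + 1)) = r A (hj n) (a n - d n) := by
  choose g hg using fun n (x : A.obj (op (j (n + 1)))) => hw n (j (n + 1 + 1)) ((hj n).trans (hj (n + 1))) x
  exact ⟨fun n => Nat.rec (motive := fun n => A.obj (op (j (n + 1)))) a₀ (fun n a => g n (a - d n)) n, rfl,
    fun n => hg n _⟩

end Seq

lemma exists_cofinal [Nonempty ι] [IsDirected ι (· ≤ ·)] (hcof : ∃ s : Set ι, s.Countable ∧ ∀ i, ∃ j ∈ s, i ≤ j)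
    (P : ι → ι → Prop) (hP : ∀ i, ∃ j, i ≤ j ∧ ∀ k, j ≤ k → P i k) (i₀ : ι) :
    ∃ j : ℕ → ι, j 0 = i₀ ∧ (∀ n, j n ≤ j (n + 1)) ∧ (∀ n, P (j n) (j (n + 1))) ∧ ∀ i, ∃ n, i ≤ j n := by
  obtain ⟨s, hs, hcof⟩ := hcof
  obtain ⟨i₁, hi₁, -⟩ := hcof i₀
  obtain ⟨e, rfl⟩ := hs.exists_eq_range ⟨i₁, hi₁⟩
  choose w hw hw' using hP
  choose m hm hm' using fun a b : ι => exists_ge_ge a b
  let j : ℕ → ι := fun n => Nat.rec i₀ (fun n x => m (w x) (e n)) n
  refine ⟨j, rfl, fun n => (hw (j n)).trans (hm (w (j n)) (e n)), fun n => hw' (j n) _ (hm (w (j n)) (e n)), fun i => ?_⟩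
  obtain ⟨_, ⟨n, rfl⟩, hn⟩ := hcof i
  exact ⟨n + 1, hn.trans (hm' (w (j n)) (e n))⟩

/-- Extending a compatible family along a cofinal sequence. -/
lemma exists_limit_of_seq (F : ιᵒᵖ ⥤ AddCommGrpCat.{max w u}) (j : ℕ → ι) (hj : ∀ n, j n ≤ j (n + 1))
    (hc : ∀ i, ∃ n, i ≤ j n) (z : ∀ n, F.obj (op (j n))) (hz : ∀ n, r F (hj n) (z (n + 1)) = z n) :
    ∃ x : (limit F : AddCommGrpCat.{max w u}), ∀ n, (limit.π F (op (j n))).hom x = z n := by
  have hmono : Monotone j := monotone_nat_of_le_succ hj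
  have hzz : ∀ n m (h : n ≤ m), r F (hmono h) (z m) = z n := fun n m h => by
    induction m, h using Nat.le_induction with
    | base => exact r_self F _ _
    | succ m hm ih => rw [← ih, ← hz m, r_r]
  choose n hn using hc
  have hb : ∀ i m (h : i ≤ j m), r F h (z m) = r F (hn i) (z (n i)) := fun i m h => by
    rw [← hzz m (max m (n i)) (le_max_left _ _), ← hzz (n i) (max m (n i)) (le_max_right _ _), r_r, r_r]
  obtain ⟨x, hx⟩ := exists_limit_mk F (fun i => r F (hn i) (z (n i))) fun i k h => by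
    rw [r_r]
    exact hb i (n k) (h.trans (hn k))
  exact ⟨x, fun m => by rw [hx, ← hb (j m) m le_rfl, r_self]⟩

variable [Nonempty ι] [IsDirected ι (· ≤ ·)]

/-- Lifting compatible families along Mittag-Leffler kernels. -/
theorem exists_lift (hcof : ∃ s : Set ι, s.Countable ∧ ∀ i, ∃ j ∈ s, i ≤ j) {A B C : ιᵒᵖ ⥤ AddCommGrpCat.{max w u}}
    (u : A ⟶ B) (v : B ⟶ C) (hex : ∀ i, (v.app i).hom.ker = (u.app i).hom.range) (hA : ML A)
    (c : (limit C : AddCommGrpCat.{max w u})) (hc : ∀ i, ∃ b, (v.app (op i)).hom b = (limit.π C (op i)).hom c) :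
    ∃ x : (limit B : AddCommGrpCat.{max w u}), (limMap v).hom x = c := by
  obtain ⟨i₀⟩ := ‹Nonempty ι›
  obtain ⟨j, -, hj, hw, hcf⟩ := exists_cofinal hcof
    (fun i w => ∀ h : i ≤ w, ∀ (k : ι) (h' : i ≤ k) (x : A.obj (op w)), ∃ y : A.obj (op k), r A h' y = r A h x)
    (fun i => by
      obtain ⟨w, hiw, hw⟩ := hA i
      refine ⟨w, hiw, fun w' hww' h k h' x => ?_⟩
      obtain ⟨y, hy⟩ := hw k h' (r A hww' x)
      exact ⟨y, by rw [hy, r_r]⟩) i₀
  choose b hb using fun n => hc (j n)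
  let y : ∀ n, B.obj (op (j n)) := fun n => r B (hj n) (b (n + 1))
  have hd : ∀ n, ∃ a : A.obj (op (j (n + 1))), (u.app _).hom a = r B (hj (n + 1)) (b (n + 2)) - b (n + 1) := fun n => by
    refine AddMonoidHom.mem_range.1 ?_
    rw [← hex, AddMonoidHom.mem_ker, map_sub, r_nat, hb, hb, r_π, sub_self]
  choose d hd using hd
  obtain ⟨a, -, ha⟩ := exists_seq j hj (fun n => hw n (hj n)) d 0
  obtain ⟨x, hx⟩ := exists_limit_of_seq B j hj hcf (fun n => y n + (u.app _).hom (r A (hj n) (a n))) fun n => by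
    rw [map_add, ← r_nat, r_r A, ha n, map_sub, map_sub, r_nat, r_nat, hd, map_sub, r_r]
    simp only [y, r_r]
    abel
  refine ⟨x, Concrete.limit_ext _ _ _ fun i => ?_⟩
  obtain ⟨n, hn⟩ := hcf i.unop
  have h1 : (limit.π C i).hom ((limMap v).hom x) = (v.app i).hom ((limit.π B i).hom x) :=
    ConcreteCategory.congr_hom (limMap_π v i) x
  have hz : ∀ a, (v.app (op (j n))).hom ((u.app (op (j n))).hom a) = 0 := fun a => by
    rw [← AddMonoidHom.mem_ker, hex]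
    exact ⟨a, rfl⟩
  refine h1.trans ?_
  obtain ⟨i⟩ := i
  rw [← r_π B hn, r_nat, hx, map_add, hz, add_zero, r_nat, hb, r_π, r_π]

/-- The projection from the limit hits the stable image. -/
theorem range_π_eq (hcof : ∃ s : Set ι, s.Countable ∧ ∀ i, ∃ j ∈ s, i ≤ j) (F : ιᵒᵖ ⥤ AddCommGrpCat.{max w u})
    (hF : ML F) (i₀ : ι) :
    (limit.π F (op i₀)).hom.range = ⨅ (k : ι) (h : i₀ ≤ k), (r F h).range := by
  refine le_antisymm ?_ fun x hx => ?_
  · rintro _ ⟨c, rfl⟩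
    simp only [AddSubgroup.mem_iInf]
    exact fun k h => ⟨_, r_π F h c⟩
  simp only [AddSubgroup.mem_iInf] at hx
  obtain ⟨j, hj0, hj, hw, hcf⟩ := exists_cofinal hcof
    (fun i w => ∀ h : i ≤ w, ∀ (k : ι) (h' : i ≤ k) (x : F.obj (op w)), ∃ y : F.obj (op k), r F h' y = r F h x)
    (fun i => by
      obtain ⟨w, hiw, hw⟩ := hF i
      refine ⟨w, hiw, fun w' hww' h k h' x => ?_⟩
      obtain ⟨y, hy⟩ := hw k h' (r F hww' x)
      exact ⟨y, by rw [hy, r_r]⟩) i₀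
  subst hj0
  obtain ⟨a₀, rfl⟩ := hx (j 1) (hj 0)
  obtain ⟨a, ha0, ha⟩ := exists_seq j hj (fun n => hw n (hj n)) 0 a₀
  obtain ⟨c, hc⟩ := exists_limit_of_seq F j hj hcf (fun n => r F (hj n) (a n)) fun n => by
    rw [r_r, ha n, Pi.zero_apply, sub_zero]
  exact ⟨c, by rw [hc 0, ha0]⟩

end Groth.DAlg.MittagLeffler
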