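import Groth.Agent.DAlg.MittagLeffler

/-!
Mittag-Leffler towers of abelian groups.
-/

universe u

open CategoryTheory CategoryTheory.Limits Opposite

namespace Groth.DAlg.MittagLefflerNat

open MittagLeffler

variable {A B C : ℕᵒᵖ ⥤ AddCommGrpCat.{u}}

lemma cof : ∃ s : Set ℕ, s.Countable ∧ ∀ i, ∃ j ∈ s, i ≤ j :=
  ⟨Set.univ, Set.countable_univ, fun i => ⟨i, Set.mem_univ i, le_rfl⟩⟩

lemma range_le (F : ℕᵒᵖ ⥤ AddCommGrpCat.{u}) {i j k : ℕ} (h : i ≤ j) (h' : j ≤ k) :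
    (r F (h.trans h')).range ≤ (r F h).range := by
  rintro _ ⟨x, rfl⟩
  exact ⟨r F h' x, r_r F h h' x⟩

/-- Graded criterion. -/
theorem ml_iff_graded (F : ℕᵒᵖ ⥤ AddCommGrpCat.{u}) : ML F ↔
    ((∃ k₀ : ℕ, ∀ (k : ℕ) (_ : k₀ ≤ k), (r F (Nat.zero_le k)).range = (r F (Nat.zero_le k₀)).range) ∧
      ∀ p : ℕ, ∃ k₀ : ℕ, ∃ h₀ : p + 1 ≤ k₀, ∀ (k : ℕ) (hk : k₀ ≤ k),
        (r F (h₀.trans hk)).range ⊓ (r F (Nat.le_succ p)).ker = (r F h₀).range ⊓ (r F (Nat.le_succ p)).ker) := by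
  have key : ∀ (p k₀ : ℕ) (h₀ : p ≤ k₀), (∀ (k : ℕ) (h : p ≤ k) (x : F.obj (op k₀)), ∃ y, r F h y = r F h₀ x) →
      ∀ (k : ℕ) (hk : k₀ ≤ k), (r F (h₀.trans hk)).range = (r F h₀).range := fun p k₀ h₀ h k hk =>
    le_antisymm (range_le F h₀ hk) (by
      rintro _ ⟨x, rfl⟩
      exact h k (h₀.trans hk) x)
  constructor
  · intro h
    refine ⟨?_, fun p => ?_⟩
    · obtain ⟨k₀, h₀, hk₀⟩ := h 0
      exact ⟨k₀, fun k hk => key 0 k₀ h₀ hk₀ k hk⟩
    · obtain ⟨k₀, h₀, hk₀⟩ := h (p + 1)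
      exact ⟨k₀, h₀, fun k hk => by rw [key _ k₀ h₀ hk₀ k hk]⟩
  · rintro ⟨⟨w₀, hw₀⟩, hgr⟩ i
    induction i with
    | zero =>
      refine ⟨w₀, Nat.zero_le _, fun k _ x => ?_⟩
      have hx : r F (Nat.zero_le w₀) x ∈ (r F (Nat.zero_le (max k w₀))).range := by
        rw [hw₀ _ (le_max_right _ _)]
        exact ⟨x, rfl⟩
      obtain ⟨y, hy⟩ := hx
      exact ⟨r F (le_max_left k w₀) y, by rw [r_r]; exact hy⟩
    | succ p ih =>
      obtain ⟨w, hpw, hw⟩ := ih
      obtain ⟨k₀, h₀, hk₀⟩ := hgr p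
      let W := max w k₀
      have hpW : p + 1 ≤ W := h₀.trans (le_max_right _ _)
      refine ⟨W, hpW, fun l hl x => ?_⟩
      let m := max l k₀
      obtain ⟨z, hz⟩ := hw m (((Nat.le_succ p).trans hl).trans (le_max_left _ _)) (r F (le_max_left _ _) x)
      rw [r_r] at hz
      have hm : p + 1 ≤ m := hl.trans (le_max_left _ _)
      have hd : r F hpW x - r F hm z ∈ (r F h₀).range ⊓ (r F (Nat.le_succ p)).ker := by
        refine ⟨⟨r F (le_max_right w k₀) x - r F (le_max_right l k₀) z, by rw [map_sub, r_r, r_r]⟩, ?_⟩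
        show r F (Nat.le_succ p) _ = 0
        rw [map_sub, r_r, r_r]
        exact sub_eq_zero.2 hz.symm
      rw [← hk₀ m (le_max_right l k₀)] at hd
      obtain ⟨⟨d, hd⟩, -⟩ := hd
      refine ⟨r F (le_max_left l k₀) (d + z), ?_⟩
      rw [r_r, map_add, hd, sub_add_cancel]

/-- Four-term sequences. -/
theorem ker_limMap_eq {D : ℕᵒᵖ ⥤ AddCommGrpCat.{u}} (a : A ⟶ B) (b : B ⟶ C) (c : C ⟶ D)
    (hB : ∀ i, (b.app i).hom.ker = (a.app i).hom.range) (hC : ∀ i, (c.app i).hom.ker = (b.app i).hom.range)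
    (hA : ML A) : (limMap c).hom.ker = (limMap b).hom.range := by
  have h1 : ∀ {X Y : ℕᵒᵖ ⥤ AddCommGrpCat.{u}} (f : X ⟶ Y) (i : ℕᵒᵖ) (x : (limit X : AddCommGrpCat.{u})),
      (limit.π Y i).hom ((limMap f).hom x) = (f.app i).hom ((limit.π X i).hom x) := fun f i x =>
    ConcreteCategory.congr_hom (limMap_π f i) x
  refine le_antisymm (fun z hz => ?_) ?_
  · obtain ⟨x, hx⟩ := exists_lift cof a b hB hA z fun i => by
      refine AddMonoidHom.mem_range.1 ?_
      rw [← hC, AddMonoidHom.mem_ker, ← h1]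
      rw [AddMonoidHom.mem_ker.1 hz, map_zero]
    exact ⟨x, hx⟩
  · rintro _ ⟨x, rfl⟩
    refine AddMonoidHom.mem_ker.2 (Concrete.limit_ext _ _ _ fun i => ?_)
    refine (h1 c i _).trans ?_
    rw [h1 b i]
    have : (b.app i).hom ((limit.π B i).hom x) ∈ (c.app i).hom.ker := by rw [hC]; exact ⟨_, rfl⟩
    exact (AddMonoidHom.mem_ker.1 this).trans (map_zero (limit.π D i).hom).symm

/-- Essentially constant systems. -/
theorem ml_of_essConstant {C : ℕᵒᵖ ⥤ AddCommGrpCat.{u}}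
    (hC : ∃ (C₀ : AddCommGrpCat.{u}) (c : (Functor.const ℕᵒᵖ).obj C₀ ⟶ C), DerCA.IsEssConstant C C₀ c) : ML C := by
  obtain ⟨C₀, c, i₀, s, -, hfac⟩ := hC
  choose K hiK hjK hK using hfac
  intro i
  refine ⟨K i, hjK i, fun k h' x => ⟨(c.app (op k)).hom (s.hom (r C (hiK i) x)), ?_⟩⟩
  exact ((NatTrans.naturality_apply c (homOfLE h').op _).symm.trans rfl).trans
    (ConcreteCategory.congr_hom (hK i) x).symm

/-- Extensions by essentially constant systems. -/
theorem ml_iff_of_essConstant (a : A ⟶ B) (b : B ⟶ C) (ha : ∀ i, Function.Injective (a.app i).hom)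
    (hb : ∀ i, Function.Surjective (b.app i).hom) (hex : ∀ i, (b.app i).hom.ker = (a.app i).hom.range)
    (hC : ∃ (C₀ : AddCommGrpCat.{u}) (c : (Functor.const ℕᵒᵖ).obj C₀ ⟶ C), DerCA.IsEssConstant C C₀ c) :
    ML A ↔ ML B := by
  have hCml := ml_of_essConstant hC
  obtain ⟨C₀, c, i₀, s, -, hfac⟩ := hC
  choose K hiK hjK hK using hfac
  have hKx : ∀ (j : ℕ) (x : C.obj (op (K j))),
      r C (hjK j) x = (c.app (op j)).hom (s.hom (r C (hiK j) x)) := fun j x => ConcreteCategory.congr_hom (hK j) x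
  have hc : ∀ {i j : ℕ} (h : i ≤ j) (z : C₀), r C h ((c.app (op j)).hom z) = (c.app (op i)).hom z := fun h z =>
    (NatTrans.naturality_apply c (homOfLE h).op z).symm.trans rfl
  refine ⟨fun hA => ml_of_extension a b hb hex hA hCml, fun hB i => ?_⟩
  obtain ⟨j, hij, hj⟩ := hB (max i i₀)
  refine ⟨j, (le_max_left _ _).trans hij, fun l hl x => ?_⟩
  let l' := max l (max i i₀)
  let m := max l' (K l')
  obtain ⟨y, hy⟩ := hj m ((le_max_right _ _).trans (le_max_left _ _)) ((a.app (op j)).hom x)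
  have hm : l' ≤ m := le_max_left _ _
  have hy0 : (b.app (op l')).hom (r B hm y) = 0 := by
    rw [r_nat]
    rw [← r_r C (hjK l') (le_max_right l' (K l')), hKx, r_r]
    have h1 : r C (show max i i₀ ≤ m from (le_max_right _ _).trans hm) ((b.app (op m)).hom y) = 0 := by
      rw [← r_nat, hy, r_nat]
      have : (b.app (op j)).hom ((a.app (op j)).hom x) = 0 := by
        rw [← AddMonoidHom.mem_ker, hex]
        exact ⟨x, rfl⟩
      rw [this, map_zero]
    rw [← r_r C (le_max_right i i₀) (show max i i₀ ≤ m from (le_max_right _ _).trans hm), h1, map_zero, map_zero,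
      map_zero]
  rw [← AddMonoidHom.mem_ker, hex] at hy0
  obtain ⟨z, hz⟩ := hy0
  refine ⟨r A (le_max_left l (max i i₀)) z, ?_⟩
  rw [r_r]
  rw [← r_r A (le_max_left i i₀) (show max i i₀ ≤ l' from le_max_right _ _), ← r_r A (le_max_left i i₀) hij]
  refine congrArg _ (ha (op (max i i₀)) ?_)
  rw [r_nat, r_nat, hz, r_r, hy]

/-- Eventually surjective towers. -/
theorem eventually_surjective (G : ℕᵒᵖ ⥤ AddCommGrpCat.{u}) (j₀ : ℕ)
    (hs : ∀ j : ℕ, j₀ ≤ j → Function.Surjective (r G (Nat.le_succ j))) :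
    ML G ∧ Function.Surjective (fun s : (G ⋙ forget AddCommGrpCat.{u}).sections => s.1 (op j₀)) ∧
      ((∀ j : ℕ, j₀ ≤ j → Function.Injective (r G (Nat.le_succ j))) →
        Function.Bijective (fun s : (G ⋙ forget AddCommGrpCat.{u}).sections => s.1 (op j₀))) := by
  have hsurj : ∀ {i j : ℕ} (h : i ≤ j), j₀ ≤ i → Function.Surjective (r G h) := fun {i j} h hi => by
    induction j, h using Nat.le_induction with
    | base => exact fun x => ⟨x, r_self G _ x⟩
    | succ m hm ih =>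
      intro x
      obtain ⟨y, rfl⟩ := ih x
      obtain ⟨z, rfl⟩ := hs m (hi.trans hm) y
      exact ⟨z, (r_r G hm (Nat.le_succ m) z).symm⟩
  have hml : ML G := fun i => ⟨max i j₀, le_max_left _ _, fun k h x => by
    obtain ⟨y, hy⟩ := hsurj (le_max_right k (max i j₀)) (le_max_right _ _) x
    exact ⟨r G (le_max_left _ _) y, by rw [r_r, ← hy, r_r]⟩⟩
  have h2 : Function.Surjective (fun s : (G ⋙ forget AddCommGrpCat.{u}).sections => s.1 (op j₀)) := fun x => by
    have hx : x ∈ (limit.π G (op j₀)).hom.range := by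
      rw [range_π_eq cof G hml j₀]
      simp only [AddSubgroup.mem_iInf]
      exact fun k h => hsurj h le_rfl x
    obtain ⟨c, hc⟩ := hx
    exact ⟨⟨fun i => (limit.π G i).hom c, fun {i j} f => ConcreteCategory.congr_hom (limit.w G f) c⟩, hc⟩
  refine ⟨hml, h2, fun hi => ⟨fun s t hst => ?_, h2⟩⟩
  have hinj : ∀ {i j : ℕ} (h : i ≤ j), j₀ ≤ i → Function.Injective (r G h) := fun {i j} h hi' => by
    induction j, h using Nat.le_induction with
    | base => exact fun x y e => by rwa [r_self, r_self] at e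
    | succ m hm ih =>
      intro x y e
      rw [← r_r G hm (Nat.le_succ m), ← r_r G hm (Nat.le_succ m)] at e
      exact hi m (hi'.trans hm) (ih e)
  refine Subtype.ext (funext fun ⟨k⟩ => ?_)
  have h3 : ∀ (q : (G ⋙ forget AddCommGrpCat.{u}).sections) {i j : ℕ} (h : i ≤ j),
      r G h (q.1 (op j)) = q.1 (op i) := fun q i j h => q.2 (homOfLE h).op
  rw [← h3 s (le_max_left k j₀), ← h3 t (le_max_left k j₀)]
  refine congrArg _ (hinj (le_max_right k j₀) le_rfl ?_)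
  rw [h3, h3]
  exact hst

end Groth.DAlg.MittagLefflerNat
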