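import Groth.Agent.DAlg.BaseChange
import Groth.Agent.DerivedAdj.Basic
import Mathlib.RingTheory.Nilpotent.Basic

/-!
Vanishing of `⊗ᴸ M` along extensions of modules; perfectness along nilpotent thickenings.
-/

universe u

open CategoryTheory CategoryTheory.Limits CategoryTheory.Pretriangulated HomologicalComplex MonoidalCategory
open scoped TensorProduct

attribute [local instance] HasDerivedCategory.standard
set_option linter.style.haveILetI false

namespace Groth.DAlg

open FlatCxBase PCohPunctual

variable {R S : Type u} [CommRing R] [CommRing S]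

section Dévissage

variable (P : DRing.Cx R) (j : ℤ)

lemma isZero_tensor_of_linearEquiv {M N : Type u} [AddCommGroup M] [Module R M] [AddCommGroup N] [Module R N]
    (e : M ≃ₗ[R] N) (h : IsZero ((DRing.tensorCx P (ModuleCat.of R M)).homology j)) :
    IsZero ((DRing.tensorCx P (ModuleCat.of R N)).homology j) :=
  h.of_iso ((homologyFunctor _ _ j).mapIso ((NatIso.mapHomologicalComplex
    ((tensoringRight (ModuleCat.{u} R)).mapIso e.toModuleIso) (ComplexShape.up ℤ)).app P)).symm

lemma isZero_tensor_ext [∀ i, Module.Flat R (P.X i)] {N M Q : Type u} [AddCommGroup N] [Module R N]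
    [AddCommGroup M] [Module R M] [AddCommGroup Q] [Module R Q] (f : N →ₗ[R] M) (g : M →ₗ[R] Q)
    (hf : Function.Injective f) (hex : Function.Exact f g) (hg : Function.Surjective g)
    (hN : IsZero ((DRing.tensorCx P (ModuleCat.of R N)).homology j))
    (hQ : IsZero ((DRing.tensorCx P (ModuleCat.of R Q)).homology j)) :
    IsZero ((DRing.tensorCx P (ModuleCat.of R M)).homology j) := by
  refine (isZero_T_iff P (cochain_prev j) (cochain_next j) _).2 fun x hx => ?_
  obtain ⟨w, hw⟩ := (isZero_T_iff P (cochain_prev j) (cochain_next j) _).1 hQ (g.lTensor (P.X j) x) (by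
    show (P.d j (j + 1)).hom.rTensor Q _ = 0
    rw [← lTensor_rTensor, hx, map_zero])
  obtain ⟨w', rfl⟩ := LinearMap.lTensor_surjective (P.X (j - 1)) hg w
  have h1 : g.lTensor (P.X j) (x - (P.d (j - 1) j).hom.rTensor M w') = 0 := by
    rw [map_sub, lTensor_rTensor, sub_eq_zero]
    exact hw.symm
  obtain ⟨y, hy⟩ := (lTensor_exact (P.X j) hex hg _).1 h1
  obtain ⟨v, hv⟩ := (isZero_T_iff P (cochain_prev j) (cochain_next j) _).1 hN y (by
    show (P.d j (j + 1)).hom.rTensor N _ = 0
    apply Module.Flat.lTensor_preserves_injective_linearMap (M := P.X (j + 1)) f hf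
    rw [map_zero, lTensor_rTensor, hy, map_sub, hx, rTensor_d_d, sub_zero])
  refine ⟨f.lTensor (P.X (j - 1)) v + w', ?_⟩
  show (P.d (j - 1) j).hom.rTensor M _ = x
  rw [map_add, ← lTensor_rTensor, hv, hy, sub_add_cancel]

lemma isZero_tensor_of_subsingleton (M : Type u) [AddCommGroup M] [Module R M] [Subsingleton M] :
    IsZero ((DRing.tensorCx P (ModuleCat.of R M)).homology j) :=
  (isZero_T_iff P (cochain_prev j) (cochain_next j) _).2 fun _ _ => ⟨0, Subsingleton.elim _ _⟩

/-- If `H^j(P ⊗ M) = 0` for modules killed by a nilpotent ideal then for all modules. -/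
theorem isZero_tensor_of_nilpotent [∀ i, Module.Flat R (P.X i)] (I : Ideal R) (hI : IsNilpotent I)
    (h : ∀ (M : Type u) [AddCommGroup M] [Module R M], I • (⊤ : Submodule R M) = ⊥ →
      IsZero ((DRing.tensorCx P (ModuleCat.of R M)).homology j))
    (M : Type u) [AddCommGroup M] [Module R M] :
    IsZero ((DRing.tensorCx P (ModuleCat.of R M)).homology j) := by
  suffices ∀ (k : ℕ) (M : Type u) [AddCommGroup M] [Module R M], I ^ k • (⊤ : Submodule R M) = ⊥ →
      IsZero ((DRing.tensorCx P (ModuleCat.of R M)).homology j) by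
    obtain ⟨k, hk⟩ := hI
    exact this k M (by rw [hk, Submodule.zero_eq_bot, Submodule.bot_smul])
  intro k
  induction k with
  | zero =>
    intro M _ _ hM
    rw [pow_zero, Ideal.one_eq_top, Submodule.top_smul] at hM
    have : Subsingleton M := (Submodule.subsingleton_iff R).1 (subsingleton_of_bot_eq_top hM.symm)
    exact isZero_tensor_of_subsingleton P j M
  | succ k ih =>
    intro M _ _ hM
    let N : Submodule R M := I • ⊤
    refine isZero_tensor_ext P j N.subtype N.mkQ Subtype.val_injective (LinearMap.exact_subtype_mkQ N)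
      N.mkQ_surjective (ih N ?_) (h _ ?_)
    · refine Submodule.map_injective_of_injective (Submodule.injective_subtype N) ?_
      rw [Submodule.map_smul'', Submodule.map_top, Submodule.range_subtype, Submodule.map_bot]
      show I ^ k • (I • (⊤ : Submodule R M)) = ⊥
      rwa [← Submodule.smul_assoc, smul_eq_mul, ← pow_succ]
    · rw [← Submodule.range_mkQ N, LinearMap.range_eq_map, ← Submodule.map_smul'', Submodule.mkQ_map_self]

end Dévissage

/-- Termwise extension of scalars preserves K-projectives. -/
lemma isKProjective_extCx (φ : R →+* S) (P : DRing.Cx R) [P.IsKProjective] :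
    CochainComplex.IsKProjective (extCx φ P) := by
  rw [CochainComplex.isKProjective_iff_leftOrthogonal]
  intro L f hL
  let adj := DerivedAdj.mapHomotopyCategoryAdj (ModuleCat.extendRestrictScalarsAdj φ) (ComplexShape.up ℤ)
  let G := (ModuleCat.restrictScalars.{u} φ).mapHomotopyCategory (ComplexShape.up ℤ)
  have hG : (HomotopyCategory.subcategoryAcyclic (ModuleCat.{u} R)) (G.obj L) := by
    obtain ⟨L, rfl⟩ := HomotopyCategory.quotient_obj_surjective L
    rw [HomotopyCategory.quotient_obj_mem_subcategoryAcyclic_iff_acyclic] at hL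
    change HomotopyCategory.subcategoryAcyclic _ ((HomotopyCategory.quotient _ _).obj
      (((ModuleCat.restrictScalars.{u} φ).mapHomologicalComplex (ComplexShape.up ℤ)).obj L))
    rw [HomotopyCategory.quotient_obj_mem_subcategoryAcyclic_iff_acyclic]
    exact fun i => (hL i).map (ModuleCat.restrictScalars.{u} φ)
  refine (adj.homEquiv _ _).injective ?_
  exact ((CochainComplex.IsKProjective.leftOrthogonal P) _ hG).trans
    ((CochainComplex.IsKProjective.leftOrthogonal P) (adj.homEquiv _ _ 0) hG).symm

/-- A finite module over a ring with nilpotent ideal. -/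
lemma finite_of_tensor_nilpotent [Algebra R S] (hS : Function.Surjective (algebraMap R S))
    (hI : IsNilpotent (RingHom.ker (algebraMap R S))) (Q : Type u) [AddCommGroup Q] [Module R Q]
    [Module.Finite S (S ⊗[R] Q)] : Module.Finite R Q := by
  obtain ⟨s, hs⟩ := Module.Finite.fg_top (R := S) (M := S ⊗[R] Q)
  have hθ : Function.Surjective (TensorProduct.mk R S Q 1) := by
    intro z
    induction z with
    | zero => exact ⟨0, map_zero _⟩
    | tmul c q =>
      obtain ⟨c, rfl⟩ := hS c
      exact ⟨c • q, by simp [TensorProduct.smul_tmul', Algebra.algebraMap_eq_smul_one]⟩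
    | add u v hu hv =>
      obtain ⟨a, rfl⟩ := hu
      obtain ⟨b, rfl⟩ := hv
      exact ⟨a + b, map_add _ _ _⟩
  choose l hl using hθ
  classical
  let N : Submodule R Q := Submodule.span R ((s.image l : Finset Q) : Set Q)
  let I := RingHom.ker (algebraMap R S)
  have h1 : (⊤ : Submodule R Q) ≤ N ⊔ I • ⊤ := by
    intro x _
    have hx : (1 : S) ⊗ₜ[R] x ∈ (Submodule.span S (s : Set (S ⊗[R] Q))).restrictScalars R := by
      rw [hs]; trivial
    rw [Submodule.restrictScalars_span R S hS] at hx
    have hle : Submodule.span R (s : Set (S ⊗[R] Q)) ≤ N.map (TensorProduct.mk R S Q 1) := by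
      rw [Submodule.span_le]
      intro z hz
      exact ⟨l z, Submodule.subset_span (Finset.mem_coe.2 (Finset.mem_image_of_mem l hz)), hl z⟩
    obtain ⟨y, hy, hyx⟩ := hle hx
    refine Submodule.mem_sup.2 ⟨y, hy, x - y, ?_, by abel⟩
    have hex : Function.Exact I.subtype (Algebra.linearMap R S) := fun r => by
      simp [I, RingHom.mem_ker]
    obtain ⟨t, ht⟩ := (rTensor_exact Q hex hS ((1 : R) ⊗ₜ[R] (x - y))).1 (by
      show (Algebra.linearMap R S 1) ⊗ₜ[R] (x - y) = 0
      rw [Algebra.linearMap_apply, map_one, TensorProduct.tmul_sub, sub_eq_zero]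
      exact hyx.symm)
    have key : ∀ t, TensorProduct.lid R Q (I.subtype.rTensor Q t) ∈ I • (⊤ : Submodule R Q) := fun t => by
      induction t with
      | zero => simp
      | tmul i q => simpa using Submodule.smul_mem_smul i.2 (Submodule.mem_top (x := q))
      | add u v hu hv => rw [map_add, map_add]; exact add_mem hu hv
    simpa [ht] using key t
  have h2 : ∀ k : ℕ, (⊤ : Submodule R Q) ≤ N ⊔ I ^ k • ⊤ := by
    intro k
    induction k with
    | zero => simp
    | succ k ih =>
      refine h1.trans (sup_le le_sup_left ((Submodule.smul_mono le_rfl ih).trans ?_))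
      rw [Submodule.smul_sup, ← Submodule.smul_assoc, smul_eq_mul, ← pow_succ']
      exact sup_le (Submodule.smul_le_right.trans le_sup_left) le_sup_right
  obtain ⟨k, hk⟩ := hI
  refine ⟨⟨s.image l, top_le_iff.1 ?_⟩⟩
  have := h2 k
  rw [hk, Submodule.zero_eq_bot, Submodule.bot_smul, sup_bot_eq] at this
  exact this

end Groth.DAlg
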