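import Groth.Agent.DAlg.NilpotentPerfect

/-!
Tor amplitude and pseudo-coherence along nilpotent thickenings.
-/

universe u

open CategoryTheory CategoryTheory.Limits CategoryTheory.Pretriangulated HomologicalComplex MonoidalCategory
open scoped TensorProduct

attribute [local instance] HasDerivedCategory.standard
set_option linter.style.haveILetI false

namespace Groth.DAlg

open FlatCxBase PCohPunctual

variable {R S : Type u} [CommRing R] [CommRing S] [Algebra R S]

/-- Modules killed by the kernel of a surjection are modules over the quotient. -/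
lemma exists_module_of_killed (hS : Function.Surjective (algebraMap R S)) (M : Type u) [AddCommGroup M] [Module R M]
    (hM : RingHom.ker (algebraMap R S) • (⊤ : Submodule R M) = ⊥) : ∃ _ : Module S M, IsScalarTower R S M := by
  have hker : ∀ r ∈ RingHom.ker (algebraMap R S), ∀ x : M, r • x = 0 := fun r hr x =>
    (Submodule.mem_bot R).1 (hM ▸ Submodule.smul_mem_smul hr Submodule.mem_top)
  let σ := Function.surjInv hS
  have hσ : ∀ s, algebraMap R S (σ s) = s := Function.surjInv_eq hS
  have hcongr : ∀ (r r' : R), algebraMap R S r = algebraMap R S r' → ∀ x : M, r • x = r' • x := fun r r' h x => by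
    rw [← sub_eq_zero, ← sub_smul]
    exact hker _ (by rw [RingHom.mem_ker, map_sub, h, sub_self]) x
  let m : Module S M :=
    { smul := fun s x => σ s • x
      one_smul := fun x => (hcongr _ 1 (by rw [hσ, map_one]) x).trans (one_smul R x)
      mul_smul := fun s t x => (hcongr _ (σ s * σ t) (by simp [hσ]) x).trans (mul_smul _ _ x)
      smul_zero := fun s => smul_zero (σ s)
      smul_add := fun s => smul_add (σ s)
      add_smul := fun s t x => (hcongr _ (σ s + σ t) (by simp [hσ]) x).trans (add_smul _ _ x)
      zero_smul := fun x => (hcongr _ 0 (by simp [hσ]) x).trans (zero_smul R x) }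
  refine ⟨m, ⟨fun r s x => ?_⟩⟩
  show σ (r • s) • x = r • σ s • x
  rw [← mul_smul]
  exact hcongr _ _ (by simp [hσ, Algebra.smul_def]) x

section

variable [DRing.HasLBaseChange (algebraMap R S)] (hS : Function.Surjective (algebraMap R S))
  (hI : IsNilpotent (RingHom.ker (algebraMap R S))) (K : Dual.D R)

include hS hI in
/-- The derived tensor products of a lift vanish where those of its reduction do. -/
theorem subsingleton_lTensor_of_nilpotent [∀ M : ModuleCat.{u} R, DRing.HasLTensor R M]
    [∀ N : ModuleCat.{u} S, DRing.HasLTensor S N] (j : ℤ)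
    (h : ∀ N : ModuleCat.{u} S,
      Subsingleton (Dual.HD S ((DRing.LTensor S N).obj ((DRing.LBaseChange (algebraMap R S)).obj K)) j))
    (M : ModuleCat.{u} R) : Subsingleton (Dual.HD R ((DRing.LTensor R M).obj K) j) := by
  obtain ⟨P, hP, hfree, ⟨e⟩⟩ := exists_kProjective_rep K
  haveI := hP
  haveI : ∀ i, Module.Flat R (P.X i) := fun i => haveI := hfree i; inferInstance
  haveI := isKProjective_extCx (algebraMap R S) P
  let eb := (DRing.LBaseChange (algebraMap R S)).mapIso e.symm ≪≫ lBaseChangeIso (algebraMap R S) P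
  have hz : ∀ (M : Type u) [AddCommGroup M] [Module R M], RingHom.ker (algebraMap R S) • (⊤ : Submodule R M) = ⊥ →
      IsZero ((DRing.tensorCx P (ModuleCat.of R M)).homology j) := by
    intro M _ _ hM
    obtain ⟨_, _⟩ := exists_module_of_killed hS M hM
    have h1 := h (ModuleCat.of S M)
    exact (isZero_extCx_tensor_iff P M j).1 (isZero_homology_of_subsingleton
      (HDCongr ((DRing.LTensor S _).mapIso eb ≪≫ lTensorIso (ModuleCat.of S M) (extCx (algebraMap R S) P)) j).symm.toEquiv.subsingleton)
  have := subsingleton_HD_toD (isZero_tensor_of_nilpotent P j _ hI hz M)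
  exact (HDCongr ((DRing.LTensor R M).mapIso e.symm ≪≫ lTensorIso M P) j).toEquiv.subsingleton

include hS hI in
/-- Tor amplitude along nilpotent thickenings. -/
theorem torAmp_lBaseChange_iff (a b : ℤ) :
    DRing.HasTorAmplitudeIn S a b ((DRing.LBaseChange (algebraMap R S)).obj K) ↔
      DRing.HasTorAmplitudeIn R a b K := by
  refine ⟨fun h => ?_, TorAmp.baseChange _⟩
  haveI : ∀ M : ModuleCat.{u} S, DRing.HasLTensor S M := hasLTensor
  haveI : ∀ M : ModuleCat.{u} R, DRing.HasLTensor R M := hasLTensor
  exact (hasTorAmplitudeIn_iff K a b).2 fun M j hj => subsingleton_lTensor_of_nilpotent hS hI K j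
    (fun N => (hasTorAmplitudeIn_iff _ a b).1 h N j hj) M

include hS hI in
/-- Upper bounds on cohomology lift along nilpotent thickenings. -/
theorem subsingleton_HD_of_nilpotent (b : ℤ)
    (h : ∀ i, b < i → Subsingleton (Dual.HD S ((DRing.LBaseChange (algebraMap R S)).obj K) i)) (i : ℤ) (hi : b < i) :
    Subsingleton (Dual.HD R K i) := by
  haveI : ∀ M : ModuleCat.{u} S, DRing.HasLTensor S M := hasLTensor
  haveI : ∀ M : ModuleCat.{u} R, DRing.HasLTensor R M := hasLTensor
  obtain ⟨G, hG, hfree, ⟨eG⟩⟩ := exists_free_rep S h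
  have h1 := subsingleton_lTensor_of_nilpotent hS hI K i (fun N => by
    obtain ⟨e₁⟩ := nonempty_lTensorFlatIso G hG (fun i => haveI := hfree i; inferInstance) N
    exact subsingleton_HD_of_iso (e₁.symm ≪≫ (DRing.LTensor S N).mapIso eG) (isZero_tensorCx_X (hG i hi) N))
    (ModuleCat.of R R)
  obtain ⟨P₀, hP₀, -, ⟨e₀⟩⟩ := exists_kProjective_rep K
  haveI := hP₀
  exact (HDCongr (e₀.symm ≪≫ (DerivedCategory.Q.mapIso (tensorUnitIso P₀)).symm ≪≫ (lTensorIso _ P₀).symm ≪≫
    (DRing.LTensor R _).mapIso e₀) i).toEquiv.subsingleton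

include hS hI in
/-- Pseudo-coherence along nilpotent thickenings. -/
theorem isPseudoCoherent'_lBaseChange_iff :
    DRing.IsPseudoCoherent' S ((DRing.LBaseChange (algebraMap R S)).obj K) ↔ DRing.IsPseudoCoherent' R K := by
  constructor
  · intro h
    obtain ⟨G, b, hG, -, ⟨eG⟩⟩ := id h
    exact isPseudoCoherent'_iff_isPC.2 fun n => pcn_of_nilpotent hS hI
      (subsingleton_HD_of_nilpotent hS hI K b fun i hi => subsingleton_HD_of_iso eG (hG i hi)) h n
  · rintro ⟨F, b, hF, hFf, ⟨e⟩⟩
    obtain ⟨e'⟩ := nonempty_lBaseChangeFlatIso (algebraMap R S) F hF fun i => haveI := (hFf i).2; inferInstance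
    refine ⟨extCx (algebraMap R S) F, b, fun i hi => (ModuleCat.extendScalars (algebraMap R S)).map_isZero (hF i hi),
      fun i => ⟨?_, ?_⟩, ⟨e'.symm ≪≫ (DRing.LBaseChange (algebraMap R S)).mapIso e⟩⟩
    · have := (hFf i).1
      exact Module.Finite.equiv (extendEquiv S (F.X i)).symm
    · have := (hFf i).2
      exact Module.Free.of_equiv (extendEquiv S (F.X i)).symm

end

end Groth.DAlg
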