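import Groth.Agent.DAlg.Nilpotent

/-!
Pseudo-coherence and perfectness along nilpotent thickenings.
-/

universe u

open CategoryTheory CategoryTheory.Limits CategoryTheory.Pretriangulated HomologicalComplex MonoidalCategory
open scoped TensorProduct

attribute [local instance] HasDerivedCategory.standard
set_option linter.style.haveILetI false

namespace Groth.DAlg

open FlatCxBase PCohPunctual

variable {R S : Type u} [CommRing R] [CommRing S] [Algebra R S]

theorem pcn_of_nilpotent [DRing.HasLBaseChange (algebraMap R S)] (hS : Function.Surjective (algebraMap R S))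
    (hI : IsNilpotent (RingHom.ker (algebraMap R S))) {K : Dual.D R} {c : ℤ}
    (hc : ∀ i, c < i → Subsingleton (Dual.HD R K i))
    (h : DRing.IsPseudoCoherent' S ((DRing.LBaseChange (algebraMap R S)).obj K)) (n : ℤ) :
    PCn (finFree R) n K := by
  have hA := isAdditiveSub_finFree R
  have hqs := isQuasiStable_finFree R
  have hql := isQuasiLiftable_finFree R
  suffices ∀ (k : ℕ) (c : ℤ) (K : Dual.D R), c < n + k → (∀ i, c < i → Subsingleton (Dual.HD R K i)) →
      DRing.IsPseudoCoherent' S ((DRing.LBaseChange (algebraMap R S)).obj K) → PCn (finFree R) n K from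
    this (c + 1 - n).toNat c K (by omega) hc h
  intro k
  induction k with
  | zero =>
    exact fun c K hck hc _ => pcn_of_isZero hA hql fun i hi =>
      ModuleCat.isZero_iff_subsingleton.2 (hc i (by omega))
  | succ k ih =>
    intro c K hck hc h
    obtain ⟨F, hF, hfree, ⟨e⟩⟩ := exists_free_rep R hc
    have hproj : ∀ i, Module.Projective R (F.X i) := fun i => haveI := hfree i; inferInstance
    haveI := isKProjective_of_bounded hF hproj
    let Fb := extCx (algebraMap R S) F
    let eb : (DRing.LBaseChange (algebraMap R S)).obj K ≅ DRing.toD Fb :=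
      (DRing.LBaseChange (algebraMap R S)).mapIso e.symm ≪≫ lBaseChangeIso (algebraMap R S) F
    have hFb : DRing.VanishesAbove Fb c := fun i hi => (ModuleCat.extendScalars (algebraMap R S)).map_isZero (hF i hi)
    -- the top cohomology is finite
    have hpc : PCoh.IsPC (finFree S) (DRing.toD Fb) := fun m => PCn.of_iso (isPseudoCoherent'_iff_isPC.1 h m) eb
    obtain ⟨G, hG, hGF, ⟨eG⟩⟩ := exists_finFree_rep (isPseudoCoherent'_iff_isPC.2 hpc) (b := c)
      fun i hi => subsingleton_HD_of_iso (Iso.refl _) (hFb i hi)
    have topEquiv : ∀ {T : Type u} [CommRing T] (E : DRing.Cx T), DRing.VanishesAbove E c →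
        Nonempty (Coker E (c - 1) c ≃ₗ[T] E.homology c) := fun {T} _ E hE => by
      have hk : LinearMap.ker (E.d c (c + 1)).hom = ⊤ := eq_top_iff.2 fun x _ => by
        have := ModuleCat.subsingleton_of_isZero (hE (c + 1) (by omega))
        exact Subsingleton.elim _ _
      refine ⟨(Submodule.Quotient.equiv _ _ (LinearEquiv.ofTop _ hk).symm ?_).trans
        (homologyEquivQuot E (cochain_prev c) (cochain_next c))⟩
      exact (LinearMap.range _).map_equiv_eq_comap_symm _
    have : Module.Finite S (Coker Fb (c - 1) c) := by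
      obtain ⟨e₁⟩ := topEquiv Fb hFb
      obtain ⟨e₂⟩ := topEquiv G hG
      have : Module.Finite S (G.X c) := (hGF c).1
      have : Module.Finite S (G.homology c) := Module.Finite.equiv e₂
      exact Module.Finite.equiv (((HDEquiv G c).symm.trans ((HDCongr eG c).trans (HDEquiv Fb c))).trans e₁.symm)
    have : Module.Finite S (S ⊗[R] Coker F (c - 1) c) := Module.Finite.equiv (cokerBCEquiv S F (c - 1) c)
    have := finite_of_tensor_nilpotent hS hI (Coker F (c - 1) c)
    obtain ⟨r, φ, hφ⟩ := Module.Finite.exists_fin' R (Coker F (c - 1) c)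
    obtain ⟨ψ, hψ⟩ := Module.projective_lifting_property (cokerπ F (c - 1) c) φ (Submodule.mkQ_surjective _)
    -- attach cells
    let V : ModuleCat.{u} R := ModuleCat.of R (Fin r → R)
    let V₀ := (single (ModuleCat.{u} R) (ComplexShape.up ℤ) c).obj V
    let g : V₀ ⟶ F := mkHomFromSingle (ModuleCat.ofHom ψ) (by
      rintro j rfl
      exact (hF _ (by omega)).eq_of_tgt _ _)
    have hV : DRing.VanishesOutside V₀ c c := fun i hi => isZero_single_obj_X _ _ _ _ (by omega)
    have hVF : DRing.TermwiseFiniteFree V₀ := fun i => by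
      by_cases hi : i = c
      · exact hA.of_iso (singleObjXIsoOfEq (ComplexShape.up ℤ) c V i hi).symm
          ⟨inferInstanceAs (Module.Finite R (Fin r → R)), inferInstanceAs (Module.Free R (Fin r → R))⟩
      · exact hA.zero _ (isZero_single_obj_X _ _ _ _ hi)
    let C := CochainComplex.mappingCone g
    have hCz : ∀ i, c - 1 < i → Subsingleton (Dual.HD R (DRing.toD C) i) := fun i hi => by
      refine subsingleton_HD_toD ?_
      have hT := DerivedCategory.mappingCone_triangle_distinguished g
      refine (IsZero.of_iso ?_ ((DerivedCategory.homologyFunctorFactors (ModuleCat.{u} R) i).app C).symm)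
      refine (DerivedCategory.HomologySequence.exact₃ _ hT i (i + 1) rfl).isZero_of_both_zeros ?_
        ((IsZero.of_iso (isZero_homology_of_isZero_X (hV (i + 1) (Or.inr (by omega))))
          ((DerivedCategory.homologyFunctorFactors (ModuleCat.{u} R) (i + 1)).app V₀)).eq_of_tgt _ _)
      refine (DerivedCategory.HomologySequence.epi_homologyMap_mor₁_iff _ hT i).1 ?_
      show Epi ((DerivedCategory.homologyFunctor (ModuleCat.{u} R) i).map (DerivedCategory.Q.map g))
      haveI : Epi (homologyMap g i) := by
        rw [ModuleCat.epi_iff_surjective, homologyMap_surjective_iff g (cochain_prev i) (cochain_next i)]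
        intro y _
        rcases eq_or_lt_of_le (show c ≤ i by omega) with rfl | hlt
        · obtain ⟨v, hv⟩ := hφ (cokerπ F (c - 1) c y)
          have hsub : cokerπ F (c - 1) c (y - ψ v) = 0 := by
            rw [map_sub, show cokerπ F (c - 1) c (ψ v) = φ v from LinearMap.congr_fun hψ v, hv, sub_self]
          obtain ⟨w, hw⟩ := (exact_cokerπ F (c - 1) c _).1 hsub
          refine ⟨(singleObjXSelf (ComplexShape.up ℤ) c V).inv v, w, ?_, ?_⟩
          · have := ModuleCat.subsingleton_of_isZero (hV (c + 1) (Or.inr (by omega)))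
            exact Subsingleton.elim _ _
          · simp only [g, mkHomFromSingle_f]
            change ψ ((singleObjXSelf (ComplexShape.up ℤ) c V).hom ((singleObjXSelf (ComplexShape.up ℤ) c V).inv v)) + _ = y
            rw [Iso.inv_hom_id_apply, hw]
            exact add_sub_cancel _ _
        · have := ModuleCat.subsingleton_of_isZero (hF i hlt)
          exact ⟨0, 0, map_zero _, Subsingleton.elim _ _⟩
      haveI : Epi ((homologyFunctor (ModuleCat.{u} R) (ComplexShape.up ℤ) i).map g) :=
        ‹Epi (homologyMap g i)›
      erw [← NatIso.naturality_2 (DerivedCategory.homologyFunctorFactors (ModuleCat.{u} R) i) g]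
      infer_instance
    have hCK : DRing.VanishesAbove C c := fun i hi =>
      (CochainComplex.mappingCone.isZero_X_iff g i).2 ⟨hV _ (Or.inr (by omega)), hF i hi⟩
    haveI : ∀ i, Module.Projective R (V₀.X i) := fun i => haveI := (hVF i).2; inferInstance
    haveI : ∀ i, Module.Flat R (F.X i) := fun i => haveI := hproj i; inferInstance
    have hCflat : DRing.TermwiseFlat C := flat_cone_X g (fun i => inferInstance) (fun i => inferInstance)
    obtain ⟨eC⟩ := nonempty_lBaseChangeFlatIso (algebraMap R S) C hCK hCflat
    let gb := ((ModuleCat.extendScalars (algebraMap R S)).mapHomologicalComplex (ComplexShape.up ℤ)).map g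
    have hTS := DerivedCategory.mappingCone_triangle_distinguished gb
    have hC' : DRing.IsPseudoCoherent' S ((DRing.LBaseChange (algebraMap R S)).obj (DRing.toD C)) := by
      rw [isPseudoCoherent'_iff_isPC]
      intro m
      refine ((PCn.cone (isAdditiveSub_finFree S) (isQuasiStable_finFree S) (isQuasiLiftable_finFree S) hTS
        ?_ (hpc m)).of_iso ?_)
      · refine isPseudoCoherent'_iff_isPC.1 (IsPerfect.isPseudoCoherent' (R := S)
          ⟨extCx (algebraMap R S) V₀, c, c, fun i hi => (ModuleCat.extendScalars (algebraMap R S)).map_isZero (hV i hi),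
            fun i => ⟨?_, ?_⟩, ⟨Iso.refl _⟩⟩) (m + 1)
        · have := (hVF i).1
          exact Module.Finite.equiv (extendEquiv S (V₀.X i)).symm
        · exact Module.Projective.of_equiv (extendEquiv S (V₀.X i)).symm
      · exact (DerivedCategory.Q.mapIso
          (CochainComplex.mappingCone.mapHomologicalComplexIso g (ModuleCat.extendScalars (algebraMap R S)))).symm ≪≫
            eC.symm
    have hC := ih (c - 1) (DRing.toD C) (by omega) hCz hC'
    exact (PCn.ext hA hqs hql (DerivedCategory.mappingCone_triangle_distinguished g)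
      (show PCn (finFree R) n (DRing.toD V₀) from
        ⟨V₀, ⟨⟨c, fun i hi => hV i (Or.inr hi)⟩, fun i _ => hVF i⟩, ⟨Iso.refl _⟩⟩) hC).of_iso e

theorem isPerfect_of_nilpotent [DRing.HasLBaseChange (algebraMap R S)] (hS : Function.Surjective (algebraMap R S))
    (hI : IsNilpotent (RingHom.ker (algebraMap R S))) {K : Dual.D R}
    (h : DRing.IsPerfect S ((DRing.LBaseChange (algebraMap R S)).obj K)) : DRing.IsPerfect R K := by
  obtain ⟨hpc, a, b, hamp⟩ := isPerfect_iff.1 h
  obtain ⟨P, hP, hfree, ⟨e⟩⟩ := exists_kProjective_rep K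
  haveI := hP
  haveI : ∀ i, Module.Flat R (P.X i) := fun i => haveI := hfree i; inferInstance
  haveI := isKProjective_extCx (algebraMap R S) P
  let eb := (DRing.LBaseChange (algebraMap R S)).mapIso e.symm ≪≫ lBaseChangeIso (algebraMap R S) P
  haveI : ∀ M : ModuleCat.{u} S, DRing.HasLTensor S M := hasLTensor
  haveI : ∀ M : ModuleCat.{u} R, DRing.HasLTensor R M := hasLTensor
  have hz : ∀ (M : Type u) [AddCommGroup M] [Module R M], RingHom.ker (algebraMap R S) • (⊤ : Submodule R M) = ⊥ →
      ∀ j, (j < a ∨ b < j) → IsZero ((DRing.tensorCx P (ModuleCat.of R M)).homology j) := by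
    intro M _ _ hM j hj
    have hker : ∀ r ∈ RingHom.ker (algebraMap R S), ∀ x : M, r • x = 0 := fun r hr x =>
      (Submodule.mem_bot R).1 (hM ▸ Submodule.smul_mem_smul hr Submodule.mem_top)
    let σ := Function.surjInv hS
    have hσ : ∀ s, algebraMap R S (σ s) = s := Function.surjInv_eq hS
    have hcongr : ∀ (r r' : R), algebraMap R S r = algebraMap R S r' → ∀ x : M, r • x = r' • x := fun r r' h x => by
      rw [← sub_eq_zero, ← sub_smul]
      exact hker _ (by rw [RingHom.mem_ker, map_sub, h, sub_self]) x
    letI : Module S M :=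
      { smul := fun s x => σ s • x
        one_smul := fun x => (hcongr _ 1 (by rw [hσ, map_one]) x).trans (one_smul R x)
        mul_smul := fun s t x => (hcongr _ (σ s * σ t) (by simp [hσ]) x).trans (mul_smul _ _ x)
        smul_zero := fun s => smul_zero (σ s)
        smul_add := fun s => smul_add (σ s)
        add_smul := fun s t x => (hcongr _ (σ s + σ t) (by simp [hσ]) x).trans (add_smul _ _ x)
        zero_smul := fun x => (hcongr _ 0 (by simp [hσ]) x).trans (zero_smul R x) }
    haveI : IsScalarTower R S M := ⟨fun r s x => by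
      show σ (r • s) • x = r • σ s • x
      rw [← mul_smul]
      exact hcongr _ _ (by simp [hσ, Algebra.smul_def]) x⟩
    have h1 := (hasTorAmplitudeIn_iff _ a b).1 (TorAmp.of_iso hamp eb) (ModuleCat.of S M) j hj
    exact (isZero_extCx_tensor_iff P M j).1 (isZero_homology_of_subsingleton
      (HDCongr (lTensorIso (ModuleCat.of S M) (extCx (algebraMap R S) P)) j).symm.toEquiv.subsingleton)
  have hK : DRing.HasTorAmplitudeIn R a b K := (hasTorAmplitudeIn_iff K a b).2 fun M j hj => by
    have := subsingleton_HD_toD (isZero_tensor_of_nilpotent P j _ hI (fun M _ _ hM => hz M hM j hj) M)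
    exact (HDCongr ((DRing.LTensor R M).mapIso e.symm ≪≫ lTensorIso M P) j).toEquiv.subsingleton
  exact isPerfect_iff.2 ⟨isPseudoCoherent'_iff_isPC.2 fun n =>
    pcn_of_nilpotent hS hI (fun i hi => TorAmp.subsingleton_HD hK (Or.inr hi)) hpc n, a, b, hK⟩

end Groth.DAlg
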