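import Groth.Agent.DAlg.PCoh
import Groth.Agent.DAlg.ProjAmp
import Mathlib.Algebra.Category.ModuleCat.FilteredColimits
import Mathlib.CategoryTheory.Limits.Types.Filtered

/-!
Maps from pseudo-coherent objects into filtered colimits of modules.
-/

universe u

open CategoryTheory CategoryTheory.Limits CategoryTheory.Pretriangulated HomologicalComplex

attribute [local instance] HasDerivedCategory.standard
set_option linter.style.haveILetI false

namespace Groth.DAlg.PCohColim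

open Calg3

variable {R : Type u} [CommRing R] {J : Type u} [SmallCategory J] [IsFiltered J] {F : J ⥤ ModuleCat.{u} R}
  {c : Cocone F} (hc : IsColimit c)

include hc in
lemma exists_eq (x : c.pt) : ∃ (j : J) (y : F.obj j), c.ι.app j y = x :=
  Types.jointly_surjective_of_isColimit (isColimitOfPreserves (forget (ModuleCat.{u} R)) hc) x

include hc in
lemma exists_map_eq_zero {j : J} (y : F.obj j) (h : c.ι.app j y = 0) :
    ∃ (k : J) (f : j ⟶ k), F.map f y = 0 := by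
  obtain ⟨k, f, g, hfg⟩ := (Types.FilteredColimit.isColimit_eq_iff _
    (isColimitOfPreserves (forget (ModuleCat.{u} R)) hc) (xi := y) (xj := (0 : F.obj j))).1
    (h.trans (map_zero (c.ι.app j).hom).symm)
  exact ⟨k, f, hfg.trans (map_zero (F.map g).hom)⟩

variable {P : Type u} [AddCommGroup P] [Module R P]

include hc in
/-- A map from a finite free module factors through a stage. -/
theorem exists_lift [Module.Finite R P] [Module.Free R P] (φ : P →ₗ[R] c.pt) :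
    ∃ (j : J) (ψ : P →ₗ[R] F.obj j), (c.ι.app j).hom ∘ₗ ψ = φ := by
  classical
  let b := Module.Free.chooseBasis R P
  choose j y hy using fun i => exists_eq hc (φ (b i))
  obtain ⟨k, hk⟩ := IsFiltered.sup_objs_exists (Finset.univ.image j)
  choose g hg using fun i => (⟨(hk (Finset.mem_image_of_mem j (Finset.mem_univ i))).some, trivial⟩ : ∃ _ : j i ⟶ k, True)
  refine ⟨k, b.constr R fun i => F.map (g i) (y i), b.ext fun i => ?_⟩
  rw [LinearMap.comp_apply, Module.Basis.constr_basis, ← hy i]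
  exact ConcreteCategory.congr_hom (c.w (g i)) (y i)

include hc in
/-- A map from a finite module vanishing in the colimit vanishes at a stage. -/
theorem exists_zero [Module.Finite R P] {j : J} (ψ : P →ₗ[R] F.obj j) (h : (c.ι.app j).hom ∘ₗ ψ = 0) :
    ∃ (k : J) (f : j ⟶ k), (F.map f).hom ∘ₗ ψ = 0 := by
  classical
  obtain ⟨s, hs⟩ := Module.Finite.fg_top (R := R) (M := P)
  suffices ∀ t : Finset P, ∃ (k : J) (f : j ⟶ k), ∀ x ∈ t, F.map f (ψ x) = 0 by
    obtain ⟨k, f, hf⟩ := this s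
    exact ⟨k, f, LinearMap.ext_on hs fun x hx => hf x hx⟩
  intro t
  induction t using Finset.induction with
  | empty => exact ⟨j, 𝟙 j, fun x hx => absurd hx (Finset.notMem_empty x)⟩
  | insert a t _ ih =>
    obtain ⟨k, f, hf⟩ := ih
    obtain ⟨l, g, hg⟩ := exists_map_eq_zero hc (F.map f (ψ a)) (by
      rw [show c.ι.app k (F.map f (ψ a)) = c.ι.app j (ψ a) from ConcreteCategory.congr_hom (c.w f) _]
      exact LinearMap.congr_fun h a)
    refine ⟨l, f ≫ g, fun x hx => ?_⟩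
    rw [F.map_comp, ConcreteCategory.comp_apply]
    rcases Finset.mem_insert.1 hx with rfl | hx
    · exact hg
    · rw [hf x hx, map_zero]

/-- `M[n]` for a map of modules. -/
noncomputable abbrev sh (n : ℤ) {M N : ModuleCat.{u} R} (g : M ⟶ N) :
    (Dual.inD R M)⟦n⟧ ⟶ (Dual.inD R N)⟦n⟧ :=
  ((DerivedCategory.singleFunctor (ModuleCat.{u} R) 0).map g)⟦n⟧'

variable {E : DRing.Cx R} {b : ℤ} (hb : DRing.VanishesAbove E b) (hf : DRing.TermwiseFiniteFree E)

include hc hb hf in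
/-- The case of a complex of finite free modules: surjectivity. -/
theorem exists_factor_toD (n : ℤ) (x : DRing.toD E ⟶ (Dual.inD R c.pt)⟦n⟧) :
    ∃ (j : J) (y : DRing.toD E ⟶ (Dual.inD R (F.obj j))⟦n⟧), y ≫ sh n (c.ι.app j) = x := by
  have hp : ∀ i, Module.Projective R (E.X i) := fun i => haveI := (hf i).2; inferInstance
  obtain ⟨φ, rfl⟩ := classMap_surjective (Iso.refl (DRing.toD E)) (add_neg_cancel n) hb hp x
  haveI := (hf (-n)).1; haveI := (hf (-n)).2; haveI := (hf (-n - 1)).1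
  obtain ⟨j, ψ, hψ⟩ := exists_lift hc φ.1
  obtain ⟨k, f, hk⟩ := exists_zero hc (ψ ∘ₗ (E.d (-n - 1) (-n)).hom) (by
    rw [← LinearMap.comp_assoc, hψ]; exact LinearMap.mem_ker.1 φ.2)
  refine ⟨k, classMap (Iso.refl _) (add_neg_cancel n)
    ⟨(F.map f).hom ∘ₗ ψ, LinearMap.mem_ker.2 ((LinearMap.comp_assoc _ _ _).trans hk)⟩, ?_⟩
  refine classMap_naturality _ _ (c.ι.app k).hom _ φ ?_
  rw [← hψ, ← LinearMap.comp_assoc]
  congr 1
  exact congrArg ModuleCat.Hom.hom (c.w f).symm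

include hc hb hf in
/-- The case of a complex of finite free modules: injectivity. -/
theorem exists_zero_toD (n : ℤ) (j : J) (y : DRing.toD E ⟶ (Dual.inD R (F.obj j))⟦n⟧)
    (hy : y ≫ sh n (c.ι.app j) = 0) : ∃ (k : J) (f : j ⟶ k), y ≫ sh n (F.map f) = 0 := by
  have hp : ∀ i, Module.Projective R (E.X i) := fun i => haveI := (hf i).2; inferInstance
  obtain ⟨φ, rfl⟩ := classMap_surjective (Iso.refl (DRing.toD E)) (add_neg_cancel n) hb hp y
  haveI := (hf (-n)).1; haveI := (hf (-n + 1)).1; haveI := (hf (-n + 1)).2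
  have hz : (c.ι.app j).hom ∘ₗ φ.1 ∈ Zc E c.pt (-n) := LinearMap.mem_ker.2 (by
    show ((c.ι.app j).hom ∘ₗ φ.1) ∘ₗ (E.d (-n - 1) (-n)).hom = 0
    rw [LinearMap.comp_assoc, show φ.1 ∘ₗ (E.d (-n - 1) (-n)).hom = 0 from LinearMap.mem_ker.1 φ.2,
      LinearMap.comp_zero])
  have h0 : classMap (Iso.refl (DRing.toD E)) (add_neg_cancel n) ⟨_, hz⟩ = 0 :=
    (classMap_naturality _ _ (c.ι.app j).hom φ ⟨_, hz⟩ rfl).symm.trans hy
  obtain ⟨θ, hθ⟩ := classMap_eq_zero _ _ hb hp _ h0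
  obtain ⟨k, θ', hθ'⟩ := exists_lift hc θ
  let a := IsFiltered.leftToMax j k
  let a' := IsFiltered.rightToMax j k
  obtain ⟨l, g, hg⟩ := exists_zero hc
    ((F.map a).hom ∘ₗ φ.1 - ((F.map a').hom ∘ₗ θ') ∘ₗ (E.d (-n) (-n + 1)).hom) (by
      have e1 : (c.ι.app (IsFiltered.max j k)).hom ∘ₗ (F.map a).hom = (c.ι.app j).hom :=
        congrArg ModuleCat.Hom.hom (c.w a)
      have e2 : (c.ι.app (IsFiltered.max j k)).hom ∘ₗ (F.map a').hom = (c.ι.app k).hom :=
        congrArg ModuleCat.Hom.hom (c.w a')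
      rw [LinearMap.comp_sub, ← LinearMap.comp_assoc, e1, ← LinearMap.comp_assoc, ← LinearMap.comp_assoc, e2, hθ',
        sub_eq_zero]
      exact hθ)
  refine ⟨l, a ≫ g, ?_⟩
  have hz' : (F.map (a ≫ g)).hom ∘ₗ φ.1 ∈ Zc E (F.obj l) (-n) := LinearMap.mem_ker.2 (by
    show ((F.map (a ≫ g)).hom ∘ₗ φ.1) ∘ₗ (E.d (-n - 1) (-n)).hom = 0
    rw [LinearMap.comp_assoc, show φ.1 ∘ₗ (E.d (-n - 1) (-n)).hom = 0 from LinearMap.mem_ker.1 φ.2,
      LinearMap.comp_zero])
  refine (classMap_naturality _ _ (F.map (a ≫ g)).hom φ ⟨_, hz'⟩ rfl).trans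
    (classMap_predif _ _ ((F.map g).hom ∘ₗ ((F.map a').hom ∘ₗ θ')) _ ?_)
  rw [LinearMap.comp_sub, sub_eq_zero] at hg
  show (F.map (a ≫ g)).hom ∘ₗ φ.1 = ((F.map g).hom ∘ₗ ((F.map a').hom ∘ₗ θ')) ∘ₗ (E.d (-n) (-n + 1)).hom
  rw [F.map_comp, ModuleCat.hom_comp, LinearMap.comp_assoc, hg]
  rfl

include hc in
/-- Maps from pseudo-coherent objects into filtered colimits. -/
theorem main (m : ℤ) (K : Dual.D R) (hK : DRing.IsPseudoCoherent R m K) :
    (∀ n : ℤ, n < -m → ∀ x : K ⟶ (Dual.inD R c.pt)⟦n⟧,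
      ∃ (j : J) (y : K ⟶ (Dual.inD R (F.obj j))⟦n⟧), y ≫ sh n (c.ι.app j) = x) ∧
    (∀ n : ℤ, n ≤ -m → ∀ (j : J) (y : K ⟶ (Dual.inD R (F.obj j))⟦n⟧), y ≫ sh n (c.ι.app j) = 0 →
      ∃ (j' : J) (f : j ⟶ j'), y ≫ sh n (F.map f) = 0) := by
  obtain ⟨E, a, b, α, hE, hf, hiso, hepi⟩ := hK
  have hb : DRing.VanishesAbove E b := fun i hi => hE i (Or.inr hi)
  obtain ⟨C, p, δ, hT⟩ := distinguished_cocone_triangle α
  have hC : (tD R).IsLE C (m - 1) := (DerivedCategory.isLE_iff C (m - 1)).2 fun i hi => by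
    let S := DerivedCategory.homologyFunctor (ModuleCat.{u} R)
    haveI : Epi ((S i).map α) := by
      rcases eq_or_lt_of_le (show m ≤ i by omega) with rfl | h
      · exact hepi
      · have := hiso i h; infer_instance
    haveI : Mono ((S (i + 1)).map α) := by have := hiso (i + 1) (by omega); infer_instance
    refine (DerivedCategory.HomologySequence.exact₃ _ hT i (i + 1) rfl).isZero_of_both_zeros ?_ ?_
    · exact (DerivedCategory.HomologySequence.epi_homologyMap_mor₁_iff _ hT i).1 ‹_›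
    · exact (DerivedCategory.HomologySequence.mono_homologyMap_mor₁_iff _ hT i (i + 1) rfl).1 ‹_›
  have h0 : ∀ (n : ℤ), n ≤ -m → ∀ (M : ModuleCat.{u} R) (z : C ⟶ (Dual.inD R M)⟦n⟧), z = 0 := fun n hn M z =>
    (tD R).zero_of_isLE_of_isGE z (m - 1) (-n) (by omega) hC
      ((tD R).isGE_shift (Dual.inD R M) 0 n (-n) (by omega))
  have h1 : ∀ (n : ℤ), n ≤ -m → ∀ (M : ModuleCat.{u} R) (z : K ⟶ (Dual.inD R M)⟦n⟧), α ≫ z = 0 → z = 0 :=
    fun n hn M z hz => by
      obtain ⟨g, rfl⟩ := Triangle.yoneda_exact₂ _ hT z hz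
      exact (congrArg (p ≫ ·) (h0 n hn M g)).trans comp_zero
  refine ⟨fun n hn x => ?_, fun n hn j y hy => ?_⟩
  · obtain ⟨j, y, hy⟩ := exists_factor_toD hc hb hf n (α ≫ x)
    haveI : (tD R).IsLE (C⟦(-1 : ℤ)⟧) m := (tD R).isLE_shift C (m - 1) (-1) m (by omega)
    have hy0 : (Triangle.mk α p δ).invRotate.mor₁ ≫ y = 0 :=
      (tD R).zero_of_isLE_of_isGE _ m (-n) (by omega) ‹_›
        ((tD R).isGE_shift (Dual.inD R (F.obj j)) 0 n (-n) (by omega))
    obtain ⟨z', hz⟩ := Triangle.yoneda_exact₂ _ (inv_rot_of_distTriang _ hT) y hy0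
    let z : K ⟶ (Dual.inD R (F.obj j))⟦n⟧ := z'
    replace hz : y = α ≫ z := hz
    refine ⟨j, z, sub_eq_zero.1 (h1 n (by omega) _ _ ?_)⟩
    rw [Preadditive.comp_sub, ← Category.assoc, show α ≫ z = y from hz.symm, hy, sub_self]
  · obtain ⟨k, f, hk⟩ := exists_zero_toD hc hb hf n j (α ≫ y) (by rw [Category.assoc, hy, comp_zero])
    exact ⟨k, f, h1 n hn _ _ (by rw [← Category.assoc, hk])⟩

end Groth.DAlg.PCohColim
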