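import Groth.Agent.DAlg.BaseChange
import Groth.Agent.DAlg.LeftDerived
import Mathlib.Algebra.Category.Ring.FilteredColimits
import Mathlib.CategoryTheory.Limits.ConcreteCategory.Basic
import Mathlib.LinearAlgebra.Matrix.ToLin
import Mathlib.RingTheory.Finiteness.Projective

/-!
Descent of bounded complexes of finite projective modules along filtered colimits of rings.
-/

universe u

open CategoryTheory CategoryTheory.Limits HomologicalComplex Matrix
open scoped TensorProduct

attribute [local instance] HasDerivedCategory.standard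
set_option linter.style.haveILetI false

namespace Groth.DAlg

open FlatCxBase

/-- A complex of direct summands of `S^n`, given by idempotent matrices. -/
structure IdemCx (S : Type u) [CommRing S] (n : ℕ) where
  e : ℤ → Matrix (Fin n) (Fin n) S
  D : ℤ → Matrix (Fin n) (Fin n) S
  idem : ∀ p, e p * e p = e p
  eD : ∀ p, e (p + 1) * D p = D p
  De : ∀ p, D p * e p = D p
  DD : ∀ p, D (p + 1) * D p = 0

namespace IdemCx

variable {S : Type u} [CommRing S] {n : ℕ} (Δ : IdemCx S n)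

/-- The terms. -/
noncomputable abbrev term (p : ℤ) : Submodule S (Fin n → S) := LinearMap.range (Δ.e p).mulVecLin

lemma e_mulVec {p : ℤ} (x : Δ.term p) : Δ.e p *ᵥ x.1 = x.1 := by
  obtain ⟨y, hy⟩ := x.2
  rw [← hy, mulVecLin_apply, mulVec_mulVec, Δ.idem]

/-- The differential. -/
noncomputable def dLin (p : ℤ) : Δ.term p →ₗ[S] Δ.term (p + 1) :=
  ((Δ.D p).mulVecLin.domRestrict (Δ.term p)).codRestrict _ fun x => ⟨Δ.D p *ᵥ x.1, by
    simp [mulVec_mulVec, Δ.eD]⟩

/-- The complex. -/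
noncomputable def cx : DRing.Cx S :=
  CochainComplex.of (fun p => ModuleCat.of S (Δ.term p)) (fun p => ModuleCat.ofHom (Δ.dLin p)) fun p =>
    ModuleCat.hom_ext (LinearMap.ext fun x => Subtype.ext (by
      show Δ.D (p + 1) *ᵥ (Δ.D p *ᵥ x.1) = 0
      rw [mulVec_mulVec, Δ.DD, zero_mulVec]))

/-- The projection onto a term. -/
noncomputable def proj (p : ℤ) : (Fin n → S) →ₗ[S] Δ.term p := (Δ.e p).mulVecLin.rangeRestrict

lemma proj_val {p : ℤ} (x : Δ.term p) : Δ.proj p x.1 = x := Subtype.ext (Δ.e_mulVec x)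

lemma termwiseFiniteProjective_cx : DRing.TermwiseFiniteProjective Δ.cx := fun p =>
  ⟨Module.Finite.range _, Module.Projective.of_split (Δ.term p).subtype (Δ.proj p)
    (LinearMap.ext Δ.proj_val)⟩

lemma isZero_cx {p : ℤ} (h : Δ.e p = 0) : IsZero (Δ.cx.X p) := by
  haveI : Subsingleton (Δ.term p) := ⟨fun x y => Subtype.ext (by rw [← Δ.e_mulVec x, ← Δ.e_mulVec y, h, zero_mulVec, zero_mulVec])⟩
  exact ModuleCat.isZero_of_subsingleton (ModuleCat.of S (Δ.term p))

end IdemCx

section BaseChange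

variable {S R : Type u} [CommRing S] [CommRing R] [Algebra S R] {n : ℕ}

/-- A complex whose terms are the images of the base changed idempotents is the base change. -/
theorem nonempty_extCx_iso (Δ : IdemCx S n) (P : DRing.Cx R)
    (s : ∀ p, P.X p →ₗ[R] (Fin n → R)) (r : ∀ p, (Fin n → R) →ₗ[R] P.X p)
    (hrs : ∀ p, r p ∘ₗ s p = LinearMap.id)
    (he : ∀ p, s p ∘ₗ r p = ((Δ.e p).map (algebraMap S R)).mulVecLin)
    (hD : ∀ p, s (p + 1) ∘ₗ (P.d p (p + 1)).hom ∘ₗ r p = ((Δ.D p).map (algebraMap S R)).mulVecLin) :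
    Nonempty (extCx (algebraMap S R) Δ.cx ≅ P) := by
  classical
  let φ := algebraMap S R
  let Φ : ∀ p, R ⊗[S] Δ.term p →ₗ[R] (Fin n → R) := fun p =>
    LinearMap.liftBaseChange R
      ({ toFun := fun x k => φ (x.1 k)
         map_add' := fun x y => funext fun k => by simp
         map_smul' := fun c x => funext fun k => by simp [φ, Algebra.smul_def] } : Δ.term p →ₗ[S] Fin n → R)
  let Ψ : ∀ p, (Fin n → R) →ₗ[R] R ⊗[S] Δ.term p := fun p =>
    Fintype.linearCombination R fun k => (1 : R) ⊗ₜ[S] Δ.proj p (Pi.single k 1)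
  have hΦ : ∀ p (c : R) (x : Δ.term p), Φ p (c ⊗ₜ x) = c • (φ ∘ x.1) := fun p c x => rfl
  have hΨ : ∀ p (x : Δ.term p), Ψ p (φ ∘ x.1) = 1 ⊗ₜ x := fun p x => by
    show (Fintype.linearCombination R fun k => (1 : R) ⊗ₜ[S] Δ.proj p (Pi.single k 1)) (φ ∘ x.1) = _
    rw [Fintype.linearCombination_apply]
    simp only [Function.comp_apply, φ, algebraMap_smul, ← TensorProduct.tmul_smul, ← TensorProduct.tmul_sum,
      ← map_smul, ← map_sum]
    rw [← pi_eq_sum_univ' x.1, Δ.proj_val]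
  have hmap : ∀ (M : Matrix (Fin n) (Fin n) S) (x : Fin n → S), M.map φ *ᵥ (φ ∘ x) = φ ∘ (M *ᵥ x) :=
    fun M x => funext fun k => (RingHom.map_mulVec φ M x k).symm
  have hsr : ∀ p (x : Δ.term p), s p (r p (φ ∘ x.1)) = φ ∘ x.1 := fun p x => by
    rw [← LinearMap.comp_apply, he, mulVecLin_apply, hmap, Δ.e_mulVec]
  have hΦΨ : ∀ p, Φ p ∘ₗ Ψ p = ((Δ.e p).map φ).mulVecLin := fun p => by
    refine (Pi.basisFun R (Fin n)).ext fun k => ?_
    simp only [Pi.basisFun_apply, LinearMap.comp_apply, Ψ, Fintype.linearCombination_apply_single, one_smul,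
      mulVecLin_apply]
    rw [hΦ, one_smul]
    refine funext fun l => ?_
    simp [IdemCx.proj, LinearMap.rangeRestrict]
  let e : ∀ p, R ⊗[S] Δ.term p ≃ₗ[R] P.X p := fun p => LinearEquiv.ofLinear (r p ∘ₗ Φ p) (Ψ p ∘ₗ s p)
    (LinearMap.ext fun v => by
      simp only [LinearMap.comp_apply, LinearMap.id_apply]
      rw [← LinearMap.comp_apply (Φ p) (Ψ p), hΦΨ, ← he, LinearMap.comp_apply, ← LinearMap.comp_apply (r p) (s p),
        hrs, LinearMap.id_apply, ← LinearMap.comp_apply (r p) (s p), hrs, LinearMap.id_apply])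
    (LinearMap.ext fun t => by
      induction t using TensorProduct.induction_on with
      | zero => simp
      | add a b ha hb => simp only [map_add, ha, hb]
      | tmul c x =>
        simp only [LinearMap.comp_apply, LinearMap.id_apply, hΦ, map_smul, hsr, hΨ]
        rw [TensorProduct.smul_tmul', smul_eq_mul, mul_one])
  refine ⟨Hom.isoOfComponents (fun p => (((extendEquiv R (ModuleCat.of S (Δ.term p))).trans (e p))).toModuleIso)
    fun p q hpq => ?_⟩
  obtain rfl : p + 1 = q := hpq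
  refine ModuleCat.hom_ext (LinearMap.ext fun z => ?_)
  have key : ∀ t : R ⊗[S] Δ.term p, (P.d p (p + 1)).hom (e p t) = e (p + 1) ((Δ.dLin p).baseChange R t) := by
    intro t
    induction t using TensorProduct.induction_on with
    | zero => simp
    | add a b ha hb => simp only [map_add, ha, hb]
    | tmul c x =>
      show (P.d p (p + 1)).hom (r p (Φ p (c ⊗ₜ x))) = r (p + 1) (Φ (p + 1) (c ⊗ₜ (Δ.dLin p x)))
      simp only [hΦ, map_smul]
      congr 1
      have h := LinearMap.congr_fun (hD p) (φ ∘ x.1)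
      rw [LinearMap.comp_apply, LinearMap.comp_apply, mulVecLin_apply] at h
      have h' := h.trans (hmap (Δ.D p) x.1)
      refine Eq.trans ?_ (congrArg (r (p + 1)) h')
      exact (LinearMap.congr_fun (hrs (p + 1)) _).symm
  show P.d p (p + 1) (e p (extendEquiv R (Δ.cx.X p) z)) =
    e (p + 1) (extendEquiv R (Δ.cx.X (p + 1))
      ((ModuleCat.extendScalars (algebraMap S R)).map (Δ.cx.d p (p + 1)) z))
  rw [extendEquiv_map, show Δ.cx.d p (p + 1) = ModuleCat.ofHom (Δ.dLin p) by simp [IdemCx.cx]]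
  exact key (extendEquiv R (Δ.cx.X p) z)

end BaseChange

section Colimit

variable {J : Type u} [SmallCategory J] [IsFiltered J] {F : J ⥤ CommRingCat.{u}} {c : Cocone F}

lemma exists_rep_finite (hc : IsColimit c) {ι : Type*} [Finite ι] (f : ι → c.pt) :
    ∃ (j : J) (g : ι → F.obj j), ∀ i, c.ι.app j (g i) = f i := by
  classical
  haveI := Fintype.ofFinite ι
  choose j x hx using fun i => Concrete.isColimit_exists_rep F hc (f i)
  obtain ⟨k, hk⟩ := IsFiltered.sup_objs_exists (Finset.univ.image j)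
  have hm : ∀ i, Nonempty (j i ⟶ k) := fun i => hk (by simp)
  refine ⟨k, fun i => F.map (hm i).some (x i), fun i => ?_⟩
  rw [← hx i, ← ConcreteCategory.comp_apply, c.w]

lemma exists_eq_finite (hc : IsColimit c) {ι : Type*} [Finite ι] {j : J} (g h : ι → F.obj j)
    (hgh : ∀ i, c.ι.app j (g i) = c.ι.app j (h i)) : ∃ (k : J) (f : j ⟶ k), ∀ i, F.map f (g i) = F.map f (h i) := by
  classical
  haveI := Fintype.ofFinite ι
  suffices ∀ s : Finset ι, ∃ (k : J) (f : j ⟶ k), ∀ i ∈ s, F.map f (g i) = F.map f (h i) by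
    obtain ⟨k, f, hf⟩ := this Finset.univ
    exact ⟨k, f, fun i => hf i (Finset.mem_univ i)⟩
  intro s
  induction s using Finset.induction with
  | empty => exact ⟨j, 𝟙 j, by simp⟩
  | insert a s _ ih =>
    obtain ⟨k, f, hf⟩ := ih
    have ha : c.ι.app k (F.map f (g a)) = c.ι.app k (F.map f (h a)) := by
      rw [← ConcreteCategory.comp_apply, ← ConcreteCategory.comp_apply, c.w, hgh]
    obtain ⟨l, u, v, huv⟩ := (Concrete.isColimit_rep_eq_iff_exists F hc _ _).1 ha
    refine ⟨IsFiltered.coeq u v, f ≫ u ≫ IsFiltered.coeqHom u v, fun i hi => ?_⟩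
    rcases Finset.mem_insert.1 hi with rfl | hi
    · conv_rhs => rw [IsFiltered.coeq_condition u v]
      simp only [Functor.map_comp, ConcreteCategory.comp_apply]
      rw [huv]
    · simp only [Functor.map_comp, ConcreteCategory.comp_apply, hf i hi]

/-- A bounded family of matrices over the colimit comes from a stage. -/
lemma exists_idemCx (hc : IsColimit c) {n : ℕ} (Δ : IdemCx c.pt n) (a b : ℤ)
    (hz : ∀ p, (p < a ∨ b < p) → Δ.e p = 0 ∧ Δ.D p = 0) :
    ∃ (j : J) (Δ' : IdemCx (F.obj j) n), (∀ p, (p < a ∨ b < p) → Δ'.e p = 0) ∧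
      (∀ p, (Δ'.e p).map (c.ι.app j) = Δ.e p) ∧ ∀ p, (Δ'.D p).map (c.ι.app j) = Δ.D p := by
  classical
  let ι := {p // p ∈ Finset.Icc a b} × Fin n × Fin n
  obtain ⟨j, g, hg⟩ := exists_rep_finite hc (ι := ι ⊕ ι)
    (Sum.elim (fun i => Δ.e i.1 i.2.1 i.2.2) fun i => Δ.D i.1 i.2.1 i.2.2)
  let e₀ : ℤ → Matrix (Fin n) (Fin n) (F.obj j) := fun p =>
    if h : p ∈ Finset.Icc a b then Matrix.of fun k l => g (Sum.inl (⟨p, h⟩, k, l)) else 0
  let D₀ : ℤ → Matrix (Fin n) (Fin n) (F.obj j) := fun p =>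
    if h : p ∈ Finset.Icc a b then Matrix.of fun k l => g (Sum.inr (⟨p, h⟩, k, l)) else 0
  have he₀ : ∀ p, (e₀ p).map (c.ι.app j) = Δ.e p := fun p => by
    by_cases h : p ∈ Finset.Icc a b
    · ext k l; simp only [e₀, dif_pos h, Matrix.map_apply, Matrix.of_apply]; exact hg (Sum.inl (⟨p, h⟩, k, l))
    · simp only [e₀, dif_neg h]
      rw [(hz p (by simp only [Finset.mem_Icc] at h; omega)).1]
      ext k l; simp
  have hD₀ : ∀ p, (D₀ p).map (c.ι.app j) = Δ.D p := fun p => by
    by_cases h : p ∈ Finset.Icc a b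
    · ext k l; simp only [D₀, dif_pos h, Matrix.map_apply, Matrix.of_apply]; exact hg (Sum.inr (⟨p, h⟩, k, l))
    · simp only [D₀, dif_neg h]
      rw [(hz p (by simp only [Finset.mem_Icc] at h; omega)).2]
      ext k l; simp
  let lhs : Fin 4 → ℤ → Matrix (Fin n) (Fin n) (F.obj j) := fun t p =>
    ![e₀ p * e₀ p, e₀ (p + 1) * D₀ p, D₀ p * e₀ p, D₀ (p + 1) * D₀ p] t
  let rhs : Fin 4 → ℤ → Matrix (Fin n) (Fin n) (F.obj j) := fun t p => ![e₀ p, D₀ p, D₀ p, 0] t
  have heq : ∀ t p, (lhs t p).map (c.ι.app j).hom = (rhs t p).map (c.ι.app j).hom := by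
    intro t p
    have he' : ∀ q, (e₀ q).map (c.ι.app j).hom = Δ.e q := he₀
    have hD' : ∀ q, (D₀ q).map (c.ι.app j).hom = Δ.D q := hD₀
    fin_cases t <;> simp [lhs, rhs, Matrix.map_mul, he', hD', Δ.idem, Δ.eD, Δ.De, Δ.DD]
  obtain ⟨k, f, hf⟩ := exists_eq_finite hc (ι := Fin 4 × ι)
    (fun i => lhs i.1 i.2.1 i.2.2.1 i.2.2.2) (fun i => rhs i.1 i.2.1 i.2.2.1 i.2.2.2)
    fun i => congrFun (congrFun (heq i.1 i.2.1) i.2.2.1) i.2.2.2
  let ψ := (F.map f).hom
  have hout : ∀ p, p ∉ Finset.Icc a b → e₀ p = 0 ∧ D₀ p = 0 := fun p h => ⟨dif_neg h, dif_neg h⟩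
  have key : ∀ t p, (lhs t p).map ψ = (rhs t p).map ψ := by
    intro t p
    by_cases h : p ∈ Finset.Icc a b
    · ext k l
      exact hf (t, ⟨p, h⟩, k, l)
    · fin_cases t <;> simp [lhs, rhs, (hout p h).1, (hout p h).2]
  refine ⟨k, ⟨fun p => (e₀ p).map ψ, fun p => (D₀ p).map ψ, fun p => ?_, fun p => ?_, fun p => ?_, fun p => ?_⟩,
    fun p hp => ?_, fun p => ?_, fun p => ?_⟩
  · simpa [lhs, rhs, Matrix.map_mul] using key 0 p
  · simpa [lhs, rhs, Matrix.map_mul] using key 1 p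
  · simpa [lhs, rhs, Matrix.map_mul] using key 2 p
  · simpa [lhs, rhs, Matrix.map_mul] using key 3 p
  · show (e₀ p).map ψ = 0
    rw [(hout p (by simp only [Finset.mem_Icc]; omega)).1]
    ext; simp
  · rw [← he₀ p]
    ext x y
    simp only [Matrix.map_apply, ψ]
    exact (ConcreteCategory.comp_apply _ _ _).symm.trans (by rw [c.w])
  · rw [← hD₀ p]
    ext x y
    simp only [Matrix.map_apply, ψ]
    exact (ConcreteCategory.comp_apply _ _ _).symm.trans (by rw [c.w])

lemma exists_retract_pi {R : Type u} [CommRing R] {M : Type u} [AddCommGroup M] [Module R M] [Module.Finite R M]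
    [Module.Projective R M] : ∃ m : ℕ, ∀ n, m ≤ n →
      ∃ (s : M →ₗ[R] (Fin n → R)) (r : (Fin n → R) →ₗ[R] M), r ∘ₗ s = LinearMap.id := by
  obtain ⟨m, f, g, -, -, h⟩ := Module.Finite.exists_comp_eq_id_of_projective R M
  refine ⟨m, fun n hn => ?_⟩
  let i : (Fin m → R) →ₗ[R] (Fin n → R) :=
    Fintype.linearCombination R fun k => Pi.single (Fin.castLE hn k) (1 : R)
  let q : (Fin n → R) →ₗ[R] (Fin m → R) := LinearMap.funLeft R R (Fin.castLE hn)
  have hq : q ∘ₗ i = LinearMap.id := (Pi.basisFun R (Fin m)).ext fun k => funext fun l => by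
    simp [q, i, Fintype.linearCombination_apply_single, Pi.single_apply, LinearMap.funLeft_apply, Fin.castLE_inj]
  exact ⟨i ∘ₗ g, f ∘ₗ q, by rw [LinearMap.comp_assoc, ← LinearMap.comp_assoc g i q, hq, LinearMap.id_comp, h]⟩

/-- Perfect objects descend to a stage of a filtered colimit of rings. -/
theorem exists_perfect_descend (hc : IsColimit c) [∀ j : J, DRing.HasLBaseChange (c.ι.app j).hom]
    (K : Dual.D c.pt) (hK : DRing.IsPerfect c.pt K) :
    ∃ (j : J) (Kj : Dual.D (F.obj j)), DRing.IsPerfect (F.obj j) Kj ∧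
      Nonempty ((DRing.LBaseChange (c.ι.app j).hom).obj Kj ≅ K) := by
  classical
  obtain ⟨P, a, b, hP, hPf, ⟨eP⟩⟩ := hK
  have hm : ∀ p, ∃ m : ℕ, ∀ n, m ≤ n → ∃ (s : P.X p →ₗ[c.pt] (Fin n → c.pt))
      (r : (Fin n → c.pt) →ₗ[c.pt] P.X p), r ∘ₗ s = LinearMap.id := fun p => by
    haveI := (hPf p).1
    haveI := (hPf p).2
    exact exists_retract_pi
  choose m hm using hm
  let n := (Finset.Icc a b).sup m
  have hsr : ∀ p, ∃ (s : P.X p →ₗ[c.pt] (Fin n → c.pt)) (r : (Fin n → c.pt) →ₗ[c.pt] P.X p),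
      r ∘ₗ s = LinearMap.id := fun p => by
    by_cases h : p ∈ Finset.Icc a b
    · exact hm p n (Finset.le_sup h)
    · haveI := ModuleCat.subsingleton_of_isZero (hP p (by simp only [Finset.mem_Icc] at h; omega))
      exact ⟨0, 0, LinearMap.ext fun x => Subsingleton.elim _ _⟩
  choose s r hsr using hsr
  have hs0 : ∀ p, (p < a ∨ b < p) → r p = 0 := fun p hp => LinearMap.ext fun v =>
    (ModuleCat.subsingleton_of_isZero (hP p hp)).elim _ _
  have hrs : ∀ (p : ℤ) (x : P.X p), r p (s p x) = x := fun p x => LinearMap.congr_fun (hsr p) x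
  let Δ : IdemCx c.pt n :=
    { e := fun p => LinearMap.toMatrix' (s p ∘ₗ r p)
      D := fun p => LinearMap.toMatrix' (s (p + 1) ∘ₗ (P.d p (p + 1)).hom ∘ₗ r p)
      idem := fun p => by
        rw [← LinearMap.toMatrix'_comp]
        exact congrArg _ (LinearMap.ext fun v => by simp [hrs])
      eD := fun p => by
        rw [← LinearMap.toMatrix'_comp]
        exact congrArg _ (LinearMap.ext fun v => by simp [hrs])
      De := fun p => by
        rw [← LinearMap.toMatrix'_comp]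
        exact congrArg _ (LinearMap.ext fun v => by simp [hrs])
      DD := fun p => by
        rw [← LinearMap.toMatrix'_comp, ← map_zero (LinearMap.toMatrix' (R := c.pt) (n := Fin n) (m := Fin n))]
        refine congrArg _ (LinearMap.ext fun v => ?_)
        have h := ConcreteCategory.congr_hom (P.d_comp_d p (p + 1) (p + 1 + 1)) (r p v)
        simp only [LinearMap.comp_apply, hrs, LinearMap.zero_apply]
        refine (congrArg (s (p + 1 + 1)) h).trans ?_
        simp }
  obtain ⟨j, Δ', hz, he, hD⟩ := exists_idemCx hc Δ a b fun p hp =>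
    ⟨by simp [Δ, hs0 p hp], by simp [Δ, hs0 p hp]⟩
  refine ⟨j, DRing.toD Δ'.cx, ⟨Δ'.cx, a, b, fun p hp => Δ'.isZero_cx (hz p hp), Δ'.termwiseFiniteProjective_cx,
    ⟨Iso.refl _⟩⟩, ?_⟩
  letI : Algebra (F.obj j) c.pt := (c.ι.app j).hom.toAlgebra
  obtain ⟨e⟩ := nonempty_extCx_iso (S := F.obj j) (R := c.pt) Δ' P s r hsr
    (fun p => by
      refine LinearMap.toMatrix'.injective ?_
      rw [← Matrix.toLin'_apply', LinearMap.toMatrix'_toLin']
      exact (he p).symm)
    (fun p => by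
      refine LinearMap.toMatrix'.injective ?_
      rw [← Matrix.toLin'_apply', LinearMap.toMatrix'_toLin']
      exact (hD p).symm)
  obtain ⟨eb⟩ := nonempty_lBaseChangeFlatIso (c.ι.app j).hom Δ'.cx (b := b)
    (fun p hp => Δ'.isZero_cx (hz p (Or.inr hp)))
    fun p => haveI := (Δ'.termwiseFiniteProjective_cx p).2; inferInstance
  exact ⟨eb ≪≫ DerivedCategory.Q.mapIso e ≪≫ eP⟩

end Colimit

end Groth.DAlg
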