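import Groth.Agent.LocCohTransform.RHomDual
import Groth.Agent.DAlg.PCoh
import Mathlib.Algebra.Homology.HomotopyCategory.HomComplexSingle
import Mathlib.RingTheory.Finiteness.Projective
import Mathlib.LinearAlgebra.Dual.Lemmas

/-!
The dual of a perfect complex and biduality.
-/

universe u

open CategoryTheory CategoryTheory.Limits HomologicalComplex CochainComplex CochainComplex.HomComplex

attribute [local instance] HasDerivedCategory.standard
set_option linter.style.haveILetI false

namespace Groth.DAlg.PerfectDual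

variable {A : Type u} [CommRing A]

variable (A) in
/-- The unit in degree `0`. -/
noncomputable abbrev S : DRing.Cx A := (CochainComplex.singleFunctor (ModuleCat.{u} A) 0).obj (ModuleCat.of A A)

variable {K : DRing.Cx A}

/-- Cochains into the unit are linear forms. -/
noncomputable def ev {p n : ℤ} (h : p + n = 0) : Cochain K (S A) n ≃ₗ[A] (K.X p →ₗ[A] A) :=
  AddEquiv.toLinearEquiv ((Cochain.toSingleEquiv h).trans ModuleCat.homAddEquiv) fun c α => by
    show (((c • α).v p 0 h) ≫ (singleObjXSelf (ComplexShape.up ℤ) 0 (ModuleCat.of A A)).hom).hom =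
      c • ((α.v p 0 h) ≫ (singleObjXSelf (ComplexShape.up ℤ) 0 (ModuleCat.of A A)).hom).hom
    refine LinearMap.ext fun x => ?_
    exact map_smul (singleObjXSelf (ComplexShape.up ℤ) 0 (ModuleCat.of A A)).hom.hom c ((α.v p 0 h).hom x)

lemma ev_δ {p n p' n' : ℤ} (h : p + n = 0) (h' : p' + n' = 0) (hn : n + 1 = n') (α : Cochain K (S A) n) :
    ev h' (δ n n' α) = (n'.negOnePow : ℤ) • (ev h α ∘ₗ (K.d p' p).hom) := by
  obtain ⟨f, rfl⟩ := (Cochain.toSingleEquiv h).symm.surjective α
  show ((δ n n' (Cochain.toSingleMk f h)).v p' 0 h' ≫ _).hom = _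
  rw [Cochain.δ_toSingleMk f h n' p' h']
  have h2 : ev h ((Cochain.toSingleEquiv h).symm f) = f.hom :=
    congrArg ModuleCat.Hom.hom ((Cochain.toSingleEquiv h).apply_symm_apply f)
  rw [h2]
  refine LinearMap.ext fun x => ?_
  erw [Cochain.units_smul_v, Cochain.toSingleMk_v]
  show (singleObjXSelf (ComplexShape.up ℤ) 0 (ModuleCat.of A A)).hom.hom ((n'.negOnePow : ℤ) •
    (singleObjXSelf (ComplexShape.up ℤ) 0 (ModuleCat.of A A)).inv.hom (f.hom ((K.d p' p).hom x))) = _
  rw [map_zsmul]
  exact congrArg _ (Iso.inv_hom_id_apply (singleObjXSelf (ComplexShape.up ℤ) 0 (ModuleCat.of A A)) _)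

variable (P : DRing.Cx A)

/-- The dual complex. -/
noncomputable abbrev D : DRing.Cx A := DRing.homCx P (S A)

/-- Evaluation at an element, with its sign. -/
noncomputable def Φ (n : ℤ) : P.X n →ₗ[A] (DRing.homCx (D P) (S A)).X n :=
  (ev (K := D P) (neg_add_cancel n)).symm.toLinearMap ∘ₗ ((n.negOnePow : ℤ) •
    ((LinearMap.lcomp A A (ev (K := P) (add_neg_cancel n)).toLinearMap) ∘ₗ Module.Dual.eval A (P.X n)))

lemma ev_Φ (n : ℤ) (y : P.X n) (z : Cochain P (S A) (-n)) :
    ev (K := D P) (neg_add_cancel n) (Φ P n y) z = (n.negOnePow : ℤ) • ev (add_neg_cancel n) z y := by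
  show ev (K := D P) (neg_add_cancel n) ((ev (K := D P) (neg_add_cancel n)).symm _) z = _
  rw [LinearEquiv.apply_symm_apply]
  rfl

lemma Φ_comm (n : ℤ) (y : P.X n) :
    (DRing.homCx (D P) (S A)).d n (n + 1) (Φ P n y) = Φ P (n + 1) (P.d n (n + 1) y) := by
  refine (ev (K := D P) (neg_add_cancel (n + 1))).injective (LinearMap.ext fun (z : Cochain P (S A) (-(n + 1))) => ?_)
  rw [ev_Φ]
  refine (LinearMap.congr_fun (ev_δ (K := D P) (neg_add_cancel n) (neg_add_cancel (n + 1)) rfl (Φ P n y)) z).trans ?_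
  show ((n + 1).negOnePow : ℤ) • ev (K := D P) (neg_add_cancel n) (Φ P n y) (δ (-(n + 1)) (-n) z) = _
  rw [ev_Φ, ev_δ (add_neg_cancel (n + 1)) (add_neg_cancel n) (by omega) z]
  simp only [LinearMap.smul_apply, LinearMap.comp_apply, smul_smul]
  congr 1
  rw [Int.negOnePow_neg, ← Units.val_mul, ← Units.val_mul, Int.units_mul_self, mul_one]

lemma Φ_bijective (n : ℤ) [Module.Finite A (P.X n)] [Module.Projective A (P.X n)] : Function.Bijective (Φ P n) := by
  have h1 : Function.Bijective (Module.Dual.eval A (P.X n)) := (Module.evalEquiv A (P.X n)).bijective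
  have h2 : Function.Bijective (LinearMap.lcomp A A (ev (K := P) (add_neg_cancel n)).toLinearMap) :=
    ((ev (K := P) (add_neg_cancel n)).symm.arrowCongr (LinearEquiv.refl A A)).bijective
  refine (ev (K := D P) (neg_add_cancel n)).symm.bijective.comp ?_
  rcases Int.units_eq_one_or n.negOnePow with h | h
  · simp only [h, Units.val_one, one_smul]
    exact h2.comp h1
  · simp only [h, Units.val_neg, Units.val_one, neg_smul, one_smul]
    exact (LinearEquiv.neg A).bijective.comp (h2.comp h1)

/-- Biduality for complexes of finite projective modules. -/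
theorem nonempty_bidual (hf : DRing.TermwiseFiniteProjective P) :
    Nonempty (DRing.homCx (D P) (S A) ≅ P) :=
  ⟨(HomologicalComplex.Hom.isoOfComponents
    (fun n => haveI := (hf n).1; haveI := (hf n).2
      (LinearEquiv.ofBijective (Φ P n) (Φ_bijective P n)).toModuleIso) (by
    rintro n m rfl
    exact ModuleCat.hom_ext (LinearMap.ext fun y => Φ_comm P n y))).symm⟩

lemma vanishes_D {a b : ℤ} (hP : DRing.VanishesOutside P a b) : DRing.VanishesOutside (D P) (-b) (-a) := fun n hn => by
  have := ModuleCat.subsingleton_of_isZero (hP (-n) (by omega))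
  exact ModuleCat.isZero_iff_subsingleton.2 (ev (K := P) (neg_add_cancel n)).toEquiv.subsingleton

lemma finiteProjective_D (hf : DRing.TermwiseFiniteProjective P) : DRing.TermwiseFiniteProjective (D P) := fun n => by
  haveI := (hf (-n)).1; haveI := (hf (-n)).2
  exact ⟨Module.Finite.equiv (ev (K := P) (neg_add_cancel n)).symm,
    Module.Projective.of_equiv (ev (K := P) (neg_add_cancel n)).symm⟩

/-- Hom complexes from a K-projective complex preserve quasi-isomorphisms. -/
theorem isIso_post (G : DRing.Cx A) [G.IsKProjective] {L L' : DRing.Cx A} (g : L ⟶ L') [QuasiIso g] :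
    QuasiIso (DRing.homCxMap G g) := by
  have hsurj : ∀ (n : ℤ) (φ : DerivedCategory.Q.obj G ⟶ DerivedCategory.Q.obj (L⟦n⟧)),
      ∃ z : Cocycle G L n, DerivedCategory.Q.map (Cocycle.equivHomShift.symm z) = φ := fun n φ => by
    obtain ⟨f, hf⟩ := (CochainComplex.IsKProjective.Qh_map_bijective G
      ((HomotopyCategory.quotient _ _).obj (L⟦n⟧))).2
      ((DerivedCategory.quotientCompQhIso (ModuleCat.{u} A)).hom.app G ≫ φ ≫
        (DerivedCategory.quotientCompQhIso (ModuleCat.{u} A)).inv.app (L⟦n⟧))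
    obtain ⟨u, rfl⟩ := (HomotopyCategory.quotient _ _).map_surjective f
    refine ⟨Cocycle.equivHomShift u, ?_⟩
    rw [AddEquiv.symm_apply_apply, ← cancel_epi ((DerivedCategory.quotientCompQhIso (ModuleCat.{u} A)).hom.app G),
      ← cancel_mono ((DerivedCategory.quotientCompQhIso (ModuleCat.{u} A)).inv.app (L⟦n⟧)), Category.assoc,
      Category.assoc, ← hf, ← (DerivedCategory.quotientCompQhIso (ModuleCat.{u} A)).hom.naturality_assoc]
    simp
  have hzero : ∀ {L : DRing.Cx A} (n m : ℤ) (_ : m + 1 = n) (z : Cocycle G L n),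
      DerivedCategory.Q.map (Cocycle.equivHomShift.symm z) = 0 ↔
        ∃ β : Cochain G L m, δ m n β = (z : Cochain G L n) := fun {L} n m hm z => by
    rw [← mem_coboundaries_iff z m hm, ← CohomologyClass.toHom_mk_eq_zero_iff, CohomologyClass.toHom_mk]
    constructor
    · intro h
      apply (CochainComplex.IsKProjective.Qh_map_bijective G _).injective
      have hn := (DerivedCategory.quotientCompQhIso (ModuleCat.{u} A)).hom.naturality (Cocycle.equivHomShift.symm z)
      rw [Functor.comp_map, h, comp_zero] at hn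
      rw [Functor.map_zero]
      exact (cancel_mono ((DerivedCategory.quotientCompQhIso (ModuleCat.{u} A)).hom.app _)).1
        (hn.trans zero_comp.symm)
    · intro h
      have hn := (DerivedCategory.quotientCompQhIso (ModuleCat.{u} A)).hom.naturality (Cocycle.equivHomShift.symm z)
      rw [Functor.comp_map, h, Functor.map_zero, zero_comp] at hn
      rw [← cancel_epi ((DerivedCategory.quotientCompQhIso (ModuleCat.{u} A)).hom.app G), ← hn, comp_zero]
  haveI : ∀ n : ℤ, IsIso (DerivedCategory.Q.map (g⟦n⟧')) := fun n => by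
    have hn := ((DerivedCategory.Q (C := ModuleCat.{u} A)).commShiftIso n).hom.naturality g
    haveI : IsIso (DerivedCategory.Q.map g) := (DerivedCategory.isIso_Q_map_iff_quasiIso _ g).2 ‹_›
    haveI : IsIso (DerivedCategory.Q.map (g⟦n⟧') ≫
        ((DerivedCategory.Q (C := ModuleCat.{u} A)).commShiftIso n).hom.app L') := by
      erw [hn]
      simp only [Functor.comp_map]
      infer_instance
    exact IsIso.of_isIso_comp_right _ (((DerivedCategory.Q (C := ModuleCat.{u} A)).commShiftIso n).hom.app L')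
  have hpost : ∀ (n : ℤ) (z : Cocycle G L n), DerivedCategory.Q.map (Cocycle.equivHomShift.symm (z.postcomp g)) =
      DerivedCategory.Q.map (Cocycle.equivHomShift.symm z) ≫ DerivedCategory.Q.map (g⟦n⟧') := fun n z => by
    rw [Cocycle.equivHomShift_symm_postcomp, Functor.map_comp]
  refine ⟨fun j => ?_⟩
  rw [quasiIsoAt_iff_isIso_homologyMap, ConcreteCategory.isIso_iff_bijective]
  refine ⟨(FlatCxBase.homologyMap_injective_iff _ (i := j - 1) (k := j + 1) (by simp) (by simp)).2 ?_,
    (FlatCxBase.homologyMap_surjective_iff _ (i := j - 1) (k := j + 1) (by simp) (by simp)).2 ?_⟩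
  · intro (x : Cochain G L j) (hx : δ j (j + 1) x = 0)
    rintro ⟨(y : Cochain G L' (j - 1)), hy⟩
    let z : Cocycle G L j := Cocycle.mk x (j + 1) rfl hx
    have h : DerivedCategory.Q.map (Cocycle.equivHomShift.symm (z.postcomp g)) = 0 :=
      (hzero j (j - 1) (by omega) _).2 ⟨y, hy⟩
    rw [hpost] at h
    exact (hzero j (j - 1) (by omega) z).1 ((cancel_mono (DerivedCategory.Q.map (g⟦j⟧'))).1 (h.trans zero_comp.symm))
  · intro (y : Cochain G L' j) (hy : δ j (j + 1) y = 0)
    let y' : Cocycle G L' j := Cocycle.mk y (j + 1) rfl hy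
    obtain ⟨z, hz⟩ := hsurj j (DerivedCategory.Q.map (Cocycle.equivHomShift.symm y') ≫ inv (DerivedCategory.Q.map (g⟦j⟧')))
    have h : DerivedCategory.Q.map (Cocycle.equivHomShift.symm (y' - z.postcomp g)) = 0 := by
      rw [map_sub, Functor.map_sub, hpost, hz, Category.assoc, IsIso.inv_hom_id, Category.comp_id, sub_self]
    obtain ⟨w, hw⟩ := (hzero j (j - 1) (by omega) _).1 h
    refine ⟨(z : Cochain G L j), w, Cocycle.δ_eq_zero z (j + 1), ?_⟩
    show @HAdd.hAdd (Cochain G L' j) (Cochain G L' j) _ _ ((z.postcomp g : Cocycle G L' j) : Cochain G L' j) (δ (j - 1) j w) = y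
    rw [hw]
    exact add_sub_cancel ((z.postcomp g : Cocycle G L' j) : Cochain G L' j) y

/-- `RHom(E, A)` is the dual complex of a finite projective representative. -/
theorem nonempty_rhom_unit (E : DRing.Cx A) [DRing.HasRHomCx E] (P : DRing.Cx A) [P.IsKProjective]
    (e : DRing.toD E ≅ DRing.toD P) :
    Nonempty ((DRing.RHomCx E).obj (Dual.inD A A) ≅ DRing.toD (D P)) := by
  haveI := Groth.DAlg.RHomCx.hasRHomCx P
  obtain ⟨e₁⟩ := LocCohTransform.RHomDual.nonempty_rhom_congr e (Dual.inD A A)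
  obtain ⟨L, r, -, hr, hL, -⟩ := DerivedCoh.KInjRes.exists_resolution (S A)
  haveI := hL
  haveI := hr
  haveI : IsIso (DerivedCategory.Q.map r) := (DerivedCategory.isIso_Q_map_iff_quasiIso _ r).2 hr
  haveI := isIso_post P r
  haveI : IsIso (DerivedCategory.Q.map (DRing.homCxMap P r)) :=
    (DerivedCategory.isIso_Q_map_iff_quasiIso _ _).2 ‹_›
  exact ⟨e₁ ≪≫ (DRing.RHomCx P).mapIso ((DerivedCategory.singleFunctorIsoCompQ (ModuleCat.{u} A) 0).app _ ≪≫
    asIso (DerivedCategory.Q.map r)) ≪≫ (DAlg.RHomCx.objIso P L).symm ≪≫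
      (asIso (DerivedCategory.Q.map (DRing.homCxMap P r))).symm⟩

/-- The dual of a perfect object is perfect and the double dual is the object. -/
theorem main (K : Dual.D A) (hK : DRing.IsPerfect A K) (E : DRing.Cx A) (eK : DRing.toD E ≅ K) [DRing.HasRHomCx E] :
    DRing.IsPerfect A ((DRing.RHomCx E).obj (Dual.inD A A)) ∧
      ∀ (E' : DRing.Cx A) (_ : DRing.toD E' ≅ (DRing.RHomCx E).obj (Dual.inD A A)) [DRing.HasRHomCx E'],
        Nonempty ((DRing.RHomCx E').obj (Dual.inD A A) ≅ K) := by
  obtain ⟨P, a, b, hP, hf, ⟨e⟩⟩ := hK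
  haveI := isKProjective_of_bounded (fun i hi => hP i (Or.inr hi)) fun i => (hf i).2
  obtain ⟨e₁⟩ := nonempty_rhom_unit E P (eK ≪≫ e.symm)
  refine ⟨IsPerfect.of_iso ⟨D P, -b, -a, vanishes_D P hP, finiteProjective_D P hf, ⟨Iso.refl _⟩⟩ e₁.symm,
    fun E' eK' _ => ?_⟩
  haveI := isKProjective_of_bounded (fun i hi => vanishes_D P hP i (Or.inr hi)) fun i => (finiteProjective_D P hf i).2
  obtain ⟨e₂⟩ := nonempty_rhom_unit E' (D P) (eK' ≪≫ e₁)
  obtain ⟨e₃⟩ := nonempty_bidual P hf
  exact ⟨e₂ ≪≫ DerivedCategory.Q.mapIso e₃ ≪≫ e⟩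

end Groth.DAlg.PerfectDual
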