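import Groth.Agent.DAlg.MittagLefflerNat

/-!
Vanishing of the higher derived functors of the limit of a tower of abelian groups.
-/

universe u

open CategoryTheory CategoryTheory.Limits Opposite

namespace Groth.DAlg.RLimVanishing

open MittagLeffler MittagLefflerNat

/-- The free tower on the levels below `j`. -/
noncomputable def freeTower (j : ℕ) : ℕᵒᵖ ⥤ AddCommGrpCat.{u} :=
  yoneda.obj j ⋙ uliftFunctor.{u} ⋙ AddCommGrpCat.free

/-- An injective tower has surjective transition maps. -/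
lemma surjective_of_injective (I : ℕᵒᵖ ⥤ AddCommGrpCat.{u}) [Injective I] {i j : ℕ} (h : i ≤ j) :
    Function.Surjective (r I h) := by
  intro x
  let ι : freeTower.{u} i ⟶ freeTower.{u} j :=
    Functor.whiskerRight (Functor.whiskerRight (yoneda.map (homOfLE h)) uliftFunctor.{u}) AddCommGrpCat.free
  have : ∀ k, Mono (ι.app k) := fun k => by
    have : Mono ((Functor.whiskerRight (yoneda.map (homOfLE h)) uliftFunctor.{u}).app k) :=
      (mono_iff_injective _).2 fun (a b : ULift.{u} (k.unop ⟶ i)) _ => ULift.ext _ _ (Subsingleton.elim _ _)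
    exact AddCommGrpCat.free.map_mono _
  have : Mono ι := NatTrans.mono_of_mono_app _
  let φ : freeTower.{u} i ⟶ I :=
    { app := fun k => AddCommGrpCat.ofHom (FreeAbelianGroup.lift
        (fun f : ULift.{u} (k.unop ⟶ i) => (I.map f.down.op).hom x))
      naturality := fun k l g => by
        refine AddCommGrpCat.hom_ext (FreeAbelianGroup.lift_ext _ _ fun (f : ULift.{u} (k.unop ⟶ i)) => ?_)
        change FreeAbelianGroup.lift (fun f : ULift.{u} (l.unop ⟶ i) => (I.map f.down.op).hom x)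
          (FreeAbelianGroup.map (fun f : ULift.{u} (k.unop ⟶ i) => ULift.up (g.unop ≫ f.down)) (FreeAbelianGroup.of f)) =
          (I.map g).hom (FreeAbelianGroup.lift (fun f : ULift.{u} (k.unop ⟶ i) => (I.map f.down.op).hom x)
            (FreeAbelianGroup.of f))
        rw [FreeAbelianGroup.map_of_apply, FreeAbelianGroup.lift_apply_of, FreeAbelianGroup.lift_apply_of]
        change (I.map (f.down.op ≫ g)).hom x = _
        rw [Functor.map_comp]
        rfl }
  refine ⟨(((Injective.factorThru φ ι).app (op j))).hom (FreeAbelianGroup.of (ULift.up (𝟙 j))), ?_⟩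
  refine (r_nat.{0, u} (Injective.factorThru φ ι) h _).symm.trans ?_
  have h1 : r (freeTower.{u} j) h (FreeAbelianGroup.of (ULift.up (𝟙 j))) =
      (ι.app (op i)).hom (FreeAbelianGroup.of (ULift.up (𝟙 i))) := by
    change FreeAbelianGroup.map _ (FreeAbelianGroup.of _) = FreeAbelianGroup.map _ (FreeAbelianGroup.of _)
    simp only [FreeAbelianGroup.map_of_apply]
    exact congrArg FreeAbelianGroup.of (@Subsingleton.elim (ULift.{u} (i ⟶ j)) _ _ _)
  rw [h1]
  refine (ConcreteCategory.congr_hom (NatTrans.congr_app (Injective.comp_factorThru φ ι) (op i))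
    (FreeAbelianGroup.of (ULift.up (𝟙 i)))).trans ?_
  refine (FreeAbelianGroup.lift_apply_of _ _).trans ?_
  exact ConcreteCategory.congr_hom (I.map_id (op i)) x

lemma ml_of_injective (I : ℕᵒᵖ ⥤ AddCommGrpCat.{u}) [Injective I] : ML I := fun i =>
  ⟨i, le_rfl, fun k h' x => by
    obtain ⟨y, hy⟩ := surjective_of_injective I h' (r I (le_refl i) x)
    exact ⟨y, hy⟩⟩

/-- `Rⁱ lim` vanishes for `i ≥ 2`. -/
theorem isZero_rightDerived_lim [HasInjectiveResolutions (ℕᵒᵖ ⥤ AddCommGrpCat.{u})]
    [(lim : (ℕᵒᵖ ⥤ AddCommGrpCat.{u}) ⥤ AddCommGrpCat.{u}).Additive]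
    (A : ℕᵒᵖ ⥤ AddCommGrpCat.{u}) (j : ℕ) :
    IsZero (((lim : (ℕᵒᵖ ⥤ AddCommGrpCat.{u}) ⥤ AddCommGrpCat.{u}).rightDerived (j + 2)).obj A) := by
  let I := injectiveResolution A
  refine IsZero.of_iso ?_ (I.isoRightDerivedObj _ (j + 2))
  have := I.injective j
  let J := I.cocomplex
  have hp : ∀ (n : ℕ) (k : ℕᵒᵖ), ((J.d (n + 1) (n + 2)).app k).hom.ker = ((J.d n (n + 1)).app k).hom.range := by
    intro n k
    have h := ((J.exactAt_iff' n (n + 1) (n + 2) (by simp) (by simp)).1 (I.cocomplex_exactAt_succ n)).map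
      ((evaluation ℕᵒᵖ AddCommGrpCat.{u}).obj k)
    exact (ShortComplex.ab_exact_iff_range_eq_ker.1 h).symm
  refine (HomologicalComplex.exactAt_iff_isZero_homology _ _).1 ?_
  rw [HomologicalComplex.exactAt_iff' _ (j + 1) (j + 2) (j + 3) (by simp) (by simp),
    ShortComplex.ab_exact_iff_range_eq_ker]
  exact (ker_limMap_eq (J.d j (j + 1)) (J.d (j + 1) (j + 2)) (J.d (j + 2) (j + 3)) (hp j) (hp (j + 1))
    (ml_of_injective (J.X j))).symm

end Groth.DAlg.RLimVanishing
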