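import Groth.Agent.DAlg.PCRestrict
import Groth.Prelude.Def_DerCA
import Groth.Prelude.Def_MoreMor
import Mathlib.RingTheory.MvPolynomial.Basic
import Mathlib.Algebra.MvPolynomial.Equiv

/-!
Relative pseudo-coherence does not depend on the presentation.
-/

universe u

open CategoryTheory CategoryTheory.Limits CategoryTheory.Pretriangulated HomologicalComplex

attribute [local instance] HasDerivedCategory.standard
set_option linter.style.haveILetI false

namespace Groth.DAlg

open PCohPunctual MvPolynomial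

/-- Evaluation of finitely many variables is pseudo-coherent. -/
theorem pcMap_eval {P : Type u} [CommRing P] : ∀ (k : ℕ) (g : Fin k → P), PCMap (MvPolynomial.eval g) := by
  intro k
  induction k with
  | zero => exact fun g => PCMap.of_bijective ⟨fun a b h => by
      obtain ⟨a, rfl⟩ := MvPolynomial.C_surjective (Fin 0) a
      obtain ⟨b, rfl⟩ := MvPolynomial.C_surjective (Fin 0) b
      rw [eval_C, eval_C] at h
      rw [h], fun r => ⟨C r, eval_C r⟩⟩
  | succ k ih =>
    intro g
    have h1 : PCMap ((finSuccEquiv P k).toRingEquiv.toRingHom) := PCMap.of_bijective (finSuccEquiv P k).bijective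
    have h2 : PCMap (Polynomial.evalRingHom (C (g 0) : MvPolynomial (Fin k) P)) :=
      PCMap.of_regular (fun r => ⟨Polynomial.C r, by simp⟩) (Polynomial.X - Polynomial.C (C (g 0)))
        (Polynomial.monic_X_sub_C _).isRegular.left (by
          ext p
          rw [RingHom.mem_ker, Ideal.mem_span_singleton, Polynomial.dvd_iff_isRoot]
          rfl)
    have h := h1.comp (h2.comp (ih (fun i => g i.succ)))
    convert h using 1
    refine MvPolynomial.ringHom_ext (fun r => ?_) fun i => ?_
    · simp [finSuccEquiv_apply]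
    · refine Fin.cases ?_ (fun j => ?_) i
      · simp [finSuccEquiv_X_zero]
      · simp [finSuccEquiv_X_succ]

variable {R A : Type u} [CommRing R] [CommRing A] [Algebra R A]

theorem via_iff {n : ℕ} (α : MvPolynomial (Fin n) R →ₐ[R] A) {m : ℤ} {K : Dual.D A} :
    DerCA.IsRelPseudoCoherentVia α m K ↔
      PCn (finFree (MvPolynomial (Fin n) R)) m ((DRing.restrictD (α : MvPolynomial (Fin n) R →+* A)).obj K) :=
  isPseudoCoherent_iff

lemma pcn_res_comp_iff {P Q S : Type u} [CommRing P] [CommRing Q] [CommRing S] {φ : P →+* Q} (hφ : PCMap φ)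
    (ψ : Q →+* S) {m : ℤ} {K : Dual.D S} :
    PCn (finFree P) m ((DRing.restrictD (ψ.comp φ)).obj K) ↔ PCn (finFree Q) m ((DRing.restrictD ψ).obj K) := by
  obtain ⟨e⟩ := nonempty_res_comp φ ψ K
  exact ⟨fun h => hφ.of_res (h.of_iso e.symm), fun h => (hφ.res h).of_iso e⟩

/-- Adding variables to a presentation. -/
theorem pcn_sum_iff {n k : ℕ} (α : MvPolynomial (Fin n) R →ₐ[R] A) (hα : Function.Surjective α) (b : Fin k → A)
    (K : Dual.D A) (m : ℤ) :
    PCn (finFree (MvPolynomial (Fin k ⊕ Fin n) R)) m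
        ((DRing.restrictD (aeval (Sum.elim b (fun i => α (X i))) : MvPolynomial (Fin k ⊕ Fin n) R →ₐ[R] A).toRingHom).obj K) ↔
      DerCA.IsRelPseudoCoherentVia α m K := by
  choose g hg using fun j => hα (b j)
  have h : PCMap ((MvPolynomial.eval g).comp (sumRingEquiv R (Fin k) (Fin n)).toRingHom) :=
    (PCMap.of_bijective (sumRingEquiv R (Fin k) (Fin n)).bijective).comp (pcMap_eval k g)
  rw [via_iff, ← pcn_res_comp_iff h]
  have he : (aeval (Sum.elim b (fun i => α (X i))) : MvPolynomial (Fin k ⊕ Fin n) R →ₐ[R] A).toRingHom =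
      (α : MvPolynomial (Fin n) R →+* A).comp ((MvPolynomial.eval g).comp (sumRingEquiv R (Fin k) (Fin n)).toRingHom) := by
    refine MvPolynomial.ringHom_ext (fun r => ?_) fun i => ?_
    · simp
    · rcases i with j | j
      · simp [hg]
      · simp
  rw [he]

/-- Independence of the presentation. -/
theorem via_iff_via {n k : ℕ} (α : MvPolynomial (Fin n) R →ₐ[R] A) (hα : Function.Surjective α)
    (β : MvPolynomial (Fin k) R →ₐ[R] A) (hβ : Function.Surjective β) (K : Dual.D A) (m : ℤ) :
    DerCA.IsRelPseudoCoherentVia α m K ↔ DerCA.IsRelPseudoCoherentVia β m K := by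
  rw [← pcn_sum_iff α hα (fun j => β (X j)) K m, ← pcn_sum_iff β hβ (fun i => α (X i)) K m]
  have h : PCMap (renameEquiv R (Equiv.sumComm (Fin n) (Fin k))).toRingEquiv.toRingHom :=
    PCMap.of_bijective (renameEquiv R (Equiv.sumComm (Fin n) (Fin k))).bijective
  rw [← pcn_res_comp_iff h]
  have he : ((aeval (Sum.elim (fun j => β (X j)) fun i => α (X i)) : MvPolynomial (Fin k ⊕ Fin n) R →ₐ[R] A).toRingHom).comp
      (renameEquiv R (Equiv.sumComm (Fin n) (Fin k))).toRingEquiv.toRingHom =
        (aeval (Sum.elim (fun i => α (X i)) fun j => β (X j)) : MvPolynomial (Fin n ⊕ Fin k) R →ₐ[R] A).toRingHom := by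
    refine MvPolynomial.ringHom_ext (fun r => ?_) fun i => ?_
    · simp
    · rcases i with j | j <;> simp
  rw [he]

theorem relPC_iff {n : ℕ} {α : MvPolynomial (Fin n) R →ₐ[R] A} (hα : Function.Surjective α) {m : ℤ} {K : Dual.D A} :
    DerCA.IsRelPseudoCoherent R A m K ↔
      PCn (finFree (MvPolynomial (Fin n) R)) m ((DRing.restrictD (α : MvPolynomial (Fin n) R →+* A)).obj K) := by
  refine ⟨?_, fun h => ⟨n, α, hα, (via_iff α).2 h⟩⟩
  rintro ⟨k, β, hβ, h⟩
  exact (via_iff α).1 ((via_iff_via β hβ α hα K m).1 h)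

theorem relPCAll_iff {n : ℕ} {α : MvPolynomial (Fin n) R →ₐ[R] A} (hα : Function.Surjective α) {K : Dual.D A} :
    DerCA.IsRelPseudoCoherentAll R A K ↔
      ∀ m, PCn (finFree (MvPolynomial (Fin n) R)) m ((DRing.restrictD (α : MvPolynomial (Fin n) R →+* A)).obj K) :=
  forall_congr' fun _ => relPC_iff hα

end Groth.DAlg
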