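import Groth.Agent.DAlg.KFlatOps
import Groth.Agent.DAlg.TensorSingleLeft
import Groth.Agent.DAlg.PCRestrict
import Mathlib.Algebra.Category.ModuleCat.Biproducts
import Mathlib.LinearAlgebra.Pi

/-!
Finiteness of a total tensor product by devissage on a complex of finite free modules.
-/

universe u

open CategoryTheory CategoryTheory.Limits CategoryTheory.Pretriangulated HomologicalComplex MonoidalCategory

attribute [local instance] HasDerivedCategory.standard
set_option linter.style.haveILetI false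

namespace Groth.DAlg

open DerivedCoh KFlatMod PCohPunctual

variable {C : Type u} [CommRing C]

local notation "up" => ComplexShape.up ℤ

/-- A property of modules closed under split extensions holds for finite free modules once it holds for the ring. -/
theorem finFree_induction (Φ : ModuleCat.{u} C → Prop) (hiso : ∀ {X Y : ModuleCat.{u} C}, (X ≅ Y) → Φ X → Φ Y)
    (hzero : ∀ X : ModuleCat.{u} C, IsZero X → Φ X)
    (hext : ∀ S : ShortComplex (ModuleCat.{u} C), S.Splitting → Φ S.X₁ → Φ S.X₃ → Φ S.X₂)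
    (h1 : Φ (ModuleCat.of C C)) {M : ModuleCat.{u} C} (hM : finFree C M) : Φ M := by
  suffices key : ∀ r : ℕ, Φ (ModuleCat.of C (Fin r → C)) by
    have := hM.1; have := hM.2
    let b := Module.Free.chooseBasis C M
    exact hiso ((b.reindex (Fintype.equivFin _)).equivFun.toModuleIso.symm :
      ModuleCat.of C (Fin (Fintype.card (Module.Free.ChooseBasisIndex C M)) → C) ≅ M) (key _)
  intro r
  induction r with
  | zero => exact hzero _ (ModuleCat.isZero_of_subsingleton _)
  | succ r ih =>
    refine hiso ?_ (hext _ (ShortComplex.Splitting.ofHasBinaryBiproduct (ModuleCat.of C C)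
      (ModuleCat.of C (Fin r → C))) h1 ih)
    exact ModuleCat.biprodIsoProd _ _ ≪≫ (Fin.consLinearEquiv C (fun _ : Fin (r + 1) => C)).toModuleIso

/-- `tot (N[-j]) F` for a finite free `N`. -/
lemma totSingle_finFree (Φ : DRing.Cx C → Prop) (hiso : ∀ {X Y : DRing.Cx C}, (X ≅ Y) → Φ X → Φ Y)
    (hzero : ∀ X : DRing.Cx C, (∀ i, IsZero (X.X i)) → Φ X)
    (hses : ∀ S : ShortComplex (DRing.Cx C), S.ShortExact → Φ S.X₁ → Φ S.X₃ → Φ S.X₂)
    (F : DRing.Cx C) (j : ℤ) (hF : Φ (F⟦-j⟧)) {N : ModuleCat.{u} C} (hN : finFree C N) :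
    Φ (KFlat.tot (T C) ((single _ up j).obj N) F) := by
  refine hiso (TensorSingleLeft.objIso (T C) j F N) ?_
  refine finFree_induction (fun N => Φ ((((T C).obj N).mapHomologicalComplex up).obj (F⟦-j⟧)))
    (fun e h => hiso ((NatIso.mapHomologicalComplex ((T C).mapIso e) up).app _) h)
    (fun X hX => hzero _ fun i => ((T C).flip.obj _).map_isZero hX)
    (fun S sp h₁ h₃ => ?_) ?_ hN
  · let S' : ShortComplex (DRing.Cx C) := ShortComplex.mk
      ((NatTrans.mapHomologicalComplex ((T C).map S.f) up).app (F⟦-j⟧))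
      ((NatTrans.mapHomologicalComplex ((T C).map S.g) up).app (F⟦-j⟧)) (by
        ext i : 1
        show (S.f ▷ _) ≫ (S.g ▷ _) = 0
        rw [← comp_whiskerRight, S.zero, MonoidalPreadditive.zero_whiskerRight])
    exact hses S' (shortExact_of_degreewise_shortExact _ fun i =>
      (sp.map ((T C).flip.obj ((F⟦-j⟧).X i))).shortExact) h₁ h₃
  · exact hiso ((NatIso.mapHomologicalComplex (leftUnitorNatIso (ModuleCat.{u} C)).symm up).app _)
      (hiso ((Functor.mapHomologicalComplexIdIso (ModuleCat.{u} C) up).app _).symm hF)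

/-- The brutal truncation of a complex of finite free modules. -/
theorem tot_ge (Φ : DRing.Cx C → Prop) (hiso : ∀ {X Y : DRing.Cx C}, (X ≅ Y) → Φ X → Φ Y)
    (hzero : ∀ X : DRing.Cx C, (∀ i, IsZero (X.X i)) → Φ X)
    (hses : ∀ S : ShortComplex (DRing.Cx C), S.ShortExact → Φ S.X₁ → Φ S.X₃ → Φ S.X₂)
    (F G : DRing.Cx C) {c : ℤ} (hG : DRing.VanishesAbove G c) (k : ℤ)
    (hone : ∀ j, k ≤ j → j ≤ c → Φ (KFlat.tot (T C) ((single _ up j).obj (G.X j)) F)) :
    Φ (KFlat.tot (T C) (KFlat.ge G k) F) := by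
  suffices ∀ (d : ℕ) (k' : ℤ), c < k' + d → k ≤ k' → Φ (KFlat.tot (T C) (KFlat.ge G k') F) from
    this (c + 1 - k).toNat k (by omega) le_rfl
  intro d
  induction d with
  | zero =>
    intro k' hk' _
    refine hzero _ fun n => ?_
    rw [IsZero.iff_id_eq_zero]
    refine mapBifunctor.hom_ext fun p q _ => ?_
    refine (((T C).flip.obj (F.X q)).map_isZero ?_).eq_of_src _ _
    by_cases hp : k' ≤ p
    · haveI := KFlat.isIso_geι G hp
      let e : KFlat.geX G k' p ≅ G.X p := asIso (KFlat.geι G k' p)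
      exact (hG p (by omega)).of_iso e
    · exact KFlat.isZero_geX G (by omega)
  | succ d ih =>
    intro k' hk' hkk
    let S := (KFlat.geSC G k').map (KFlat.totL (T C) F)
    have hS : S.ShortExact := KFlat.shortExact_totL (T C) F _ fun p q =>
      ((KFlat.geSplitting G k' p).map ((T C).flip.obj (F.X q))).shortExact
    refine hses S hS (ih (k' + 1) (by omega) (by omega)) ?_
    by_cases hc : k' ≤ c
    · exact hone k' hkk hc
    · refine hzero _ fun n => ?_
      rw [IsZero.iff_id_eq_zero]
      refine mapBifunctor.hom_ext fun p q _ => ?_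
      refine (((T C).flip.obj (F.X q)).map_isZero ?_).eq_of_src _ _
      by_cases hp : p = k'
      · exact (hG k' (by omega)).of_iso (singleObjXIsoOfEq up k' (G.X k') p hp)
      · exact isZero_single_obj_X up k' (G.X k') p hp

/-- The brutal truncation differs from the complex in low degrees only. -/
lemma exists_ge_tail (G : DRing.Cx C) (k : ℤ) :
    ∃ S : ShortComplex (DRing.Cx C), S.X₁ = KFlat.ge G k ∧ S.X₂ = G ∧
      (∀ p, Nonempty (S.map (eval _ up p)).Splitting) ∧ ∀ p, k ≤ p → IsZero (S.X₃.X p) := by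
  haveI : ∀ p, Mono ((KFlat.geHom G k).f p) := fun p =>
    (SplitMono.mk (KFlat.geπ G k p) (KFlat.geι_π G k p)).mono
  haveI : Mono (KFlat.geHom G k) := mono_of_mono_f _ inferInstance
  let S := ShortComplex.mk (KFlat.geHom G k) (cokernel.π _) (cokernel.condition _)
  have hS : S.ShortExact := { exact := ShortComplex.exact_of_g_is_cokernel S (cokernelIsCokernel _) }
  refine ⟨S, rfl, rfl, fun p => ⟨?_⟩, fun p hp => ?_⟩
  · haveI := (hS.map_of_exact (eval _ up p)).epi_g
    exact ShortComplex.Splitting.ofExactOfRetraction _ (hS.map_of_exact (eval _ up p)).exact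
      (KFlat.geπ G k p) (KFlat.geι_π G k p) inferInstance
  · haveI := (hS.map_of_exact (eval _ up p)).epi_g
    haveI := KFlat.isIso_geι G hp
    haveI : Epi (S.map (eval _ up p)).f := inferInstanceAs (Epi (KFlat.geι G k p))
    have h0 : (S.map (eval _ up p)).g = 0 := by
      rw [← cancel_epi (S.map (eval _ up p)).f, comp_zero]
      exact (S.map (eval _ up p)).zero
    exact @IsZero.of_epi_eq_zero _ _ _ _ _ (S.map (eval _ up p)).g (hS.map_of_exact (eval _ up p)).epi_g h0

variable {P : Type u} [CommRing P]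

/-- The restriction of a total tensor product with a complex of finite free modules. -/
theorem pcn_tot (ψ : P →+* C) (F G : DRing.Cx C) {b c : ℤ} (hFb : DRing.VanishesAbove F b)
    (hG : DRing.VanishesAbove G c) (n : ℤ) (hfin : ∀ j, n - b ≤ j → finFree C (G.X j))
    (hF : PCn (finFree P) (n - c) ((DRing.restrictD ψ).obj (DRing.toD F))) :
    PCn (finFree P) n ((DRing.restrictD ψ).obj (DRing.toD (KFlat.tot (T C) G F))) := by
  have hA := isAdditiveSub_finFree P
  have hqs := isQuasiStable_finFree P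
  have hql := isQuasiLiftable_finFree P
  let Φ : DRing.Cx C → Prop := fun X => PCn (finFree P) n ((DRing.restrictD ψ).obj (DRing.toD X))
  have hses : ∀ S : ShortComplex (DRing.Cx C), S.ShortExact → Φ S.X₁ → Φ S.X₃ → Φ S.X₂ := fun S hS h₁ h₃ =>
    PCn.ext hA hqs hql ((DRing.restrictD ψ).map_distinguished _
      (DerivedCategory.triangleOfSES_distinguished hS)) h₁ h₃
  have hzero' : ∀ X : DRing.Cx C, (∀ i, n ≤ i → IsZero (X.X i)) → Φ X := fun X hX =>
    pcn_of_isZero hA hql fun i hi => ModuleCat.isZero_iff_subsingleton.2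
      ((resHD_subsingleton_iff ψ _ i).2 (subsingleton_HD_of_iso (Iso.refl _) (hX i hi)))
  have hiso : ∀ {X Y : DRing.Cx C}, (X ≅ Y) → Φ X → Φ Y := fun e h =>
    h.of_iso ((DRing.restrictD ψ).mapIso (DerivedCategory.Q.mapIso e))
  have hzero : ∀ X : DRing.Cx C, (∀ i, IsZero (X.X i)) → Φ X := fun X hX => hzero' X fun i _ => hX i
  have hge : Φ (KFlat.tot (T C) (KFlat.ge G (n - b)) F) :=
    tot_ge Φ hiso hzero hses F G hG (n - b) fun j hj hjc => totSingle_finFree Φ hiso hzero hses F j (by
      refine ((hF.shift (-j)).mono (by omega)).of_iso ?_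
      exact ((DRing.restrictD ψ).commShiftIso (-j)).symm.app _ ≪≫
        (DRing.restrictD ψ).mapIso ((DerivedCategory.Q.commShiftIso (-j)).symm.app F)) (hfin j hj)
  obtain ⟨S, h₁, h₂, hsp, hz⟩ := exists_ge_tail G (n - b)
  have hS : (S.map (KFlat.totL (T C) F)).ShortExact := KFlat.shortExact_totL (T C) F _ fun p q =>
    ((hsp p).some.map ((T C).flip.obj (F.X q))).shortExact
  refine h₂ ▸ hses _ hS (show Φ (KFlat.tot (T C) S.X₁ F) from h₁.symm ▸ hge) (hzero' _ fun i hi => ?_)
  rw [IsZero.iff_id_eq_zero]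
  refine mapBifunctor.hom_ext fun p q hpq => ?_
  by_cases hq : b < q
  · exact (((T C).obj (S.X₃.X p)).map_isZero (hFb q hq)).eq_of_src _ _
  · exact (((T C).flip.obj (F.X q)).map_isZero (hz p (by simp at hpq; omega))).eq_of_src _ _

end Groth.DAlg
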