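import Groth.Agent.DAlg.RelPCMap
import Groth.Agent.DAlg.PushoutRestrict
import Groth.Agent.DAlg.TotDevissage
import Groth.Agent.DAlg.NilpotentPair

/-!
Derived base change along a relatively pseudo-coherent algebra.
-/

universe u

open CategoryTheory CategoryTheory.Limits HomologicalComplex MonoidalCategory
open scoped TensorProduct

attribute [local instance] HasDerivedCategory.standard
set_option linter.style.haveILetI false

namespace Groth.DAlg

open PCohPunctual DerivedCoh KFlatMod MvPolynomial

variable {C B : Type u} [CommRing C] [CommRing B]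

/-- Restricting an extension of scalars is tensoring. -/
noncomputable def extResNatIso (β : C →+* B) :
    ModuleCat.extendScalars.{u, u, u} β ⋙ ModuleCat.restrictScalars.{u} β ≅
      (T C).obj ((ModuleCat.restrictScalars β).obj (ModuleCat.of B B)) :=
  NatIso.ofComponents (fun X =>
    let e : (ModuleCat.restrictScalars β).obj ((ModuleCat.extendScalars β).obj X) ≃ₗ[C]
        (TensorProduct C ((ModuleCat.restrictScalars β).obj (ModuleCat.of B B)) X) :=
      { toFun := fun z => z
        invFun := fun z => z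
        map_add' := fun _ _ => rfl
        map_smul' := fun c z => by
          refine TensorProduct.induction_on (motive := fun w =>
            (show TensorProduct C ((ModuleCat.restrictScalars β).obj (ModuleCat.of B B)) X from
              (c • (show (ModuleCat.restrictScalars β).obj ((ModuleCat.extendScalars β).obj X) from w))) = c • w)
            z ?_ (fun s x => rfl) fun a b ha hb => ?_
          · exact (smul_zero c).trans (smul_zero c).symm
          · exact (smul_add c _ _).trans ((congrArg₂ (· + ·) ha hb).trans (smul_add c a b).symm)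
        left_inv := fun _ => rfl
        right_inv := fun _ => rfl }
    e.toModuleIso) fun f => by
      apply ModuleCat.hom_ext
      apply LinearMap.ext
      intro z
      refine TensorProduct.induction_on z ?_ (fun s x => rfl) fun a b ha hb => ?_
      · exact (map_zero _).trans (map_zero _).symm
      · exact (map_add _ a b).trans ((congrArg₂ (· + ·) ha hb).trans (map_add _ a b).symm)

/-- Derived base change along a pseudo-coherent map to `B`, measured over `P`. -/
theorem pcn_res_lBaseChange {P : Type u} [CommRing P] {ψ : P →+* C} {β : C →+* B} (hβ : PCMap β)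
    [DRing.HasLBaseChange β] {M : Dual.D C} {m : ℤ} (hM : PCn (finFree P) m ((DRing.restrictD ψ).obj M)) :
    PCn (finFree P) m ((DRing.restrictD (β.comp ψ)).obj ((DRing.LBaseChange β).obj M)) := by
  obtain ⟨b, hb⟩ := hM.bddAbove
  obtain ⟨F, hF, hfree, ⟨eF⟩⟩ := exists_free_rep C (K := M) (b := b) fun i hi =>
    (resHD_subsingleton_iff ψ M i).1 (ModuleCat.subsingleton_of_isZero (hb i hi))
  have hFf : DRing.TermwiseFlat F := fun i => haveI := hfree i; inferInstance
  let RB : ModuleCat.{u} C := (ModuleCat.restrictScalars β).obj (ModuleCat.of B B)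
  have hRB : DRing.IsPseudoCoherent' C (mD RB) :=
    isPseudoCoherent'_iff_isPC.2 fun j => (hβ j).of_iso (resMDIso β _)
  obtain ⟨G, hG, hGF, ⟨eG⟩⟩ := exists_finFree_rep hRB (b := 0) fun i hi =>
    ModuleCat.subsingleton_of_isZero (PCohPunctual.homology_single_isZero RB (ne_of_gt hi))
  obtain ⟨g, hg⟩ := exists_map_of_projective hG (fun i => haveI := (hGF i).2; inferInstance)
    (eG.hom ≫ (DerivedCategory.singleFunctorIsoCompQ (ModuleCat.{u} C) 0).hom.app RB)
  haveI : QuasiIso g := by
    rw [← DerivedCategory.isIso_Q_map_iff_quasiIso, hg]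
    infer_instance
  have hgq : QuasiIso ((KFlat.totL (T C) F).map g) :=
    (isKFlatCx_iff.1 (isKFlatCx_of_flat F hF hFf)).quasiIso_totL g
  have htot := pcn_tot ψ F G hF hG m (fun j _ => hGF j)
    (by rw [sub_zero]; exact hM.of_iso ((DRing.restrictD ψ).mapIso eF.symm))
  obtain ⟨eL⟩ := nonempty_lBaseChangeFlatIso β F hF hFf
  obtain ⟨ec⟩ := nonempty_res_comp ψ β ((DRing.LBaseChange β).obj M)
  refine htot.of_iso ((DRing.restrictD ψ).mapIso ?_ ≪≫ ec)
  exact @asIso _ _ _ _ (DerivedCategory.Q.map ((KFlat.totL (T C) F).map g))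
      ((DerivedCategory.isIso_Q_map_iff_quasiIso _ _).2 hgq) ≪≫
    DerivedCategory.Q.mapIso (KFlat.totSingleIso (T C) RB F ≪≫
      ((NatIso.mapHomologicalComplex (extResNatIso β) (ComplexShape.up ℤ)).app F).symm) ≪≫
    (resQIso β (extCx β F)).symm ≪≫ (DRing.restrictD β).mapIso (eL.symm ≪≫ (DRing.LBaseChange β).mapIso eF)

variable {R A B : Type u} [CommRing R] [CommRing A] [CommRing B] [Algebra R A] [Algebra A B] [Algebra R B]
  [IsScalarTower R A B]

attribute [local instance] MvPolynomial.algebraMvPolynomial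

/-- Derived base change preserves relative pseudo-coherence. -/
theorem relPC_lBaseChange [Algebra.FiniteType R A] [Algebra.FiniteType A B]
    (hB : DerCA.IsRelPseudoCoherentModuleAll A B B) [DRing.HasLBaseChange (algebraMap A B)] (K : Dual.D A) {m : ℤ}
    (hK : DerCA.IsRelPseudoCoherent R A m K) :
    DerCA.IsRelPseudoCoherent R B m ((DRing.LBaseChange (algebraMap A B)).obj K) := by
  obtain ⟨n, α, hα⟩ := Algebra.FiniteType.iff_quotient_mvPolynomial''.mp ‹Algebra.FiniteType R A›
  obtain ⟨k, β, hβs⟩ := Algebra.FiniteType.iff_quotient_mvPolynomial''.mp ‹Algebra.FiniteType A B›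
  obtain ⟨γ, e, hγ, he, hge⟩ := exists_presentation (R := R) hα hβs
  have hβ : PCMap (β : MvPolynomial (Fin k) A →+* B) := fun j => (relPC_iff hβs).1 (hB j)
  obtain ⟨E, ⟨eE⟩⟩ : ∃ E : DRing.Cx A, Nonempty (DRing.toD E ≅ K) :=
    ⟨_, ⟨DerivedCategory.Q.objObjPreimageIso K⟩⟩
  let P := MvPolynomial (Fin n) R
  letI : Algebra P A := (α : MvPolynomial (Fin n) R →+* A).toAlgebra
  have hM := pcn_res_extCx (R := P) (A := A) (R' := MvPolynomial (Fin k) P) (A' := MvPolynomial (Fin k) A) E (n := m)
    (((relPC_iff hα).1 hK).of_iso ((DRing.restrictD _).mapIso eE.symm))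
  haveI := hasLBaseChange (β : MvPolynomial (Fin k) A →+* B)
  haveI := hasLBaseChange (MvPolynomial.C : A →+* MvPolynomial (Fin k) A)
  have hcomp : (β : MvPolynomial (Fin k) A →+* B).comp MvPolynomial.C = algebraMap A B :=
    RingHom.ext fun a => β.commutes a
  haveI : DRing.HasLBaseChange ((β : MvPolynomial (Fin k) A →+* B).comp MvPolynomial.C) := hcomp ▸ ‹_›
  obtain ⟨e₁⟩ := nonempty_lBaseChange_extCx (MvPolynomial.C : A →+* MvPolynomial (Fin k) A)
    (RingHom.flat_algebraMap_iff.2 (inferInstance : Module.Flat A (MvPolynomial (Fin k) A))) E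
  obtain ⟨e₂⟩ := nonempty_lBaseChange_comp (MvPolynomial.C : A →+* MvPolynomial (Fin k) A)
    (β : MvPolynomial (Fin k) A →+* B) K
  rw [relPC_iff hγ, hge, ← RingHom.comp_assoc, pcn_res_comp_iff he]
  have h := pcn_res_lBaseChange (ψ := MvPolynomial.map (α : MvPolynomial (Fin n) R →+* A)) hβ hM
  refine PCn.of_iso h ((DRing.restrictD _).mapIso ((DRing.LBaseChange _).mapIso
    (e₁.symm ≪≫ (DRing.LBaseChange _).mapIso eE) ≪≫ e₂ ≪≫ eqToIso ?_))
  congr 2

end Groth.DAlg
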