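import Groth.Agent.DAlg.RelPC
import Mathlib.RingTheory.AdjoinRoot

/-!
Relative pseudo-coherence along finite maps.
-/

universe u

open CategoryTheory

attribute [local instance] HasDerivedCategory.standard
set_option linter.style.haveILetI false

namespace Groth.DAlg

open PCohPunctual MvPolynomial

variable {B : Type u} [CommRing B]

/-- Integral generators come from a finite free cover which is pseudo-coherent over the polynomial ring. -/
theorem exists_finite_cover : ∀ (k : ℕ) (P : Type u) [CommRing P] [Algebra P B] (b : Fin k → B),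
    (∀ i, IsIntegral P (b i)) →
      ∃ (C : Type u) (_ : CommRing C) (π : MvPolynomial (Fin k) P →+* C) (ρ : C →+* B),
        PCMap π ∧ PCMap (π.comp MvPolynomial.C) ∧ ρ.comp π = eval₂Hom (algebraMap P B) b := by
  intro k
  induction k with
  | zero =>
    intro P _ _ b _
    exact ⟨MvPolynomial (Fin 0) P, inferInstance, RingHom.id _, eval₂Hom (algebraMap P B) b,
      PCMap.of_bijective Function.bijective_id,
      PCMap.of_bijective ⟨C_injective _ _, C_surjective (Fin 0)⟩, RingHom.comp_id _⟩
  | succ k ih =>
    intro P _ _ b hb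
    obtain ⟨p, hp, hp0⟩ := hb 0
    letI : Algebra (AdjoinRoot p) B := (AdjoinRoot.lift (algebraMap P B) (b 0) hp0).toAlgebra
    have halg : ∀ x, algebraMap (AdjoinRoot p) B (AdjoinRoot.of p x) = algebraMap P B x :=
      fun x => AdjoinRoot.lift_of hp0
    haveI : IsScalarTower P (AdjoinRoot p) B := IsScalarTower.of_algebraMap_eq fun x => (halg x).symm
    obtain ⟨C, _, π', ρ, hπ', hπC', hρ⟩ := ih (AdjoinRoot p) (fun i => b i.succ) fun i => (hb i.succ).tower_top
    let e : MvPolynomial (Fin (k + 1)) P →+* MvPolynomial (Fin k) (Polynomial P) :=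
      (optionEquivRight P (Fin k)).toRingEquiv.toRingHom.comp
        (renameEquiv P (_root_.finSuccEquiv k)).toRingEquiv.toRingHom
    have he : PCMap e := (PCMap.of_bijective (renameEquiv P (_root_.finSuccEquiv k)).bijective).comp
      (PCMap.of_bijective (optionEquivRight P (Fin k)).bijective)
    let q : MvPolynomial (Fin k) (Polynomial P) →+* MvPolynomial (Fin k) (AdjoinRoot p) :=
      MvPolynomial.map (AdjoinRoot.mk p)
    have hq : PCMap q := PCMap.of_regular (MvPolynomial.map_surjective _ AdjoinRoot.mk_surjective) (MvPolynomial.C p)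
      (fun f g h => by
        ext m : 1
        have h2 := congrArg (coeff m) (show MvPolynomial.C p * f = MvPolynomial.C p * g from h)
        rw [coeff_C_mul, coeff_C_mul] at h2
        exact hp.isRegular.left h2)
      (by
        rw [MvPolynomial.ker_map, show RingHom.ker (AdjoinRoot.mk p) = Ideal.span {p} from Ideal.mk_ker,
          Ideal.map_span, Set.image_singleton])
    haveI := hp.finite_adjoinRoot
    haveI := hp.free_adjoinRoot
    have hof : PCMap (algebraMap P (AdjoinRoot p)) := PCMap.of_free
    refine ⟨C, inferInstance, π'.comp (q.comp e), ρ, (he.comp hq).comp hπ', ?_, ?_⟩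
    · rw [show (π'.comp (q.comp e)).comp MvPolynomial.C =
        (π'.comp MvPolynomial.C).comp (algebraMap P (AdjoinRoot p)) from RingHom.ext fun x => by
          simp [e, q, optionEquivRight_C, AdjoinRoot.algebraMap_eq]]
      exact hof.comp hπC'
    · rw [← RingHom.comp_assoc, hρ]
      refine MvPolynomial.ringHom_ext (fun x => ?_) fun i => ?_
      · simp [e, q, optionEquivRight_C, halg]
      · refine Fin.cases ?_ (fun j => ?_) i
        · simp [e, q, optionEquivRight_X_none]
          exact AdjoinRoot.lift_root hp0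
        · simp [e, q, optionEquivRight_X_some]

variable {R A : Type u} [CommRing R] [CommRing A] [Algebra R A] [Algebra A B] [Algebra R B] [IsScalarTower R A B]

/-- Relative pseudo-coherence of a module over a finite algebra. -/
theorem relPC_iff_restrict_of_finite [Algebra.FiniteType R A] [Module.Finite A B] (K : Dual.D B) (m : ℤ) :
    DerCA.IsRelPseudoCoherent R B m K ↔
      DerCA.IsRelPseudoCoherent R A m ((DRing.restrictD (algebraMap A B)).obj K) := by
  obtain ⟨n, α, hα⟩ := Algebra.FiniteType.iff_quotient_mvPolynomial''.mp ‹Algebra.FiniteType R A›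
  let P := MvPolynomial (Fin n) R
  obtain ⟨k, b, hb⟩ := Module.Finite.exists_fin (R := A) (M := B)
  letI algP : Algebra P B := ((algebraMap A B).comp (α : P →+* A)).toAlgebra
  have hint : ∀ i, IsIntegral P (b i) := fun i => by
    obtain ⟨p, hp, hp0⟩ := Algebra.IsIntegral.isIntegral (R := A) (b i)
    letI : Algebra P A := (α : P →+* A).toAlgebra
    haveI : IsScalarTower P A B := IsScalarTower.of_algebraMap_eq fun _ => rfl
    haveI : Algebra.IsIntegral P A := ⟨fun a => by
      obtain ⟨x, rfl⟩ := hα a
      exact isIntegral_algebraMap (R := P) (A := A) (x := x)⟩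
    exact isIntegral_trans (R := P) (A := A) (b i) ⟨p, hp, hp0⟩
  obtain ⟨C, _, π, ρ, hπ, hπC, hρ⟩ := exists_finite_cover k P b hint
  let β : MvPolynomial (Fin k ⊕ Fin n) R →ₐ[R] B := aeval (Sum.elim b fun i => algebraMap A B (α (X i)))
  have hβe : (eval₂Hom (algebraMap P B) b).comp (sumRingEquiv R (Fin k) (Fin n)).toRingHom = β.toRingHom := by
    refine MvPolynomial.ringHom_ext (fun x => ?_) fun i => ?_
    · simp [β, RingHom.algebraMap_toAlgebra]
      rw [show α (MvPolynomial.C x) = algebraMap R A x from α.commutes x, ← IsScalarTower.algebraMap_apply]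
    · rcases i with j | j <;> simp [β, RingHom.algebraMap_toAlgebra]
  have hsurjP : Function.Surjective (eval₂Hom (algebraMap P B) b) := fun y => by
    have hy : y ∈ Submodule.span A (Set.range b) := by rw [hb]; trivial
    obtain ⟨c, rfl⟩ := (Submodule.mem_span_range_iff_exists_fun A).1 hy
    choose d hd using fun i => hα (c i)
    refine ⟨∑ i, MvPolynomial.C (d i) * X i, ?_⟩
    simp only [map_sum, map_mul, eval₂Hom_C, eval₂Hom_X', RingHom.algebraMap_toAlgebra]
    refine Finset.sum_congr rfl fun i _ => ?_
    rw [Algebra.smul_def]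
    exact congrArg (fun t => algebraMap A B t * b i) (hd i)
  let γ : MvPolynomial (Fin (k + n)) R →ₐ[R] B := β.comp (renameEquiv R finSumFinEquiv.symm).toAlgHom
  have hγ : Function.Surjective γ := fun y => by
    obtain ⟨x, hx⟩ := hsurjP y
    obtain ⟨z, rfl⟩ := (sumRingEquiv R (Fin k) (Fin n)).surjective x
    obtain ⟨w, rfl⟩ := (renameEquiv R finSumFinEquiv.symm).surjective z
    exact ⟨w, ((DFunLike.congr_fun hβe _).symm.trans hx)⟩
  have hr : PCMap (renameEquiv R finSumFinEquiv.symm : MvPolynomial (Fin (k + n)) R ≃ₐ[R] _).toRingEquiv.toRingHom :=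
    PCMap.of_bijective (renameEquiv R finSumFinEquiv.symm).bijective
  have hs : PCMap (sumRingEquiv R (Fin k) (Fin n)).toRingHom := PCMap.of_bijective (sumRingEquiv R _ _).bijective
  rw [relPC_iff hγ, relPC_iff hα]
  rw [show (γ : MvPolynomial (Fin (k + n)) R →+* B) =
    ((ρ.comp π).comp (sumRingEquiv R (Fin k) (Fin n)).toRingHom).comp
      (renameEquiv R finSumFinEquiv.symm : MvPolynomial (Fin (k + n)) R ≃ₐ[R] _).toRingEquiv.toRingHom by
    rw [hρ, hβe]; rfl,
    pcn_res_comp_iff hr, pcn_res_comp_iff hs, pcn_res_comp_iff hπ, ← pcn_res_comp_iff hπC ρ, ← RingHom.comp_assoc, hρ]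
  rw [show (eval₂Hom (algebraMap P B) b).comp (MvPolynomial.C : P →+* _) = (algebraMap A B).comp (α : P →+* A) from
    RingHom.ext fun x => eval₂Hom_C _ _ x]
  obtain ⟨e⟩ := nonempty_res_comp (α : P →+* A) (algebraMap A B) K
  exact ⟨fun h => h.of_iso e.symm, fun h => h.of_iso e⟩

end Groth.DAlg
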