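import Groth.Agent.DAlg.RelPCMap
import Groth.Agent.DAlg.PushoutRestrict
import Mathlib.RingTheory.Localization.Away.AdjoinRoot
import Mathlib.RingTheory.Localization.BaseChange

/-!
Relative pseudo-coherence and principal localization.
-/

universe u

open CategoryTheory CategoryTheory.Limits
open scoped Polynomial TensorProduct

attribute [local instance] HasDerivedCategory.standard
set_option linter.style.haveILetI false

namespace Groth.DAlg

open PCohPunctual MvPolynomial

/-- A principal localization is a pseudo-coherent quotient of a polynomial ring. -/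
theorem exists_away_pcMap {P : Type u} [CommRing P] (g : P) :
    ∃ φ : MvPolynomial (Fin 1) P →+* Localization.Away g, PCMap φ ∧ Function.Surjective φ ∧
      φ.comp C = algebraMap P (Localization.Away g) := by
  let f : P[X] := Polynomial.C g * Polynomial.X - 1
  have hreg : IsSMulRegular P[X] f := fun a b hab => by
    have h : f * (a - b) = 0 := by
      rw [mul_sub]
      exact sub_eq_zero.2 hab
    have hc : ∀ n, (a - b).coeff n = 0 := by
      intro n
      induction n with
      | zero =>
        have := congrArg (fun p => Polynomial.coeff p 0) h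
        simp [f, sub_mul, mul_assoc] at this ⊢
        linear_combination -this
      | succ n ih =>
        have := congrArg (fun p => Polynomial.coeff p (n + 1)) h
        simp only [Polynomial.coeff_sub] at ih
        simp [f, sub_mul, mul_assoc, ih, Polynomial.coeff_X_mul] at this ⊢
        linear_combination -this
    exact sub_eq_zero.1 (Polynomial.ext fun n => (hc n).trans (Polynomial.coeff_zero n).symm)
  let q : P[X] →+* Localization.Away g :=
    (Localization.awayEquivAdjoin g).symm.toRingEquiv.toRingHom.comp (AdjoinRoot.mk f)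
  have hqs : Function.Surjective q :=
    (Localization.awayEquivAdjoin g).symm.surjective.comp AdjoinRoot.mk_surjective
  have hq : PCMap q := PCMap.of_regular hqs f hreg (by
    ext p
    rw [RingHom.mem_ker, Ideal.mem_span_singleton, ← AdjoinRoot.mk_eq_zero]
    exact map_eq_zero_iff _ (Localization.awayEquivAdjoin g).symm.injective)
  let e : MvPolynomial (Fin 1) P ≃+* P[X] :=
    (finSuccEquiv P 0).toRingEquiv.trans
      (Polynomial.mapEquiv (isEmptyRingEquiv P (Fin 0)))
  refine ⟨q.comp e.toRingHom, (PCMap.of_bijective (φ := e.toRingHom) e.bijective).comp hq,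
    hqs.comp e.surjective, RingHom.ext fun r => ?_⟩
  have he : e (C r) = Polynomial.C r := by
    simp [e, finSuccEquiv_apply]
    exact (congrArg _ (isEmptyRingEquiv_symm_apply (R := P) (σ := Fin 0) r).symm).trans ((isEmptyRingEquiv P (Fin 0)).apply_symm_apply r)
  show q (e (C r)) = _
  rw [he]
  show (Localization.awayEquivAdjoin g).symm (AdjoinRoot.mk f (Polynomial.C r)) = _
  rw [AdjoinRoot.mk_C]
  exact (Localization.awayEquivAdjoin g).symm.commutes r

variable {R A : Type u} [CommRing R] [CommRing A] [Algebra R A] {n : ℕ} {α : MvPolynomial (Fin n) R →ₐ[R] A}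

/-- The localized presentation. -/
noncomputable abbrev awayPres (α : MvPolynomial (Fin n) R →ₐ[R] A) (g : MvPolynomial (Fin n) R) :
    Localization.Away g →+* Localization.Away ((α : MvPolynomial (Fin n) R →+* A) g) :=
  Localization.awayMap (α : MvPolynomial (Fin n) R →+* A) g

lemma awayPres_comp (g : MvPolynomial (Fin n) R) :
    (awayPres α g).comp (algebraMap _ _) =
      (algebraMap A _).comp (α : MvPolynomial (Fin n) R →+* A) := by
  exact IsLocalization.map_comp _

/-- Relative pseudo-coherence over a principal localization. -/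
theorem relPC_away_iff (hα : Function.Surjective α) (g : MvPolynomial (Fin n) R)
    (K : Dual.D (Localization.Away ((α : MvPolynomial (Fin n) R →+* A) g))) (m : ℤ) :
    DerCA.IsRelPseudoCoherent R (Localization.Away ((α : MvPolynomial (Fin n) R →+* A) g)) m K ↔
      PCn (finFree (Localization.Away g)) m ((DRing.restrictD (awayPres α g)).obj K) := by
  obtain ⟨φ, hφ, hφs, hφC⟩ := exists_away_pcMap g
  have hψs : Function.Surjective (awayPres α g) := by
    intro z
    obtain ⟨a, ⟨_, k, hk⟩, rfl⟩ := IsLocalization.exists_mk'_eq (Submonoid.powers ((α : MvPolynomial (Fin n) R →+* A) g)) z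
    obtain ⟨p, rfl⟩ := hα a
    refine ⟨IsLocalization.mk' _ p (⟨g ^ k, k, rfl⟩ : Submonoid.powers g), ?_⟩
    simp only [awayPres, Localization.awayMap, IsLocalization.Away.map, IsLocalization.map_mk']
    congr 1
    exact Subtype.ext ((map_pow _ g k).trans hk)
  let β : MvPolynomial (Fin 1) A →ₐ[A] Localization.Away ((α : MvPolynomial (Fin n) R →+* A) g) :=
    MvPolynomial.aeval fun i => awayPres α g (φ (X i))
  have hβ : (β : MvPolynomial (Fin 1) A →+* _).comp (MvPolynomial.map (α : MvPolynomial (Fin n) R →+* A)) =
      (awayPres α g).comp φ := by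
    refine MvPolynomial.ringHom_ext (fun x => ?_) fun i => ?_
    · have h1 : φ (C x) = algebraMap _ _ x := RingHom.congr_fun hφC x
      show MvPolynomial.aeval _ (MvPolynomial.map _ (C x)) = awayPres α g (φ (C x))
      rw [map_C, aeval_C, h1]
      exact (RingHom.congr_fun (awayPres_comp (α := α) g) x).symm
    · show MvPolynomial.aeval _ (MvPolynomial.map _ (X i)) = awayPres α g (φ (X i))
      rw [map_X, aeval_X]
  have hβs : Function.Surjective β := fun z => by
    obtain ⟨p, hp⟩ := (hψs.comp hφs) z
    exact ⟨MvPolynomial.map (α : MvPolynomial (Fin n) R →+* A) p, (RingHom.congr_fun hβ p).trans hp⟩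
  obtain ⟨γ, e, hγ, he, hge⟩ := exists_presentation (R := R) hα hβs
  rw [relPC_iff hγ, hge, ← RingHom.comp_assoc, hβ, RingHom.comp_assoc, pcn_res_comp_iff (he.comp hφ)]

/-- Localizing preserves pseudo-coherence of a restriction. -/
theorem pcn_awayPres_extCx (g : MvPolynomial (Fin n) R) (K : DRing.Cx A) {m : ℤ}
    (h : PCn (finFree (MvPolynomial (Fin n) R)) m
      ((DRing.restrictD (α : MvPolynomial (Fin n) R →+* A)).obj (DRing.toD K))) :
    PCn (finFree (Localization.Away g)) m ((DRing.restrictD (awayPres α g)).obj
      (DRing.toD (extCx (algebraMap A (Localization.Away ((α : MvPolynomial (Fin n) R →+* A) g))) K))) := by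
  let P := MvPolynomial (Fin n) R
  let A' := Localization.Away ((α : MvPolynomial (Fin n) R →+* A) g)
  letI : Algebra P A := (α : MvPolynomial (Fin n) R →+* A).toAlgebra
  letI : Algebra (Localization.Away g) A' := (awayPres α g).toAlgebra
  haveI : IsScalarTower P (Localization.Away g) A' :=
    IsScalarTower.of_algebraMap_eq fun x => (IsScalarTower.algebraMap_apply P A A' x).trans
      (RingHom.congr_fun (awayPres_comp (α := α) g) x).symm
  haveI : IsLocalization (Algebra.algebraMapSubmonoid A (Submonoid.powers g)) A' := by
    rw [Algebra.algebraMapSubmonoid, Submonoid.map_powers]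
    exact inferInstanceAs (IsLocalization.Away ((α : MvPolynomial (Fin n) R →+* A) g) A')
  haveI : Algebra.IsPushout P A (Localization.Away g) A' :=
    Algebra.isPushout_of_isLocalization (Submonoid.powers g) _ A A'
  haveI : Algebra.IsPushout P (Localization.Away g) A A' := Algebra.IsPushout.symm inferInstance
  haveI : Module.Flat P (Localization.Away g) := IsLocalization.flat _ (Submonoid.powers g)
  exact pcn_res_extCx (R := P) (A := A) (R' := Localization.Away g) (A' := A') K h

/-- Relative pseudo-coherence passes to a principal localization. -/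
theorem relPC_away [Algebra.FiniteType R A] (g : A) (K : DRing.Cx A) {m : ℤ}
    (h : DerCA.IsRelPseudoCoherent R A m (DRing.toD K)) :
    DerCA.IsRelPseudoCoherent R (Localization.Away g) m (DRing.toD (extCx (algebraMap A (Localization.Away g)) K)) := by
  obtain ⟨n, α, hα⟩ := Algebra.FiniteType.iff_quotient_mvPolynomial''.mp ‹Algebra.FiniteType R A›
  obtain ⟨g', rfl⟩ := hα g
  exact (relPC_away_iff hα g' _ m).2 (pcn_awayPres_extCx g' K ((relPC_iff hα).1 h))

/-- Locality of relative pseudo-coherence. -/
theorem relPC_of_span [Algebra.FiniteType R A] (K : DRing.Cx A) (m : ℤ) {r : ℕ} (f : Fin r → A)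
    (hf : Ideal.span (Set.range f) = ⊤)
    (h : ∀ i, DerCA.IsRelPseudoCoherent R (Localization.Away (f i)) m
      (DRing.toD (extCx (algebraMap A (Localization.Away (f i))) K))) :
    DerCA.IsRelPseudoCoherent R A m (DRing.toD K) := by
  obtain ⟨n, α, hα⟩ := Algebra.FiniteType.iff_quotient_mvPolynomial''.mp ‹Algebra.FiniteType R A›
  obtain ⟨f', rfl⟩ : ∃ f' : Fin r → MvPolynomial (Fin n) R, (fun i => (α : MvPolynomial (Fin n) R →+* A) (f' i)) = f :=
    ⟨fun i => (hα (f i)).choose, funext fun i => (hα (f i)).choose_spec⟩
  obtain ⟨c, hc⟩ := (Ideal.mem_span_range_iff_exists_fun).1 (hf ▸ Submodule.mem_top (x := (1 : A)))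
  choose c' hc' using fun i => hα (c i)
  let h₀ : MvPolynomial (Fin n) R := 1 - ∑ i, c' i * f' i
  have hh₀ : (α : MvPolynomial (Fin n) R →+* A) h₀ = 0 := by
    simp only [h₀, map_sub, map_one, map_sum, map_mul, RingHom.coe_coe, hc']
    rw [sub_eq_zero]
    exact hc.symm
  let F : Fin (r + 1) → MvPolynomial (Fin n) R := Fin.cons h₀ f'
  have hF : Ideal.span (Set.range F) = ⊤ := by
    rw [Ideal.eq_top_iff_one]
    refine Ideal.mem_span_range_iff_exists_fun.2 ⟨Fin.cons 1 c', ?_⟩
    simp [Fin.sum_univ_succ, F, h₀]
  rw [relPC_iff hα]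
  refine PCn.of_iso ?_ (resQIso _ K).symm
  have key : ∀ i, PCn (finFree (Localization.Away (F i))) m ((DRing.restrictD (awayPres α (F i))).obj
      (DRing.toD (extCx (algebraMap A (Localization.Away ((α : MvPolynomial (Fin n) R →+* A) (F i)))) K))) := by
    refine Fin.cases ?_ (fun j => (relPC_away_iff hα (f' j) _ m).1 (h j))
    refine pcn_of_isZero (isAdditiveSub_finFree _) (isQuasiLiftable_finFree _) fun j _ => ?_
    haveI : Subsingleton (Localization.Away ((α : MvPolynomial (Fin n) R →+* A) (F 0))) :=
      IsLocalization.subsingleton (M := Submonoid.powers ((α : MvPolynomial (Fin n) R →+* A) (F 0)))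
        (S := Localization.Away ((α : MvPolynomial (Fin n) R →+* A) (F 0))) ⟨1, by
          show (α : MvPolynomial (Fin n) R →+* A) (F 0) ^ 1 = 0
          rw [pow_one]
          exact hh₀⟩
    exact Functor.map_isZero _ (Functor.map_isZero _ (isZero_Q_obj fun k =>
      haveI := Module.subsingleton (Localization.Away ((α : MvPolynomial (Fin n) R →+* A) (F 0)))
        ((extCx (algebraMap A (Localization.Away ((α : MvPolynomial (Fin n) R →+* A) (F 0)))) K).X k)
      ModuleCat.isZero_of_subsingleton _))
  refine pcn_of_extCx (jointlyFaithful_away F hF) _ fun i => ?_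
  letI : Algebra (MvPolynomial (Fin n) R) A := (α : MvPolynomial (Fin n) R →+* A).toAlgebra
  let L := Localization.Away ((α : MvPolynomial (Fin n) R →+* A) (F i))
  letI : Algebra (Localization.Away (F i)) L := (awayPres α (F i)).toAlgebra
  haveI : IsScalarTower (MvPolynomial (Fin n) R) (Localization.Away (F i)) L :=
    IsScalarTower.of_algebraMap_eq fun x => (IsScalarTower.algebraMap_apply (MvPolynomial (Fin n) R) A L x).trans
      (RingHom.congr_fun (awayPres_comp (α := α) (F i)) x).symm
  haveI : IsLocalization (Algebra.algebraMapSubmonoid A (Submonoid.powers (F i))) L := by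
    rw [Algebra.algebraMapSubmonoid, Submonoid.map_powers]
    exact inferInstanceAs (IsLocalization.Away ((α : MvPolynomial (Fin n) R →+* A) (F i)) L)
  haveI : Algebra.IsPushout (MvPolynomial (Fin n) R) A (Localization.Away (F i)) L :=
    Algebra.isPushout_of_isLocalization (Submonoid.powers (F i)) _ A L
  haveI : Algebra.IsPushout (MvPolynomial (Fin n) R) (Localization.Away (F i)) A L := Algebra.IsPushout.symm inferInstance
  refine PCn.of_iso ?_ (DerivedCategory.Q.mapIso
    (resExtCxIso (R := MvPolynomial (Fin n) R) (A := A) (R' := Localization.Away (F i)) (A' := L) K).symm)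
  refine PCn.of_iso ?_ (resQIso _ _)
  exact key i

end Groth.DAlg
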