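import Groth.Agent.DAlg.RelPC
import Groth.Agent.S7000
import Mathlib.RingTheory.TensorProduct.MvPolynomial

/-!
Pseudo-coherent maps of polynomial rings; relative pseudo-coherence through an intermediate algebra.
-/

universe u

open CategoryTheory
open scoped TensorProduct

attribute [local instance] HasDerivedCategory.standard
set_option linter.style.haveILetI false

namespace Groth.DAlg

open PCohPunctual MvPolynomial

attribute [local instance] MvPolynomial.algebraMvPolynomial

/-- Adding variables preserves pseudo-coherent ring maps. -/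
theorem pcMap_map {P A : Type u} [CommRing P] [CommRing A] {φ : P →+* A} (hφ : PCMap φ) (σ : Type u) :
    PCMap (MvPolynomial.map φ : MvPolynomial σ P →+* MvPolynomial σ A) := by
  letI := φ.toAlgebra
  have h := (Groth.Agent.S7000.result (A := P) (B := MvPolynomial σ P) 0 A).2 (pcMap_algebraMap_iff.1 hφ)
  have e : (MvPolynomial σ P ⊗[P] A) ≃ₗ[MvPolynomial σ P] MvPolynomial σ A :=
    (Algebra.IsPushout.equiv P (MvPolynomial σ P) A (MvPolynomial σ A)).toLinearEquiv
  exact pcMap_algebraMap_iff (A := MvPolynomial σ P) (B := MvPolynomial σ A) |>.2 (isPseudoCoherent'_iff_isPC.2 fun n =>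
    PCn.of_iso (isPseudoCoherent'_iff_isPC.1 h n) ((DerivedCategory.singleFunctor _ 0).mapIso e.toModuleIso))

/-- Adding finitely many variables preserves pseudo-coherent ring maps. -/
theorem pcMap_map_fin {P A : Type u} [CommRing P] [CommRing A] {φ : P →+* A} (hφ : PCMap φ) (k : ℕ) :
    PCMap (MvPolynomial.map φ : MvPolynomial (Fin k) P →+* MvPolynomial (Fin k) A) := by
  let e : ∀ (S : Type u) [CommRing S], MvPolynomial (Fin k) S ≃ₐ[S] MvPolynomial (ULift.{u} (Fin k)) S :=
    fun S _ => renameEquiv S Equiv.ulift.symm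
  have h := ((PCMap.of_bijective (φ := (e P).toRingEquiv.toRingHom) (e P).bijective).comp
    (pcMap_map hφ (ULift.{u} (Fin k)))).comp
      (PCMap.of_bijective (φ := (e A).symm.toRingEquiv.toRingHom) (e A).symm.bijective)
  convert h using 1
  refine MvPolynomial.ringHom_ext (fun x => ?_) fun i => ?_ <;> simp [e]

variable {R A B : Type u} [CommRing R] [CommRing A] [CommRing B] [Algebra R A] [Algebra A B] [Algebra R B]
  [IsScalarTower R A B]

/-- A presentation of `B` over `R` factoring through `A[y]`. -/
theorem exists_presentation {n k : ℕ} {α : MvPolynomial (Fin n) R →ₐ[R] A} (hα : Function.Surjective α)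
    {β : MvPolynomial (Fin k) A →ₐ[A] B} (hβ : Function.Surjective β) :
    ∃ (γ : MvPolynomial (Fin (k + n)) R →ₐ[R] B) (e : MvPolynomial (Fin (k + n)) R →+* MvPolynomial (Fin k) (MvPolynomial (Fin n) R)),
      Function.Surjective γ ∧ PCMap e ∧
        (γ : MvPolynomial (Fin (k + n)) R →+* B) =
          (β : MvPolynomial (Fin k) A →+* B).comp ((MvPolynomial.map (α : MvPolynomial (Fin n) R →+* A)).comp e) := by
  let e : MvPolynomial (Fin (k + n)) R →+* MvPolynomial (Fin k) (MvPolynomial (Fin n) R) :=
    (sumRingEquiv R (Fin k) (Fin n)).toRingHom.comp (renameEquiv R finSumFinEquiv.symm).toRingEquiv.toRingHom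
  let g := (β : MvPolynomial (Fin k) A →+* B).comp ((MvPolynomial.map (α : MvPolynomial (Fin n) R →+* A)).comp e)
  have hC : ∀ r, g (algebraMap R _ r) = algebraMap R B r := fun r => by
    simp [g, e]
    rw [← IsScalarTower.algebraMap_apply]
  exact ⟨⟨g, hC⟩, e, (hβ.comp ((MvPolynomial.map_surjective _ hα).comp
    ((sumRingEquiv R (Fin k) (Fin n)).surjective.comp (renameEquiv R finSumFinEquiv.symm).surjective))),
    (PCMap.of_bijective (renameEquiv R finSumFinEquiv.symm).bijective).comp
      (PCMap.of_bijective (sumRingEquiv R (Fin k) (Fin n)).bijective), rfl⟩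

/-- Pseudo-coherence relative to an intermediate pseudo-coherent algebra. -/
theorem relPC_iff_of_intermediate [Algebra.FiniteType R A] [Algebra.FiniteType A B]
    (hA : DerCA.IsRelPseudoCoherentModuleAll R A A) (K : Dual.D B) (m : ℤ) :
    DerCA.IsRelPseudoCoherent A B m K ↔ DerCA.IsRelPseudoCoherent R B m K := by
  obtain ⟨n, α, hα⟩ := Algebra.FiniteType.iff_quotient_mvPolynomial''.mp ‹Algebra.FiniteType R A›
  obtain ⟨k, β, hβ⟩ := Algebra.FiniteType.iff_quotient_mvPolynomial''.mp ‹Algebra.FiniteType A B›
  have hφ : PCMap (α : MvPolynomial (Fin n) R →+* A) := fun j => (relPC_iff hα).1 (hA j)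
  obtain ⟨γ, e, hγ, he, hge⟩ := exists_presentation (R := R) hα hβ
  rw [relPC_iff hβ, relPC_iff hγ, hge, pcn_res_comp_iff (he.comp (pcMap_map_fin hφ k))]

end Groth.DAlg
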