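import Groth.Agent.DAlg.RelPC
import Groth.Agent.DAlg.PushoutRestrict
import Groth.Agent.DAlg.TorAcyclic
import Groth.Agent.DAlg.TorAmpRestrict
import Mathlib.RingTheory.TensorProduct.MvPolynomial

/-!
Relative pseudo-coherence under Tor-independent change of the base.
-/

universe u

open CategoryTheory CategoryTheory.Limits HomologicalComplex
open scoped TensorProduct

attribute [local instance] HasDerivedCategory.standard
set_option linter.style.haveILetI false

namespace Groth.DAlg

open PCohPunctual MvPolynomial FlatCxBase Calg7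

variable {R P R' P' : Type u} [CommRing R] [CommRing P] [CommRing R'] [CommRing P'] [Algebra R P] [Algebra R R']
  [Algebra P P'] [Algebra R' P'] [Algebra R P'] [IsScalarTower R P P'] [IsScalarTower R R' P']

/-- Base change of a quasi-isomorphism between bounded above complexes of Tor-acyclic modules. -/
theorem quasiIso_extCx_of_torAcyclic [Algebra.IsPushout R R' P P'] {Q X : DRing.Cx P} (g : Q ⟶ X) [QuasiIso g]
    {b : ℤ} (hQ : DRing.VanishesAbove Q b) (hX : DRing.VanishesAbove X b)
    (hQa : ∀ i, TorAcyclic.Ac (ModuleCat.of R R') ((ModuleCat.restrictScalars (algebraMap R P)).obj (Q.X i)))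
    (hXa : ∀ i, TorAcyclic.Ac (ModuleCat.of R R') ((ModuleCat.restrictScalars (algebraMap R P)).obj (X.X i))) :
    QuasiIso (((ModuleCat.extendScalars (algebraMap P P')).mapHomologicalComplex (ComplexShape.up ℤ)).map g) := by
  rw [quasiIso_iff_cone_acyclic]
  intro j
  refine ExactAt.of_iso ?_
    (CochainComplex.mappingCone.mapHomologicalComplexIso g (ModuleCat.extendScalars (algebraMap P P')))
  rw [exactAt_iff_isZero_homology]
  let C := CochainComplex.mappingCone g
  have hC : C.Acyclic := (quasiIso_iff_cone_acyclic g).1 inferInstance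
  let G := ModuleCat.restrictScalars.{u} (algebraMap R P)
  have hCac : ∀ p, IsZero (((DRing.restrictCx (algebraMap R P)).obj C).homology p) := fun p =>
    ((exactAt_iff_isZero_homology _ _).1 ((hC p).map G))
  have hCX : ∀ i, TorAcyclic.Ac (ModuleCat.of R R') (((DRing.restrictCx (algebraMap R P)).obj C).X i) := fun i => by
    have h := TorAcyclic.ext ((ShortComplex.Splitting.ofHasBinaryBiproduct (Q.X (i + 1)) (X.X i)).map G).shortExact
      (hQa (i + 1)) (hXa i)
    exact TorAcyclic.of_iso h (G.mapIso (HomologicalComplex.homotopyCofiber.XIsoBiprod g i (i + 1) rfl)).symm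
  have h := TorAcyclic.isZero_tensor ((DRing.restrictCx (algebraMap R P)).obj C) (b := b)
    (fun i hi => G.map_isZero ((CochainComplex.mappingCone.isZero_X_iff g i).2 ⟨hQ _ (by omega), hX i hi⟩))
    hCac hCX j
  have h2 := (isZero_extCx_iff (S := R') ((DRing.restrictCx (algebraMap R P)).obj C) j).2 h
  have h3 := h2.of_iso ((homologyFunctor _ _ j).mapIso (resExtCxIso (R := R) (A := P) (R' := R') (A' := P') C)).symm
  exact (isZero_homology_iff_of_addEquiv
    (F := (DRing.restrictCx (algebraMap R' P')).obj (extCx (algebraMap P P') C)) (G := extCx (algebraMap P P') C)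
    (fun i => AddEquiv.refl _) (fun i k x => rfl) j).1 h3

variable {A A' : Type u} [CommRing A] [CommRing A'] [Algebra R A] [Algebra P A] [IsScalarTower R P A]
  [Algebra P' A'] [Algebra A A'] [Algebra P A'] [IsScalarTower P A A'] [IsScalarTower P P' A']

/-- Tor-independent base change of a restricted object. -/
theorem pcn_res_lBaseChange_torIndep [Algebra.IsPushout R R' P P'] [Algebra.IsPushout P P' A A'] [Module.Flat R P]
    (htor : ∀ p : ℕ, IsZero (Tor.T (p + 1) (ModuleCat.of R A) (ModuleCat.of R R')))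
    [DRing.HasLBaseChange (algebraMap A A')] {K : Dual.D A} {m : ℤ}
    (hK : PCn (finFree P) m ((DRing.restrictD (algebraMap P A)).obj K)) :
    PCn (finFree P') m ((DRing.restrictD (algebraMap P' A')).obj ((DRing.LBaseChange (algebraMap A A')).obj K)) := by
  obtain ⟨b, hb⟩ := hK.bddAbove
  obtain ⟨F, hF, hfree, ⟨eF⟩⟩ := exists_free_rep A (K := K) (b := b) fun i hi =>
    (resHD_subsingleton_iff _ K i).1 (ModuleCat.subsingleton_of_isZero (hb i hi))
  let X := (DRing.restrictCx (algebraMap P A)).obj F
  have hXb : DRing.VanishesAbove X b := fun i hi => (ModuleCat.restrictScalars _).map_isZero (hF i hi)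
  obtain ⟨Q, hQ, hQfree, ⟨eQ⟩⟩ := exists_free_rep P (K := DRing.toD X) (b := b) fun i hi =>
    subsingleton_HD_of_iso (Iso.refl _) (hXb i hi)
  obtain ⟨g, hg⟩ := exists_map_of_projective hQ (fun i => haveI := hQfree i; inferInstance) eQ.hom
  haveI : QuasiIso g := by
    rw [← DerivedCategory.isIso_Q_map_iff_quasiIso, hg]
    infer_instance
  have hq := quasiIso_extCx_of_torAcyclic (R := R) (R' := R') (P' := P') g hQ hXb (fun i => ?_) (fun i => ?_)
  rotate_left
  · haveI := hQfree i
    letI : Module R (Q.X i) := Module.compHom (Q.X i) (algebraMap R P)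
    haveI : IsScalarTower R P (Q.X i) := IsScalarTower.of_algebraMap_smul fun _ _ => rfl
    haveI : Module.Flat R ((ModuleCat.restrictScalars (algebraMap R P)).obj (Q.X i)) :=
      Module.Flat.trans R P (Q.X i)
    exact TorAcyclic.of_flat _
  · haveI := hfree i
    letI : Module R (F.X i) := Module.compHom (F.X i) (algebraMap R A)
    haveI : IsScalarTower R A (F.X i) := IsScalarTower.of_algebraMap_smul fun _ _ => rfl
    have h : TorAcyclic.Ac (ModuleCat.of R R') (ModuleCat.of R (F.X i)) := fun p =>
      isZero_tor_flat_res (B := A) (F.X i) p _ (htor p)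
    exact TorAcyclic.of_iso h ((ModuleCat.restrictScalarsComp'.{u} (algebraMap R P) (algebraMap P A) (algebraMap R A)
      (IsScalarTower.algebraMap_eq R P A)).app (F.X i))
  haveI := hasLBaseChange (algebraMap P P')
  have h1 := isPseudoCoherent_iff.1 (Groth.Agent.S2137.result (algebraMap P P') _ m (isPseudoCoherent_iff.2
    (hK.of_iso ((DRing.restrictD _).mapIso eF.symm ≪≫ resQIso _ F ≪≫ eQ.symm))))
  obtain ⟨eQ'⟩ := nonempty_lBaseChangeFlatIso (algebraMap P P') Q hQ (fun i => haveI := hQfree i; inferInstance)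
  obtain ⟨eF'⟩ := nonempty_lBaseChangeFlatIso (algebraMap A A') F hF (fun i => haveI := hfree i; inferInstance)
  refine h1.of_iso (eQ' ≪≫ @asIso _ _ _ _ (DerivedCategory.Q.map
      (((ModuleCat.extendScalars (algebraMap P P')).mapHomologicalComplex (ComplexShape.up ℤ)).map g))
      ((DerivedCategory.isIso_Q_map_iff_quasiIso _ _).2 hq) ≪≫ DerivedCategory.Q.mapIso (resExtCxIso F) ≪≫
    (resQIso _ _).symm ≪≫ (DRing.restrictD _).mapIso (eF'.symm ≪≫ (DRing.LBaseChange _).mapIso eF))

attribute [local instance] Algebra.TensorProduct.rightAlgebra MvPolynomial.algebraMvPolynomial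

/-- Tor-independent change of the base ring. -/
theorem relPC_baseChange {R A R' : Type u} [CommRing R] [CommRing A] [CommRing R'] [Algebra R A]
    [Algebra.FiniteType R A] [Algebra R R'] (htor : ∀ p : ℕ, 0 < p → Subsingleton (DRing.Tor R p A R'))
    [DRing.HasLBaseChange (algebraMap A (R' ⊗[R] A))] (K : Dual.D A) {m : ℤ}
    (hK : DerCA.IsRelPseudoCoherent R A m K) :
    DerCA.IsRelPseudoCoherent R' (R' ⊗[R] A) m ((DRing.LBaseChange (algebraMap A (R' ⊗[R] A))).obj K) := by
  obtain ⟨n, α, hα⟩ := Algebra.FiniteType.iff_quotient_mvPolynomial''.mp ‹Algebra.FiniteType R A›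
  let β : MvPolynomial (Fin n) R' →ₐ[R'] R' ⊗[R] A := MvPolynomial.aeval fun i => (1 : R') ⊗ₜ[R] α (X i)
  have hmap : ∀ p, β (MvPolynomial.map (algebraMap R R') p) = (1 : R') ⊗ₜ[R] α p := by
    intro p
    have : (β : MvPolynomial (Fin n) R' →+* R' ⊗[R] A).comp (MvPolynomial.map (algebraMap R R')) =
        (algebraMap A (R' ⊗[R] A)).comp (α : MvPolynomial (Fin n) R →+* A) := by
      refine MvPolynomial.ringHom_ext (fun r => ?_) fun i => ?_
      · show β (MvPolynomial.map _ (C r)) = (1 : R') ⊗ₜ[R] α (C r)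
        rw [map_C, MvPolynomial.aeval_C, ← MvPolynomial.algebraMap_eq, AlgHom.commutes,
          ← IsScalarTower.algebraMap_apply R R' (R' ⊗[R] A)]
        exact IsScalarTower.algebraMap_apply R A (R' ⊗[R] A) r
      · show β (MvPolynomial.map _ (X i)) = (1 : R') ⊗ₜ[R] α (X i)
        rw [map_X, MvPolynomial.aeval_X]
    exact RingHom.congr_fun this p
  have hβ : Function.Surjective β := by
    intro z
    induction z using TensorProduct.induction_on with
    | zero => exact ⟨0, map_zero _⟩
    | tmul r a =>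
      obtain ⟨p, rfl⟩ := hα a
      refine ⟨C r * MvPolynomial.map (algebraMap R R') p, ?_⟩
      rw [map_mul, hmap, MvPolynomial.aeval_C, Algebra.TensorProduct.algebraMap_apply,
        Algebra.TensorProduct.tmul_mul_tmul, mul_one, one_mul]
      rfl
    | add x y hx hy =>
      obtain ⟨p, rfl⟩ := hx
      obtain ⟨q, rfl⟩ := hy
      exact ⟨p + q, map_add _ _ _⟩
  letI : Algebra (MvPolynomial (Fin n) R) A := (α : MvPolynomial (Fin n) R →+* A).toAlgebra
  haveI : IsScalarTower R (MvPolynomial (Fin n) R) A :=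
    IsScalarTower.of_algebraMap_eq fun r => (α.commutes r).symm
  letI : Algebra (MvPolynomial (Fin n) R') (R' ⊗[R] A) := (β : MvPolynomial (Fin n) R' →+* R' ⊗[R] A).toAlgebra
  letI : Algebra (MvPolynomial (Fin n) R) (R' ⊗[R] A) :=
    ((algebraMap A (R' ⊗[R] A)).comp (α : MvPolynomial (Fin n) R →+* A)).toAlgebra
  haveI : IsScalarTower (MvPolynomial (Fin n) R) A (R' ⊗[R] A) := IsScalarTower.of_algebraMap_eq fun _ => rfl
  haveI : IsScalarTower (MvPolynomial (Fin n) R) (MvPolynomial (Fin n) R') (R' ⊗[R] A) :=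
    IsScalarTower.of_algebraMap_eq fun p => (hmap p).symm
  haveI : IsScalarTower R' (MvPolynomial (Fin n) R') (R' ⊗[R] A) :=
    IsScalarTower.of_algebraMap_eq fun r => (β.commutes r).symm
  haveI : IsScalarTower R (MvPolynomial (Fin n) R) (R' ⊗[R] A) := IsScalarTower.of_algebraMap_eq fun r => by
    show _ = algebraMap A (R' ⊗[R] A) (α (algebraMap R _ r))
    rw [AlgHom.commutes, ← IsScalarTower.algebraMap_apply]
  haveI : IsScalarTower R (MvPolynomial (Fin n) R') (R' ⊗[R] A) := IsScalarTower.of_algebraMap_eq fun r => by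
    rw [IsScalarTower.algebraMap_apply R R' (MvPolynomial (Fin n) R'),
      ← IsScalarTower.algebraMap_apply R' (MvPolynomial (Fin n) R') (R' ⊗[R] A),
      ← IsScalarTower.algebraMap_apply]
  haveI : Algebra.IsPushout R R' (MvPolynomial (Fin n) R) (MvPolynomial (Fin n) R') := inferInstance
  haveI : Algebra.IsPushout R (MvPolynomial (Fin n) R) R' (MvPolynomial (Fin n) R') := inferInstance
  haveI : Algebra.IsPushout R A R' (R' ⊗[R] A) := inferInstance
  haveI : Algebra.IsPushout (MvPolynomial (Fin n) R) A (MvPolynomial (Fin n) R') (R' ⊗[R] A) :=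
    (Algebra.IsPushout.comp_iff R (MvPolynomial (Fin n) R) R' (MvPolynomial (Fin n) R')).1 inferInstance
  haveI : Algebra.IsPushout (MvPolynomial (Fin n) R) (MvPolynomial (Fin n) R') A (R' ⊗[R] A) :=
    Algebra.IsPushout.symm inferInstance
  exact (relPC_iff hβ).2 (pcn_res_lBaseChange_torIndep (R := R) (P := MvPolynomial (Fin n) R) (R' := R')
    (P' := MvPolynomial (Fin n) R') (A := A) (A' := R' ⊗[R] A)
    (fun p => ModuleCat.isZero_iff_subsingleton.2 (htor (p + 1) (Nat.succ_pos p))) ((relPC_iff hα).1 hK))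

end Groth.DAlg
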