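import Groth.Agent.DAlg.TorAmp
import Groth.Agent.DAlg.BaseChange
import Groth.Agent.DAlg.PushoutRestrict
import Mathlib.RingTheory.Flat.Tensor

/-!
Restriction to a flat base commutes with derived base change.
-/

universe u

open CategoryTheory CategoryTheory.Limits HomologicalComplex
open scoped TensorProduct

attribute [local instance] HasDerivedCategory.standard
set_option linter.style.haveILetI false

namespace Groth.DAlg

variable {R A R' A' : Type u} [CommRing R] [CommRing A] [CommRing R'] [CommRing A'] [Algebra R A] [Algebra R R']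
  [Algebra A A'] [Algebra R' A'] [Algebra R A'] [IsScalarTower R A A'] [IsScalarTower R R' A']
  [Algebra.IsPushout R R' A A']

lemma termwiseFlat_restrictCx [Module.Flat R A] {G : DRing.Cx A} (hG : DRing.TermwiseFlat G) :
    DRing.TermwiseFlat ((DRing.restrictCx (algebraMap R A)).obj G) := fun i => by
  haveI := hG i
  letI : Module R (G.X i) := Module.compHom (G.X i) (algebraMap R A)
  haveI : IsScalarTower R A (G.X i) := IsScalarTower.of_algebraMap_smul fun _ _ => rfl
  exact Module.Flat.trans R A (G.X i)

theorem nonempty_res_lBaseChange_iso [Module.Flat R A] [DRing.HasLBaseChange (algebraMap R R')]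
    [DRing.HasLBaseChange (algebraMap A A')] {K : Dual.D A} {b : ℤ}
    (hb : ∀ i, b < i → Subsingleton (Dual.HD A K i)) :
    Nonempty ((DRing.LBaseChange (algebraMap R R')).obj ((DRing.restrictD (algebraMap R A)).obj K) ≅
      (DRing.restrictD (algebraMap R' A')).obj ((DRing.LBaseChange (algebraMap A A')).obj K)) := by
  obtain ⟨G, hG, hfree, ⟨eG⟩⟩ := exists_free_rep A hb
  have hflat : DRing.TermwiseFlat G := fun i => haveI := hfree i; inferInstance
  obtain ⟨e'⟩ := nonempty_lBaseChangeFlatIso (algebraMap A A') G hG hflat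
  let X := (DRing.restrictCx (algebraMap R A)).obj G
  have hXb : DRing.VanishesAbove X b := fun i hi => (ModuleCat.restrictScalars _).map_isZero (hG i hi)
  obtain ⟨eX⟩ := nonempty_lBaseChangeFlatIso (algebraMap R R') X hXb (termwiseFlat_restrictCx hflat)
  exact ⟨(DRing.LBaseChange (algebraMap R R')).mapIso
      ((DRing.restrictD (algebraMap R A)).mapIso eG.symm ≪≫ resQIso _ G) ≪≫
    eX ≪≫ DerivedCategory.Q.mapIso (resExtCxIso G) ≪≫ (resQIso _ _).symm ≪≫
      (DRing.restrictD (algebraMap R' A')).mapIso (e'.symm ≪≫ (DRing.LBaseChange (algebraMap A A')).mapIso eG)⟩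

end Groth.DAlg
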