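import Groth.Agent.DAlg.RelPerfectFibre
import Groth.Agent.DAlg.PushoutRestrict
import Groth.Agent.DAlg.TorAmpTot

/-!
Tor amplitude of a complex over a polynomial ring from its fibres over the base.
-/

universe u

open CategoryTheory CategoryTheory.Limits HomologicalComplex
open scoped TensorProduct

attribute [local instance] HasDerivedCategory.standard MvPolynomial.algebraMvPolynomial
set_option linter.style.haveILetI false

namespace Groth.DAlg

open FlatCxBase

variable {R : Type u} [CommRing R] {d : ℕ} (p : Ideal R) [p.IsPrime]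
  (q : Ideal (MvPolynomial (Fin d) R)) [q.IsPrime]
  [Algebra (Localization.AtPrime p) (Localization.AtPrime q)]
  [IsScalarTower R (Localization.AtPrime p) (Localization.AtPrime q)]

lemma isZero_extCx_of_restrict {R A R' A' : Type u} [CommRing R] [CommRing A] [CommRing R'] [CommRing A']
    [Algebra R A] [Algebra R R'] [Algebra A A'] [Algebra R' A'] [Algebra R A'] [IsScalarTower R A A']
    [IsScalarTower R R' A'] [Algebra.IsPushout R R' A A'] (F : DRing.Cx A) {i : ℤ}
    (h : IsZero ((DRing.tensorCx ((DRing.restrictCx (algebraMap R A)).obj F) (ModuleCat.of R R')).homology i)) :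
    IsZero ((extCx (algebraMap A A') F).homology i) := by
  have h1 : IsZero (((DRing.restrictCx (algebraMap R' A')).obj (extCx (algebraMap A A') F)).homology i) :=
    ((isZero_extCx_iff (S := R') _ i).2 h).of_iso
    ((homologyFunctor _ _ i).mapIso (resExtCxIso (R := R) (A := A) (R' := R') (A' := A') F)).symm
  rw [← exactAt_iff_isZero_homology] at h1 ⊢
  exact (exactAt_restrictCx_iff (algebraMap R' A') _ i).1 h1

/-- Tor amplitude over `R[x]_q` from the fibre over the local ring of the base. -/
theorem torAmp_of_localFibre (hpq : p = q.comap (algebraMap R _)) (F : DRing.Cx (Localization.AtPrime q)) {B : ℤ}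
    (hB : DRing.VanishesAbove F B) (hF : DRing.TermwiseFiniteProjective F) (a b : ℤ)
    (h : ∀ i, (i < a ∨ b < i) → IsZero ((DRing.tensorCx
      ((DRing.restrictCx (algebraMap (Localization.AtPrime p) (Localization.AtPrime q))).obj F)
      (ModuleCat.of (Localization.AtPrime p) p.ResidueField)).homology i)) :
    DRing.HasTorAmplitudeIn (Localization.AtPrime q) (a - d) b (DRing.toD F) := by
  obtain ⟨U, _, _, _, _, _, _, _, _, hpush, hd, -⟩ := localFibre p q hpq
  exact torAmp_of_regular (S := U) F hB hF d hd a b fun i hi =>
    isZero_extCx_of_restrict (R := Localization.AtPrime p) (R' := p.ResidueField) (A' := U) F (h i hi)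

/-- Tor amplitude at a prime from the fibre over the base. -/
theorem torAmp_atPrime_of_fibre (hpq : p = q.comap (algebraMap R _)) (F : DRing.Cx (MvPolynomial (Fin d) R)) {B : ℤ}
    (hB : DRing.VanishesAbove F B) (hF : DRing.TermwiseFiniteProjective F) (a b : ℤ)
    (h : ∀ i, (i < a ∨ b < i) → IsZero ((DRing.tensorCx
      ((DRing.restrictCx (algebraMap R (MvPolynomial (Fin d) R))).obj F)
      (ModuleCat.of R p.ResidueField)).homology i)) :
    DRing.HasTorAmplitudeIn (Localization.AtPrime q) (a - d) b
      (DRing.toD (extCx (algebraMap (MvPolynomial (Fin d) R) (Localization.AtPrime q)) F)) := by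
  obtain ⟨U, _, _, _, _, _, _, _, _, hpush, hd, φ, hφ, hcomp⟩ := localFibre p q hpq
  haveI : ∀ i, Module.Finite (MvPolynomial (Fin d) R) (F.X i) := fun i => (hF i).1
  haveI : ∀ i, Module.Projective (MvPolynomial (Fin d) R) (F.X i) := fun i => (hF i).2
  refine torAmp_of_regular (S := U) _ (B := B) (fun i hi => (ModuleCat.extendScalars _).map_isZero (hB i hi))
    (fun i => ⟨inferInstance, inferInstance⟩) d hd a b fun i hi => ?_
  letI : Algebra (MvPolynomial (Fin d) p.ResidueField) U := φ.toAlgebra
  letI : Algebra (MvPolynomial (Fin d) R) U :=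
    ((algebraMap (Localization.AtPrime q) U).comp
      (algebraMap (MvPolynomial (Fin d) R) (Localization.AtPrime q))).toAlgebra
  haveI : IsScalarTower (MvPolynomial (Fin d) R) (Localization.AtPrime q) U :=
    IsScalarTower.of_algebraMap_eq fun _ => rfl
  haveI : IsScalarTower (MvPolynomial (Fin d) R) (MvPolynomial (Fin d) p.ResidueField) U :=
    IsScalarTower.of_algebraMap_eq fun x => (RingHom.congr_fun hcomp x).symm
  haveI : Module.Flat (MvPolynomial (Fin d) p.ResidueField) U := RingHom.flat_algebraMap_iff.1 hφ
  rw [isZero_extCx_residue_iff]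
  exact isZero_extCx_trans F
    (isZero_extCx_of_restrict (R := R) (R' := p.ResidueField) (A' := MvPolynomial (Fin d) p.ResidueField) F (h i hi))

end Groth.DAlg
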