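import Groth.Agent.DerivedCoh.KInj.Products
import Groth.Agent.DerivedCoh.Decomp
import Mathlib.Algebra.Homology.DerivedCategory.ShortExact

/-!
Bousfield localization of the derived category of a Grothendieck abelian category at a small family of objects:
the right orthogonal of the family is reflective.
-/

universe w v u

set_option backward.defeqAttrib.useBackward true
set_option backward.isDefEq.respectTransparency false
set_option linter.style.haveILetI false
set_option linter.unusedSectionVars false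

namespace Groth.DAlg.SetLoc

open CategoryTheory CategoryTheory.Limits CategoryTheory.Pretriangulated HomologicalComplex
open DerivedCategory Groth.DerivedCoh
open CochainComplex (mappingCone)

variable {A : Type u} [Category.{v} A] [Abelian A] [HasDerivedCategory.{w} A]

local notation "Cx" => CochainComplex A ℤ

section Orth

variable {κ : Type v} (P : κ → CochainComplex A ℤ)

/-- The right orthogonal of all shifts of the objects `P k`. -/
def orth : ObjectProperty (DerivedCategory A) :=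
  fun X => ∀ (k : κ) (n : ℤ), Subsingleton (Q.obj (P k) ⟶ X⟦n⟧)

variable {P}

lemma orth_of_iso {X Y : DerivedCategory A} (e : X ≅ Y) (h : orth P X) : orth P Y := fun k n =>
  haveI := h k n
  ((shiftFunctor _ n).mapIso e).homToEquiv.symm.subsingleton

lemma orth_shift {X : DerivedCategory A} (h : orth P X) (a : ℤ) : orth P (X⟦a⟧) := fun k n =>
  haveI := h k (a + n)
  ((shiftFunctorAdd' (DerivedCategory A) a n (a + n) rfl).symm.app X).homToEquiv.subsingleton

end Orth

/-- `C` has no morphisms to any shift of `M`. -/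
def NoHom (C : DerivedCategory A) (M : CochainComplex A ℤ) : Prop :=
  ∀ n : ℤ, Subsingleton (C ⟶ (Q.obj M)⟦n⟧)

lemma noHom_of_isZero {C : DerivedCategory A} (hC : IsZero C) (M : Cx) : NoHom C M :=
  fun _ => ⟨fun _ _ => hC.eq_of_src _ _⟩

lemma noHom_zero {C : DerivedCategory A} {M : Cx} (h : NoHom C M) (f : C ⟶ Q.obj M) : f = 0 :=
  haveI := h 0
  ((shiftFunctorZero (DerivedCategory A) ℤ).app (Q.obj M)).homToEquiv.symm.injective (Subsingleton.elim _ _)

lemma isZero_Q_of_acyclic {K : Cx} (hK : K.Acyclic) : IsZero (Q.obj K) := by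
  let z := (0 : K ⟶ (HomologicalComplex.zero : Cx))
  have : QuasiIso z := ⟨fun i => (quasiIsoAt_iff_exactAt z i (hK i)).2
    (ExactAt.of_isZero ((HomologicalComplex.eval A (ComplexShape.up ℤ) i).map_isZero HomologicalComplex.isZero_zero))⟩
  exact (Q.map_isZero HomologicalComplex.isZero_zero).of_iso (asIso (Q.map z))

/-- Null-homotopic maps into complexes of injectives extend along monomorphisms. -/
lemma exists_ext_of_homotopy {X₁ X₂ M : Cx} (f : X₁ ⟶ X₂) [∀ i, Mono (f.f i)] (hM : ∀ i, Injective (M.X i))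
    {φ : X₁ ⟶ M} (H : Homotopy φ 0) : ∃ ψ : X₂ ⟶ M, f ≫ ψ = φ := by
  refine ⟨Homotopy.nullHomotopicMap fun p q => Injective.factorThru (H.hom p q) (f.f p), ?_⟩
  rw [Homotopy.comp_nullHomotopicMap]
  simp only [Injective.comp_factorThru]
  ext i
  have := H.comm i
  simpa [Homotopy.nullHomotopicMap] using this.symm

/-- A null-homotopic map lifts along a termwise split epimorphism. -/
lemma nullHomotopicMap_section_comp {X M CK : Cx} {γ : X ⟶ M} (H : Homotopy γ 0) (p : CK ⟶ M)
    (s : ∀ i, M.X i ⟶ CK.X i) (hs : ∀ i, s i ≫ p.f i = 𝟙 _) :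
    Homotopy.nullHomotopicMap (fun a b => H.hom a b ≫ s b) ≫ p = γ := by
  simp only [Homotopy.nullHomotopicMap_comp, Category.assoc, hs, Category.comp_id]
  ext i
  have := H.comm i
  simpa [Homotopy.nullHomotopicMap] using this.symm

section Lifting

variable {S : ShortComplex (CochainComplex A ℤ)} (hS : S.ShortExact)

include hS

lemma exists_ext {M : Cx} [M.IsKInjective] (hM : ∀ i, Injective (M.X i)) (hC : NoHom (Q.obj S.X₃) M)
    (φ : S.X₁ ⟶ M) : ∃ ψ : S.X₂ ⟶ M, S.f ≫ ψ = φ := by
  obtain ⟨ψ₀, hψ₀⟩ := yoneda_exact₁' (triangleOfSES hS) (triangleOfSES_distinguished hS) (Q.map φ)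
    (shift_hom_eq_zero (n := (-1 : ℤ)) (fun u => @Subsingleton.elim _ (hC (-(-1))) u 0) _)
  obtain ⟨ψ, rfl⟩ := KInjRes.Q_map_surjective _ _ ψ₀
  obtain ⟨H⟩ := (KInjRes.Q_map_eq_iff _ _ _ _).1 (hψ₀.trans (Q.map_comp S.f ψ).symm)
  have : ∀ i, Mono (S.f.f i) := fun i => (hS.map_of_exact (HomologicalComplex.eval A _ i)).mono_f
  obtain ⟨θ, hθ⟩ := exists_ext_of_homotopy S.f hM (Homotopy.equivSubZero H)
  exact ⟨ψ + θ, by rw [Preadditive.comp_add, hθ, add_sub_cancel]⟩

lemma exists_lift {CK M : Cx} [CK.IsKInjective] (hCK : ∀ i, Injective (CK.X i)) (hac : CK.Acyclic)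
    [M.IsKInjective] (p : CK ⟶ M) (s : ∀ i, M.X i ⟶ CK.X i) (hs : ∀ i, s i ≫ p.f i = 𝟙 _)
    (hC : NoHom (Q.obj S.X₃) M) (α : S.X₁ ⟶ CK) (β : S.X₂ ⟶ M) (h : α ≫ p = S.f ≫ β) :
    ∃ l : S.X₂ ⟶ CK, S.f ≫ l = α ∧ l ≫ p = β := by
  obtain ⟨α', hα'⟩ := exists_ext hS hCK
    (fun n => ⟨fun _ _ => ((shiftFunctor _ n).map_isZero (isZero_Q_of_acyclic hac)).eq_of_tgt _ _⟩) α
  have h0 : S.f ≫ (β - α' ≫ p) = 0 := by rw [Preadditive.comp_sub, reassoc_of% hα', h, sub_self]
  have := hS.epi_g
  let γ : S.X₃ ⟶ M := hS.exact.desc (β - α' ≫ p) h0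
  have hγ : S.g ≫ γ = β - α' ≫ p := hS.exact.g_desc _ h0
  obtain ⟨H⟩ := (KInjRes.Q_map_eq_iff _ _ γ 0).1
    ((noHom_zero hC _).trans (Functor.map_zero Q _ _).symm)
  let δ : S.X₃ ⟶ CK := Homotopy.nullHomotopicMap fun a b => H.hom a b ≫ s b
  have hδ : δ ≫ p = γ := nullHomotopicMap_section_comp H p s hs
  refine ⟨α' + S.g ≫ δ, ?_, ?_⟩
  · rw [Preadditive.comp_add, hα', S.zero_assoc, zero_comp, add_zero]
  · rw [Preadditive.add_comp, Category.assoc, hδ, hγ, add_sub_cancel]

end Lifting

section PathObject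

open CochainComplex.mappingCone

lemma acyclic_cone_id (N : Cx) : (mappingCone (𝟙 N)).Acyclic := fun k => by
  rw [exactAt_iff_isZero_homology, IsZero.iff_id_eq_zero, ← homologyMap_id,
    (mappingCone.homotopyToZeroOfId N).homologyMap_eq, homologyMap_zero]

lemma isKInjective_cone_id (N : Cx) : (mappingCone (𝟙 N)).IsKInjective where
  nonempty_homotopy_zero f _ := ⟨(Homotopy.ofEq (Category.comp_id f).symm).trans
    (((mappingCone.homotopyToZeroOfId N).compLeft f).trans (Homotopy.ofEq comp_zero))⟩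

lemma injective_cone_X {N N' : Cx} (f : N ⟶ N') (hN : ∀ i, Injective (N.X i)) (hN' : ∀ i, Injective (N'.X i))
    (i : ℤ) : Injective ((mappingCone f).X i) :=
  haveI := hN (i + 1)
  haveI := hN' i
  Injective.of_iso (homotopyCofiber.XIsoBiprod f i (i + 1) (by simp)).symm inferInstance

/-- The section of the projection of the cone of the identity. -/
noncomputable def pathSection (N : Cx) (i : ℤ) : (N⟦(1 : ℤ)⟧).X i ⟶ (mappingCone (𝟙 N)).X i :=
  -((N.shiftFunctorObjXIso 1 i (i + 1) rfl).hom ≫ (inl (𝟙 N)).v (i + 1) i (by lia))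

lemma pathSection_comp (N : Cx) (i : ℤ) :
    pathSection N i ≫ (mappingCone.triangle (𝟙 N)).mor₃.f i = 𝟙 _ := by
  simp [pathSection, inl_v_triangle_mor₃_f (𝟙 N) (i + 1) i (by lia)]

end PathObject

section Loc

variable [IsGrothendieckAbelian.{v} A] {κ : Type v} (P : κ → CochainComplex A ℤ)

/-- Complexes representing the local objects. -/
structure Nice (M : Cx) : Prop where
  kInj : M.IsKInjective
  inj : ∀ i, Injective (M.X i)
  orth : orth P (Q.obj M)

lemma Nice.shift {M : Cx} (h : Nice P M) (a : ℤ) : Nice P (M⟦a⟧) where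
  kInj := haveI := h.kInj; inferInstance
  inj i := Injective.of_iso (M.shiftFunctorObjXIso a i (i + a) rfl).symm (h.inj (i + a))
  orth := orth_of_iso ((Q.commShiftIso a).symm.app M) (orth_shift h.orth a)

/-- The inclusion of `P k` shifted into its cone. -/
noncomputable abbrev j (kn : κ × ℤ) : (P kn.1)⟦kn.2⟧ ⟶ mappingCone (𝟙 ((P kn.1)⟦kn.2⟧)) :=
  mappingCone.inr _

/-- The generating cofibrations of the localization. -/
def gen : MorphismProperty (CochainComplex A ℤ) :=
  KInjRes.genCof A ⊔ MorphismProperty.ofHoms (j P)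

instance : MorphismProperty.IsSmall.{v} (gen P) := by
  refine ⟨?_⟩
  rw [gen, MorphismProperty.toSet_max]
  infer_instance

omit [IsGrothendieckAbelian.{v} A] in
lemma mono_j (kn : κ × ℤ) : Mono (j P kn) :=
  HomologicalComplex.mono_of_mono_f _ fun k =>
    mono_of_mono_fac (mappingCone.inr_f_snd_v (𝟙 ((P kn.1)⟦kn.2⟧)) k)

lemma gen_le_mono : gen P ≤ MorphismProperty.monomorphisms _ :=
  sup_le KInjRes.gen_le_mono (by simpa using mono_j P)

open MorphismProperty in
instance : HasSmallObjectArgument.{v} (gen P) := by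
  let tgt : Option (κ × ℤ) → Cx
    | none => KInjRes.B₀ A
    | some kn => mappingCone (𝟙 ((P kn.1)⟦kn.2⟧))
  obtain ⟨c, hc', hc⟩ := HasCardinalLT.exists_regular_cardinal.{v} (Σ o, Subobject (tgt o))
  have hc : ∀ o, HasCardinalLT (Subobject (tgt o)) c := fun o =>
    hc.of_injective (Sigma.mk (β := fun o => Subobject (tgt o)) o) sigma_mk_injective
  have : Fact c.IsRegular := ⟨hc'⟩
  have : Nonempty c.ord.ToType := by simpa using hc'.ne_zero
  have := WellFoundedLT.toOrderBot c.ord.ToType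
  exact ⟨c, inferInstance, inferInstance,
    { preservesColimit {K L M N} i hi f hf := by
        let hf' : (monomorphisms (CochainComplex A ℤ)).TransfiniteCompositionOfShape c.ord.ToType f :=
          { toTransfiniteCompositionOfShape := hf.toTransfiniteCompositionOfShape
            map_mem j hj := by
              have := (hf.attachCells j hj).pushouts_coproducts
              simp only [ofHoms_homFamily] at this
              refine (?_ : _ ≤ monomorphisms (CochainComplex A ℤ)) _ this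
              simp only [pushouts_le_iff, coproducts_le_iff]
              exact gen_le_mono P }
        have (j j' : c.ord.ToType) (φ : j ⟶ j') : Mono (hf'.F.map φ) := hf'.mem_map φ
        apply IsGrothendieckAbelian.preservesColimit_coyoneda_obj_of_mono (Y := hf'.F) (κ := c)
        rcases hi with hi | hi
        · obtain ⟨S⟩ := hi
          exact Subobject.hasCardinalLT_of_mono (hc none) S.1.arrow
        · obtain ⟨kn⟩ := hi
          have := mono_j P kn
          exact Subobject.hasCardinalLT_of_mono (hc (some kn)) (j P kn) }⟩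

/-- The cokernel sequence of a generator. -/
lemma noHom_gen {X Y : Cx} (a : X ⟶ Y) (ha : gen P a) {M : Cx} (hM : orth P (Q.obj M)) :
    Mono a ∧ NoHom (Q.obj (cokernel a)) M := by
  have hm : Mono a := gen_le_mono P a ha
  refine ⟨hm, ?_⟩
  rcases ha with ha | ha
  · exact noHom_of_isZero (isZero_Q_of_acyclic
      ((acyclicMono_iff_cokernel a).1 (KInjRes.gen_le a ha))) M
  · obtain ⟨kn⟩ := ha
    let S := ShortComplex.mk (j P kn) (cokernel.π _) (cokernel.condition _)
    have hS : S.ShortExact := { exact := ShortComplex.exact_of_g_is_cokernel _ (cokernelIsCokernel _) }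
    intro n
    refine subsingleton_of_forall_eq 0 fun v => ?_
    obtain ⟨u, rfl⟩ := Triangle.yoneda_exact₃ (triangleOfSES hS) (triangleOfSES_distinguished hS) v
      ((isZero_Q_of_acyclic (acyclic_cone_id _)).eq_of_src _ _)
    have hu : u = 0 := shift_hom_eq_zero (fun w => by
      have h1 := hM kn.1 (n + (-1) + (-kn.2))
      rw [← cancel_epi ((Q.commShiftIso kn.2).inv.app (P kn.1))]
      refine (shift_hom_eq_zero (fun z => ?_) _).trans comp_zero.symm
      haveI : Subsingleton (Q.obj (P kn.1) ⟶ (((Q.obj M)⟦n⟧)⟦(-1 : ℤ)⟧)⟦-kn.2⟧) :=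
        (((shiftFunctor _ (-kn.2)).mapIso ((shiftFunctorAdd' (DerivedCategory A) n (-1) _ rfl).symm.app _) ≪≫
          (shiftFunctorAdd' (DerivedCategory A) (n + (-1)) (-kn.2) _ rfl).symm.app _)).homToEquiv.subsingleton
      exact Subsingleton.elim _ _) u
    rw [hu, comp_zero]

/-- Lifting against null-homotopies. -/
lemma rlp_path {N : Cx} (hN : Nice P N) :
    (gen P).rlp (mappingCone.triangle (𝟙 N)).mor₃ := by
  intro X Y a ha
  constructor
  intro α β sq
  have hM : Nice P (N⟦(1 : ℤ)⟧) := hN.shift P 1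
  obtain ⟨_, hC⟩ := noHom_gen P a ha hM.orth
  haveI := isKInjective_cone_id N
  haveI : CochainComplex.IsKInjective (N⟦(1 : ℤ)⟧) := hM.kInj
  let S := ShortComplex.mk a (cokernel.π _) (cokernel.condition _)
  have hS : S.ShortExact := { exact := ShortComplex.exact_of_g_is_cokernel _ (cokernelIsCokernel _) }
  obtain ⟨l, hl₁, hl₂⟩ := exists_lift (M := N⟦(1 : ℤ)⟧) hS (injective_cone_X _ hN.inj hN.inj) (acyclic_cone_id N)
    (mappingCone.triangle (𝟙 N)).mor₃ (pathSection N) (pathSection_comp N) hC α β sq.w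
  exact ⟨⟨⟨l, hl₁, hl₂⟩⟩⟩

lemma rlp_toZero {N : Cx} (hN : Nice P N) : (gen P).rlp (0 : N ⟶ (HomologicalComplex.zero : Cx)) := by
  intro X Y a ha
  constructor
  intro α β sq
  obtain ⟨_, hC⟩ := noHom_gen P a ha hN.orth
  haveI := hN.kInj
  let S := ShortComplex.mk a (cokernel.π _) (cokernel.condition _)
  have hS : S.ShortExact := { exact := ShortComplex.exact_of_g_is_cokernel _ (cokernelIsCokernel _) }
  obtain ⟨l, hl⟩ := exists_ext hS hN.inj hC α
  exact ⟨⟨⟨l, hl, HomologicalComplex.isZero_zero.eq_of_tgt _ _⟩⟩⟩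

lemma bijective_precomp {X Y : Cx} (i : X ⟶ Y) (hi : (gen P).rlp.llp i) {M : Cx} (hM : Nice P M) :
    Function.Bijective fun u : Q.obj Y ⟶ Q.obj M => Q.map i ≫ u := by
  haveI := hM.kInj
  constructor
  · intro u v huv
    obtain ⟨u, rfl⟩ := KInjRes.Q_map_surjective _ _ u
    obtain ⟨v, rfl⟩ := KInjRes.Q_map_surjective _ _ v
    let e : (M⟦(-1 : ℤ)⟧)⟦(1 : ℤ)⟧ ≅ M :=
      (shiftFunctorCompIsoId Cx (-1 : ℤ) 1 (by lia)).app M
    let N := M⟦(-1 : ℤ)⟧
    let p := (mappingCone.triangle (𝟙 N)).mor₃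
    haveI := (hM.shift P (-1)).kInj
    haveI := isKInjective_cone_id N
    let w := (u - v) ≫ e.inv
    have hw : Q.map (i ≫ w) = 0 := by
      rw [Functor.map_comp, Functor.map_comp, Functor.map_sub, Preadditive.sub_comp, Preadditive.comp_sub,
        ← Category.assoc, ← Category.assoc (Q.map i) (Q.map v)]
      exact sub_eq_zero.2 (congrArg (· ≫ Q.map e.inv) huv)
    obtain ⟨H⟩ := (KInjRes.Q_map_eq_iff _ _ (i ≫ w) 0).1 (hw.trans (Functor.map_zero Q _ _).symm)
    let α : X ⟶ mappingCone (𝟙 N) := Homotopy.nullHomotopicMap fun a b => H.hom a b ≫ pathSection N b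
    have hα : α ≫ p = i ≫ w := nullHomotopicMap_section_comp H p _ (pathSection_comp N)
    have sq : CommSq α i p w := ⟨hα⟩
    haveI := hi p (rlp_path P (hM.shift P (-1)))
    have hz : Q.map w = 0 := by
      rw [← sq.fac_right, Functor.map_comp,
        (isZero_Q_of_acyclic (acyclic_cone_id N)).eq_of_tgt (Q.map sq.lift) 0, zero_comp]
    have : Q.map (u - v) = 0 := by
      have hh : Q.map w ≫ Q.map e.hom = 0 := by rw [hz, zero_comp]
      rwa [← Functor.map_comp, Category.assoc, e.inv_hom_id, Category.comp_id] at hh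
    rwa [Functor.map_sub, sub_eq_zero] at this
  · intro φ
    obtain ⟨φ, rfl⟩ := KInjRes.Q_map_surjective _ _ φ
    have sq : CommSq φ i (0 : M ⟶ (HomologicalComplex.zero : Cx)) 0 :=
      ⟨HomologicalComplex.isZero_zero.eq_of_tgt _ _⟩
    haveI := hi _ (rlp_toZero P hM)
    exact ⟨Q.map sq.lift, by simp [← Functor.map_comp]⟩

open MorphismProperty in
lemma exists_localization (X : Cx) :
    ∃ (Y : Cx) (i : X ⟶ Y), (gen P).rlp.llp i ∧ orth P (Q.obj Y) := by
  let d := factorizationData (gen P).rlp.llp (gen P).rlp (0 : X ⟶ (HomologicalComplex.zero : Cx))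
  have hY : KInjRes.Ext d.Z := fun K' M a ha f => by
    have hp : (KInjRes.genCof A).rlp d.p := MorphismProperty.antitone_rlp le_sup_left _ d.hp
    rw [KInjRes.rlp_eq] at hp
    have sq : CommSq f a d.p 0 := ⟨HomologicalComplex.isZero_zero.eq_of_tgt _ _⟩
    have := hp a ha
    exact ⟨sq.lift, sq.fac_left⟩
  haveI := KInjRes.isKInjective_of_ext hY
  refine ⟨d.Z, d.i, d.hi, fun k n => subsingleton_of_forall_eq 0 fun f => ?_⟩
  refine shift_hom_eq_zero' (fun g => ?_) f
  rw [← cancel_epi ((Q.commShiftIso (-n)).hom.app (P k)), comp_zero]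
  obtain ⟨φ, hφ⟩ := KInjRes.Q_map_surjective _ d.Z ((Q.commShiftIso (-n)).hom.app (P k) ≫ g)
  rw [← hφ]
  have sq : CommSq φ (j P (k, -n)) d.p 0 := ⟨HomologicalComplex.isZero_zero.eq_of_tgt _ _⟩
  haveI := d.hp (j P (k, -n)) (Or.inr ⟨(k, -n)⟩)
  rw [← sq.fac_left, Functor.map_comp]
  exact (isZero_Q_of_acyclic (acyclic_cone_id ((P k)⟦-n⟧))).eq_of_src (Q.map sq.lift) 0 ▸ comp_zero

/-- The right orthogonal of a small family of objects is reflective. -/
theorem isRightAdjoint_ι : (orth P).ι.IsRightAdjoint := by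
  refine (Decomp.ι_isRightAdjoint_iff _).2 fun X => ?_
  obtain ⟨Y, i, hi, hY⟩ := exists_localization P (Q.objPreimage X)
  refine ⟨Q.obj Y, (Q.objObjPreimageIso X).inv ≫ Q.map i, hY, fun K hK => ?_⟩
  let I₀ := Q.objPreimage K
  obtain ⟨I, r, _, _, hI, hI'⟩ := KInjRes.exists_resolution I₀
  let e : K ≅ Q.obj I := (Q.objObjPreimageIso K).symm ≪≫ asIso (Q.map r)
  have hb := bijective_precomp P i hi (M := I) ⟨hI, hI', orth_of_iso e hK⟩
  have : (fun u : Q.obj Y ⟶ K => ((Q.objObjPreimageIso X).inv ≫ Q.map i) ≫ u) =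
      (Q.objObjPreimageIso X).homFromEquiv ∘ e.symm.homToEquiv ∘
        (fun v : Q.obj Y ⟶ Q.obj I => Q.map i ≫ v) ∘ e.homToEquiv := by
    funext u
    simp
  rw [this]
  exact (Equiv.bijective _).comp ((Equiv.bijective _).comp (hb.comp (Equiv.bijective _)))

/-- The same, for a family of objects of the derived category. -/
theorem isRightAdjoint_ι_of_forall_iff {κ' : Type v} (G : κ' → DerivedCategory A)
    (P' : ObjectProperty (DerivedCategory A))
    (h : ∀ K, P' K ↔ ∀ (k : κ') (n : ℤ), Subsingleton (G k ⟶ K⟦n⟧)) : P'.ι.IsRightAdjoint := by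
  have e : orth (fun k => Q.objPreimage (G k)) = P' := by
    funext K
    refine propext ⟨fun hK => (h K).2 fun k n => ?_, fun hK k n => ?_⟩
    · haveI := hK k n
      exact (Q.objObjPreimageIso (G k)).homFromEquiv.symm.subsingleton
    · haveI := (h K).1 hK k n
      exact (Q.objObjPreimageIso (G k)).homFromEquiv.subsingleton
  subst e
  exact isRightAdjoint_ι _

end Loc

end Groth.DAlg.SetLoc
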