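import Groth.Agent.DAlg.SiteAwayTensor
import Groth.Agent.DAlg.TensorSingleRight
import Groth.Agent.DerivedCoh.TriBasic

/-!
`- ⊗^L O_f` and the towers of multiplication by a global section.
-/

universe u

open CategoryTheory CategoryTheory.Limits CategoryTheory.Pretriangulated Opposite

attribute [local instance] HasDerivedCategory.standard

set_option backward.defeqAttrib.useBackward true
set_option backward.isDefEq.respectTransparency false
set_option synthInstance.maxHeartbeats 400000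
set_option maxHeartbeats 1000000

namespace Groth.DAlg.SiteAwayDerived

open SiteAwayTensor TelescopeHom Groth.DerivedCoh

variable {C : Type u} [SmallCategory C] {J : GrothendieckTopology C} {O : Sheaf J CommRingCat.{u}}
  (s : DerComp.GSec O)

local notation "up" => ComplexShape.up ℤ

/-- `O_f` in degree zero. -/
noncomputable abbrev P₀ : CochainComplex (ModSite.Mod O) ℤ :=
  (CochainComplex.singleFunctor (ModSite.Mod O) 0).obj (DerComp.locAway s (ModSite.unit O))

/-- Tensoring complexes with `O_f`. -/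
noncomputable abbrev locC : CochainComplex (ModSite.Mod O) ℤ ⥤ CochainComplex (ModSite.Mod O) ℤ :=
  (locF s).mapHomologicalComplex up

lemma inverts : (HomologicalComplex.quasiIso (ModSite.Mod O) up).IsInvertedBy (locC s ⋙ DerivedCategory.Q) :=
  fun X Y φ hφ => by
    have := (isFlat_locAway s).1
    have := (isFlat_locAway s).2
    have : QuasiIso φ := (HomologicalComplex.mem_quasiIso_iff φ).1 hφ
    exact (DerivedCategory.isIso_Q_map_iff_quasiIso _ _).2 (inferInstanceAs (QuasiIso ((locC s).map φ)))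

/-- The derived tensor product with `O_f` is the tensor product. -/
noncomputable def ltIso [ModSite.HasLTensorCx (P₀ s)] :
    DerivedCategory.Q ⋙ ModSite.LTensorCx (P₀ s) ≅ locC s ⋙ DerivedCategory.Q :=
  let e : locC s ⋙ DerivedCategory.Q ≅ ModSite.tensorCxQ (P₀ s) :=
    Functor.isoWhiskerRight (TensorSingleRight.natIso (ModSite.tensorBi O) (DerComp.locAway s (ModSite.unit O))) _
  haveI : IsIso ((ModSite.tensorCxQ (P₀ s)).totalLeftDerivedCounit DerivedCategory.Q
      (HomologicalComplex.quasiIso (ModSite.Mod O) up)) :=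
    Functor.isIso_of_isLeftDerivedFunctor_of_inverts (ModSite.LTensorCx (P₀ s)) _
      ((MorphismProperty.IsInvertedBy.iff_of_iso _ e).1 (inverts s))
  asIso ((ModSite.tensorCxQ (P₀ s)).totalLeftDerivedCounit DerivedCategory.Q
    (HomologicalComplex.quasiIso (ModSite.Mod O) up)) ≪≫ e.symm

section Sequence

variable (X : CochainComplex (ModSite.Mod O) ℤ)

/-- The tower map on the countable sum of copies of a complex. -/
noncomputable def telC : (∐ fun _ : ℕ => X) ⟶ ∐ fun _ : ℕ => X :=
  Sigma.desc fun n => Sigma.ι (fun _ : ℕ => X) n - (s • 𝟙 X) ≫ Sigma.ι (fun _ : ℕ => X) (n + 1)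

/-- The projection onto the tensor product with `O_f`. -/
noncomputable def projC : (∐ fun _ : ℕ => X) ⟶ (locC s).obj X :=
  Sigma.desc fun i =>
    ((Functor.mapHomologicalComplexIdIso (ModSite.Mod O) up).inv.app X :) ≫
      (NatTrans.mapHomologicalComplex (τ s i) up).app X

lemma smul_one_f (i : ℤ) : (s • 𝟙 X : X ⟶ X).f i = DerComp.smulEnd s (X.X i) := by
  rw [HomologicalComplex.smul_f_apply, HomologicalComplex.id_f, DerComp.smul_def, Category.comp_id]

lemma projC_ι (i : ℕ) (q : ℤ) : (Sigma.ι (fun _ : ℕ => X) i).f q ≫ (projC s X).f q = (τ s i).app (X.X q) := by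
  rw [← HomologicalComplex.comp_f, projC, Sigma.ι_desc]
  exact Category.id_comp _

lemma telC_projC : telC s X ≫ projC s X = 0 := Sigma.hom_ext _ _ fun n => by
  ext q : 1
  simp only [telC, Sigma.ι_desc_assoc, Preadditive.sub_comp, Category.assoc, comp_zero,
    HomologicalComplex.sub_f_apply, HomologicalComplex.comp_f, HomologicalComplex.zero_f, smul_one_f, projC_ι]
  rw [τ_succ, sub_self]

/-- The resolution of the tensor product with `O_f`. -/
lemma shortExact_projC : (ShortComplex.mk _ _ (telC_projC s X)).ShortExact := by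
  refine HomologicalComplex.shortExact_of_degreewise_shortExact _ fun q => ?_
  let e := PreservesCoproduct.iso (HomologicalComplex.eval (ModSite.Mod O) up q) fun _ : ℕ => X
  have he' : ∀ i, Sigma.ι (fun _ : ℕ => X.X q) i ≫ e.inv = (Sigma.ι (fun _ : ℕ => X) i).f q := fun i => by
    simp only [e, PreservesCoproduct.inv_hom]
    exact ι_comp_sigmaComparison (HomologicalComplex.eval (ModSite.Mod O) up q) (fun _ : ℕ => X) i
  refine ShortComplex.shortExact_of_iso (ShortComplex.isoMk (S₁ := ShortComplex.mk _ _ (awayMap_proj s (X.X q)))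
    e.symm e.symm (Iso.refl _) ?_ ?_)
    (shortExact_away s (X.X q))
  · refine Sigma.hom_ext _ _ fun i => ?_
    show Sigma.ι (fun _ : ℕ => X.X q) i ≫ e.inv ≫ (telC s X).f q =
      Sigma.ι (fun _ : ℕ => X.X q) i ≫ DerComp.awayMap s (X.X q) ≫ e.inv
    rw [reassoc_of% (he' i), ← HomologicalComplex.comp_f, telC, Sigma.ι_desc]
    simp [DerComp.awayMap, he', smul_one_f, DerComp.smul_def, Preadditive.sub_comp]
  · refine Sigma.hom_ext _ _ fun i => ?_
    show Sigma.ι (fun _ : ℕ => X.X q) i ≫ e.inv ≫ (projC s X).f q =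
      Sigma.ι (fun _ : ℕ => X.X q) i ≫ proj s (X.X q) ≫ 𝟙 _
    rw [reassoc_of% (he' i), projC_ι, Category.comp_id, proj, Sigma.ι_desc]

lemma bijective_components (K : DerivedCategory (ModSite.Mod O)) :
    Function.Bijective fun (x : DerivedCategory.Q.obj (∐ fun _ : ℕ => X) ⟶ K) n =>
      DerivedCategory.Q.map (Sigma.ι (fun _ : ℕ => X) n) ≫ x := by
  obtain ⟨I, hI, ⟨e⟩⟩ := KInjRes.exists_kInjective_iso K
  constructor
  · intro x y hxy
    obtain ⟨f, hf⟩ := KInjRes.Q_map_surjective _ I (x ≫ e.inv)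
    obtain ⟨g, hg⟩ := KInjRes.Q_map_surjective _ I (y ≫ e.inv)
    rw [← cancel_mono e.inv, ← hf, ← hg, KInjRes.Q_map_eq_iff]
    refine TelescopeHom.homotopic_sigma _ f g fun n => ?_
    rw [← KInjRes.Q_map_eq_iff, Functor.map_comp, Functor.map_comp, hf, hg]
    exact (Category.assoc _ _ _).symm.trans ((congrArg (· ≫ e.inv) (congrFun hxy n)).trans (Category.assoc _ _ _))
  · intro x
    choose f hf using fun n => KInjRes.Q_map_surjective _ I (x n ≫ e.inv)
    refine ⟨DerivedCategory.Q.map (Sigma.desc f) ≫ e.hom, funext fun n => ?_⟩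
    show _ ≫ _ ≫ _ = _
    rw [← Functor.map_comp_assoc, Sigma.ι_desc, hf, Category.assoc, Iso.inv_hom_id, Category.comp_id]

end Sequence

/-- Multiplication by the section on a group of morphisms. -/
noncomputable def mulS (Y K : DerivedCategory (ModSite.Mod O)) : (Y ⟶ K) →+ (Y ⟶ K) :=
  DistribMulAction.toAddMonoidHom (Y ⟶ K) s

/-- All towers into `K` are trivial. -/
def Van (K : DerivedCategory (ModSite.Mod O)) : Prop :=
  ∀ Y : DerivedCategory (ModSite.Mod O), TBij (mulS s Y K)

lemma Van.shift {K : DerivedCategory (ModSite.Mod O)} (h : Van s K) (n : ℤ) : Van s (K⟦n⟧) := fun Y => by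
  let ψ : (Y⟦-n⟧ ⟶ K) ≃+ (Y ⟶ K⟦n⟧) := AddEquiv.mk' (shiftTranspose' n Y K) fun x y => by
    simp [shiftTranspose', Adjunction.homEquiv_unit, Functor.map_add]
  refine (tBij_iff_of_equiv ψ _ _ fun x => ?_).1 (h _)
  show shiftTranspose' n Y K (s • x) = s • shiftTranspose' n Y K x
  have h1 : s • x = x ≫ (s • 𝟙 K) := by rw [Linear.comp_smul, Category.comp_id]
  rw [h1, shiftTranspose'_comp, Functor.map_smul, CategoryTheory.Functor.map_id, Linear.comp_smul, Category.comp_id]

lemma bijective_telC_iff (X : CochainComplex (ModSite.Mod O) ℤ) (K : DerivedCategory (ModSite.Mod O)) :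
    Function.Bijective (fun x : DerivedCategory.Q.obj (∐ fun _ : ℕ => X) ⟶ K =>
      DerivedCategory.Q.map (telC s X) ≫ x) ↔ TBij (mulS s (DerivedCategory.Q.obj X) K) := by
  let Φ := Equiv.ofBijective _ (bijective_components X K)
  have : Φ ∘ (fun x : DerivedCategory.Q.obj (∐ fun _ : ℕ => X) ⟶ K => DerivedCategory.Q.map (telC s X) ≫ x) =
      (fun (y : ℕ → (DerivedCategory.Q.obj X ⟶ K)) i => y i - mulS s _ _ (y (i + 1))) ∘ Φ := by
    funext x i
    show DerivedCategory.Q.map (Sigma.ι (fun _ : ℕ => X) i) ≫ DerivedCategory.Q.map (telC s X) ≫ x =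
      DerivedCategory.Q.map (Sigma.ι (fun _ : ℕ => X) i) ≫ x -
        s • (DerivedCategory.Q.map (Sigma.ι (fun _ : ℕ => X) (i + 1)) ≫ x)
    rw [← Functor.map_comp_assoc, telC, Sigma.ι_desc, Functor.map_sub, Functor.map_comp, Functor.map_smul,
      CategoryTheory.Functor.map_id, Preadditive.sub_comp, Category.assoc, Linear.smul_comp, Category.id_comp]
  refine (Φ.bijective.of_comp_iff' _).symm.trans ?_
  rw [this]
  exact Function.Bijective.of_comp_iff _ Φ.bijective

variable [ModSite.HasLTensorCx (P₀ s)]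

/-- Orthogonality to `- ⊗^L O_f` is the vanishing of all towers. -/
theorem subsingleton_lt_iff (K : DerivedCategory (ModSite.Mod O)) :
    (∀ Y, Subsingleton ((ModSite.LTensorCx (P₀ s)).obj Y ⟶ K)) ↔ Van s K := by
  let LT := ModSite.LTensorCx (P₀ s)
  have hQ : ∀ X, Subsingleton (DerivedCategory.Q.obj ((locC s).obj X) ⟶ K) ↔
      Subsingleton (LT.obj (DerivedCategory.Q.obj X) ⟶ K) := fun X =>
    (((ltIso s).app X).symm.homFromEquiv (Z := K)).subsingleton_congr
  constructor
  · intro h Y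
    obtain ⟨X, ⟨i⟩⟩ : ∃ X, Nonempty (DerivedCategory.Q.obj X ≅ Y) :=
      ⟨_, ⟨DerivedCategory.Q.objObjPreimageIso Y⟩⟩
    let ψ : (DerivedCategory.Q.obj X ⟶ K) ≃+ (Y ⟶ K) :=
      AddEquiv.mk' i.homFromEquiv fun x y => show i.inv ≫ (x + y) = i.inv ≫ x + i.inv ≫ y from
        Preadditive.comp_add _ _ _ _ _ _
    refine (tBij_iff_of_equiv ψ _ _ fun x => ?_).1 ((bijective_telC_iff s X K).1 ?_)
    · show i.inv ≫ (s • x) = s • (i.inv ≫ x)
      rw [Linear.comp_smul]
    have hT := DerivedCategory.triangleOfSES_distinguished (shortExact_projC s X)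
    have h0 : ∀ Z, ∀ ψ : DerivedCategory.Q.obj ((locC s).obj Z) ⟶ K, ψ = 0 := fun Z ψ =>
      ((hQ Z).2 (h _)).elim _ _
    constructor
    · intro x y hxy
      rw [← sub_eq_zero]
      obtain ⟨φ, hφ⟩ := Triangle.yoneda_exact₂ _ hT (x - y) (by
        show DerivedCategory.Q.map (telC s X) ≫ (x - y) = 0
        rw [Preadditive.comp_sub, sub_eq_zero]
        exact hxy)
      rw [hφ, h0 X φ]
      exact comp_zero
    · intro y
      have hz : (DerivedCategory.triangleOfSES (shortExact_projC s X)).invRotate.mor₁ ≫ y = 0 := by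
        rw [← cancel_epi ((((locC s).commShiftIso (-1 : ℤ)).app X |> fun j => DerivedCategory.Q.mapIso j ≪≫
          (DerivedCategory.Q.commShiftIso (-1 : ℤ)).app ((locC s).obj X))).hom, comp_zero]
        exact h0 _ _
      obtain ⟨x, hx⟩ := Triangle.yoneda_exact₂ _ (inv_rot_of_distTriang _ hT) y hz
      exact ⟨x, hx.symm⟩
  · intro h Y
    obtain ⟨X, ⟨i⟩⟩ : ∃ X, Nonempty (DerivedCategory.Q.obj X ≅ Y) :=
      ⟨_, ⟨DerivedCategory.Q.objObjPreimageIso Y⟩⟩
    haveI : Subsingleton (DerivedCategory.Q.obj ((locC s).obj X) ⟶ K) := by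
      refine ⟨fun a b => sub_eq_zero.1 ?_⟩
      have hT := DerivedCategory.triangleOfSES_distinguished (shortExact_projC s X)
      have h1 : DerivedCategory.Q.map (projC s X) ≫ (a - b) = 0 := by
        refine ((bijective_telC_iff s X K).2 (h _)).1 ?_
        show DerivedCategory.Q.map (telC s X) ≫ _ = DerivedCategory.Q.map (telC s X) ≫ 0
        rw [← Functor.map_comp_assoc, telC_projC, Functor.map_zero, zero_comp, comp_zero]
      obtain ⟨χ, hχ⟩ := Triangle.yoneda_exact₂ _ (rot_of_distTriang _ hT) (a - b) h1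
      obtain ⟨χ', hχ'⟩ := ((bijective_telC_iff s X (K⟦(-1 : ℤ)⟧)).2 ((h.shift s (-1)) _)).2
        (shiftTranspose 1 _ K χ)
      have hχ2 : χ = (DerivedCategory.Q.map (telC s X))⟦(1 : ℤ)⟧' ≫ (shiftTranspose 1 _ K).symm χ' := by
        apply (shiftTranspose 1 _ K).injective
        refine hχ'.symm.trans ?_
        show _ = (shiftEquiv (DerivedCategory (ModSite.Mod O)) (1 : ℤ)).toAdjunction.homEquiv _ _ _
        erw [Adjunction.homEquiv_naturality_left]
        exact congrArg (DerivedCategory.Q.map (telC s X) ≫ ·) (Equiv.apply_symm_apply (shiftTranspose 1 _ K) χ').symm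
      rw [hχ, hχ2]
      change (DerivedCategory.triangleOfSES (shortExact_projC s X)).mor₃ ≫ _ ≫ _ = 0
      erw [← Category.assoc, comp_distTriang_mor_zero₃₁ _ hT, zero_comp]
    haveI := (hQ X).1 this
    exact ((LT.mapIso i).homFromEquiv (Z := K)).symm.subsingleton

/-- The derived limits of the tower vanish iff all towers do. -/
theorem van_iff (K : DerivedCategory (ModSite.Mod O)) [HasProduct fun _ : ℕ => K] :
    Van s K ↔ ∀ L, DerComp.IsT s K L → IsZero L := by
  let D := Pi.lift fun n => Pi.π (fun _ : ℕ => K) n - Pi.π (fun _ : ℕ => K) (n + 1) ≫ (s • 𝟙 K)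
  have hD : ∀ Y, Function.Bijective (fun x : Y ⟶ ∏ᶜ fun _ : ℕ => K => x ≫ D) ↔ TBij (mulS s Y K) := fun Y => by
    let Φ : (Y ⟶ ∏ᶜ fun _ : ℕ => K) ≃ (ℕ → (Y ⟶ K)) :=
      ⟨fun x n => x ≫ Pi.π _ n, fun x => Pi.lift x, fun x => Limits.Pi.hom_ext _ _ fun n => Pi.lift_π _ _,
        fun x => funext fun n => Pi.lift_π _ _⟩
    have : Φ ∘ (fun x : Y ⟶ ∏ᶜ fun _ : ℕ => K => x ≫ D) =
        (fun (y : ℕ → (Y ⟶ K)) i => y i - mulS s _ _ (y (i + 1))) ∘ Φ := by
      funext x i
      show (x ≫ D) ≫ Pi.π (fun _ : ℕ => K) i =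
        x ≫ Pi.π (fun _ : ℕ => K) i - s • (x ≫ Pi.π (fun _ : ℕ => K) (i + 1))
      simp only [D, Category.assoc, Pi.lift_π, Preadditive.comp_sub, Linear.comp_smul, Category.comp_id]
    refine (Φ.bijective.of_comp_iff' _).symm.trans ?_
    rw [this]
    exact Function.Bijective.of_comp_iff _ Φ.bijective
  constructor
  · intro h L hL
    obtain ⟨a, c, hT⟩ := hL
    refine (Triangle.isZero₁_iff_isIso₂ _ hT).2 ?_
    rw [isIso_iff_yoneda_map_bijective]
    exact fun Y => (hD Y).2 (h Y)
  · intro h Y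
    obtain ⟨L, a, c, hT⟩ := distinguished_cocone_triangle₁ D
    have := (Triangle.isZero₁_iff_isIso₂ _ hT).1 (h L ⟨a, c, hT⟩)
    exact (hD Y).1 (((isIso_iff_yoneda_map_bijective D).1 this) Y)

end Groth.DAlg.SiteAwayDerived
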