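import Groth.Agent.DAlg.KTower
import Mathlib.Algebra.Homology.HomotopyCategory.HomComplexShift
import Mathlib.Algebra.Homology.Linear

/-!
Maps out of the cone of a telescope map are maps into the cone of a tower map.
-/

universe w v u

set_option backward.defeqAttrib.useBackward true
set_option backward.isDefEq.respectTransparency false
set_option linter.unusedSectionVars false
set_option linter.style.haveILetI false

open CategoryTheory CategoryTheory.Limits HomologicalComplex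
open CochainComplex CochainComplex.HomComplex

namespace Groth.DAlg.TowerAdjunction

variable {A : Type u} [Category.{v} A] [Abelian A] {R : Type w} [CommRing R] [Linear R A] (s : R)
  [HasCoproductsOfShape ℕ A] [HasProductsOfShape ℕ A]
  (X : CochainComplex A ℤ) (J : CochainComplex A ℤ)

local notation "qA" => HomotopyCategory.quotient A (ComplexShape.up ℤ)

/-- The telescope map of multiplication by `s`. -/
noncomputable def telS : (∐ fun _ : ℕ => X) ⟶ ∐ fun _ : ℕ => X :=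
  Sigma.desc fun n => Sigma.ι (fun _ : ℕ => X) n - (s • 𝟙 X) ≫ Sigma.ι (fun _ : ℕ => X) (n + 1)

/-- The cone of the telescope map. -/
noncomputable abbrev TX : CochainComplex A ℤ := mappingCone (telS s X)

/-- The shifted target. -/
noncomputable abbrev J' : CochainComplex A ℤ := J⟦(-1 : ℤ)⟧

/-- The cone of the tower map of multiplication by `s`. -/
noncomputable abbrev GJ : CochainComplex A ℤ :=
  mappingCone (KTower.telPi (s • 𝟙 (J' J) : J' J ⟶ J' J))

section Cochains

variable {X J}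

lemma sigma_X_hom_ext {i : ℤ} {Z : A} {a b : (∐ fun _ : ℕ => X).X i ⟶ Z}
    (h : ∀ n, (Sigma.ι (fun _ : ℕ => X) n).f i ≫ a = (Sigma.ι (fun _ : ℕ => X) n).f i ≫ b) : a = b :=
  Cofan.IsColimit.hom_ext (isColimitCofanMkObjOfIsColimit (HomologicalComplex.eval A (ComplexShape.up ℤ) i) _ _
    (coproductIsCoproduct fun _ : ℕ => X)) _ _ h

lemma pi_X_hom_ext {Y : CochainComplex A ℤ} {i : ℤ} {Z : A} {a b : Z ⟶ (∏ᶜ fun _ : ℕ => Y).X i}
    (h : ∀ n, a ≫ (Pi.π (fun _ : ℕ => Y) n).f i = b ≫ (Pi.π (fun _ : ℕ => Y) n).f i) : a = b :=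
  Fan.IsLimit.hom_ext (isLimitFanMkObjOfIsLimit (HomologicalComplex.eval A (ComplexShape.up ℤ) i) _ _
    (productIsProduct fun _ : ℕ => Y)) _ _ h

/-- A cochain out of a countable sum. -/
noncomputable def sigmaC {L : CochainComplex A ℤ} {k : ℤ} (γ : ℕ → Cochain X L k) :
    Cochain (∐ fun _ : ℕ => X) L k :=
  Cochain.mk fun p q hpq => (isColimitCofanMkObjOfIsColimit (HomologicalComplex.eval A (ComplexShape.up ℤ) p) _ _
    (coproductIsCoproduct fun _ : ℕ => X)).desc (Cofan.mk (L.X q) fun n => (γ n).v p q hpq)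

@[simp] lemma ι_sigmaC {L : CochainComplex A ℤ} {k : ℤ} (γ : ℕ → Cochain X L k) (n : ℕ) :
    (Cochain.ofHom (Sigma.ι (fun _ : ℕ => X) n)).comp (sigmaC γ) (zero_add k) = γ n := by
  ext p q hpq
  rw [Cochain.zero_cochain_comp_v, Cochain.ofHom_v]
  exact (isColimitCofanMkObjOfIsColimit (HomologicalComplex.eval A (ComplexShape.up ℤ) p) _ _
    (coproductIsCoproduct fun _ : ℕ => X)).fac _ ⟨n⟩

lemma sigmaC_ext {L : CochainComplex A ℤ} {k : ℤ} {a b : Cochain (∐ fun _ : ℕ => X) L k}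
    (h : ∀ n, (Cochain.ofHom (Sigma.ι (fun _ : ℕ => X) n)).comp a (zero_add k) =
      (Cochain.ofHom (Sigma.ι (fun _ : ℕ => X) n)).comp b (zero_add k)) : a = b := by
  ext p q hpq
  refine sigma_X_hom_ext fun n => ?_
  simpa using Cochain.congr_v (h n) p q hpq

/-- A cochain into a countable power. -/
noncomputable def piC {Y : CochainComplex A ℤ} {k : ℤ} (γ : ℕ → Cochain X Y k) :
    Cochain X (∏ᶜ fun _ : ℕ => Y) k :=
  Cochain.mk fun p q hpq => (isLimitFanMkObjOfIsLimit (HomologicalComplex.eval A (ComplexShape.up ℤ) q) _ _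
    (productIsProduct fun _ : ℕ => Y)).lift (Fan.mk (X.X p) fun n => (γ n).v p q hpq)

@[simp] lemma piC_π {Y : CochainComplex A ℤ} {k : ℤ} (γ : ℕ → Cochain X Y k) (n : ℕ) :
    (piC γ).comp (Cochain.ofHom (Pi.π (fun _ : ℕ => Y) n)) (add_zero k) = γ n := by
  ext p q hpq
  rw [Cochain.comp_zero_cochain_v, Cochain.ofHom_v]
  exact (isLimitFanMkObjOfIsLimit (HomologicalComplex.eval A (ComplexShape.up ℤ) q) _ _
    (productIsProduct fun _ : ℕ => Y)).fac _ ⟨n⟩

lemma piC_ext {Y : CochainComplex A ℤ} {k : ℤ} {a b : Cochain X (∏ᶜ fun _ : ℕ => Y) k}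
    (h : ∀ n, a.comp (Cochain.ofHom (Pi.π (fun _ : ℕ => Y) n)) (add_zero k) =
      b.comp (Cochain.ofHom (Pi.π (fun _ : ℕ => Y) n)) (add_zero k)) : a = b := by
  ext p q hpq
  refine pi_X_hom_ext fun n => ?_
  simpa using Cochain.congr_v (h n) p q hpq

lemma comp_smul_id {L : CochainComplex A ℤ} {k : ℤ} (γ : Cochain X L k) :
    γ.comp (Cochain.ofHom (s • 𝟙 L : L ⟶ L)) (add_zero k) = s • γ := by
  ext p q hpq
  simp

lemma smul_id_comp {L : CochainComplex A ℤ} {k : ℤ} (γ : Cochain X L k) :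
    (Cochain.ofHom (s • 𝟙 X : X ⟶ X)).comp γ (zero_add k) = s • γ := by
  ext p q hpq
  simp

lemma ι_telS_comp {L : CochainComplex A ℤ} {k : ℤ} (γ : Cochain (∐ fun _ : ℕ => X) L k) (n : ℕ) :
    (Cochain.ofHom (Sigma.ι (fun _ : ℕ => X) n)).comp
        ((Cochain.ofHom (telS s X)).comp γ (zero_add k)) (zero_add k) =
      (Cochain.ofHom (Sigma.ι (fun _ : ℕ => X) n)).comp γ (zero_add k) -
        s • (Cochain.ofHom (Sigma.ι (fun _ : ℕ => X) (n + 1))).comp γ (zero_add k) := by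
  rw [← Cochain.comp_assoc_of_second_is_zero_cochain, ← Cochain.ofHom_comp, telS, Sigma.ι_desc,
    Cochain.ofHom_sub, Cochain.sub_comp, Cochain.ofHom_comp,
    Cochain.comp_assoc_of_second_is_zero_cochain, smul_id_comp]

lemma comp_telPi_π {Y : CochainComplex A ℤ} {k : ℤ} (γ : Cochain X (∏ᶜ fun _ : ℕ => Y) k) (n : ℕ) :
    (γ.comp (Cochain.ofHom (KTower.telPi (s • 𝟙 Y : Y ⟶ Y))) (add_zero k)).comp
        (Cochain.ofHom (Pi.π (fun _ : ℕ => Y) n)) (add_zero k) =
      γ.comp (Cochain.ofHom (Pi.π (fun _ : ℕ => Y) n)) (add_zero k) -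
        s • γ.comp (Cochain.ofHom (Pi.π (fun _ : ℕ => Y) (n + 1))) (add_zero k) := by
  rw [Cochain.comp_assoc_of_second_is_zero_cochain, ← Cochain.ofHom_comp, KTower.telPi, Pi.lift_π,
    Cochain.ofHom_sub, Cochain.comp_sub, Cochain.ofHom_comp,
    ← Cochain.comp_assoc_of_second_is_zero_cochain, comp_smul_id]

/-- Shifting a cochain into the shifted target. -/
noncomputable abbrev sh {k : ℤ} (γ : Cochain X J k) (k' : ℤ) (h : k' + (-1) = k) : Cochain X (J' J) k' :=
  γ.rightShift (-1) k' h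

lemma δ_sh {k m k' m' : ℤ} (γ : Cochain X J k) (h : k' + (-1) = k) (hm : m' + (-1) = m) :
    δ k' m' (sh γ k' h) = -sh (δ k m γ) m' hm := by
  rw [sh, Cochain.δ_rightShift γ (-1) k' m' h m hm]
  simp [sh]

lemma sh_injective {k : ℤ} {a b : Cochain X J k} (k' : ℤ) (h : k' + (-1) = k) (e : sh a k' h = sh b k' h) :
    a = b :=
  (Cochain.rightShiftAddEquiv X J k (-1) k' h).injective e

lemma sh_sub {k : ℤ} (a b : Cochain X J k) (k' : ℤ) (h : k' + (-1) = k) :
    sh (a - b) k' h = sh a k' h - sh b k' h :=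
  (Cochain.rightShiftAddEquiv X J k (-1) k' h).map_sub a b

lemma sh_smul {k : ℤ} (a : Cochain X J k) (k' : ℤ) (h : k' + (-1) = k) :
    sh (s • a) k' h = s • sh a k' h :=
  Cochain.rightShift_smul a (-1) k' h s

lemma sh_ofHom_comp {X' : CochainComplex A ℤ} (φ : X' ⟶ X) {k : ℤ} (a : Cochain X J k) (k' : ℤ)
    (h : k' + (-1) = k) :
    sh ((Cochain.ofHom φ).comp a (zero_add k)) k' h = (Cochain.ofHom φ).comp (sh a k' h) (zero_add k') := by
  ext p q hpq
  simp [sh, Cochain.rightShift_v _ (-1) k' h p q hpq (p + k) rfl]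

lemma assoc₃ {K₀ K₁ K₂ K₃ K₄ : CochainComplex A ℤ} {k : ℤ} (a : K₀ ⟶ K₁) (b : K₁ ⟶ K₂) (c : Cochain K₂ K₃ k)
    (d : K₃ ⟶ K₄) :
    ((Cochain.ofHom (a ≫ b)).comp c (zero_add k)).comp (Cochain.ofHom d) (add_zero k) =
      (Cochain.ofHom a).comp (((Cochain.ofHom b).comp c (zero_add k)).comp (Cochain.ofHom d) (add_zero k))
        (zero_add k) := by
  ext p q hpq
  simp

end Cochains

variable {X J}

/-- The components of a map out of the cone of the telescope. -/
noncomputable def g₁ (ψ : TX s X ⟶ J) (n : ℕ) : X ⟶ J :=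
  Sigma.ι (fun _ : ℕ => X) n ≫ mappingCone.inr (telS s X) ≫ ψ

/-- The homotopies of a map out of the cone of the telescope. -/
noncomputable def h₁ (ψ : TX s X ⟶ J) (n : ℕ) : Cochain X J (-1) :=
  (Cochain.ofHom (Sigma.ι (fun _ : ℕ => X) n)).comp
    ((mappingCone.inl (telS s X)).comp (Cochain.ofHom ψ) (add_zero (-1))) (zero_add (-1))

lemma δ_h₁ (ψ : TX s X ⟶ J) (n : ℕ) :
    δ (-1) 0 (h₁ s ψ n) = Cochain.ofHom (g₁ s ψ n) - s • Cochain.ofHom (g₁ s ψ (n + 1)) := by
  rw [h₁, δ_ofHom_comp, δ_comp_ofHom, mappingCone.δ_inl, Cochain.ofHom_comp,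
    Cochain.comp_assoc_of_second_is_zero_cochain, ι_telS_comp]
  simp only [g₁, Cochain.ofHom_comp]

/-- The map into the cone of the tower. -/
noncomputable def transpose (ψ : TX s X ⟶ J) : X ⟶ GJ s J :=
  mappingCone.lift (KTower.telPi (s • 𝟙 (J' J) : J' J ⟶ J' J))
    (Cocycle.mk (piC fun n => sh (Cochain.ofHom (g₁ s ψ n)) 1 (by lia)) 2 (by lia) (piC_ext fun n => by
      rw [← δ_comp_ofHom, piC_π, δ_sh _ (m := 1) _ (by lia), δ_ofHom, Cochain.zero_comp]
      simp))
    (piC fun n => sh (h₁ s ψ n) 0 (by lia))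
    (piC_ext fun n => by
      rw [Cochain.add_comp, ← δ_comp_ofHom, piC_π, Cochain.zero_comp, Cocycle.mk_coe, comp_telPi_π, piC_π,
        piC_π, δ_sh _ (m := 0) _ (by lia), δ_h₁, sh_sub, sh_smul, neg_add_cancel])

lemma transpose_fst (ψ : TX s X ⟶ J) (n : ℕ) :
    ((Cochain.ofHom (transpose s ψ)).comp (mappingCone.fst (KTower.telPi (s • 𝟙 (J' J) : J' J ⟶ J' J))).1
        (zero_add 1)).comp (Cochain.ofHom (Pi.π (fun _ : ℕ => J' J) n)) (add_zero 1) =
      sh (Cochain.ofHom (g₁ s ψ n)) 1 (by lia) := by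
  rw [transpose, mappingCone.lift_fst, Cocycle.mk_coe, piC_π]

lemma transpose_snd (ψ : TX s X ⟶ J) (n : ℕ) :
    ((Cochain.ofHom (transpose s ψ)).comp (mappingCone.snd (KTower.telPi (s • 𝟙 (J' J) : J' J ⟶ J' J)))
        (zero_add 0)).comp (Cochain.ofHom (Pi.π (fun _ : ℕ => J' J) n)) (add_zero 0) =
      sh (h₁ s ψ n) 0 (by lia) := by
  rw [transpose, mappingCone.lift_snd, piC_π]

lemma transpose_surjective : Function.Surjective (transpose s : (TX s X ⟶ J) → _) := fun φ => by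
  let D := KTower.telPi (s • 𝟙 (J' J) : J' J ⟶ J' J)
  let α : ℕ → Cocycle X J 0 := fun n => Cocycle.rightUnshift
    (Cocycle.mk (((Cochain.ofHom φ).comp (mappingCone.fst D).1 (zero_add 1)).comp
      (Cochain.ofHom (Pi.π (fun _ : ℕ => J' J) n)) (add_zero 1)) 2 (by lia) (by
        rw [δ_comp_ofHom, δ_ofHom_comp, Cocycle.δ_eq_zero, Cochain.comp_zero, Cochain.zero_comp])) 0 (by lia)
  let β : ℕ → Cochain X J (-1) := fun n =>
    (((Cochain.ofHom φ).comp (mappingCone.snd D) (zero_add 0)).comp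
      (Cochain.ofHom (Pi.π (fun _ : ℕ => J' J) n)) (add_zero 0)).rightUnshift (-1) (by lia)
  have hg : ∀ n, sh (Cochain.ofHom (Cocycle.homOf (α n))) 1 (by lia) =
      ((Cochain.ofHom φ).comp (mappingCone.fst D).1 (zero_add 1)).comp
        (Cochain.ofHom (Pi.π (fun _ : ℕ => J' J) n)) (add_zero 1) := fun n => by
    rw [Cocycle.cochain_ofHom_homOf_eq_coe]
    simp [α, sh, Cocycle.mk_coe]
  have hh : ∀ n, sh (β n) 0 (by lia) = ((Cochain.ofHom φ).comp (mappingCone.snd D) (zero_add 0)).comp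
      (Cochain.ofHom (Pi.π (fun _ : ℕ => J' J) n)) (add_zero 0) := fun n => by
    simp [β, sh]
  have hδ : ∀ n, δ (-1) 0 (β n) =
      Cochain.ofHom (Cocycle.homOf (α n)) - s • Cochain.ofHom (Cocycle.homOf (α (n + 1))) := fun n => by
    refine sh_injective 1 (by lia) (neg_injective ?_)
    rw [← δ_sh (k' := 0) (β n) (by lia) (by lia), hh, δ_comp_ofHom, δ_ofHom_comp, mappingCone.δ_snd,
      Cochain.comp_neg, Cochain.neg_comp, ← Cochain.comp_assoc_of_third_is_zero_cochain, comp_telPi_π, sh_sub,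
      sh_smul, hg, hg]
  refine ⟨mappingCone.desc (telS s X) (sigmaC β) (Sigma.desc fun n => Cocycle.homOf (α n))
    (sigmaC_ext fun n => ?_), ?_⟩
  · rw [← δ_ofHom_comp, ι_sigmaC, hδ, Cochain.ofHom_comp, ι_telS_comp, ← Cochain.ofHom_comp, Sigma.ι_desc,
      ← Cochain.ofHom_comp, Sigma.ι_desc]
  · apply Cochain.ofHom_injective
    rw [mappingCone.ext_cochain_to_iff D 0 1 (zero_add 1)]
    refine ⟨piC_ext fun n => ?_, piC_ext fun n => ?_⟩
    · rw [transpose_fst, g₁, mappingCone.inr_desc, Sigma.ι_desc, hg]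
    · rw [transpose_snd, h₁, mappingCone.inl_desc, ι_sigmaC, hh]

lemma map_telS {X' : CochainComplex A ℤ} (φ : X' ⟶ X) :
    telS s X' ≫ Limits.Sigma.map (fun _ : ℕ => φ) = Limits.Sigma.map (fun _ : ℕ => φ) ≫ telS s X :=
  Sigma.hom_ext _ _ fun n => by
    simp [telS, Preadditive.sub_comp, Preadditive.comp_sub]

/-- Functoriality of the cone of the telescope map. -/
noncomputable def TXmap {X' : CochainComplex A ℤ} (φ : X' ⟶ X) : TX s X' ⟶ TX s X :=
  mappingCone.map (telS s X') (telS s X) (Limits.Sigma.map fun _ : ℕ => φ) (Limits.Sigma.map fun _ : ℕ => φ) (map_telS s φ)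

lemma inr_TXmap {X' : CochainComplex A ℤ} (φ : X' ⟶ X) :
    mappingCone.inr (telS s X') ≫ TXmap s φ = Limits.Sigma.map (fun _ : ℕ => φ) ≫ mappingCone.inr (telS s X) := by
  simp [TXmap, mappingCone.map]

lemma inl_TXmap {X' : CochainComplex A ℤ} (φ : X' ⟶ X) :
    (mappingCone.inl (telS s X')).comp (Cochain.ofHom (TXmap s φ)) (add_zero (-1)) =
      (Cochain.ofHom (Limits.Sigma.map fun _ : ℕ => φ)).comp (mappingCone.inl (telS s X)) (zero_add (-1)) := by
  simp [TXmap, mappingCone.map]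

lemma transpose_TXmap {X' : CochainComplex A ℤ} (φ : X' ⟶ X) (ψ : TX s X ⟶ J) :
    transpose s (TXmap s φ ≫ ψ) = φ ≫ transpose s ψ := by
  apply Cochain.ofHom_injective
  rw [mappingCone.ext_cochain_to_iff _ 0 1 (zero_add 1)]
  refine ⟨piC_ext fun n => ?_, piC_ext fun n => ?_⟩
  · rw [transpose_fst, assoc₃, transpose_fst, ← sh_ofHom_comp]
    congr 1
    simp [g₁, reassoc_of% (inr_TXmap s φ), ← Cochain.ofHom_comp]
  · rw [transpose_snd, assoc₃, transpose_snd, ← sh_ofHom_comp]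
    congr 1
    rw [h₁, h₁, Cochain.ofHom_comp, ← Cochain.comp_assoc_of_third_is_zero_cochain (mappingCone.inl (telS s X')),
      inl_TXmap]
    ext p q hpq
    have := congrArg (fun z => z.f p) (Sigma.ι_map (f := fun _ : ℕ => X') (g := fun _ : ℕ => X) (fun _ => φ) n)
    simp only [HomologicalComplex.comp_f] at this
    simp [reassoc_of% this]

/-- Null homotopies correspond. -/
lemma homotopic_iff (ψ ψ' : TX s X ⟶ J) :
    (qA).map ψ = (qA).map ψ' ↔ (qA).map (transpose s ψ) = (qA).map (transpose s ψ') := by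
  let D := KTower.telPi (s • 𝟙 (J' J) : J' J ⟶ J' J)
  constructor
  · intro h
    obtain ⟨γ, hγ⟩ := Cochain.equivHomotopy ψ ψ' (HomotopyCategory.homotopyOfEq _ _ h)
    let l : ℕ → Cochain X J (-2) := fun n => (Cochain.ofHom (Sigma.ι (fun _ : ℕ => X) n)).comp
      ((mappingCone.inl (telS s X)).comp γ (show (-1 : ℤ) + (-1) = -2 by lia)) (zero_add (-2))
    let k : ℕ → Cochain X J (-1) := fun n => (Cochain.ofHom (Sigma.ι (fun _ : ℕ => X) n ≫
      mappingCone.inr (telS s X))).comp γ (zero_add (-1))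
    have hk : ∀ n, Cochain.ofHom (g₁ s ψ n) = δ (-1) 0 (k n) + Cochain.ofHom (g₁ s ψ' n) := fun n => by
      simp only [g₁, k, δ_ofHom_comp, ← Category.assoc, Cochain.ofHom_comp _ ψ, Cochain.ofHom_comp _ ψ', hγ,
        Cochain.comp_add]
    have hl : ∀ n, h₁ s ψ n = δ (-2) (-1) (l n) + (k n - s • k (n + 1)) + h₁ s ψ' n := fun n => by
      simp only [h₁, hγ, Cochain.comp_add, l, k, δ_ofHom_comp,
        δ_comp (mappingCone.inl (telS s X)) γ (show (-1 : ℤ) + (-1) = -2 by lia) 0 0 (-1) (by lia) (by lia) (by lia),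
        mappingCone.δ_inl, Int.negOnePow_neg, Int.negOnePow_one, Units.neg_smul, one_smul, Cochain.ofHom_comp,
        Cochain.comp_assoc_of_second_is_zero_cochain, Cochain.comp_neg, ι_telS_comp]
      abel
    refine HomotopyCategory.eq_of_homotopy _ _ (mappingCone.liftHomotopy D _ _
      (piC fun n => sh (k n) 0 (by lia)) (piC fun n => -sh (l n) (-1) (by lia))
      (piC_ext fun n => ?_) (piC_ext fun n => ?_))
    · rw [transpose_fst, Cochain.add_comp, Cochain.neg_comp, ← δ_comp_ofHom, piC_π, δ_sh _ (m := 0) _ (by lia),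
        neg_neg, transpose_fst, hk]
      exact (Cochain.rightShiftAddEquiv X J 0 (-1) 1 (by lia)).map_add _ _
    · rw [transpose_snd, Cochain.add_comp, Cochain.add_comp, ← δ_comp_ofHom, piC_π, δ_neg,
        δ_sh _ (m := -1) _ (by lia), neg_neg, comp_telPi_π, piC_π, piC_π, transpose_snd, hl, ← sh_smul, ← sh_sub]
      simp only [sh, Cochain.rightShift_add]
  · intro h
    obtain ⟨γ, hγ⟩ := Cochain.equivHomotopy _ _
      (HomotopyCategory.homotopyOfEq (transpose s ψ) (transpose s ψ') h)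
    let k : ℕ → Cochain X J (-1) := fun n =>
      ((γ.comp (mappingCone.fst D).1 (neg_add_cancel 1)).comp
        (Cochain.ofHom (Pi.π (fun _ : ℕ => J' J) n)) (add_zero 0)).rightUnshift (-1) (by lia)
    let l : ℕ → Cochain X J (-2) := fun n =>
      -((γ.comp (mappingCone.snd D) (add_zero (-1))).comp
        (Cochain.ofHom (Pi.π (fun _ : ℕ => J' J) n)) (add_zero (-1))).rightUnshift (-2) (by lia)
    have hk' : ∀ n, sh (k n) 0 (by lia) = (γ.comp (mappingCone.fst D).1 (neg_add_cancel 1)).comp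
        (Cochain.ofHom (Pi.π (fun _ : ℕ => J' J) n)) (add_zero 0) := fun n => by simp [k, sh]
    have hl' : ∀ n, sh (l n) (-1) (by lia) = -(γ.comp (mappingCone.snd D) (add_zero (-1))).comp
        (Cochain.ofHom (Pi.π (fun _ : ℕ => J' J) n)) (add_zero (-1)) := fun n => by
      simp only [sh, l, Cochain.rightShift_neg, Cochain.rightShift_rightUnshift]
    have hk : ∀ n, Cochain.ofHom (g₁ s ψ n) = δ (-1) 0 (k n) + Cochain.ofHom (g₁ s ψ' n) := fun n => by
      refine sh_injective 1 (by lia) ?_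
      rw [← transpose_fst, hγ, Cochain.add_comp, Cochain.add_comp, transpose_fst]
      refine Eq.trans ?_ ((Cochain.rightShiftAddEquiv X J 0 (-1) 1 (by lia)).map_add _ _).symm
      congr 1
      refine Eq.trans ?_ (neg_eq_iff_eq_neg.2 (δ_sh (k' := 0) (m := 0) (k n) (by lia) (by lia)))
      rw [hk', δ_comp_ofHom, δ_comp γ (mappingCone.fst D).1 (neg_add_cancel 1) 0 2 1 (by lia) (by lia) (by lia)]
      simp [D]
    have hl : ∀ n, h₁ s ψ n = δ (-2) (-1) (l n) + (k n - s • k (n + 1)) + h₁ s ψ' n := fun n => by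
      refine sh_injective 0 (by lia) ?_
      rw [← transpose_snd, hγ, Cochain.add_comp, Cochain.add_comp, transpose_snd]
      refine Eq.trans ?_ ((Cochain.rightShiftAddEquiv X J (-1) (-1) 0 (by lia)).map_add _ _).symm
      congr 1
      refine Eq.trans ?_ ((Cochain.rightShiftAddEquiv X J (-1) (-1) 0 (by lia)).map_add _ _).symm
      change _ = sh (δ (-2) (-1) (l n)) 0 (by lia) + sh (k n - s • k (n + 1)) 0 (by lia)
      have hd := δ_sh (k' := -1) (m := -1) (m' := 0) (l n) (by lia) (by lia)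
      rw [hl', δ_neg, neg_inj] at hd
      rw [← hd, δ_comp_ofHom, δ_comp_zero_cochain _ _ 0 (neg_add_cancel 1), mappingCone.δ_snd, sh_sub, sh_smul,
        hk', hk', ← comp_telPi_π, ← Cochain.add_comp]
      congr 1
      rw [Cochain.comp_neg, Cochain.comp_assoc_of_third_is_zero_cochain]
      abel
    refine HomotopyCategory.eq_of_homotopy _ _ (mappingCone.descHomotopy (telS s X) _ _ (sigmaC l) (sigmaC k)
      (sigmaC_ext fun n => ?_) (sigmaC_ext fun n => ?_))
    · rw [Cochain.comp_add, Cochain.comp_add, ← δ_ofHom_comp, ι_sigmaC, ι_telS_comp, ι_sigmaC, ι_sigmaC]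
      exact hl n
    · rw [Cochain.comp_add, ← δ_ofHom_comp, ι_sigmaC, ← Cochain.ofHom_comp, ← Cochain.ofHom_comp]
      exact hk n

end Groth.DAlg.TowerAdjunction
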