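import Groth.Agent.DAlg.SiteAwayDerived
import Groth.Agent.DAlg.TowerAdjunction
import Groth.Agent.DAlg.RFTriangle

/-!
`RHom(O_f, K)` is the derived limit of the tower of multiplication by `f` on `K`.
-/

universe u

open CategoryTheory CategoryTheory.Limits CategoryTheory.Pretriangulated Opposite

attribute [local instance] HasDerivedCategory.standard

set_option backward.defeqAttrib.useBackward true
set_option backward.isDefEq.respectTransparency false
set_option synthInstance.maxHeartbeats 400000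
set_option maxHeartbeats 1000000
set_option linter.style.haveILetI false

namespace Groth.DAlg.SiteAwayRHom

open SiteAwayTensor SiteAwayDerived TowerAdjunction Groth.DerivedCoh

variable {C : Type u} [SmallCategory C] {J : GrothendieckTopology C} {O : Sheaf J CommRingCat.{u}}
  (s : DerComp.GSec O)

lemma telS_eq (X : CochainComplex (ModSite.Mod O) ℤ) : telS s X = telC s X := rfl

/-- The short complex resolving the tensor product with `O_f`. -/
noncomputable def SC (X : CochainComplex (ModSite.Mod O) ℤ) : ShortComplex (CochainComplex (ModSite.Mod O) ℤ) :=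
  ShortComplex.mk (telS s X) (projC s X) (telC_projC s X)

/-- The comparison of the cone of the telescope with the tensor product with `O_f`. -/
noncomputable def ρ (X : CochainComplex (ModSite.Mod O) ℤ) : TX s X ⟶ (locC s).obj X :=
  CochainComplex.mappingCone.descShortComplex (SC s X)

lemma quasiIso_ρ (X : CochainComplex (ModSite.Mod O) ℤ) : QuasiIso (ρ s X) :=
  CochainComplex.mappingCone.quasiIso_descShortComplex (S := SC s X) (shortExact_projC s X)

lemma projC_naturality {X' X : CochainComplex (ModSite.Mod O) ℤ} (φ : X' ⟶ X) :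
    Limits.Sigma.map (fun _ : ℕ => φ) ≫ projC s X = projC s X' ≫ (locC s).map φ :=
  Sigma.hom_ext _ _ fun i => by
    ext q : 1
    rw [← Category.assoc, Sigma.ι_map, Category.assoc, HomologicalComplex.comp_f, HomologicalComplex.comp_f,
      projC_ι, HomologicalComplex.comp_f]
    exact (τ s i).naturality (φ.f q) |>.trans ((congrArg (· ≫ ((locC s).map φ).f q) (projC_ι s X' i q)).symm.trans (Category.assoc _ _ _))

lemma ρ_naturality {X' X : CochainComplex (ModSite.Mod O) ℤ} (φ : X' ⟶ X) :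
    TXmap s φ ≫ ρ s X = ρ s X' ≫ (locC s).map φ :=
  CochainComplex.mappingCone.map_descShortComplex (SC s X') (SC s X)
    { τ₁ := Limits.Sigma.map fun _ : ℕ => φ
      τ₂ := Limits.Sigma.map fun _ : ℕ => φ
      τ₃ := (locC s).map φ
      comm₁₂ := (map_telS s φ).symm
      comm₂₃ := projC_naturality s φ }

variable [ModSite.HasLTensorCx (P₀ s)]

/-- `X ⊗^L O_f` is the cone of the telescope. -/
noncomputable def σ (X : CochainComplex (ModSite.Mod O) ℤ) :
    (ModSite.LTensorCx (P₀ s)).obj (DerivedCategory.Q.obj X) ≅ DerivedCategory.Q.obj (TX s X) :=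
  haveI := quasiIso_ρ s X
  (ltIso s).app X ≪≫ (asIso (DerivedCategory.Q.map (ρ s X))).symm

lemma σ_naturality {X' X : CochainComplex (ModSite.Mod O) ℤ} (φ : X' ⟶ X) :
    (ModSite.LTensorCx (P₀ s)).map (DerivedCategory.Q.map φ) ≫ (σ s X).hom =
      (σ s X').hom ≫ DerivedCategory.Q.map (TXmap s φ) := by
  haveI := quasiIso_ρ s X
  haveI := quasiIso_ρ s X'
  have h1 := (ltIso s).hom.naturality φ
  simp only [Functor.comp_map] at h1
  have h2 : DerivedCategory.Q.map ((locC s).map φ) ≫ inv (DerivedCategory.Q.map (ρ s X)) =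
      inv (DerivedCategory.Q.map (ρ s X')) ≫ DerivedCategory.Q.map (TXmap s φ) := by
    rw [IsIso.eq_inv_comp, ← Category.assoc, IsIso.comp_inv_eq, ← Functor.map_comp, ← Functor.map_comp,
      ρ_naturality]
  simp only [σ, Iso.trans_hom, Iso.app_hom, Iso.symm_hom, asIso_inv]
  rw [← Category.assoc, h1, Category.assoc, Category.assoc, h2]

lemma isKInjective_pi (I : CochainComplex (ModSite.Mod O) ℤ) [I.IsKInjective] :
    (∏ᶜ fun _ : ℕ => I).IsKInjective :=
  ⟨fun {K} f hK => KTower.homotopic_pi (fun _ : ℕ => I) f 0 fun n =>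
    ⟨(CochainComplex.IsKInjective.homotopyZero (f ≫ Pi.π (fun _ : ℕ => I) n) hK).trans
      (Homotopy.ofEq zero_comp.symm)⟩⟩

lemma isKInjective_J' (I : CochainComplex (ModSite.Mod O) ℤ) [I.IsKInjective] : (J' I).IsKInjective := by
  rw [CochainComplex.isKInjective_iff_rightOrthogonal]
  refine ObjectProperty.prop_of_iso _ (((HomotopyCategory.quotient (ModSite.Mod O) _).commShiftIso (-1 : ℤ)).app I).symm ?_
  exact ObjectProperty.le_shift _ (-1 : ℤ) _ (CochainComplex.IsKInjective.rightOrthogonal I)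

variable [DerComp.HasRHom (P₀ s)]

/-- The counit at a K-injective complex. -/
noncomputable def ε (I : CochainComplex (ModSite.Mod O) ℤ) :
    (ModSite.LTensorCx (P₀ s)).obj (DerivedCategory.Q.obj (GJ s I)) ⟶ DerivedCategory.Q.obj I :=
  (σ s (GJ s I)).hom ≫ DerivedCategory.Q.map (Function.surjInv (transpose_surjective s) (𝟙 (GJ s I)))

/-- The comparison with `RHom`. -/
noncomputable def η (I : CochainComplex (ModSite.Mod O) ℤ) :
    DerivedCategory.Q.obj (GJ s I) ⟶ (DerComp.RHom (P₀ s)).obj (DerivedCategory.Q.obj I) :=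
  (DerComp.RHomAdj (P₀ s)).homEquiv _ _ (ε s I)

lemma isIso_η (I : CochainComplex (ModSite.Mod O) ℤ) [I.IsKInjective] : IsIso (η s I) := by
  haveI := isKInjective_J' I
  haveI := isKInjective_pi (J' I)
  haveI : (GJ s I).IsKInjective := RFTriangle.isKInjective_cone _
  let ψ₀ := Function.surjInv (transpose_surjective s) (𝟙 (GJ s I))
  have hψ₀ : transpose s ψ₀ = 𝟙 _ := Function.surjInv_eq (transpose_surjective s) _
  rw [isIso_iff_yoneda_map_bijective]
  intro Y
  obtain ⟨X, ⟨i⟩⟩ : ∃ X, Nonempty (DerivedCategory.Q.obj X ≅ Y) :=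
    ⟨_, ⟨DerivedCategory.Q.objObjPreimageIso Y⟩⟩
  suffices h : Function.Bijective fun y : DerivedCategory.Q.obj X ⟶ DerivedCategory.Q.obj (GJ s I) => y ≫ η s I by
    constructor
    · intro a b hab
      rw [← cancel_epi i.hom]
      exact h.1 (by simpa using congrArg (i.hom ≫ ·) hab)
    · intro c
      obtain ⟨a, ha⟩ := h.2 (i.hom ≫ c)
      exact ⟨i.inv ≫ a, by simp only at ha ⊢; rw [Category.assoc, ha, Iso.inv_hom_id_assoc]⟩
  let adj := DerComp.RHomAdj (P₀ s)
  have h1 : ∀ y : DerivedCategory.Q.obj X ⟶ DerivedCategory.Q.obj (GJ s I),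
      y ≫ η s I = adj.homEquiv _ _ ((ModSite.LTensorCx (P₀ s)).map y ≫ ε s I) := fun y =>
    (adj.homEquiv_naturality_left y (ε s I)).symm
  have h2 : ∀ φ : X ⟶ GJ s I, (ModSite.LTensorCx (P₀ s)).map (DerivedCategory.Q.map φ) ≫ ε s I =
      (σ s X).hom ≫ DerivedCategory.Q.map (TXmap s φ ≫ ψ₀) := fun φ => by
    rw [ε, ← Category.assoc, σ_naturality, Category.assoc, ← Functor.map_comp]
  have h3 : ∀ φ : X ⟶ GJ s I, transpose s (TXmap s φ ≫ ψ₀) = φ := fun φ => by
    rw [transpose_TXmap, hψ₀, Category.comp_id]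
  have hq : ∀ {K L : CochainComplex (ModSite.Mod O) ℤ} [L.IsKInjective] (f g : K ⟶ L),
      DerivedCategory.Q.map f = DerivedCategory.Q.map g ↔
        (HomotopyCategory.quotient _ _).map f = (HomotopyCategory.quotient _ _).map g := fun f g =>
    (KInjRes.Q_map_eq_iff _ _ f g).trans
      ⟨fun ⟨h⟩ => HomotopyCategory.eq_of_homotopy _ _ h, fun h => ⟨HomotopyCategory.homotopyOfEq _ _ h⟩⟩
  suffices Function.Bijective fun y : DerivedCategory.Q.obj X ⟶ DerivedCategory.Q.obj (GJ s I) =>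
      (ModSite.LTensorCx (P₀ s)).map y ≫ ε s I by
    simp only [h1]
    exact (adj.homEquiv _ _).bijective.comp this
  constructor
  · intro a b hab
    obtain ⟨a, rfl⟩ := KInjRes.Q_map_surjective _ _ a
    obtain ⟨b, rfl⟩ := KInjRes.Q_map_surjective _ _ b
    simp only [h2, cancel_epi] at hab
    rw [hq] at hab ⊢
    have := (homotopic_iff s _ _).1 hab
    rwa [h3, h3] at this
  · intro c
    obtain ⟨ψ, hψ⟩ := KInjRes.Q_map_surjective _ _ ((σ s X).inv ≫ c)
    refine ⟨DerivedCategory.Q.map (transpose s ψ), ?_⟩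
    show (ModSite.LTensorCx (P₀ s)).map (DerivedCategory.Q.map (transpose s ψ)) ≫ ε s I = c
    rw [h2, ← Iso.eq_inv_comp, ← hψ, hq, homotopic_iff s, h3]

omit [ModSite.HasLTensorCx (P₀ s)] [DerComp.HasRHom (P₀ s)] in
lemma isLimit_fan (I : CochainComplex (ModSite.Mod O) ℤ) [I.IsKInjective] :
    Nonempty (IsLimit (Fan.mk (DerivedCategory.Q.obj (∏ᶜ fun _ : ℕ => I))
      fun n => DerivedCategory.Q.map (Pi.π (fun _ : ℕ => I) n))) := by
  haveI := isKInjective_pi I
  have hex : ∀ t : Fan (fun _ : ℕ => DerivedCategory.Q.obj I),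
      ∃! l : t.pt ⟶ DerivedCategory.Q.obj (∏ᶜ fun _ : ℕ => I),
        ∀ n, l ≫ DerivedCategory.Q.map (Pi.π (fun _ : ℕ => I) n) = t.proj n := fun t => by
    obtain ⟨K, ⟨e⟩⟩ : ∃ K, Nonempty (DerivedCategory.Q.obj K ≅ t.pt) :=
      ⟨_, ⟨DerivedCategory.Q.objObjPreimageIso t.pt⟩⟩
    choose v hv using fun n => KInjRes.Q_map_surjective K I (e.hom ≫ t.proj n)
    refine ⟨e.inv ≫ DerivedCategory.Q.map (Pi.lift v), fun n => ?_, fun l hl => ?_⟩
    · rw [Category.assoc, ← Functor.map_comp, Pi.lift_π, hv, Iso.inv_hom_id_assoc]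
    · obtain ⟨b, hb⟩ := KInjRes.Q_map_surjective K _ (e.hom ≫ l)
      rw [← cancel_epi e.hom, Iso.hom_inv_id_assoc, ← hb, KInjRes.Q_map_eq_iff]
      refine KTower.homotopic_pi (fun _ : ℕ => I) _ _ fun n => ?_
      rw [← KInjRes.Q_map_eq_iff, Functor.map_comp, hb, Category.assoc, hl, Pi.lift_π, hv]
  exact ⟨Fan.IsLimit.mk _ (fun t => (hex t).choose) (fun t n => (hex t).choose_spec.1 n)
    (fun t m hm => (hex t).choose_spec.2 m hm)⟩

/-- `RHom(O_f, K)` is the derived limit of the tower of multiplication by `f` on `K`. -/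
theorem isT (K : DerivedCategory (ModSite.Mod O)) [HasProduct fun _ : ℕ => K] :
    DerComp.IsT s K ((DerComp.RHom (P₀ s)).obj K) := by
  obtain ⟨I, hI, ⟨e⟩⟩ := KInjRes.exists_kInjective_iso K
  haveI := isIso_η s I
  haveI := isKInjective_J' I
  let D := KTower.telPi (s • 𝟙 (J' I) : J' I ⟶ J' I)
  let T₀ := DerivedCategory.Q.mapTriangle.obj (CochainComplex.mappingCone.triangle D)
  have hT₀ : T₀ ∈ distTriang _ :=
    (DerivedCategory.mem_distTriang_iff _).2 ⟨_, _, D, ⟨Iso.refl _⟩⟩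
  let j : (DerivedCategory.Q.obj (J' I))⟦(1 : ℤ)⟧ ≅ K :=
    (shiftFunctor _ (1 : ℤ)).mapIso ((DerivedCategory.Q.commShiftIso (-1 : ℤ)).app I) ≪≫
      (shiftFunctorCompIsoId _ (-1 : ℤ) 1 (by lia)).app (DerivedCategory.Q.obj I) ≪≫ e
  obtain ⟨hP⟩ := isLimit_fan (J' I)
  let hL := isLimitFanMkObjOfIsLimit (shiftFunctor (DerivedCategory (ModSite.Mod O)) (1 : ℤ)) _ _ hP
  let p : ℕ → ((DerivedCategory.Q.obj (∏ᶜ fun _ : ℕ => J' I))⟦(1 : ℤ)⟧ ⟶ K) := fun n =>
    (DerivedCategory.Q.map (Pi.π (fun _ : ℕ => J' I) n))⟦(1 : ℤ)⟧' ≫ j.hom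
  let θ : (DerivedCategory.Q.obj (∏ᶜ fun _ : ℕ => J' I))⟦(1 : ℤ)⟧ ≅ ∏ᶜ fun _ : ℕ => K :=
    { hom := Pi.lift p
      inv := Fan.IsLimit.lift hL fun n => Pi.π (fun _ : ℕ => K) n ≫ j.inv
      hom_inv_id := Fan.IsLimit.hom_ext hL _ _ fun n => by
        rw [Category.assoc, Fan.IsLimit.fac, ← Category.assoc, Pi.lift_π]
        simp only [p, Category.assoc, Iso.hom_inv_id, Category.comp_id, Category.id_comp]
        rfl
      inv_hom_id := Pi.hom_ext _ _ fun n => by
        rw [Category.assoc, Pi.lift_π, Category.id_comp, ← Category.assoc]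
        erw [Fan.IsLimit.fac]
        rw [Category.assoc, Iso.inv_hom_id, Category.comp_id] }
  let D' := Pi.lift fun n => Pi.π (fun _ : ℕ => K) n - Pi.π (fun _ : ℕ => K) (n + 1) ≫ (s • 𝟙 K)
  have hθ : (DerivedCategory.Q.map D)⟦(1 : ℤ)⟧' ≫ θ.hom = θ.hom ≫ D' := Pi.hom_ext _ _ fun n => by
    simp only [θ, D', Category.assoc, Pi.lift_π, p, Preadditive.comp_sub, Pi.lift_π_assoc,
      ← Functor.map_comp_assoc, ← Functor.map_comp, D, KTower.telPi]
    simp only [Functor.map_sub, Preadditive.sub_comp, Linear.comp_smul, Category.comp_id, Functor.map_smul,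
      Linear.smul_comp]
  let g : DerivedCategory.Q.obj (GJ s I) ≅ (DerComp.RHom (P₀ s)).obj K :=
    asIso (η s I) ≪≫ (DerComp.RHom (P₀ s)).mapIso e
  let b : (DerivedCategory.Q.obj (∏ᶜ fun _ : ℕ => J' I))⟦(1 : ℤ)⟧ ≅ ∏ᶜ fun _ : ℕ => K :=
    { hom := -θ.hom, inv := -θ.inv
      hom_inv_id := by rw [Preadditive.neg_comp, Preadditive.comp_neg, neg_neg, θ.hom_inv_id]
      inv_hom_id := by rw [Preadditive.neg_comp, Preadditive.comp_neg, neg_neg, θ.inv_hom_id] }
  refine ⟨g.inv ≫ T₀.rotate.rotate.mor₁ ≫ θ.hom, b.inv ≫ T₀.rotate.rotate.mor₃ ≫ g.hom⟦(1 : ℤ)⟧', ?_⟩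
  refine isomorphic_distinguished _ (rot_of_distTriang _ (rot_of_distTriang _ hT₀)) _
    (Triangle.isoMk _ _ g θ b ?_ ?_ ?_).symm
  · exact (Iso.hom_inv_id_assoc g _).symm
  · show (-(DerivedCategory.Q.map D)⟦(1 : ℤ)⟧') ≫ (-θ.hom) = θ.hom ≫ D'
    rw [Preadditive.neg_comp, Preadditive.comp_neg, neg_neg, hθ]
  · exact (Iso.hom_inv_id_assoc b _).symm

end Groth.DAlg.SiteAwayRHom
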