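import Groth.Agent.SitesTopoi.Mod.FlatColimit
import Groth.Agent.DAlg.TelescopeHom
import Groth.Agent.SiteCohomology.ModulesGrothendieck
import Groth.Prelude.Def_DerComp
import Mathlib.Algebra.Homology.HomologicalComplexAbelian

/-!
Tensoring with the localisation of the structure sheaf at a global section.
-/

universe u

open CategoryTheory CategoryTheory.Limits Opposite MonoidalCategory

attribute [local instance] HasDerivedCategory.standard

set_option backward.defeqAttrib.useBackward true
set_option backward.isDefEq.respectTransparency false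
set_option synthInstance.maxHeartbeats 400000
set_option maxHeartbeats 1000000

namespace Groth.DAlg.SiteAwayTensor

open Groth.SitesTopoi.ModH

variable {C : Type u} [SmallCategory C] {J : GrothendieckTopology C} {O : Sheaf J CommRingCat.{u}}

local notation "T" => ModSite.tensorBi O

/-- `G ⊗ O ≅ G`, naturally. -/
noncomputable def flipUnitIso : ((ModSite.tensorBi O).flip.obj (ModSite.unit O)) ≅ 𝟭 (ModSite.Mod O) :=
  NatIso.ofComponents
    (fun G => (aP O).mapIso (MonoidalCategory.rightUnitor (C := PM O) G.val) ≪≫ (asIso (adjP O).counit).app G)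
    fun {G G'} φ => by
      refine Eq.trans ?_ (Category.assoc _ _ _).symm
      refine ((Category.assoc _ _ _).symm.trans (congrArg (· ≫ (adjP O).counit.app G')
        (((aP O).map_comp _ _).symm.trans ((congrArg (aP O).map
          (MonoidalCategory.rightUnitor_naturality (C := PM O) φ.val)).trans ((aP O).map_comp _ _))))).trans
        ((Category.assoc _ _ _).trans (congrArg (_ ≫ ·) ((adjP O).counit.naturality φ)))

lemma isFlat_unit : ModSite.IsFlat (ModSite.unit O) :=
  ⟨preservesFiniteLimits_of_natIso flipUnitIso.symm, preservesFiniteColimits_of_natIso flipUnitIso.symm⟩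

lemma tensor_map_smulEnd (s : DerComp.GSec O) (G M : ModSite.Mod O) :
    ((ModSite.tensorBi O).obj G).map (DerComp.smulEnd s M) =
      DerComp.smulEnd s (((ModSite.tensorBi O).obj G).obj M) := by
  apply ((adjP O).homEquiv (G.val ⊗ M.val : PM O) _).injective
  refine tens_hom_ext fun {U} m n => ?_
  rw [Adjunction.homEquiv_unit, Adjunction.homEquiv_unit]
  show apm ((aP O).map (MonoidalCategory.whiskerLeft (C := PM O) G.val (DerComp.smulEnd s M).val)).val U
      (apm (etaP (G.val ⊗ M.val : PM O)) U (tm m n)) =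
    (s.1 U : rsec O U) • apm (etaP (G.val ⊗ M.val : PM O)) U (tm m n)
  rw [etaP_naturality, apm_whiskerLeft, ← map_smul, ← tm_smul_right]
  rfl

section Away

variable (s : DerComp.GSec O)

/-- The maps into the localisation. -/
noncomputable def inj (i : ℕ) : ModSite.unit O ⟶ DerComp.locAway s (ModSite.unit O) :=
  Sigma.ι (fun _ : ℕ => ModSite.unit O) i ≫ cokernel.π (DerComp.awayMap s (ModSite.unit O))

lemma inj_succ (i : ℕ) : DerComp.smulEnd s _ ≫ inj s (i + 1) = inj s i := by
  have h := Sigma.ι (fun _ : ℕ => ModSite.unit O) i ≫= cokernel.condition (DerComp.awayMap s (ModSite.unit O))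
  simp only [DerComp.awayMap, Sigma.ι_desc_assoc, comp_zero, Preadditive.sub_comp, sub_eq_zero, Category.assoc] at h
  exact h.symm

lemma isFlat_locAway : ModSite.IsFlat (DerComp.locAway s (ModSite.unit O)) := by
  haveI := DerivedLeftAdj.hasColimits_nat (ModSite.Mod O)
  haveI := DerivedLeftAdj.hasExactColimits_nat (ModSite.Mod O)
  let D : ℕ ⥤ ModSite.Mod O := Functor.ofSequence (X := fun _ => ModSite.unit O) fun _ => DerComp.smulEnd s _
  obtain ⟨w, hw⟩ := Groth.Misc1.Telescope.telescope_shortExact D
  let D' : AsSmall.{u} ℕ ⥤ ModSite.Mod O := AsSmall.down ⋙ D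
  haveI : IsFiltered (AsSmall.{u} ℕ) := IsFiltered.of_equivalence AsSmall.equiv
  haveI := AB5OfSize.ofShape (C := ModSite.Mod O) (AsSmall.{u} ℕ)
  have hflat : ModSite.IsFlat (colimit D) :=
    isFlat_of_isColimit D' (fun _ => isFlat_unit) _
      (IsColimit.whiskerEquivalence (colimit.isColimit D) AsSmall.equiv.symm)
  have htel : DerComp.awayMap s (ModSite.unit O) =
      𝟙 (∐ D.obj) - DerLim.shiftMap D.obj (fun n => D.map (homOfLE (Nat.le_succ n))) :=
    Sigma.hom_ext _ _ fun n => by
      simp only [DerComp.awayMap, DerLim.shiftMap, Sigma.ι_desc, Preadditive.comp_sub]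
      erw [Category.comp_id]
      simp only [D, Functor.ofSequence_map_homOfLE_succ]
      rfl
  have e : DerComp.locAway s (ModSite.unit O) ≅ colimit D :=
    (cokernel.mapIso _ _ (Iso.refl _) (Iso.refl _) (by simp [htel])) ≪≫
      (cokernelIsCokernel _).coconePointUniqueUpToIso (hw.gIsCokernel)
  exact ⟨@preservesFiniteLimits_of_natIso _ _ _ _ _ _ ((ModSite.tensorBi O).flip.mapIso e.symm) hflat.1,
    @preservesFiniteColimits_of_natIso _ _ _ _ _ _ ((ModSite.tensorBi O).flip.mapIso e.symm) hflat.2⟩

/-- Tensoring with the localisation. -/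
noncomputable abbrev locF : ModSite.Mod O ⥤ ModSite.Mod O :=
  (ModSite.tensorBi O).flip.obj (DerComp.locAway s (ModSite.unit O))

/-- The maps into the tensor product with the localisation. -/
noncomputable def τ (i : ℕ) : 𝟭 (ModSite.Mod O) ⟶ locF s :=
  flipUnitIso.inv ≫ (ModSite.tensorBi O).flip.map (inj s i)

lemma τ_succ (i : ℕ) (G : ModSite.Mod O) :
    DerComp.smulEnd s G ≫ (τ s (i + 1)).app G = (τ s i).app G := by
  show _ ≫ flipUnitIso.inv.app G ≫ ((ModSite.tensorBi O).obj G).map (inj s (i + 1)) =
    flipUnitIso.inv.app G ≫ ((ModSite.tensorBi O).obj G).map (inj s i)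
  rw [← inj_succ s i, Functor.map_comp, tensor_map_smulEnd, ← Category.assoc, ← Category.assoc]
  exact congrArg (· ≫ _) (DerComp.smulEnd_comm s (flipUnitIso.inv.app G))

/-- The projection onto the tensor product with the localisation. -/
noncomputable def proj (G : ModSite.Mod O) : (∐ fun _ : ℕ => G) ⟶ (locF s).obj G :=
  Sigma.desc fun i => (τ s i).app G

lemma awayMap_proj (G : ModSite.Mod O) : DerComp.awayMap s G ≫ proj s G = 0 := Sigma.hom_ext _ _ fun i => by
  simp [DerComp.awayMap, proj, τ_succ]

lemma shortExact_away (G : ModSite.Mod O) :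
    (ShortComplex.mk _ _ (awayMap_proj s G)).ShortExact := by
  let F := (ModSite.tensorBi O).obj G
  let S₀ := ShortComplex.mk _ _ (cokernel.condition (DerComp.awayMap s (ModSite.unit O)))
  have h₀ : S₀.Exact := ShortComplex.exact_of_g_is_cokernel _ (cokernelIsCokernel _)
  haveI : F.Additive := inferInstance
  haveI : PreservesColimitsOfSize.{0, 0} F := preservesColimitsOfSize_shrink.{0, u, 0, u} F
  obtain ⟨he, hepi⟩ := F.preservesFiniteColimits_iff_forall_exact_map_and_epi.1 inferInstance S₀
    (by
      haveI := TelescopeHom.mono_tel (DerComp.smulEnd s (ModSite.unit O))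
      exact ShortComplex.ShortExact.mk' h₀ ‹_› inferInstance)
  let c : F.obj (∐ fun _ : ℕ => ModSite.unit O) ≅ ∐ fun _ : ℕ => G :=
    PreservesCoproduct.iso F _ ≪≫ Sigma.mapIso fun _ => flipUnitIso.app G
  have hc : ∀ i, F.map (Sigma.ι (fun _ : ℕ => ModSite.unit O) i) ≫ c.hom =
      (flipUnitIso.app G).hom ≫ Sigma.ι (fun _ : ℕ => G) i := fun i => by
    have h : F.map (Sigma.ι (fun _ : ℕ => ModSite.unit O) i) ≫ (PreservesCoproduct.iso F _).hom =
        Sigma.ι (fun _ : ℕ => F.obj (ModSite.unit O)) i := by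
      rw [← Iso.eq_comp_inv]
      simp
    simp only [c, Iso.trans_hom, reassoc_of% h]
    exact Limits.Sigma.ι_map (fun _ : ℕ => (flipUnitIso.app G).hom) i
  have hc' : ∀ i, Sigma.ι (fun _ : ℕ => G) i ≫ c.inv =
      (flipUnitIso.app G).inv ≫ F.map (Sigma.ι (fun _ : ℕ => ModSite.unit O) i) := fun i => by
    rw [Iso.comp_inv_eq, Category.assoc, hc, Iso.inv_hom_id_assoc]
  let e : S₀.map F ≅ ShortComplex.mk _ _ (awayMap_proj s G) :=
    ShortComplex.isoMk c c (Iso.refl _) (by
      rw [← cancel_epi c.inv, Iso.inv_hom_id_assoc]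
      refine Sigma.hom_ext _ _ fun i => ?_
      show Sigma.ι (fun _ : ℕ => G) i ≫ DerComp.awayMap s G =
        Sigma.ι (fun _ : ℕ => G) i ≫ c.inv ≫ F.map (DerComp.awayMap s (ModSite.unit O)) ≫ c.hom
      rw [reassoc_of% (hc' i), ← Functor.map_comp_assoc]
      simp only [DerComp.awayMap, Sigma.ι_desc, Functor.map_sub, Functor.map_comp, Preadditive.sub_comp,
        Preadditive.comp_sub, Category.assoc, hc, Iso.inv_hom_id_assoc]
      have h3 : DerComp.smulEnd s (((ModSite.tensorBi O).obj G).obj (ModSite.unit O)) ≫ (flipUnitIso.app G).hom =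
          (flipUnitIso.app G).hom ≫ DerComp.smulEnd s G := DerComp.smulEnd_comm s (flipUnitIso.app G).hom
      rw [tensor_map_smulEnd, reassoc_of% h3, Iso.inv_hom_id_assoc])
      (by
        show c.hom ≫ proj s G = F.map (cokernel.π _) ≫ 𝟙 _
        rw [Category.comp_id, ← cancel_epi c.inv, Iso.inv_hom_id_assoc]
        refine Sigma.hom_ext _ _ fun i => ?_
        rw [proj, Sigma.ι_desc, reassoc_of% (hc' i), ← Functor.map_comp]
        rfl)
  haveI := TelescopeHom.mono_tel (DerComp.smulEnd s G)
  exact ShortComplex.ShortExact.mk' (ShortComplex.exact_of_iso e he) ‹_›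
    ((ShortComplex.π₃.mapIso e).isIso_hom |> fun _ => by
      have : Epi (S₀.map F).g := hepi
      have h2 : proj s G = c.inv ≫ (S₀.map F).g ≫ 𝟙 _ := by
        rw [Iso.eq_inv_comp]
        exact e.hom.comm₂₃
      show Epi (proj s G)
      rw [h2]
      infer_instance)

end Away

end Groth.DAlg.SiteAwayTensor
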