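import Groth.Agent.Misc4.FreeOn
import Groth.Agent.SiteCohomology.ModulesGrothendieck
import Mathlib.Algebra.Homology.ShortComplex.Exact

/-!
Exactness of complexes of sheaves of modules, tested locally on free modules.
-/

universe u

open CategoryTheory CategoryTheory.Limits Opposite

set_option backward.defeqAttrib.useBackward true
set_option backward.isDefEq.respectTransparency false
set_option synthInstance.maxHeartbeats 400000
set_option maxHeartbeats 1000000

namespace Groth.DAlg.SiteExactLocal

open Groth.SitesTopoi.ModH Groth.Misc4.FreeOn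

variable {C : Type u} [SmallCategory C] {J : GrothendieckTopology C} {O : Sheaf J CommRingCat.{u}}

/-- Restriction between free modules on objects. -/
noncomputable def res {U V : C} (g : V ⟶ U) : ModSite.freeOn O V ⟶ ModSite.freeOn O U :=
  (homEquiv V _).symm (rsm (SheafOfModules.val (ModSite.freeOn O U)) g (homEquiv U _ (𝟙 _)))

lemma homEquiv_res_comp {U V : C} (g : V ⟶ U) {M : ModSite.Mod O} (x : ModSite.freeOn O U ⟶ M) :
    homEquiv V M (res g ≫ x) = rsm M.val g (homEquiv U M x) := by
  rw [homEquiv_comp, res, Equiv.apply_symm_apply, apm_rsm, ← homEquiv_comp, Category.id_comp]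

/-- A complex is exact if locally every cycle is a boundary. -/
theorem exact_of_locally (S : ShortComplex (ModSite.Mod O))
    (h : ∀ (U : C) (x : ModSite.freeOn O U ⟶ S.X₂), x ≫ S.g = 0 →
      ∃ R ∈ J U, ∀ ⦃V : C⦄ (g : V ⟶ U), R g → ∃ y : ModSite.freeOn O V ⟶ S.X₁, y ≫ S.f = res g ≫ x) :
    S.Exact := by
  rw [S.exact_iff_kernel_ι_comp_cokernel_π_zero]
  refine mod_hom_ext fun U s => ?_
  let φ := (homEquiv U (kernel S.g)).symm s
  have hs : apm (kernel.ι S.g ≫ cokernel.π S.f).val U s =
      homEquiv U _ ((φ ≫ kernel.ι S.g) ≫ cokernel.π S.f) := by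
    rw [Category.assoc, homEquiv_comp, Equiv.apply_symm_apply]
  obtain ⟨R, hR, hR'⟩ := h U (φ ≫ kernel.ι S.g) (by rw [Category.assoc, kernel.condition, comp_zero])
  refine hs.trans ?_
  refine sec_extM _ hR fun V g hg => ?_
  obtain ⟨y, hy⟩ := hR' g hg
  rw [← homEquiv_res_comp]
  erw [← Category.assoc, ← hy, Category.assoc, cokernel.condition, comp_zero]
  have h0 : homEquiv V (cokernel S.f) (0 : ModSite.freeOn O V ⟶ cokernel S.f) = 0 := by
    have e := homEquiv_comp V (0 : ModSite.freeOn O V ⟶ cokernel S.f) (0 : cokernel S.f ⟶ cokernel S.f)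
    rw [comp_zero] at e
    exact e
  exact h0.trans (map_zero (rsm (SheafOfModules.val (cokernel S.f)) g)).symm

end Groth.DAlg.SiteExactLocal
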