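import Groth.Agent.DAlg.KosCx
import Groth.Agent.DAlg.SetLoc
import Mathlib.Algebra.Homology.ShortComplex.Linear
import Groth.Agent.DAlg.TensorFreeNat
import Groth.Agent.DAlg.SiteAwayTensor
import Groth.Agent.SitesTopoi.Mod.Projection
import Groth.Agent.SitesTopoi.Mod.ExtZeroFlat
import Groth.Agent.SitesTopoi.Mod.Relations

/-!
Modules annihilated by a sheaf of ideals, and localisations at sections of the ideal.
-/

universe u

open CategoryTheory CategoryTheory.Limits Opposite MonoidalCategory

attribute [local instance] HasDerivedCategory.standard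

set_option backward.defeqAttrib.useBackward true
set_option backward.isDefEq.respectTransparency false
set_option synthInstance.maxHeartbeats 400000
set_option maxHeartbeats 1000000
set_option linter.style.haveILetI false

namespace Groth.DAlg.SiteTorsion

open Groth.SitesTopoi Groth.SitesTopoi.ModH DerCompCrit TelescopeHom

variable {C : Type u} [SmallCategory C] {J : GrothendieckTopology C} {O : Sheaf J CommRingCat.{u}}

local notation "up" => ComplexShape.up ℤ

/-- A presheaf of modules is killed by a sheaf of ideals. -/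
def Killed (I : DerComp.IdealSh O) (M : PM O) : Prop :=
  ∀ (W : C) (g : rsec O W), g ∈ I.ideal W → ∀ m : sc M W, g • m = 0

lemma Killed.of_iso {I : DerComp.IdealSh O} {M M' : PM O} (h : Killed I M) (e : M ≅ M') : Killed I M' :=
  fun W g hg m => by
    have h1 : apm e.hom W (apm e.inv W m) = m := by rw [← apm_comp, e.inv_hom_id, apm_id]
    rw [← h1, ← map_smul, h W g hg, map_zero]

lemma killed_aP {I : DerComp.IdealSh O} {P : PM O} (h : Killed I P) : Killed I ((aP O).obj P).val := by
  intro W g hg m
  obtain ⟨S, hS, hS'⟩ := locSurj_etaP P W m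
  refine sec_extM _ hS fun V k hk => ?_
  obtain ⟨p, hp⟩ := hS' k hk
  rw [rsm_smul, ← hp, ← map_smul, h V _ (I.map_mem k hg), map_zero, map_zero]

lemma killed_pexObj {U : C} {I : DerComp.IdealSh O} {G : PM (O.over U)} (h : Killed (I.over U) G) :
    Killed I (pexObj G) := by
  intro W g hg y
  induction y using pexSec_induction with
  | zero => exact smul_zero (A := sc (pexObj G) W) g
  | gen a x =>
    have h1 := pu_smul (W := Over.mk a) g x (𝟙 W)
    replace h1 := h1.trans (congrArg (· • pu (W := Over.mk a) x (𝟙 W)) (rsR_id g))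
    refine h1.symm.trans ?_
    exact (congrArg (fun z => pu (W := Over.mk a) z (𝟙 W)) (h (Over.mk a) g hg x)).trans (pu_zero _)
  | add y z hy hz => exact (smul_add (A := sc (pexObj G) W) g y z).trans ((congrArg₂ (· + ·) hy hz).trans (add_zero _))

lemma killed_extZero {U : C} {I : DerComp.IdealSh O} {H : ModSite.Mod (O.over U)} (h : Killed (I.over U) H.val) :
    Killed I ((ModSite.extZero O U).obj H).val :=
  (killed_aP (killed_pexObj h)).of_iso ((forgetP O).mapIso ((extZeroIso U).app H))

/-- The annihilator. -/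
noncomputable def ann (N : ModSite.Mod O) : DerComp.IdealSh O where
  ideal W :=
    { carrier := {g | ∀ (V : C) (k : V ⟶ W) (m : sc N.val V), rsR k g • m = 0}
      add_mem' := fun {a b} ha hb V k m => by rw [map_add, add_smul, ha V k m, hb V k m, add_zero]
      zero_mem' := fun V k m => by rw [map_zero, zero_smul]
      smul_mem' := fun r g hg V k m => by rw [smul_eq_mul, map_mul, mul_smul, hg V k m, smul_zero] }
  map_mem {U V} g f hf W k m := by
    refine Eq.trans ?_ (hf W (k ≫ g) m)
    exact congrArg (· • m) (rsR_rsR g k f)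
  glue {U f} S hS h V k m := by
    refine sec_extM N (J.pullback_stable k hS) fun W j hj => ?_
    rw [rsm_smul, map_zero, rsR_rsR]
    have := h (j ≫ k) hj W (𝟙 W) (rsm N.val j m)
    rwa [rsR_id] at this

lemma killed_of_le_ann {I : DerComp.IdealSh O} {N : ModSite.Mod O} (h : I ≤ ann N) : Killed I N.val :=
  fun W g hg m => by
    have := h W hg W (𝟙 W) m
    rwa [rsR_id] at this

/-- A list of sections generates the ideal over an object. -/
def Gen (I : DerComp.IdealSh O) (V : C) (l : List (O.obj.obj (op V))) : Prop :=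
  (∀ a ∈ l, a ∈ I.ideal V) ∧ ∀ K : DerComp.IdealSh (O.over V),
    (∀ a ∈ l, ∀ W : Over V, (DerComp.GSec.ofSect O V a).1 W ∈ K.ideal W) → I.over V ≤ K

lemma exists_gen {I : DerComp.IdealSh O} (hI : I.IsFiniteType) (U : C) :
    ∃ S ∈ J U, ∀ ⦃V : C⦄ (g : V ⟶ U), S g → ∃ l, Gen I V l := by
  obtain ⟨S, hS, h⟩ := hI U
  refine ⟨S, hS, fun V g hg => ?_⟩
  obtain ⟨r, a, ha⟩ := h g hg
  refine ⟨List.ofFn a, fun x hx => ?_, fun K hK => ha.2 K fun i W => hK _ (List.mem_ofFn.2 ⟨i, rfl⟩) W⟩
  obtain ⟨i, rfl⟩ := List.mem_ofFn.1 hx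
  have h1 := ha.1 i (Over.mk (𝟙 V))
  change (O.obj.map (𝟙 V).op).hom (a i) ∈ I.ideal V at h1
  simpa using h1

lemma killed_of_gen {I : DerComp.IdealSh O} {V : C} {l : List (O.obj.obj (op V))} (hl : Gen I V l)
    (H : ModSite.Mod (O.over V)) (h : ∀ a ∈ l, DerComp.GSec.ofSect O V a • 𝟙 H = 0) : Killed (I.over V) H.val :=
  killed_of_le_ann (hl.2 (ann H) fun a ha W X k m => by
    have h1 : DerComp.smulEnd (DerComp.GSec.ofSect O V a) H = 0 := by
      have := h a ha
      rwa [DerComp.smul_def, Category.comp_id] at this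
    have h2 := congrArg (fun φ => apm (SheafOfModules.Hom.val φ) X m) h1
    refine Eq.trans ?_ h2
    exact congrArg (· • m) ((DerComp.GSec.ofSect O V a).2 k))

/-- A section acts nilpotently on a module. -/
def KNil {V : C} (t : DerComp.GSec (O.over V)) (H : ModSite.Mod (O.over V)) : Prop :=
  ∃ N : ℕ, (t ^ N) • 𝟙 H = 0

/-- Tensoring a killed module with the extension by zero of a localisation gives zero. -/
lemma isZero_awayOver_tensor {I : DerComp.IdealSh O} (N : ModSite.Mod O) (hN : Killed I N.val) {U : C}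
    (g : O.obj.obj (op U)) (hg : g ∈ I.ideal U) :
    IsZero (((ModSite.tensorBi O).obj ((ModSite.extZero O U).obj (DerComp.awayOver O U g))).obj N) := by
  let F := (ModSite.tensorBi O).flip.obj N
  have hsm : DerComp.smulEnd (DerComp.GSec.ofSect O U g) ((ModSite.restr O U).obj N) = 0 := by
    refine mod_hom_ext fun W m => ?_
    exact hN W.left _ (I.map_mem W.hom hg) m
  have he : F.map (eU U g) = 0 := by
    show ((ModSite.tensorBi O).map (eU U g)).app N = 0
    rw [← cancel_mono ((TensorFreeNat.θ U g).hom.app N), TensorFreeNat.eU_θ, hsm, Functor.map_zero, comp_zero,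
      zero_comp]
  haveI : PreservesColimitsOfSize.{0, 0} F := preservesColimitsOfSize_shrink.{0, u, 0, u} F
  haveI : F.Additive := Groth.DerivedCoh.KFlat.flipObjAdditive (ModSite.tensorBi O) N
  have htel : F.map (tel (eU U g)) = 𝟙 _ := by
    rw [← cancel_epi (PreservesCoproduct.iso F _).inv]
    refine Sigma.hom_ext _ _ fun i => ?_
    simp [tel, Functor.map_sub, -Functor.map_comp]
    rw [Functor.map_comp, he, zero_comp]
  have hπ : F.map (cokernel.π (tel (eU U g))) = 0 := by
    have := congrArg F.map (cokernel.condition (tel (eU U g)))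
    rwa [Functor.map_comp, htel, Category.id_comp, Functor.map_zero] at this
  haveI : Epi (F.map (cokernel.π (tel (eU U g)))) := F.map_epi _
  have hz : IsZero (F.obj (cokernel (tel (eU U g)))) := IsZero.of_epi_eq_zero _ hπ
  exact hz.of_iso (F.mapIso (awayIso U g))

lemma exists_tensor_comm (M N : ModSite.Mod O) :
    Nonempty (((ModSite.tensorBi O).obj M).obj N ≅ ((ModSite.tensorBi O).obj N).obj M) :=
  ⟨(aP O).mapIso (@BraidedCategory.braiding (PM O) _ _ _ M.val N.val)⟩

lemma isFlat_restr {M : ModSite.Mod O} (hM : ModSite.IsFlat M) (V : C) :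
    ModSite.IsFlat ((ModSite.restr O V).obj M) := by
  refine RelTriv.isFlat fun W n f s hrel => ?_
  obtain ⟨S, hS, h⟩ := relTriv_of_isFlat hM W.left n f s hrel
  refine ⟨(Sieve.overEquiv W).symm S, (GrothendieckTopology.mem_over_iff J _).2 (by simpa using hS),
    fun W' g hg => ?_⟩
  exact h g.left ((Sieve.overEquiv_symm_iff S g).1 hg)

lemma isFlat_extZero_awayOver (U : C) (g : O.obj.obj (op U)) :
    ModSite.IsFlat ((ModSite.extZero O U).obj (DerComp.awayOver O U g)) :=
  Groth.SitesTopoi.ModH.isFlat_extZero (SiteAwayTensor.isFlat_locAway (DerComp.GSec.ofSect O U g))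

section Local

variable {I : DerComp.IdealSh O} {U V : C} (g : O.obj.obj (op U))

/-- Tensoring over an object with the restricted localisation. -/
noncomputable abbrev Ψ : ModSite.Mod (O.over V) ⥤ ModSite.Mod (O.over V) :=
  (ModSite.tensorBi (O.over V)).obj ((ModSite.restr O V).obj ((ModSite.extZero O U).obj (DerComp.awayOver O U g)))

lemma isZero_Ψ_of_killed (hg : g ∈ I.ideal U) (H : ModSite.Mod (O.over V)) (hH : Killed (I.over V) H.val) :
    IsZero ((Ψ g).obj H) := by
  let M := (ModSite.extZero O U).obj (DerComp.awayOver O U g)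
  obtain ⟨β₁⟩ := exists_tensor_comm ((ModSite.restr O V).obj M) H
  obtain ⟨β₂⟩ := exists_tensor_comm M ((ModSite.extZero O V).obj H)
  have h := (isZero_awayOver_tensor _ (killed_extZero hH) g hg).of_iso
    ((ModSite.extZero O V).mapIso β₁ ≪≫ projectionIso H M ≪≫ β₂.symm)
  rw [IsZero.iff_id_eq_zero]
  exact (ModSite.extZero O V).map_injective (h.eq_of_src _ _)

lemma isFlat_restr_ext (V : C) :
    ModSite.IsFlat ((ModSite.restr O V).obj ((ModSite.extZero O U).obj (DerComp.awayOver O U g))) :=
  isFlat_restr (isFlat_extZero_awayOver U g) V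

lemma isZero_Ψ_of_nil {l : List (O.obj.obj (op V))} (hl : Gen I V l) (hg : g ∈ I.ideal U) :
    ∀ (l₁ : List (O.obj.obj (op V))) (H : ModSite.Mod (O.over V)),
      (∀ a ∈ l₁, KNil (DerComp.GSec.ofSect O V a) H) →
      (∀ a ∈ l, a ∈ l₁ ∨ DerComp.GSec.ofSect O V a • 𝟙 H = 0) → IsZero ((Ψ g).obj H)
  | [], H, _, h => isZero_Ψ_of_killed g hg H
      (killed_of_gen hl H fun a ha => (h a ha).resolve_left List.not_mem_nil)
  | b :: l₁, H, hn, h => by
    obtain ⟨N, hN⟩ := hn b List.mem_cons_self
    haveI := (isFlat_tensorObj (isFlat_restr_ext g V) : PreservesFiniteLimits (Ψ (V := V) g))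
    haveI : PreservesFiniteColimits (Ψ (V := V) g) :=
      haveI : PreservesColimitsOfSize.{u, u} (Ψ (V := V) g) := inferInstance
      PreservesColimitsOfSize.preservesFiniteColimits.{u, u} _
    let s := DerComp.GSec.ofSect O V b
    suffices ∀ (N : ℕ) (H : ModSite.Mod (O.over V)), (s ^ N) • 𝟙 H = 0 →
        (∀ a ∈ l₁, KNil (DerComp.GSec.ofSect O V a) H) →
        (∀ a ∈ l, a ∈ b :: l₁ ∨ DerComp.GSec.ofSect O V a • 𝟙 H = 0) → IsZero ((Ψ g).obj H) from
      this N H hN (fun a ha => hn a (List.mem_cons_of_mem _ ha)) h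
    intro N
    induction N with
    | zero =>
      intro H hH _ _
      rw [pow_zero, one_smul] at hH
      exact (Ψ g).map_isZero ((IsZero.iff_id_eq_zero H).2 hH)
    | succ N ih =>
      intro H hH hn' h'
      let e := s • 𝟙 H
      have hk : ∀ (t : DerComp.GSec (O.over V)), t • 𝟙 H = 0 → t • 𝟙 (kernel e) = 0 := fun t ht => by
        rw [← cancel_mono (kernel.ι e), Linear.smul_comp, Category.id_comp, zero_comp,
          ← Category.comp_id (kernel.ι e), ← Linear.comp_smul, ht, comp_zero]
      have hi : ∀ (t : DerComp.GSec (O.over V)), t • 𝟙 H = 0 → t • 𝟙 (Abelian.image e) = 0 := fun t ht => by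
        rw [← cancel_epi (Abelian.factorThruImage e), Linear.comp_smul, Category.comp_id, comp_zero,
          ← Category.id_comp (Abelian.factorThruImage e), ← Linear.smul_comp, ht, zero_comp]
      have h1 : IsZero ((Ψ g).obj (kernel e)) := by
        refine isZero_Ψ_of_nil hl hg l₁ _ (fun a ha => ?_) fun a ha => ?_
        · obtain ⟨M, hM⟩ := hn' a ha
          exact ⟨M, hk _ hM⟩
        · rcases h' a ha with h'' | h''
          · rcases List.mem_cons.1 h'' with rfl | h''
            · refine Or.inr ?_
              rw [← cancel_mono (kernel.ι e), Linear.smul_comp, Category.id_comp, zero_comp]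
              refine Eq.trans ?_ (kernel.condition e)
              rw [Linear.comp_smul, Category.comp_id]
            · exact Or.inl h''
          · exact Or.inr (hk _ h'')
      have h2 : IsZero ((Ψ g).obj (Abelian.image e)) := by
        refine ih _ ?_ (fun a ha => ?_) fun a ha => ?_
        · rw [← cancel_epi (Abelian.factorThruImage e), comp_zero, ← cancel_mono (Abelian.image.ι e), zero_comp,
            Linear.comp_smul, Category.comp_id, Linear.smul_comp, Abelian.image.fac, smul_smul, ← pow_succ, hH]
        · obtain ⟨M, hM⟩ := hn' a ha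
          exact ⟨M, hi _ hM⟩
        · exact (h' a ha).imp_right (hi _)
      let S := ShortComplex.mk (kernel.ι e) (Abelian.factorThruImage e)
        (by rw [← cancel_mono (Abelian.image.ι e), Category.assoc, Abelian.image.fac, zero_comp, kernel.condition])
      have hS : S.Exact := ShortComplex.exact_of_f_is_kernel _ (KernelFork.IsLimit.ofι _ _
        (fun k hk' => kernel.lift e k (by rw [← Abelian.image.fac e, reassoc_of% hk', zero_comp]))
        (fun k hk' => kernel.lift_ι _ _ _) fun k hk' m hm => by rw [← cancel_mono (kernel.ι e), hm, kernel.lift_ι])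
      exact (hS.map (Ψ g)).isZero_of_both_zeros (h1.eq_of_src _ _) (h2.eq_of_tgt _ _)

/-- Tensoring the Koszul complex of generators with a localisation at a section of the ideal gives an acyclic
complex. -/
theorem isZero_kos_single {l : List (O.obj.obj (op V))} (hl : Gen I V l) (hg : g ∈ I.ideal U) :
    IsZero (DerivedCategory.Q.obj (KosCx.kos (DerComp.GSec.ofSect O V) l
      ((HomologicalComplex.single (ModSite.Mod (O.over V)) up 0).obj
        ((ModSite.restr O V).obj ((ModSite.extZero O U).obj (DerComp.awayOver O U g)))))) := by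
  haveI := (isFlat_tensorObj (isFlat_restr_ext g V) : PreservesFiniteLimits (Ψ (V := V) g))
  haveI : PreservesFiniteColimits (Ψ (V := V) g) :=
    haveI : PreservesColimitsOfSize.{u, u} (Ψ (V := V) g) := inferInstance
    PreservesColimitsOfSize.preservesFiniteColimits.{u, u} _
  let c := DerComp.GSec.ofSect O V
  let K₀ := KosCx.kos c l ((HomologicalComplex.single _ up 0).obj (ModSite.unit (O.over V)))
  let X₁ := (HomologicalComplex.single (ModSite.Mod (O.over V)) up 0).obj
    ((ModSite.restr O V).obj ((ModSite.extZero O U).obj (DerComp.awayOver O U g)))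
  let i : ((Ψ g).mapHomologicalComplex up).obj ((HomologicalComplex.single _ up 0).obj (ModSite.unit (O.over V))) ≅
      ((𝟭 (ModSite.Mod (O.over V))).mapHomologicalComplex up).obj X₁ :=
    (HomologicalComplex.singleMapHomologicalComplex (Ψ g) up 0).app _ ≪≫
      (HomologicalComplex.single _ up 0).mapIso (SiteAwayTensor.flipUnitIso.app _) ≪≫
      ((Functor.mapHomologicalComplexIdIso _ up).app X₁).symm
  have hΨ : ∀ (t : DerComp.GSec (O.over V)) (X : CochainComplex (ModSite.Mod (O.over V)) ℤ),
      ((Ψ g).mapHomologicalComplex up).map (t • 𝟙 X) = t • 𝟙 (((Ψ g).mapHomologicalComplex up).obj X) := fun t X => by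
    ext n : 1
    rw [Functor.mapHomologicalComplex_map_f]
    simp only [HomologicalComplex.smul_f_apply, HomologicalComplex.id_f, DerComp.smul_def, Category.comp_id]
    exact SiteAwayTensor.tensor_map_smulEnd t _ _
  have hid : ∀ (t : DerComp.GSec (O.over V)) (X : CochainComplex (ModSite.Mod (O.over V)) ℤ),
      ((𝟭 (ModSite.Mod (O.over V))).mapHomologicalComplex up).map (t • 𝟙 X) = t • 𝟙 _ := fun t X => by
    ext n : 1
    rfl
  obtain ⟨j, -⟩ := KosCx.exists_kos_iso c (Ψ g) (𝟭 _) c l _ X₁ i fun k => by
    rw [hΨ, hid, Linear.smul_comp, Linear.comp_smul, Category.id_comp, Category.comp_id]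
  refine SetLoc.isZero_Q_of_acyclic (fun n => ?_)
  rw [HomologicalComplex.exactAt_iff_isZero_homology]
  refine IsZero.of_iso ?_ ((HomologicalComplex.homologyFunctor _ up n).mapIso
    (j ≪≫ (Functor.mapHomologicalComplexIdIso _ up).app _)).symm
  refine IsZero.of_iso ?_ ((K₀.sc n).mapHomologyIso (Ψ g))
  refine isZero_Ψ_of_nil g hl hg l _ (fun a ha => ?_) fun a ha => Or.inl ha
  obtain ⟨N, hN⟩ := KosCx.nil_kos c l ((HomologicalComplex.single _ up 0).obj (ModSite.unit (O.over V))) a ha
  refine ⟨N, ?_⟩
  have h1 : DerivedCategory.Q.map ((c a ^ N) • 𝟙 K₀) = 0 := by rw [KosCx.Q_map_smul]; exact hN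
  have h2 := (DerivedCategory.homologyFunctorFactors (ModSite.Mod (O.over V)) n).hom.naturality ((c a ^ N) • 𝟙 K₀)
  simp only [Functor.comp_map, h1, Functor.map_zero, zero_comp] at h2
  have h3 : HomologicalComplex.homologyMap ((c a ^ N) • 𝟙 K₀) n = 0 :=
    (cancel_epi ((DerivedCategory.homologyFunctorFactors (ModSite.Mod (O.over V)) n).hom.app K₀)).1
      (h2.symm.trans comp_zero.symm)
  have h4 : HomologicalComplex.homologyMap ((c a ^ N) • 𝟙 K₀) n = (c a ^ N) • 𝟙 (K₀.homology n) := by
    rw [← HomologicalComplex.homologyMap_id]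
    exact ShortComplex.homologyMap_smul ((HomologicalComplex.shortComplexFunctor _ up n).map (𝟙 K₀)) (c a ^ N)
  exact h4.symm.trans h3

end Local

end Groth.DAlg.SiteTorsion
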