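import Groth.Agent.DAlg.ProjAmp
import Groth.Agent.S7004
import Groth.Agent.DAlg.PCDescent
import Groth.Agent.Ega41Adic.SplitInj
import Groth.Agent.FlatCxBase.Criteria

/-!
Splitting a pseudo-coherent object near a prime where a fibre cohomology group vanishes.
-/

universe u

open CategoryTheory CategoryTheory.Limits HomologicalComplex
open scoped TensorProduct

attribute [local instance] HasDerivedCategory.standard
set_option linter.style.haveILetI false

namespace Groth.DAlg

open FlatCxBase PCohPunctual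

variable {R : Type u} [CommRing R]

/-- A quasi-inverse of `dBar` at a point where the fibre cohomology vanishes. -/
theorem exists_splitBy_dBar (E : DRing.Cx R) (hE : DRing.TermwiseFiniteFree E) (p : Ideal R) [p.IsPrime] (i : ℤ)
    (hz : IsZero ((DRing.tensorCx E (ModuleCat.of R p.ResidueField)).homology i)) :
    ∃ a ∉ p, Ega41Adic.SplitBy (dBar E (i - 1) i (i + 1)) a := by
  haveI := (hE i).1
  haveI := (hE (i + 1)).2
  refine (Ega41Adic.exists_splitBy_iff_injective _ p).2 ?_
  rw [LinearMap.lTensor_inj_iff_rTensor_inj, injective_iff_map_eq_zero]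
  intro q hq
  obtain ⟨x, rfl⟩ := LinearMap.rTensor_surjective p.ResidueField
    (Submodule.mkQ_surjective (LinearMap.range (E.d (i - 1) i).hom)) q
  rw [← LinearMap.rTensor_comp_apply, dBar_comp] at hq
  exact (rTensor_cokerπ_eq_zero_iff E _ (i - 1) i x).2
    ((isZero_T_iff E (cochain_prev i) (cochain_next i) _).1 hz x hq)

/-- The Hom condition for the base change to a localization. -/
theorem subsingleton_hom_extCx {S : Type u} [CommRing S] [Algebra R S] {E : DRing.Cx R} {b : ℤ}
    (hEb : DRing.VanishesAbove E b) (hE : DRing.TermwiseFiniteFree E) (i : ℤ) {a : R}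
    (h : Ega41Adic.SplitBy (dBar E (i - 1) i (i + 1)) a) (ha : IsUnit (algebraMap R S a)) {K : Dual.D S}
    (e : DRing.toD (extCx (algebraMap R S) E) ≅ K) (M : Type u) [AddCommGroup M] [Module S M] :
    Subsingleton (K ⟶ (shiftFunctor (Dual.D S) (-i)).obj (Dual.inD S M)) := by
  let E' := extCx (algebraMap R S) E
  have hb' : ∀ j, b < j → IsZero (E'.X j) := fun j hj =>
    (ModuleCat.extendScalars (algebraMap R S)).map_isZero (hEb j hj)
  have hproj : ∀ j, Module.Projective S (E'.X j) := fun j => by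
    haveI := (hE j).2
    exact Module.Projective.of_equiv (extendEquiv S (E.X j)).symm
  letI : Module R M := Module.compHom M (algebraMap R S)
  haveI : IsScalarTower R S M := IsScalarTower.of_algebraMap_smul fun _ _ => rfl
  refine subsingleton_of_forall_eq 0 fun f => ?_
  obtain ⟨φ, rfl⟩ := Calg3.classMap_surjective e (neg_add_cancel i) hb' hproj f
  obtain ⟨w, hw⟩ := h
  obtain ⟨u, hu⟩ := ha
  let φt : S ⊗[R] E.X i →ₗ[S] M := φ.1 ∘ₗ (extendEquiv S (E.X i)).symm.toLinearMap
  let φ₀ : E.X i →ₗ[R] M := (φt.restrictScalars R) ∘ₗ TensorProduct.mk R S (E.X i) 1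
  have hφ₀ : LinearMap.range (E.d (i - 1) i).hom ≤ LinearMap.ker φ₀ := by
    rintro _ ⟨x, rfl⟩
    show φ.1 _ = 0
    refine Eq.trans (congrArg φ.1 ?_) (LinearMap.congr_fun φ.2 ((extendEquiv S (E.X (i - 1))).symm (1 ⊗ₜ x)))
    refine (extendEquiv S (E.X i)).injective ?_
    show extendEquiv S (E.X i) ((extendEquiv S (E.X i)).symm (1 ⊗ₜ (E.d (i - 1) i) x)) =
      extendEquiv S (E.X i) ((ModuleCat.extendScalars (algebraMap R S)).map (E.d (i - 1) i)
        ((extendEquiv S (E.X (i - 1))).symm (1 ⊗ₜ x)))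
    rw [extendEquiv_map, LinearEquiv.apply_symm_apply, LinearEquiv.apply_symm_apply, LinearMap.baseChange_tmul]
  let ψ₀ : E.X (i + 1) →ₗ[R] M := ((LinearMap.range (E.d (i - 1) i).hom).liftQ φ₀ hφ₀) ∘ₗ w
  let ψ : E'.X (i + 1) →ₗ[S] M :=
    ((↑u⁻¹ : S) • LinearMap.liftBaseChange S ψ₀) ∘ₗ (extendEquiv S (E.X (i + 1))).toLinearMap
  refine Calg3.classMap_predif e _ ψ φ ?_
  have key : φt = ((↑u⁻¹ : S) • LinearMap.liftBaseChange S ψ₀) ∘ₗ (E.d i (i + 1)).hom.baseChange S := by
    refine LinearMap.ext fun t => ?_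
    induction t using TensorProduct.induction_on with
    | zero => simp
    | add y y' hy hy' => rw [map_add, map_add, hy, hy']
    | tmul s y =>
      have h1 : ψ₀ (E.d i (i + 1) y) = algebraMap R S a • φ₀ y := by
        have h2 : w (dBar E (i - 1) i (i + 1) (cokerπ E (i - 1) i y)) = a • cokerπ E (i - 1) i y :=
          LinearMap.congr_fun hw _
        rw [show dBar E (i - 1) i (i + 1) (cokerπ E (i - 1) i y) = E.d i (i + 1) y from
          LinearMap.congr_fun (dBar_comp E (i - 1) i (i + 1)) y] at h2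
        show (LinearMap.range (E.d (i - 1) i).hom).liftQ φ₀ hφ₀ (w (E.d i (i + 1) y)) = _
        rw [h2, map_smul, algebraMap_smul]
        rfl
      simp only [LinearMap.comp_apply, LinearMap.smul_apply, LinearMap.baseChange_tmul,
        LinearMap.liftBaseChange_tmul]
      rw [h1, ← hu, smul_comm s, smul_smul, Units.inv_mul, one_smul]
      show φt (s ⊗ₜ y) = s • φt (1 ⊗ₜ y)
      rw [← map_smul, TensorProduct.smul_tmul', smul_eq_mul, mul_one]
  refine LinearMap.ext fun z => ?_
  have h := LinearMap.congr_fun key (extendEquiv S (E.X i) z)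
  refine ((congrArg φ.1 ((extendEquiv S (E.X i)).symm_apply_apply z)).symm.trans h).trans ?_
  exact congrArg ((↑u⁻¹ : S) • LinearMap.liftBaseChange S ψ₀) (extendEquiv_map S (E.d i (i + 1)) z).symm

/-- The splitting of a pseudo-coherent complex near a prime with a vanishing fibre cohomology group. -/
theorem exists_split_at_prime (p : Ideal R) [p.IsPrime] [DRing.HasLBaseChange (algebraMap R p.ResidueField)]
    (i : ℤ) (K : DRing.Cx R) (hK : DRing.IsPseudoCoherent' R (DRing.toD K))
    (hi : Subsingleton (Dual.HD p.ResidueField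
      ((DRing.LBaseChange (algebraMap R p.ResidueField)).obj (DRing.toD K)) i)) :
    ∃ f : R, f ∉ p ∧
      let Kf := DRing.toD (extCx (algebraMap R (Localization.Away f)) K)
      let Kge := ((tD (Localization.Away f)).truncGE (i + 1)).obj Kf
      let Klt := ((tD (Localization.Away f)).truncLT i).obj Kf
      DRing.IsPerfect (Localization.Away f) Kge ∧
        (∃ b : ℤ, DRing.HasTorAmplitudeIn (Localization.Away f) (i + 1) b Kge) ∧
        ∀ [HasBinaryBiproduct Kge Klt], ∃ e : Kf ≅ Kge ⊞ Klt,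
          e.hom ≫ biprod.fst = ((tD (Localization.Away f)).truncGEπ (i + 1)).app Kf ∧
            ((tD (Localization.Away f)).truncLTι i).app Kf ≫ e.hom = biprod.inr := by
  obtain ⟨E, b, hEb, hEf, ⟨eE⟩⟩ := hK
  have hflat : DRing.TermwiseFlat E := fun j => haveI := (hEf j).2; inferInstance
  obtain ⟨eκ⟩ := nonempty_lBaseChangeFlatIso (algebraMap R p.ResidueField) E hEb hflat
  have hz : IsZero ((DRing.tensorCx E (ModuleCat.of R p.ResidueField)).homology i) :=
    (isZero_extCx_iff E i).1 (isZero_homology_of_subsingleton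
      (@Equiv.subsingleton _ _ (HDCongr (eκ.symm ≪≫ (DRing.LBaseChange _).mapIso eE) i).toEquiv hi))
  obtain ⟨a, ha, hsplit⟩ := exists_splitBy_dBar E hEf p i hz
  refine ⟨a, ha, ?_⟩
  let S := Localization.Away a
  haveI := hasLBaseChange (algebraMap R S)
  have hS : (algebraMap R S).Flat :=
    RingHom.flat_algebraMap_iff.2 (IsLocalization.flat S (Submonoid.powers a))
  obtain ⟨e₁⟩ := nonempty_lBaseChange_extCx (algebraMap R S) hS K
  obtain ⟨e₂⟩ := nonempty_lBaseChange_extCx (algebraMap R S) hS E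
  let e : DRing.toD (extCx (algebraMap R S) E) ≅ DRing.toD (extCx (algebraMap R S) K) :=
    e₂.symm ≪≫ (DRing.LBaseChange _).mapIso eE ≪≫ e₁
  have hbK : ∃ b : ℤ, ∀ j : ℤ, b < j → Subsingleton (Dual.HD S (DRing.toD (extCx (algebraMap R S) K)) j) :=
    ⟨b, fun j hj => subsingleton_HD_of_iso e ((ModuleCat.extendScalars (algebraMap R S)).map_isZero (hEb j hj))⟩
  have hpc : DRing.IsPseudoCoherent' S (DRing.toD (extCx (algebraMap R S) K)) :=
    ⟨extCx (algebraMap R S) E, b, fun j hj => (ModuleCat.extendScalars (algebraMap R S)).map_isZero (hEb j hj),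
      fun j => by
        haveI := (hEf j).1
        haveI := (hEf j).2
        exact ⟨Module.Finite.equiv (extendEquiv S (E.X j)).symm, Module.Free.of_equiv (extendEquiv S (E.X j)).symm⟩,
      ⟨e⟩⟩
  haveI : HasBinaryBiproducts (Dual.D S) := HasBinaryBiproducts.of_hasBinaryProducts
  obtain ⟨⟨es, hes₁, hes₂⟩, P, b', hP, hPp, ⟨eP⟩⟩ := Groth.Agent.S7004.result S i
    (DRing.toD (extCx (algebraMap R S) K)) hbK fun M _ _ =>
      subsingleton_hom_extCx hEb hEf i hsplit (IsLocalization.Away.algebraMap_isUnit a) e M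
  have hamp : DRing.HasTorAmplitudeIn S (i + 1) b'
      (((tD S).truncGE (i + 1)).obj (DRing.toD (extCx (algebraMap R S) K))) :=
    ⟨P, hP, fun j => haveI := hPp j; inferInstance, ⟨eP⟩⟩
  refine ⟨isPerfect_iff.2 ⟨isPseudoCoherent'_iff_isPC.2 fun n => ?_, _, _, hamp⟩, ⟨b', hamp⟩, ?_⟩
  · exact ((pcn_biprod_iff (isAdditiveSub_finFree S) (isQuasiStable_finFree S) (isQuasiLiftable_finFree S) n _ _).1
      (PCn.of_iso (isPseudoCoherent'_iff_isPC.1 hpc n) es)).2
  · intro _
    refine ⟨es ≪≫ biprod.braiding _ _, ?_, ?_⟩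
    · rw [Iso.trans_hom, Category.assoc, biprod.braiding_hom, biprod.lift_fst]
      exact hes₂
    · rw [Iso.trans_hom, ← Category.assoc]
      erw [hes₁]
      rw [biprod.braiding_hom]
      apply biprod.hom_ext
      · rw [Category.assoc, biprod.lift_fst, biprod.inl_snd, biprod.inr_fst]
      · rw [Category.assoc, biprod.lift_snd, biprod.inl_fst, biprod.inr_snd]

end Groth.DAlg
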