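import Groth.Agent.DAlg.TorAmpTot
import Groth.Agent.DAlg.PCDescent
import Groth.Agent.DAlg.RelPCBaseChange

/-!
Descent of tor amplitude over a base along faithfully flat maps.
-/

universe u

open CategoryTheory CategoryTheory.Limits CategoryTheory.Pretriangulated HomologicalComplex MonoidalCategory

attribute [local instance] HasDerivedCategory.standard
set_option linter.style.haveILetI false

namespace Groth.DAlg

open DerivedCoh KFlatMod

variable {A B : Type u} [CommRing A] [CommRing B]

local notation "up" => ComplexShape.up ℤ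

lemma exactAt_of_tensor_faithfullyFlat (M : ModuleCat.{u} B) [Module.FaithfullyFlat B M] (X : DRing.Cx B) (i : ℤ)
    (h : ((((T B).obj M).mapHomologicalComplex up).obj X).ExactAt i) : X.ExactAt i := by
  rw [exactAt_iff, ShortComplex.ShortExact.moduleCat_exact_iff_function_exact] at h ⊢
  exact Module.FaithfullyFlat.lTensor_reflects_exact B M _ _ h

/-- Tensoring with a faithfully flat `B`-module reflects tor amplitude over `A`. -/
theorem torAmp_res_of_tensor_faithfullyFlat (φ : A →+* B) (M : ModuleCat.{u} B) [Module.FaithfullyFlat B M]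
    (L : DRing.Cx B) {c d : ℤ} (hL : DRing.HasTorAmplitudeIn A c d
      (DRing.toD ((DRing.restrictCx φ).obj ((((T B).obj M).mapHomologicalComplex up).obj L)))) :
    DRing.HasTorAmplitudeIn A c d (DRing.toD ((DRing.restrictCx φ).obj L)) := by
  haveI : ∀ N : ModuleCat.{u} A, DRing.HasLTensor A N := hasLTensor
  refine (hasTorAmplitudeIn_iff _ c d).2 fun N i hi => ?_
  haveI := resAug_quasiIso (R := A) ((single (ModuleCat.{u} A) up 0).obj N)
  have hW := res_isKFlat (R := A) ((single (ModuleCat.{u} A) up 0).obj N)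
  let w := (resAug A).app ((single (ModuleCat.{u} A) up 0).obj N)
  let W := (resFunctor A).obj ((single (ModuleCat.{u} A) up 0).obj N)
  have h0 := (hasTorAmplitudeIn_iff _ c d).1 hL N i hi
  rw [subsingleton_lTensor_iff N w hW] at h0 ⊢
  have h₁ : IsZero (((DRing.restrictCx φ).obj ((((T B).obj M).mapHomologicalComplex up).obj
      (KFlat.tot (T B) L (extCx φ W)))).homology i) :=
    h0.of_iso ((homologyFunctor _ _ i).mapIso
      ((DRing.restrictCx φ).mapIso (assocTotIso M L (extCx φ W)) ≪≫ resTotIso φ _ W))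
  rw [← exactAt_iff_isZero_homology, exactAt_restrictCx_iff] at h₁
  have h₂ := exactAt_of_tensor_faithfullyFlat M _ i h₁
  rw [← exactAt_restrictCx_iff φ, exactAt_iff_isZero_homology] at h₂
  exact h₂.of_iso ((homologyFunctor _ _ i).mapIso (resTotIso φ L W)).symm

variable {R : Type u} [CommRing R]

/-- Faithfully flat descent of tor amplitude over a base ring. -/
theorem torAmp_res_lBaseChange_iff (ψ : R →+* A) (φ : A →+* B) (hφ : φ.FaithfullyFlat) [DRing.HasLBaseChange φ]
    (K : Dual.D A) (a b : ℤ) :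
    DRing.HasTorAmplitudeIn R a b ((DRing.restrictD ψ).obj K) ↔
      DRing.HasTorAmplitudeIn R a b ((DRing.restrictD (φ.comp ψ)).obj ((DRing.LBaseChange φ).obj K)) := by
  obtain ⟨E, e⟩ : ∃ E : DRing.Cx A, Nonempty (DRing.toD E ≅ K) :=
    ⟨_, ⟨(DerivedCategory.Q (C := ModuleCat.{u} A)).objObjPreimageIso K⟩⟩
  obtain ⟨e⟩ := e
  let RB : ModuleCat.{u} A := (ModuleCat.restrictScalars φ).obj (ModuleCat.of B B)
  haveI : Module.FaithfullyFlat A RB := hφ
  obtain ⟨eb⟩ := nonempty_lBaseChange_extCx φ hφ.flat E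
  obtain ⟨ec⟩ := nonempty_res_comp ψ φ ((DRing.LBaseChange φ).obj K)
  let e₁ : DRing.toD ((DRing.restrictCx ψ).obj ((((T A).obj RB).mapHomologicalComplex up).obj E)) ≅
      (DRing.restrictD (φ.comp ψ)).obj ((DRing.LBaseChange φ).obj K) :=
    (resQIso ψ _).symm ≪≫ (DRing.restrictD ψ).mapIso
      (DerivedCategory.Q.mapIso ((NatIso.mapHomologicalComplex (extResNatIso φ) up).app E).symm ≪≫
        (resQIso φ (extCx φ E)).symm ≪≫ (DRing.restrictD φ).mapIso (eb.symm ≪≫ (DRing.LBaseChange φ).mapIso e)) ≪≫ ec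
  have e₂ : DRing.toD ((DRing.restrictCx ψ).obj E) ≅ (DRing.restrictD ψ).obj K :=
    (resQIso ψ E).symm ≪≫ (DRing.restrictD ψ).mapIso e
  exact ⟨fun h => TorAmp.of_iso (torAmp_res_tensor_flat ψ RB E (TorAmp.of_iso h e₂.symm)) e₁,
    fun h => TorAmp.of_iso (torAmp_res_of_tensor_faithfullyFlat ψ RB E (TorAmp.of_iso h e₁.symm)) e₂⟩

end Groth.DAlg
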