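import Groth.Agent.DAlg.TorAmpTot
import Groth.Agent.DAlg.RelPCBaseChange
import Mathlib.RingTheory.LocalProperties.Exactness
import Mathlib.RingTheory.Localization.AtPrime.Basic
import Mathlib.RingTheory.Flat.Localization
import Mathlib.RingTheory.Localization.BaseChange

/-!
Tor amplitude over a base is local on the maximal ideals of the source.
-/

universe u

open CategoryTheory CategoryTheory.Limits CategoryTheory.Pretriangulated HomologicalComplex MonoidalCategory
open scoped TensorProduct

attribute [local instance] HasDerivedCategory.standard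
set_option linter.style.haveILetI false

namespace Groth.DAlg

open DerivedCoh KFlatMod

variable {A B : Type u} [CommRing A] [CommRing B]

local notation "up" => ComplexShape.up ℤ

lemma exactAt_of_tensor_maximal (X : DRing.Cx B) (i : ℤ)
    (h : ∀ (J : Ideal B) [J.IsMaximal],
      ((((T B).obj (ModuleCat.of B (Localization.AtPrime J))).mapHomologicalComplex up).obj X).ExactAt i) :
    X.ExactAt i := by
  rw [exactAt_iff, ShortComplex.ShortExact.moduleCat_exact_iff_function_exact]
  refine exact_of_isLocalized_maximal _ (fun J _ => TensorProduct.mk B (Localization.AtPrime J) (X.sc i).X₁ 1)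
    _ (fun J _ => TensorProduct.mk B (Localization.AtPrime J) (X.sc i).X₂ 1)
    _ (fun J _ => TensorProduct.mk B (Localization.AtPrime J) (X.sc i).X₃ 1) _ _ fun J hJ => ?_
  have hmap : ∀ {P Q : Type u} [AddCommGroup P] [Module B P] [AddCommGroup Q] [Module B Q] (F : P →ₗ[B] Q),
      IsLocalizedModule.map J.primeCompl (TensorProduct.mk B (Localization.AtPrime J) P 1)
        (TensorProduct.mk B (Localization.AtPrime J) Q 1) F = F.lTensor (Localization.AtPrime J) := by
    intro P Q _ _ _ _ F
    refine IsLocalizedModule.linearMap_ext J.primeCompl (TensorProduct.mk B (Localization.AtPrime J) P 1)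
      (TensorProduct.mk B (Localization.AtPrime J) Q 1) (LinearMap.ext fun x => ?_)
    exact IsLocalizedModule.map_apply J.primeCompl (TensorProduct.mk B (Localization.AtPrime J) P 1)
      (TensorProduct.mk B (Localization.AtPrime J) Q 1) F x
  rw [hmap, hmap]
  exact (ShortComplex.ShortExact.moduleCat_exact_iff_function_exact _).1 ((exactAt_iff _ i).1 (h J))

/-- Tor amplitude over a base may be checked at the maximal ideals of the source. -/
theorem torAmp_res_of_maximal [Algebra A B] (K : DRing.Cx B) (a b : ℤ)
    (h3 : ∀ (m : Ideal B) [m.IsMaximal],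
      DRing.HasTorAmplitudeIn (Localization.AtPrime (m.comap (algebraMap A B))) a b
        (DRing.toD ((DRing.restrictCx (Localization.localRingHom (m.comap (algebraMap A B)) m (algebraMap A B) rfl)).obj
          (((ModuleCat.extendScalars (algebraMap B (Localization.AtPrime m))).mapHomologicalComplex up).obj K)))) :
    DRing.HasTorAmplitudeIn A a b (DRing.toD ((DRing.restrictCx (algebraMap A B)).obj K)) := by
  haveI : ∀ N : ModuleCat.{u} A, DRing.HasLTensor A N := hasLTensor
  let φ := algebraMap A B
  refine (hasTorAmplitudeIn_iff _ a b).2 fun N i hi => ?_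
  haveI := resAug_quasiIso (R := A) ((single (ModuleCat.{u} A) up 0).obj N)
  have hW := res_isKFlat (R := A) ((single (ModuleCat.{u} A) up 0).obj N)
  let w := (resAug A).app ((single (ModuleCat.{u} A) up 0).obj N)
  let W := (resFunctor A).obj ((single (ModuleCat.{u} A) up 0).obj N)
  rw [subsingleton_lTensor_iff N w hW]
  have hloc : ∀ (J : Ideal B) [J.IsMaximal],
      ((((T B).obj (ModuleCat.of B (Localization.AtPrime J))).mapHomologicalComplex up).obj
        (KFlat.tot (T B) K (extCx φ W))).ExactAt i := by
    intro J hJ
    let αp := algebraMap A (Localization.AtPrime (J.comap φ))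
    let β := algebraMap B (Localization.AtPrime J)
    let lrh := Localization.localRingHom (J.comap φ) J φ rfl
    have hcomp : lrh.comp αp = β.comp φ := RingHom.ext fun x => Localization.localRingHom_to_map _ _ _ rfl x
    let M : ModuleCat.{u} B := ModuleCat.of B (Localization.AtPrime J)
    let eM : (ModuleCat.restrictScalars β).obj (ModuleCat.of (Localization.AtPrime J) (Localization.AtPrime J)) ≅ M :=
      (AddEquiv.toLinearEquiv (M := (ModuleCat.restrictScalars β).obj
          (ModuleCat.of (Localization.AtPrime J) (Localization.AtPrime J))) (M₂ := Localization.AtPrime J)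
        { toFun := fun z => z, invFun := fun z => z, left_inv := fun _ => rfl, right_inv := fun _ => rfl,
          map_add' := fun _ _ => rfl } fun r z => (Algebra.smul_def r (show Localization.AtPrime J from z)).symm).toModuleIso
    have h₀ : DRing.HasTorAmplitudeIn A (a - (0 : ℕ)) b ((DRing.restrictD αp).obj
        (DRing.toD ((DRing.restrictCx lrh).obj (extCx β K)))) :=
      TorAmp.restrict (TorAmp.mono (torAmp_mD_of_flat (ModuleCat.of A (Localization.AtPrime (J.comap φ))))
        (by simp) le_rfl) (h3 J)
    obtain ⟨e₁⟩ := nonempty_res_comp αp lrh (DRing.toD (extCx β K))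
    obtain ⟨e₂⟩ := nonempty_res_comp φ β (DRing.toD (extCx β K))
    have h₁ : DRing.HasTorAmplitudeIn A a b
        (DRing.toD ((DRing.restrictCx φ).obj ((((T B).obj M).mapHomologicalComplex up).obj K))) := by
      rw [Nat.cast_zero, sub_zero] at h₀
      have h := TorAmp.of_iso h₀ ((DRing.restrictD αp).mapIso (resQIso lrh (extCx β K)).symm ≪≫ e₁)
      rw [hcomp] at h
      exact TorAmp.of_iso h (e₂.symm ≪≫ (DRing.restrictD φ).mapIso (resQIso β (extCx β K) ≪≫
        DerivedCategory.Q.mapIso ((NatIso.mapHomologicalComplex
          (extResNatIso β ≪≫ (T B).mapIso eM) up).app K)) ≪≫ resQIso φ _)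
    have h₂ := (hasTorAmplitudeIn_iff _ a b).1 h₁ N i hi
    rw [subsingleton_lTensor_iff N w hW] at h₂
    have h₃ : IsZero (((DRing.restrictCx φ).obj ((((T B).obj M).mapHomologicalComplex up).obj
        (KFlat.tot (T B) K (extCx φ W)))).homology i) :=
      h₂.of_iso ((homologyFunctor _ _ i).mapIso
        ((DRing.restrictCx φ).mapIso (assocTotIso M K (extCx φ W)) ≪≫ resTotIso φ _ W))
    rwa [← exactAt_iff_isZero_homology, exactAt_restrictCx_iff] at h₃
  have h₄ := exactAt_of_tensor_maximal _ i hloc
  rw [← exactAt_restrictCx_iff φ, exactAt_iff_isZero_homology] at h₄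
  exact h₄.of_iso ((homologyFunctor _ _ i).mapIso (resTotIso φ K W)).symm

end Groth.DAlg
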