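import Groth.Agent.FlatMorOne.TorAmpWeaklyEtale
import Groth.Agent.KoszulLCI.TorPolynomial
import Groth.Agent.FlatMor2.WeaklyEtaleStalk
import Groth.Agent.DerivedCoh.StalkAmp.Basic
import Mathlib.RingTheory.MvPolynomial.Localization
import Mathlib.RingTheory.RingHom.StandardSmooth

/-!
Tor amplitude goes up by at most the relative dimension along smooth ring maps.
-/

universe u

open CategoryTheory CategoryTheory.Limits HomologicalComplex Polynomial
open scoped TensorProduct

attribute [local instance] HasDerivedCategory.standard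
set_option linter.style.haveILetI false

namespace Groth.DAlg.SmoothAmp

open Groth.DAlg

/-- `AmpUp φ n`: along `φ`, the lower bound of tor amplitude drops by at most `n`. -/
def AmpUp {A B : Type u} [CommRing A] [CommRing B] (φ : A →+* B) (n : ℕ) : Prop :=
  ∀ (K : DRing.Cx B) (a b : ℤ), DRing.HasTorAmplitudeIn A a b (DRing.toD ((DRing.restrictCx φ).obj K)) →
    DRing.HasTorAmplitudeIn B (a - n) b (DRing.toD K)

variable {A B C : Type u} [CommRing A] [CommRing B] [CommRing C]

theorem AmpUp.mono {φ : A →+* B} {n m : ℕ} (h : AmpUp φ n) (hnm : n ≤ m) : AmpUp φ m := fun K a b hK =>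
  TorAmp.mono (h K a b hK) (by omega) le_rfl

theorem AmpUp.comp {φ : A →+* B} {ψ : B →+* C} {n m : ℕ} (h : AmpUp φ n) (h' : AmpUp ψ m) :
    AmpUp (ψ.comp φ) (n + m) := fun K a b hK => by
  have h1 : DRing.HasTorAmplitudeIn A a b
      (DRing.toD ((DRing.restrictCx φ).obj ((DRing.restrictCx ψ).obj K))) :=
    TorAmp.of_iso hK (DerivedCategory.Q.mapIso
      ((NatIso.mapHomologicalComplex (ModuleCat.restrictScalarsComp'.{u} φ ψ (ψ.comp φ) rfl) (ComplexShape.up ℤ)).app K ≪≫
        ((Functor.mapHomologicalComplexCompIso (Iso.refl (ModuleCat.restrictScalars ψ ⋙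
          ModuleCat.restrictScalars φ)) (ComplexShape.up ℤ)).symm.app K)))
  exact TorAmp.mono (h' K _ _ (h _ a b h1)) (by push_cast; omega) le_rfl

theorem ampUp_of_weaklyEtale [Algebra A B] [Algebra.WeaklyEtale A B] : AmpUp (algebraMap A B) 0 := fun K a b hK =>
  TorAmp.mono (FlatMorOne.TorAmpWE.torAmp_of_restrict (TorAmp.of_iso hK (resQIso (algebraMap A B) K).symm))
    (by simp) le_rfl

theorem ampUp_of_bijective {φ : A →+* B} (h : Function.Bijective φ) : AmpUp φ 0 := by
  algebraize [φ]
  have : Algebra.Etale A B := Algebra.Etale.of_equiv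
    { RingEquiv.ofBijective φ h with commutes' := fun r => rfl }
  exact ampUp_of_weaklyEtale

section Polynomial

variable (B)

noncomputable abbrev polyExt : ModuleCat.{u} B[X] ⥤ ModuleCat.{u} B[X] :=
  ModuleCat.restrictScalars (algebraMap B B[X]) ⋙ ModuleCat.extendScalars (algebraMap B B[X])

/-- `X ⊗ 1 - 1 ⊗ X` -/
noncomputable def polyDiffNat : polyExt B ⟶ polyExt B where
  app M := (X : B[X]) • 𝟙 ((polyExt B).obj M) - (polyExt B).map ((X : B[X]) • 𝟙 M)
  naturality M N f := by
    simp only [Preadditive.comp_sub, Preadditive.sub_comp, Linear.comp_smul, Linear.smul_comp,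
      Category.comp_id, Category.id_comp, ← Functor.map_comp]

/-- the action -/
noncomputable def polyActNat : polyExt B ⟶ 𝟭 (ModuleCat.{u} B[X]) :=
  (ModuleCat.extendRestrictScalarsAdj.{u, u, u} (algebraMap B B[X])).counit

variable {B}

set_option backward.isDefEq.respectTransparency false in
theorem shortExact_poly (M : ModuleCat.{u} B[X]) :
    ∃ w : (polyDiffNat B).app M ≫ (polyActNat B).app M = 0,
      (ShortComplex.mk (C := ModuleCat.{u} B[X]) ((polyDiffNat B).app M) ((polyActNat B).app M) w).ShortExact := by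
  letI : Module B M := Module.compHom M (algebraMap B B[X])
  haveI : IsScalarTower B B[X] M := IsScalarTower.of_algebraMap_smul fun _ _ => rfl
  let N : ModuleCat.{u} B := (ModuleCat.restrictScalars (algebraMap B B[X])).obj M
  let e : (polyExt B).obj M ≃ₗ[B[X]] B[X] ⊗[B] (M : Type u) := FlatCxBase.extendEquiv B[X] N
  let g : N ⟶ N := (ModuleCat.restrictScalars (algebraMap B B[X])).map ((X : B[X]) • 𝟙 M)
  have hd : ∀ z, e (((polyDiffNat B).app M).hom z) = Groth.KoszulLCI.polyDiff (B := B) M (e z) := by
    intro z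
    show e (((X : B[X]) • z) - (show (polyExt B).obj M from (ModuleCat.extendScalars (algebraMap B B[X])).map g z)) = _
    rw [map_sub, map_smul]
    refine (congrArg (fun t => (X : B[X]) • e z - t) (FlatCxBase.extendEquiv_map B[X] g z)).trans ?_
    rfl
  have ha : ∀ z, ((polyActNat B).app M).hom z = Groth.KoszulLCI.polyAct (B := B) M (e z) := by
    intro z
    obtain ⟨w, rfl⟩ := e.symm.surjective z
    rw [LinearEquiv.apply_symm_apply]
    induction w with
    | zero => exact ((congrArg _ (map_zero e.symm)).trans (map_zero _)).trans (map_zero _).symm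
    | add u v hu hv => rw [map_add, map_add, map_add, hu, hv]
    | tmul p m =>
      rw [Groth.KoszulLCI.polyAct_tmul]
      rfl
  have hz : ∀ z, ((polyActNat B).app M).hom (((polyDiffNat B).app M).hom z) = 0 := fun z => by
    rw [ha, hd]
    exact (Groth.KoszulLCI.exact_polyDiff M).apply_apply_eq_zero _
  refine ⟨ModuleCat.hom_ext (LinearMap.ext hz), ?_⟩
  refine @ShortComplex.ShortExact.mk (ModuleCat.{u} B[X]) _ _ _ ?_ ?_ ?_
  · rw [ShortComplex.ShortExact.moduleCat_exact_iff_function_exact]
    intro z
    constructor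
    · intro hz'
      obtain ⟨w, hw⟩ := (Groth.KoszulLCI.exact_polyDiff M (e z)).1 ((ha z).symm.trans hz')
      exact ⟨e.symm w, e.injective ((hd _).trans ((congrArg _ (e.apply_symm_apply w)).trans hw))⟩
    · rintro ⟨w, rfl⟩
      exact hz w
  · rw [ModuleCat.mono_iff_injective]
    intro u v huv
    exact e.injective (Groth.KoszulLCI.injective_polyDiff M ((hd u).symm.trans ((congrArg e huv).trans (hd v))))
  · rw [ModuleCat.epi_iff_surjective]
    intro m
    obtain ⟨z, hz'⟩ := Groth.KoszulLCI.surjective_polyAct (B := B) M m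
    exact ⟨e.symm z, (ha _).trans ((congrArg _ (e.apply_symm_apply z)).trans hz')⟩

theorem ampUp_polynomial (B : Type u) [CommRing B] : AmpUp (algebraMap B B[X]) 1 := fun K a b hK => by
  let φ := algebraMap B B[X]
  let G := ModuleCat.extendScalars.{u, u, u} φ
  have hflat : φ.Flat := RingHom.flat_algebraMap_iff.2 inferInstance
  haveI : PreservesFiniteLimits G := ModuleCat.preservesFiniteLimits_extendScalars_of_flat hflat
  haveI : G.IsLeftAdjoint := (ModuleCat.extendRestrictScalarsAdj.{u, u, u} φ).isLeftAdjoint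
  haveI := (ModuleCat.extendRestrictScalarsAdj.{u, u, u} φ).leftAdjoint_preservesColimits
  let up := ComplexShape.up ℤ
  let Kr := (DRing.restrictCx φ).obj K
  obtain ⟨E, hE, hEf, ⟨e⟩⟩ := hK
  have hext : DRing.HasTorAmplitudeIn B[X] a b (DRing.toD ((G.mapHomologicalComplex up).obj Kr)) :=
    ⟨(G.mapHomologicalComplex up).obj E, fun i hi => G.map_isZero (hE i hi),
      fun i => DerivedCoh.KFlat.flat_extendScalars _ (E.X i) (hEf i),
      ⟨(G.mapDerivedCategoryFactors.app E).symm ≪≫ G.mapDerivedCategory.mapIso e ≪≫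
        G.mapDerivedCategoryFactors.app Kr⟩⟩
  let i₀ : ((polyExt B).mapHomologicalComplex up).obj K ≅ (G.mapHomologicalComplex up).obj Kr :=
    ((Functor.mapHomologicalComplexCompIso (Iso.refl (polyExt B)) up).symm.app K)
  let i₁ : ((𝟭 (ModuleCat.{u} B[X])).mapHomologicalComplex up).obj K ≅ K :=
    (Functor.mapHomologicalComplexIdIso (ModuleCat.{u} B[X]) up).app K
  let S : ShortComplex (DRing.Cx B[X]) := ShortComplex.mk
    ((NatTrans.mapHomologicalComplex (polyDiffNat B) up).app K)
    ((NatTrans.mapHomologicalComplex (polyActNat B) up).app K)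
    (HomologicalComplex.hom_ext _ _ fun i => (shortExact_poly (K.X i)).1)
  have hS : S.ShortExact := HomologicalComplex.shortExact_of_degreewise_shortExact _ fun i =>
    (shortExact_poly (K.X i)).2
  have h₀ : DRing.HasTorAmplitudeIn B[X] a b (DRing.toD S.X₁) :=
    TorAmp.of_iso hext (DerivedCategory.Q.mapIso i₀.symm)
  exact TorAmp.of_iso (TorAmp.cone (DerivedCategory.triangleOfSES_distinguished hS)
    (TorAmp.mono h₀ (by push_cast; omega) (by omega)) (TorAmp.mono h₀ (by push_cast; omega) le_rfl))
    (DerivedCategory.Q.mapIso i₁)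

end Polynomial

theorem ampUp_mvPolynomial : ∀ (n : ℕ) (B : Type u) [CommRing B],
    AmpUp (MvPolynomial.C : B →+* MvPolynomial (Fin n) B) n := by
  intro n
  induction n with
  | zero => intro B _; exact ampUp_of_bijective (MvPolynomial.C_surjective (Fin 0) |> fun h => ⟨MvPolynomial.C_injective _ _, h⟩)
  | succ n ih =>
    intro B _
    have h := ((ih B).comp (ampUp_polynomial (MvPolynomial (Fin n) B))).comp
      (ampUp_of_bijective (φ := ((MvPolynomial.finSuccEquiv B n).symm : _ →+* MvPolynomial (Fin (n + 1)) B))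
        (MvPolynomial.finSuccEquiv B n).symm.bijective)
    rw [add_zero] at h
    convert h using 1
    refine RingHom.ext fun r => ?_
    exact ((MvPolynomial.finSuccEquiv B n).symm.commutes r).symm

/-- Smooth maps of relative dimension `n` and localisations of source and target. -/
theorem ampUp_localization {A B A' B' : Type u} [CommRing A] [CommRing B] [CommRing A'] [CommRing B']
    [Algebra A A'] [Algebra B B'] (M : Submonoid A) [IsLocalization M A'] (N : Submonoid B) [IsLocalization N B']
    {φ : A →+* B} {n : ℕ} (hφ : φ.IsStandardSmoothOfRelativeDimension n) (φ' : A' →+* B')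
    (hw : φ'.comp (algebraMap A A') = (algebraMap B B').comp φ) : AmpUp φ' n := by
  obtain ⟨g, hg, het⟩ := RingHom.IsStandardSmoothOfRelativeDimension.exists_etale_mvPolynomial hφ
  letI : Algebra (MvPolynomial (Fin n) A) (MvPolynomial (Fin n) A') := MvPolynomial.algebraMvPolynomial
  haveI : IsLocalization (M.map (MvPolynomial.C (σ := Fin n))) (MvPolynomial (Fin n) A') :=
    MvPolynomial.isLocalization M A'
  haveI : Algebra.WeaklyEtale (MvPolynomial (Fin n) A) (MvPolynomial (Fin n) A') :=
    Groth.FlatMor2.weaklyEtale_localization (M.map (MvPolynomial.C (σ := Fin n)))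
  let ψ : MvPolynomial (Fin n) A' →+* B' :=
    MvPolynomial.eval₂Hom φ' fun i => algebraMap B B' (g (MvPolynomial.X i))
  letI : Algebra (MvPolynomial (Fin n) A) B := g.toAlgebra
  letI : Algebra (MvPolynomial (Fin n) A) B' := ((algebraMap B B').comp g).toAlgebra
  letI : Algebra (MvPolynomial (Fin n) A') B' := ψ.toAlgebra
  haveI : IsScalarTower (MvPolynomial (Fin n) A) B B' := IsScalarTower.of_algebraMap_eq fun _ => rfl
  haveI : Algebra.Etale (MvPolynomial (Fin n) A) B := het
  haveI : Algebra.WeaklyEtale B B' := Groth.FlatMor2.weaklyEtale_localization N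
  haveI : Algebra.WeaklyEtale (MvPolynomial (Fin n) A) B' := Algebra.WeaklyEtale.trans _ B B'
  haveI : IsScalarTower (MvPolynomial (Fin n) A) (MvPolynomial (Fin n) A') B' := by
    refine IsScalarTower.of_algebraMap_eq' (MvPolynomial.ringHom_ext (fun r => ?_) fun i => ?_)
    · show algebraMap B B' (g (MvPolynomial.C r)) = ψ (MvPolynomial.map (algebraMap A A') (MvPolynomial.C r))
      rw [MvPolynomial.map_C, MvPolynomial.eval₂Hom_C, show g (MvPolynomial.C r) = φ r from congr($hg r)]
      exact (congr($hw r)).symm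
    · show algebraMap B B' (g (MvPolynomial.X i)) = ψ (MvPolynomial.map (algebraMap A A') (MvPolynomial.X i))
      rw [MvPolynomial.map_X, MvPolynomial.eval₂Hom_X']
  haveI : Algebra.WeaklyEtale (MvPolynomial (Fin n) A') B' :=
    Groth.EtaleAlgebra.weaklyEtale_of_tower (MvPolynomial (Fin n) A) (MvPolynomial (Fin n) A') B'
  have h := (ampUp_mvPolynomial n A').comp (ampUp_of_weaklyEtale (A := MvPolynomial (Fin n) A') (B := B'))
  rw [add_zero] at h
  convert h using 1
  exact RingHom.ext fun r => (MvPolynomial.eval₂Hom_C _ _ r).symm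

end Groth.DAlg.SmoothAmp
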