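import Groth.Agent.DAlg.Nilpotent
import Mathlib.Algebra.Module.Torsion.Basic
import Mathlib.RingTheory.Localization.BaseChange

/-!
Tor amplitude from `R_f` and `R/f`.
-/

universe u

open CategoryTheory CategoryTheory.Limits CategoryTheory.Pretriangulated HomologicalComplex MonoidalCategory
open scoped TensorProduct

attribute [local instance] HasDerivedCategory.standard
set_option linter.style.haveILetI false

namespace Groth.DAlg

open FlatCxBase

variable {R : Type u} [CommRing R]

/-- Tor amplitude after base change kills the cohomology of `P ⊗ M` for modules over the larger ring. -/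
lemma isZero_tensor_of_baseChange {S : Type u} [CommRing S] (φ : R →+* S) [DRing.HasLBaseChange φ]
    (P : DRing.Cx R) [P.IsKProjective] {a b : ℤ}
    (h : DRing.HasTorAmplitudeIn S a b ((DRing.LBaseChange φ).obj (DRing.toD P)))
    (M : Type u) [AddCommGroup M] [Module R M] [Module S M]
    (hM : ∀ (r : R) (x : M), φ r • x = r • x) (j : ℤ) (hj : j < a ∨ b < j) :
    IsZero ((DRing.tensorCx P (ModuleCat.of R M)).homology j) := by
  algebraize [φ]
  haveI : IsScalarTower R S M := IsScalarTower.of_algebraMap_smul hM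
  haveI : ∀ M : ModuleCat.{u} S, DRing.HasLTensor S M := hasLTensor
  haveI := isKProjective_extCx (algebraMap R S) P
  have h1 := (hasTorAmplitudeIn_iff _ a b).1 (TorAmp.of_iso h (lBaseChangeIso φ P)) (ModuleCat.of S M) j hj
  exact (isZero_extCx_tensor_iff P M j).1 (isZero_homology_of_subsingleton
    (HDCongr (lTensorIso (ModuleCat.of S M) (extCx (algebraMap R S) P)) j).symm.toEquiv.subsingleton)

variable (P : DRing.Cx R) [∀ i, Module.Flat R (P.X i)] (j : ℤ)

/-- Cohomology of `P ⊗ -` commutes with exhaustive filtrations. -/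
lemma isZero_tensor_of_exhaustive {T : Type u} [AddCommGroup T] [Module R T] (Tk : ℕ → Submodule R T)
    (hmono : Monotone Tk) (hex : ∀ x : T, ∃ k, x ∈ Tk k)
    (h : ∀ k, IsZero ((DRing.tensorCx P (ModuleCat.of R (Tk k))).homology j)) :
    IsZero ((DRing.tensorCx P (ModuleCat.of R T)).homology j) := by
  have key : ∀ x : P.X j ⊗[R] T, ∃ k, x ∈ LinearMap.range ((Tk k).subtype.lTensor (P.X j)) := by
    intro x
    induction x with
    | zero => exact ⟨0, zero_mem _⟩
    | tmul p t =>
      obtain ⟨k, hk⟩ := hex t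
      exact ⟨k, p ⊗ₜ ⟨t, hk⟩, rfl⟩
    | add x y hx hy =>
      obtain ⟨k, hk⟩ := hx
      obtain ⟨l, hl⟩ := hy
      have hle : ∀ {m n : ℕ}, m ≤ n → LinearMap.range ((Tk m).subtype.lTensor (P.X j)) ≤
          LinearMap.range ((Tk n).subtype.lTensor (P.X j)) := fun {m n} hmn => by
        rw [← Submodule.subtype_comp_inclusion _ _ (hmono hmn), LinearMap.lTensor_comp]
        exact LinearMap.range_comp_le_range _ _
      exact ⟨max k l, add_mem (hle (le_max_left k l) hk) (hle (le_max_right k l) hl)⟩
  refine (isZero_T_iff P (cochain_prev j) (cochain_next j) _).2 fun x hx => ?_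
  obtain ⟨k, y, rfl⟩ := key x
  obtain ⟨w, hw⟩ := (isZero_T_iff P (cochain_prev j) (cochain_next j) _).1 (h k) y (by
    show (P.d j (j + 1)).hom.rTensor (Tk k) _ = 0
    apply Module.Flat.lTensor_preserves_injective_linearMap (M := P.X (j + 1)) _ (Tk k).injective_subtype
    rw [map_zero, lTensor_rTensor]
    exact hx)
  refine ⟨(Tk k).subtype.lTensor _ w, ?_⟩
  show (P.d (j - 1) j).hom.rTensor T _ = _
  rw [← lTensor_rTensor]
  exact congrArg _ hw

lemma isZero_tensor_of_pow_killed (f : R)
    (h : ∀ (M : Type u) [AddCommGroup M] [Module R M], (∀ x : M, f • x = 0) →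
      IsZero ((DRing.tensorCx P (ModuleCat.of R M)).homology j)) :
    ∀ (k : ℕ) (M : Type u) [AddCommGroup M] [Module R M], (∀ x : M, f ^ k • x = 0) →
      IsZero ((DRing.tensorCx P (ModuleCat.of R M)).homology j) := by
  intro k
  induction k with
  | zero =>
    intro M _ _ hM
    have : Subsingleton M := subsingleton_of_forall_eq 0 fun x => by simpa using hM x
    exact isZero_tensor_of_subsingleton P j M
  | succ k ih =>
    intro M _ _ hM
    let N : Submodule R M := LinearMap.range (LinearMap.lsmul R M f)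
    refine isZero_tensor_ext P j N.subtype N.mkQ N.injective_subtype (LinearMap.exact_subtype_mkQ N)
      N.mkQ_surjective (ih N ?_) (h _ ?_)
    · rintro ⟨_, x, rfl⟩
      refine Subtype.ext ?_
      show f ^ k • f • x = 0
      rw [← mul_smul, ← pow_succ]
      exact hM x
    · intro q
      obtain ⟨x, rfl⟩ := N.mkQ_surjective q
      rw [← map_smul]
      exact (Submodule.Quotient.mk_eq_zero N).2 ⟨x, rfl⟩

lemma isZero_tensor_of_powTorsion (f : R)
    (h : ∀ (M : Type u) [AddCommGroup M] [Module R M], (∀ x : M, f • x = 0) →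
      IsZero ((DRing.tensorCx P (ModuleCat.of R M)).homology j))
    (T : Type u) [AddCommGroup T] [Module R T] (hT : ∀ x : T, ∃ k : ℕ, f ^ k • x = 0) :
    IsZero ((DRing.tensorCx P (ModuleCat.of R T)).homology j) :=
  isZero_tensor_of_exhaustive P j (fun k => LinearMap.ker (LinearMap.lsmul R T (f ^ k)))
    (fun m n hmn x hx => by
      obtain ⟨d, rfl⟩ := Nat.exists_eq_add_of_le hmn
      rw [LinearMap.mem_ker, LinearMap.lsmul_apply] at hx ⊢
      rw [add_comm, pow_add, mul_smul, hx, smul_zero])
    hT fun k => isZero_tensor_of_pow_killed P j f h k _ fun x => Subtype.ext x.2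

lemma isZero_tensor_left {N M Q : Type u} [AddCommGroup N] [Module R N]
    [AddCommGroup M] [Module R M] [AddCommGroup Q] [Module R Q] (f : N →ₗ[R] M) (g : M →ₗ[R] Q)
    (hf : Function.Injective f) (hex : Function.Exact f g) (hg : Function.Surjective g)
    (hM : IsZero ((DRing.tensorCx P (ModuleCat.of R M)).homology j))
    (hQ : IsZero ((DRing.tensorCx P (ModuleCat.of R Q)).homology (j - 1))) :
    IsZero ((DRing.tensorCx P (ModuleCat.of R N)).homology j) := by
  refine (isZero_T_iff P (cochain_prev j) (cochain_next j) _).2 fun x hx => ?_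
  obtain ⟨y, hy⟩ := (isZero_T_iff P (cochain_prev j) (cochain_next j) _).1 hM (f.lTensor (P.X j) x) (by
    show (P.d j (j + 1)).hom.rTensor M _ = 0
    rw [← lTensor_rTensor]
    exact (congrArg _ hx).trans (map_zero _))
  obtain ⟨z', hz'⟩ := (isZero_T_iff P (cochain_prev (j - 1))
    ((ComplexShape.up ℤ).next_eq' (show j - 1 + 1 = j by omega)) _).1 hQ (g.lTensor (P.X (j - 1)) y) (by
    show (P.d (j - 1) j).hom.rTensor Q _ = 0
    rw [← lTensor_rTensor]
    exact (congrArg _ hy).trans ((lTensor_exact (P.X j) hex hg).apply_apply_eq_zero x))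
  obtain ⟨z, rfl⟩ := LinearMap.lTensor_surjective (P.X (j - 1 - 1)) hg z'
  have h1 : g.lTensor (P.X (j - 1)) (y - (P.d (j - 1 - 1) (j - 1)).hom.rTensor M z) = 0 := by
    rw [map_sub, lTensor_rTensor, sub_eq_zero]
    exact hz'.symm
  obtain ⟨w, hw⟩ := (lTensor_exact (P.X (j - 1)) hex hg _).1 h1
  refine ⟨w, ?_⟩
  show (P.d (j - 1) j).hom.rTensor N w = x
  apply Module.Flat.lTensor_preserves_injective_linearMap (M := P.X j) f hf
  rw [lTensor_rTensor, hw, map_sub, rTensor_d_d, sub_zero]
  exact hy

/-- If the cohomology of `P ⊗ M` vanishes in degrees `j - 1, j` for modules killed by `f`, and in degree `j` for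
`N_f`, then in degree `j` for `N`. -/
theorem isZero_tensor_of_away (f : R)
    (h₀ : ∀ (i : ℤ), i ≤ j → ∀ (M : Type u) [AddCommGroup M] [Module R M], (∀ x : M, f • x = 0) →
      IsZero ((DRing.tensorCx P (ModuleCat.of R M)).homology i))
    (N : Type u) [AddCommGroup N] [Module R N]
    (h₁ : IsZero ((DRing.tensorCx P (ModuleCat.of R (Localization.Away f ⊗[R] N))).homology j)) :
    IsZero ((DRing.tensorCx P (ModuleCat.of R N)).homology j) := by
  let ι := TensorProduct.mk R (Localization.Away f) N 1
  let T := LinearMap.ker ι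
  let Im := LinearMap.range ι
  refine isZero_tensor_ext (N := ↥T) (Q := ↥Im) P j T.subtype ι.rangeRestrict T.injective_subtype ?_
    ι.surjective_rangeRestrict ?_ ?_
  · rw [LinearMap.exact_iff, LinearMap.ker_rangeRestrict, Submodule.range_subtype]
  · exact isZero_tensor_of_powTorsion P j f (h₀ j le_rfl) T fun x => by
      obtain ⟨⟨_, n, rfl⟩, hn⟩ := (IsLocalizedModule.eq_zero_iff (Submonoid.powers f) ι).1 x.2
      exact ⟨n, Subtype.ext (by simpa [Submonoid.smul_def] using hn)⟩
  · refine isZero_tensor_left P j Im.subtype Im.mkQ Im.injective_subtype (LinearMap.exact_subtype_mkQ Im)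
      Im.mkQ_surjective h₁ (isZero_tensor_of_powTorsion P (j - 1) f (h₀ (j - 1) (by omega)) _ fun q => ?_)
    obtain ⟨y, rfl⟩ := Im.mkQ_surjective q
    obtain ⟨⟨z, _, n, rfl⟩, hz⟩ := IsLocalizedModule.surj (Submonoid.powers f) ι y
    refine ⟨n, ?_⟩
    rw [← map_smul]
    exact (Submodule.Quotient.mk_eq_zero Im).2 ⟨z, hz.symm⟩

end Groth.DAlg
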