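import Groth.Prelude.Def_DRing2
import Groth.Agent.FlatCxBase.Core
import Mathlib.Algebra.Homology.DerivedCategory.Fractions
import Mathlib.Algebra.Homology.DerivedCategory.TStructure
import Mathlib.Algebra.Homology.DerivedCategory.Linear
import Mathlib.Algebra.Homology.Double
import Mathlib.Algebra.Category.ModuleCat.Projective

/-!
Morphisms in `D(R)` from complexes in degrees `≤ 0` with projective degree zero term to complexes in degrees `≥ -1`.
-/

universe u

open CategoryTheory CategoryTheory.Limits HomologicalComplex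

attribute [local instance] HasDerivedCategory.standard

namespace Groth.DAlg

variable {R : Type u} [CommRing R]

section Chain

variable {M K : DRing.Cx R}

lemma eq_zero_of_src {n : ℤ} {N : ModuleCat.{u} R} (h : IsZero (M.X n)) (f : M.X n ⟶ N) : f = 0 :=
  h.eq_of_src _ _

lemma eq_zero_of_tgt {n : ℤ} {N : ModuleCat.{u} R} (h : IsZero (K.X n)) (f : N ⟶ K.X n) : f = 0 :=
  h.eq_of_tgt _ _

/-- The only possibly nonzero component of a homotopy from a complex in degrees `≤ 0` to one in degrees `≥ -1`. -/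
noncomputable def homComponent (h : M.X 0 ⟶ K.X (-1)) (i j : ℤ) : M.X i ⟶ K.X j :=
  if hi : i = 0 then if hj : j = -1 then (M.XIsoOfEq hi).hom ≫ h ≫ (K.XIsoOfEq hj.symm).hom else 0 else 0

lemma homComponent_self (h : M.X 0 ⟶ K.X (-1)) : homComponent h 0 (-1) = h := by
  simp [homComponent]

variable (hM : ∀ i : ℤ, 0 < i → IsZero (M.X i)) (hK : ∀ i : ℤ, i ≤ -2 → IsZero (K.X i))
include hM hK

lemma nonempty_homotopy_iff (φ φ' : M ⟶ K) :
    Nonempty (Homotopy φ φ') ↔ ∃ h : M.X 0 ⟶ K.X (-1),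
      φ.f (-1) = φ'.f (-1) + M.d (-1) 0 ≫ h ∧ φ.f 0 = φ'.f 0 + h ≫ K.d (-1) 0 := by
  constructor
  · rintro ⟨H⟩
    refine ⟨H.hom 0 (-1), ?_, ?_⟩
    · have e := H.comm (-1)
      rw [dNext_eq H.hom (show (ComplexShape.up ℤ).Rel (-1) 0 by simp),
        prevD_eq H.hom (show (ComplexShape.up ℤ).Rel (-2) (-1) by simp),
        eq_zero_of_tgt (hK (-2) le_rfl) (H.hom (-1) (-2)), zero_comp, add_zero] at e
      rw [e, add_comm]
    · have e := H.comm 0
      rw [dNext_eq H.hom (show (ComplexShape.up ℤ).Rel 0 1 by simp),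
        prevD_eq H.hom (show (ComplexShape.up ℤ).Rel (-1) 0 by simp),
        eq_zero_of_src (hM 1 one_pos) (H.hom 1 0), comp_zero, zero_add] at e
      rw [e, add_comm]
  · rintro ⟨h, e1, e0⟩
    refine ⟨{ hom := homComponent h, zero := fun i j hij => ?_, comm := fun i => ?_ }⟩
    · unfold homComponent
      split_ifs with hi hj
      · subst hi hj
        exact absurd (show (-1 : ℤ) + 1 = 0 by omega) hij
      · rfl
      · rfl
    · rcases lt_trichotomy i (-1) with hi | rfl | hi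
      · exact (hK i (by omega)).eq_of_tgt _ _
      · rw [dNext_eq (homComponent h) (show (ComplexShape.up ℤ).Rel (-1) 0 by simp),
          prevD_eq (homComponent h) (show (ComplexShape.up ℤ).Rel (-2) (-1) by simp),
          homComponent_self, eq_zero_of_tgt (hK (-2) le_rfl) (homComponent h (-1) (-2)), zero_comp, add_zero,
          e1, add_comm]
      · obtain rfl | hi' := (show i = 0 ∨ 0 < i by omega)
        · rw [dNext_eq (homComponent h) (show (ComplexShape.up ℤ).Rel 0 1 by simp),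
            prevD_eq (homComponent h) (show (ComplexShape.up ℤ).Rel (-1) 0 by simp),
            homComponent_self, eq_zero_of_src (hM 1 one_pos) (homComponent h 1 0), comp_zero, zero_add,
            e0, add_comm]
        · exact (hM i hi').eq_of_src _ _

/-- A chain map from its components in degrees `-1` and `0`. -/
noncomputable def homOfTwo (u : M.X (-1) ⟶ K.X (-1)) (v : M.X 0 ⟶ K.X 0)
    (h₂ : M.d (-2) (-1) ≫ u = 0) (h₁ : u ≫ K.d (-1) 0 = M.d (-1) 0 ≫ v)
    (h₀ : v ≫ K.d 0 1 = 0) : M ⟶ K where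
  f i := if hi : i = -1 then (M.XIsoOfEq hi).hom ≫ u ≫ (K.XIsoOfEq hi.symm).hom
    else if hi' : i = 0 then (M.XIsoOfEq hi').hom ≫ v ≫ (K.XIsoOfEq hi'.symm).hom else 0
  comm' i j hij := by
    change i + 1 = j at hij
    subst hij
    rcases lt_trichotomy i (-2) with hi | rfl | hi
    · exact (hK (i + 1) (by omega)).eq_of_tgt _ _
    · simp [h₂]
    · obtain rfl | rfl | hi' := (show i = -1 ∨ i = 0 ∨ 0 < i by omega)
      · simp [h₁]
      · simp [h₀]
      · exact (hM i hi').eq_of_src _ _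

lemma homOfTwo_f_neg_one {u : M.X (-1) ⟶ K.X (-1)} {v : M.X 0 ⟶ K.X 0}
    (h₂ : M.d (-2) (-1) ≫ u = 0) (h₁ : u ≫ K.d (-1) 0 = M.d (-1) 0 ≫ v) (h₀ : v ≫ K.d 0 1 = 0) :
    (homOfTwo hM hK u v h₂ h₁ h₀).f (-1) = u := by simp [homOfTwo]

lemma homOfTwo_f_zero {u : M.X (-1) ⟶ K.X (-1)} {v : M.X 0 ⟶ K.X 0}
    (h₂ : M.d (-2) (-1) ≫ u = 0) (h₁ : u ≫ K.d (-1) 0 = M.d (-1) 0 ≫ v) (h₀ : v ≫ K.d 0 1 = 0) :
    (homOfTwo hM hK u v h₂ h₁ h₀).f 0 = v := by simp [homOfTwo]

end Chain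

section Roof

variable {M K K' : DRing.Cx R} (hK : ∀ i : ℤ, i ≤ -2 → IsZero (K.X i))
  (hK' : ∀ i : ℤ, i ≤ -2 → IsZero (K'.X i)) (s : K ⟶ K') [QuasiIso s]

omit hK hK' in
lemma injective_homologyMap (j : ℤ) : Function.Injective (homologyMap s j) :=
  (ConcreteCategory.isIso_iff_bijective _).1 inferInstance |>.1

omit hK hK' in
lemma surjective_homologyMap (j : ℤ) : Function.Surjective (homologyMap s j) :=
  (ConcreteCategory.isIso_iff_bijective _).1 inferInstance |>.2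

omit hK' in
include hK in
lemma cycle_eq_zero (x : K.X (-1)) (hx : K.d (-1) 0 x = 0) (hs : s.f (-1) x = 0) : x = 0 := by
  obtain ⟨w, hw⟩ := (FlatCxBase.homologyMap_injective_iff s (i := -2) (k := 0)
    ((ComplexShape.up ℤ).prev_eq' (by simp)) ((ComplexShape.up ℤ).next_eq' (by simp))).1
    (injective_homologyMap s (-1)) x hx ⟨0, by simp [hs]⟩
  have := ModuleCat.subsingleton_of_isZero (hK (-2) le_rfl)
  rw [← hw, Subsingleton.elim w 0, map_zero]

include hK' in
omit hK in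
lemma exists_cycle (y : K'.X (-1)) (hy : K'.d (-1) 0 y = 0) :
    ∃ x, K.d (-1) 0 x = 0 ∧ s.f (-1) x = y := by
  obtain ⟨x, w, hx, hxw⟩ := (FlatCxBase.homologyMap_surjective_iff s (i := -2) (k := 0)
    ((ComplexShape.up ℤ).prev_eq' (by simp)) ((ComplexShape.up ℤ).next_eq' (by simp))).1
    (surjective_homologyMap s (-1)) y hy
  have := ModuleCat.subsingleton_of_isZero (hK' (-2) le_rfl)
  rw [Subsingleton.elim w 0, map_zero, add_zero] at hxw
  exact ⟨x, hx, hxw⟩

omit hK hK' in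
lemma exists_boundary (b : K.X 0) (hb : K.d 0 1 b = 0) (a : K'.X (-1)) (ha : K'.d (-1) 0 a = s.f 0 b) :
    ∃ x, K.d (-1) 0 x = b :=
  (FlatCxBase.homologyMap_injective_iff s (i := -1) (k := 1)
    ((ComplexShape.up ℤ).prev_eq' (by simp)) ((ComplexShape.up ℤ).next_eq' (by simp))).1
    (injective_homologyMap s 0) b hb ⟨a, ha⟩

omit hK hK' in
lemma exists_decomp (y : K'.X 0) (hy : K'.d 0 1 y = 0) :
    ∃ b a, K.d 0 1 b = 0 ∧ s.f 0 b + K'.d (-1) 0 a = y :=
  (FlatCxBase.homologyMap_surjective_iff s (i := -1) (k := 1)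
    ((ComplexShape.up ℤ).prev_eq' (by simp)) ((ComplexShape.up ℤ).next_eq' (by simp))).1
    (surjective_homologyMap s 0) y hy

omit hK hK' in
lemma comm_apply {A B : DRing.Cx R} (t : A ⟶ B) (i j : ℤ) (x : A.X i) :
    B.d i j (t.f i x) = t.f j (A.d i j x) :=
  ConcreteCategory.congr_hom (t.comm i j) x

variable (hM : ∀ i : ℤ, 0 < i → IsZero (M.X i)) (hM0 : Module.Projective R (M.X 0))
include hM hM0 hK hK'

lemma homotopy_zero_of_comp (φ : M ⟶ K) (H : Homotopy (φ ≫ s) 0) : Nonempty (Homotopy φ 0) := by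
  obtain ⟨h', e1, e0⟩ := (nonempty_homotopy_iff hM hK' _ _).1 ⟨H⟩
  simp only [HomologicalComplex.zero_f, zero_add, comp_f] at e1 e0
  have e1' : ∀ m, s.f (-1) (φ.f (-1) m) = h' (M.d (-1) 0 m) := ConcreteCategory.congr_hom e1
  have e0' : ∀ m, s.f 0 (φ.f 0 m) = K'.d (-1) 0 (h' m) := ConcreteCategory.congr_hom e0
  have hv : ∀ m, φ.f 0 m ∈ LinearMap.range (K.d (-1) 0).hom := fun m =>
    exists_boundary s _ ((comm_apply φ 0 1 m).trans (by
      have := ModuleCat.subsingleton_of_isZero (hM 1 one_pos)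
      rw [Subsingleton.elim (M.d 0 1 m) 0, map_zero])) (h' m) (e0' m).symm
  obtain ⟨g, hg⟩ := Module.projective_lifting_property (K.d (-1) 0).hom.rangeRestrict
    ((φ.f 0).hom.codRestrict _ hv) (LinearMap.surjective_rangeRestrict _)
  have hg' : ∀ m, K.d (-1) 0 (g m) = φ.f 0 m := fun m => congrArg Subtype.val (LinearMap.congr_fun hg m)
  let h'' : M.X 0 →ₗ[R] K'.X (-1) := h'.hom - (s.f (-1)).hom ∘ₗ g
  have hh'' : ∀ m, h'' m ∈ LinearMap.ker (K'.d (-1) 0).hom := fun m => by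
    show K'.d (-1) 0 (h' m - s.f (-1) (g m)) = 0
    rw [map_sub, comm_apply, hg', e0', sub_self]
  let sk : LinearMap.ker (K.d (-1) 0).hom →ₗ[R] LinearMap.ker (K'.d (-1) 0).hom :=
    (s.f (-1)).hom.restrict fun x hx => by
      show K'.d (-1) 0 (s.f (-1) x) = 0
      rw [comm_apply, show K.d (-1) 0 x = 0 from hx, map_zero]
  have hsk : Function.Bijective sk := by
    refine ⟨(injective_iff_map_eq_zero _).2 fun x hx =>
      Subtype.ext (cycle_eq_zero hK s x.1 x.2 (congrArg Subtype.val hx)), fun y => ?_⟩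
    obtain ⟨x, hx, hxy⟩ := exists_cycle hK' s y.1 y.2
    exact ⟨⟨x, hx⟩, Subtype.ext hxy⟩
  let h0 : M.X 0 →ₗ[R] LinearMap.ker (K.d (-1) 0).hom :=
    (LinearEquiv.ofBijective sk hsk).symm.toLinearMap ∘ₗ h''.codRestrict _ hh''
  have hh0 : ∀ m, s.f (-1) (h0 m).1 = h' m - s.f (-1) (g m) := fun m =>
    congrArg Subtype.val ((LinearEquiv.ofBijective sk hsk).apply_symm_apply (h''.codRestrict _ hh'' m))
  refine (nonempty_homotopy_iff hM hK φ 0).2
    ⟨ModuleCat.ofHom (g + (LinearMap.ker (K.d (-1) 0).hom).subtype ∘ₗ h0), ?_, ?_⟩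
  · refine ModuleCat.hom_ext (LinearMap.ext fun m => ?_)
    simp only [HomologicalComplex.zero_f, zero_add]
    show φ.f (-1) m = g (M.d (-1) 0 m) + (h0 (M.d (-1) 0 m)).1
    rw [← sub_eq_zero]
    refine cycle_eq_zero hK s _ ?_ ?_
    · rw [map_sub, map_add, comm_apply, hg', show K.d (-1) 0 (h0 (M.d (-1) 0 m)).1 = 0 from (h0 _).2,
        add_zero, sub_self]
    · rw [map_sub, map_add, hh0, e1', add_sub_cancel, sub_self]
  · refine ModuleCat.hom_ext (LinearMap.ext fun m => ?_)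
    simp only [HomologicalComplex.zero_f, zero_add]
    show φ.f 0 m = K.d (-1) 0 (g m + (h0 m).1)
    rw [map_add, hg', show K.d (-1) 0 (h0 m).1 = 0 from (h0 _).2, add_zero]

lemma exists_lift (g : M ⟶ K') : ∃ φ : M ⟶ K, Nonempty (Homotopy (φ ≫ s) g) := by
  have hg0 : ∀ m, g.f 0 m ∈ LinearMap.ker (K'.d 0 1).hom := fun m => (comm_apply g 0 1 m).trans (by
    have := ModuleCat.subsingleton_of_isZero (hM 1 one_pos)
    rw [Subsingleton.elim (M.d 0 1 m) 0, map_zero])
  let Φ : LinearMap.ker (K.d 0 1).hom × K'.X (-1) →ₗ[R] LinearMap.ker (K'.d 0 1).hom :=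
    (((s.f 0).hom ∘ₗ (LinearMap.ker (K.d 0 1).hom).subtype).coprod (K'.d (-1) 0).hom).codRestrict _
      fun p => by
        show K'.d 0 1 (s.f 0 p.1.1 + K'.d (-1) 0 p.2) = 0
        rw [map_add, comm_apply, show K.d 0 1 p.1.1 = 0 from p.1.2, map_zero, zero_add]
        exact ConcreteCategory.congr_hom (K'.d_comp_d (-1) 0 1) p.2
  have hΦ : Function.Surjective Φ := fun y => by
    obtain ⟨b, a, hb, hab⟩ := exists_decomp s y.1 y.2
    exact ⟨(⟨b, hb⟩, a), Subtype.ext hab⟩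
  obtain ⟨l, hl⟩ := Module.projective_lifting_property Φ ((g.f 0).hom.codRestrict _ hg0) hΦ
  let v : M.X 0 →ₗ[R] K.X 0 := (LinearMap.ker (K.d 0 1).hom).subtype ∘ₗ LinearMap.fst R _ _ ∘ₗ l
  let h : M.X 0 →ₗ[R] K'.X (-1) := LinearMap.snd R _ _ ∘ₗ l
  have hvh : ∀ m, s.f 0 (v m) + K'.d (-1) 0 (h m) = g.f 0 m := fun m =>
    congrArg Subtype.val (LinearMap.congr_fun hl m)
  have hv : ∀ m, K.d 0 1 (v m) = 0 := fun m => (l m).1.2
  let Ψ : K.X (-1) →ₗ[R] K'.X (-1) × K.X 0 := (s.f (-1)).hom.prod (K.d (-1) 0).hom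
  have hΨ : Function.Injective Ψ := (injective_iff_map_eq_zero _).2 fun x hx =>
    cycle_eq_zero hK s x (congrArg Prod.snd hx) (congrArg Prod.fst hx)
  let T : M.X (-1) →ₗ[R] K'.X (-1) × K.X 0 :=
    ((g.f (-1)).hom - h ∘ₗ (M.d (-1) 0).hom).prod (v ∘ₗ (M.d (-1) 0).hom)
  have hT : ∀ m, T m ∈ LinearMap.range Ψ := fun m => by
    have ha : K'.d (-1) 0 (g.f (-1) m - h (M.d (-1) 0 m)) = s.f 0 (v (M.d (-1) 0 m)) := by
      rw [map_sub, comm_apply, ← hvh, add_sub_cancel_right]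
    obtain ⟨x0, hx0⟩ := exists_boundary s _ (hv (M.d (-1) 0 m)) _ ha
    obtain ⟨x1, hx1, hx1'⟩ := exists_cycle hK' s (g.f (-1) m - h (M.d (-1) 0 m) - s.f (-1) x0)
      (by rw [map_sub, ha, comm_apply, hx0, sub_self])
    refine ⟨x0 + x1, Prod.ext ?_ ?_⟩
    · show s.f (-1) (x0 + x1) = g.f (-1) m - h (M.d (-1) 0 m)
      rw [map_add, hx1', add_sub_cancel]
    · show K.d (-1) 0 (x0 + x1) = v (M.d (-1) 0 m)
      rw [map_add, hx1, add_zero, hx0]
  let uu : M.X (-1) →ₗ[R] K.X (-1) :=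
    (LinearEquiv.ofInjective Ψ hΨ).symm.toLinearMap ∘ₗ T.codRestrict _ hT
  have huu : ∀ m, Ψ (uu m) = T m := fun m =>
    congrArg Subtype.val ((LinearEquiv.ofInjective Ψ hΨ).apply_symm_apply (T.codRestrict _ hT m))
  have h₂ : M.d (-2) (-1) ≫ ModuleCat.ofHom uu = 0 := by
    refine ModuleCat.hom_ext (LinearMap.ext fun z => hΨ ?_)
    show Ψ (uu (M.d (-2) (-1) z)) = Ψ 0
    rw [huu, map_zero]
    have hdd : M.d (-1) 0 (M.d (-2) (-1) z) = 0 := ConcreteCategory.congr_hom (M.d_comp_d (-2) (-1) 0) z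
    show (g.f (-1) (M.d (-2) (-1) z) - h (M.d (-1) 0 (M.d (-2) (-1) z)), v (M.d (-1) 0 (M.d (-2) (-1) z))) = 0
    have := ModuleCat.subsingleton_of_isZero (hK' (-2) le_rfl)
    rw [hdd, map_zero, map_zero, sub_zero, ← comm_apply, Subsingleton.elim (g.f (-2) z) 0, map_zero]
    rfl
  let φ : M ⟶ K := homOfTwo hM hK (ModuleCat.ofHom uu) (ModuleCat.ofHom v) h₂
    (ModuleCat.hom_ext (LinearMap.ext fun m => congrArg Prod.snd (huu m)))
    (ModuleCat.hom_ext (LinearMap.ext hv))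
  refine ⟨φ, (nonempty_homotopy_iff hM hK' _ _).2 ⟨-ModuleCat.ofHom h, ?_, ?_⟩⟩
  · rw [comp_f, homOfTwo_f_neg_one]
    refine ModuleCat.hom_ext (LinearMap.ext fun m => ?_)
    show s.f (-1) (uu m) = g.f (-1) m + -h (M.d (-1) 0 m)
    rw [← sub_eq_add_neg]
    exact congrArg Prod.fst (huu m)
  · rw [comp_f, homOfTwo_f_zero]
    refine ModuleCat.hom_ext (LinearMap.ext fun m => ?_)
    show s.f 0 (v m) = g.f 0 m + K'.d (-1) 0 (-h m)
    rw [map_neg, ← sub_eq_add_neg, ← hvh, add_sub_cancel_right]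

end Roof

section Derived

lemma isStrictlyGE_neg_one_of {K : DRing.Cx R} (hK : ∀ i : ℤ, i ≤ -2 → IsZero (K.X i)) :
    K.IsStrictlyGE (-1) :=
  (CochainComplex.isStrictlyGE_iff K (-1)).2 fun i hi => hK i (by omega)

variable {M K : DRing.Cx R} (hM : ∀ i : ℤ, 0 < i → IsZero (M.X i)) (hM0 : Module.Projective R (M.X 0))
  (hK : ∀ i : ℤ, i ≤ -2 → IsZero (K.X i))
include hM hM0 hK

/-- Every morphism in the derived category is represented by a chain map. -/
theorem exists_Q_map_eq (ψ : DRing.toD M ⟶ DRing.toD K) :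
    ∃ φ : M ⟶ K, DerivedCategory.Q.map φ = ψ := by
  have := isStrictlyGE_neg_one_of hK
  obtain ⟨K', _, g, s, hs, rfl⟩ := DerivedCategory.left_fac_of_isStrictlyGE ψ (-1)
  have := (DerivedCategory.isIso_Q_map_iff_quasiIso _ _).1 hs
  have hK' : ∀ i : ℤ, i ≤ -2 → IsZero (K'.X i) := fun i hi =>
    K'.isZero_of_isStrictlyGE (-1) i (by omega)
  obtain ⟨φ, ⟨H⟩⟩ := exists_lift hK hK' s hM hM0 g
  refine ⟨φ, ?_⟩
  rw [IsIso.eq_comp_inv, ← Functor.map_comp, DerivedCategory.Q_map_eq_of_homotopy _ H]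

theorem nonempty_homotopy_of_Q_map_eq_zero (φ : M ⟶ K) (h : DerivedCategory.Q.map φ = 0) :
    Nonempty (Homotopy φ 0) := by
  have h0 : DerivedCategory.Qh.map ((HomotopyCategory.quotient _ _).map φ) =
      DerivedCategory.Qh.map ((HomotopyCategory.quotient _ _).map (0 : M ⟶ K)) := by
    have := DerivedCategory.quotientCompQhIso_hom_naturality φ
    rw [h, comp_zero] at this
    rw [Functor.map_zero, Functor.map_zero, ← cancel_mono ((DerivedCategory.quotientCompQhIso _).hom.app K),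
      this, zero_comp]
  obtain ⟨Z, s, hs, hφ⟩ := (MorphismProperty.map_eq_iff_postcomp DerivedCategory.Qh
    (HomotopyCategory.quasiIso _ _) _ _).1 h0
  obtain ⟨K', rfl⟩ := HomotopyCategory.quotient_obj_surjective Z
  obtain ⟨s, rfl⟩ := (HomotopyCategory.quotient _ _).map_surjective s
  have : QuasiIso s := (HomotopyCategory.quotient_map_mem_quasiIso_iff _).1 hs
  have := isStrictlyGE_neg_one_of hK
  have hge : CochainComplex.IsGE K' (-1) := (CochainComplex.isGE_iff K' (-1)).2 fun i hi =>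
    (exactAt_iff_of_quasiIsoAt s i).1 (CochainComplex.exactAt_of_isGE K (-1) i hi)
  rw [Functor.map_zero, zero_comp, ← Functor.map_comp, ← (HomotopyCategory.quotient _ _).map_zero] at hφ
  have H := HomotopyCategory.homotopyOfEq _ _ hφ
  refine homotopy_zero_of_comp hK (K' := CochainComplex.truncGE K' (-1))
    (fun i hi => CochainComplex.isZero_of_isStrictlyGE _ (-1) i (by omega)) (s ≫ CochainComplex.πTruncGE K' (-1)) hM hM0 φ ?_
  exact (Homotopy.ofEq (Category.assoc _ _ _).symm).trans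
    ((H.compRight (CochainComplex.πTruncGE K' (-1))).trans (Homotopy.ofEq zero_comp))

/-- `Q φ = 0` iff `φ` is null homotopic, in components. -/
theorem Q_map_eq_zero_iff (φ : M ⟶ K) :
    DerivedCategory.Q.map φ = 0 ↔
      ∃ h : M.X 0 ⟶ K.X (-1), φ.f (-1) = M.d (-1) 0 ≫ h ∧ φ.f 0 = h ≫ K.d (-1) 0 := by
  have e := nonempty_homotopy_iff hM hK φ 0
  simp only [HomologicalComplex.zero_f, zero_add] at e
  rw [← e]
  exact ⟨nonempty_homotopy_of_Q_map_eq_zero hM hM0 hK φ,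
    fun ⟨H⟩ => by rw [DerivedCategory.Q_map_eq_of_homotopy _ H, Functor.map_zero]⟩

theorem Qh_map_bijective :
    Function.Bijective (fun φ : (HomotopyCategory.quotient (ModuleCat.{u} R) (ComplexShape.up ℤ)).obj M ⟶
      (HomotopyCategory.quotient (ModuleCat.{u} R) (ComplexShape.up ℤ)).obj K => DerivedCategory.Qh.map φ) := by
  let e := DerivedCategory.quotientCompQhIso (ModuleCat.{u} R)
  constructor
  · intro a b hab
    obtain ⟨a, rfl⟩ := (HomotopyCategory.quotient _ _).map_surjective a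
    obtain ⟨b, rfl⟩ := (HomotopyCategory.quotient _ _).map_surjective b
    have ha := DerivedCategory.quotientCompQhIso_hom_naturality a
    have hb := DerivedCategory.quotientCompQhIso_hom_naturality b
    simp only [hab] at ha
    rw [ha, cancel_epi] at hb
    obtain ⟨H⟩ := nonempty_homotopy_of_Q_map_eq_zero hM hM0 hK (a - b)
      (by rw [Functor.map_sub, hb, sub_self])
    have := HomotopyCategory.eq_of_homotopy _ _ H
    rwa [Functor.map_sub, Functor.map_zero, sub_eq_zero] at this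
  · intro ψ
    obtain ⟨φ, hφ⟩ := exists_Q_map_eq hM hM0 hK (e.inv.app M ≫ ψ ≫ e.hom.app K)
    refine ⟨(HomotopyCategory.quotient _ _).map φ, ?_⟩
    rw [← cancel_mono (e.hom.app K)]
    refine (DerivedCategory.quotientCompQhIso_hom_naturality φ).trans ?_
    rw [hφ]
    simp [e]

end Derived

end Groth.DAlg
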