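import Mathlib.CategoryTheory.Adjunction.Basic

/-!
Universal arrows to a functor.
-/

universe v₁ v₂ u₁ u₂

open CategoryTheory

namespace Groth.DAlg

variable {C : Type u₁} [Category.{v₁} C] {D : Type u₂} [Category.{v₂} D] (G : C ⥤ D)

/-- `η` is universal among arrows from `K` to `G`. -/
def IsUnivArrow {K : D} {L : C} (η : K ⟶ G.obj L) : Prop :=
  ∀ Z : C, Function.Bijective fun g : L ⟶ Z => η ≫ G.map g

variable {G}

lemma IsUnivArrow.comp_left {K K' : D} {L : C} {η : K ⟶ G.obj L} (h : IsUnivArrow G η) (e : K' ⟶ K) [IsIso e] :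
    IsUnivArrow G (e ≫ η) := fun Z => by
  have : (fun g : L ⟶ Z => (e ≫ η) ≫ G.map g) = (fun k => e ≫ k) ∘ fun g : L ⟶ Z => η ≫ G.map g :=
    funext fun g => Category.assoc _ _ _
  rw [this]
  exact ⟨fun a b hab => (h Z).1 ((cancel_epi e).1 hab), fun k => by
    obtain ⟨g, hg⟩ := (h Z).2 (inv e ≫ k)
    exact ⟨g, (congrArg (e ≫ ·) hg).trans (IsIso.hom_inv_id_assoc e k)⟩⟩

lemma IsUnivArrow.comp_right {K : D} {L L' : C} {η : K ⟶ G.obj L} (h : IsUnivArrow G η) (i : L ⟶ L') [IsIso i] :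
    IsUnivArrow G (η ≫ G.map i) := fun Z => by
  have : (fun g : L' ⟶ Z => (η ≫ G.map i) ≫ G.map g) = (fun g : L ⟶ Z => η ≫ G.map g) ∘ fun g => i ≫ g :=
    funext fun g => by simp
  rw [this]
  exact (h Z).comp ⟨fun a b hab => (cancel_epi i).1 hab, fun g => ⟨inv i ≫ g, by simp⟩⟩

lemma IsUnivArrow.exists_iso {K : D} {L L' : C} {η : K ⟶ G.obj L} (h : IsUnivArrow G η) {η' : K ⟶ G.obj L'}
    (h' : IsUnivArrow G η') : ∃ i : L ⟶ L', IsIso i ∧ η ≫ G.map i = η' := by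
  obtain ⟨i, hi⟩ := (h L').2 η'
  obtain ⟨j, hj⟩ := (h' L).2 η
  refine ⟨i, ⟨j, (h L).1 ?_, (h' L').1 ?_⟩, hi⟩
  · show η ≫ G.map (i ≫ j) = η ≫ G.map (𝟙 L)
    simp only at hi hj
    rw [G.map_comp, ← Category.assoc, hi, hj, G.map_id, Category.comp_id]
  · show η' ≫ G.map (j ≫ i) = η' ≫ G.map (𝟙 L')
    simp only at hi hj
    rw [G.map_comp, ← Category.assoc, hj, hi, G.map_id, Category.comp_id]

lemma isUnivArrow_unit {F : D ⥤ C} (adj : F ⊣ G) (K : D) : IsUnivArrow G (adj.unit.app K) := fun Z => by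
  have : (fun g : F.obj K ⟶ Z => adj.unit.app K ≫ G.map g) = ⇑(adj.homEquiv K Z) :=
    funext fun g => (adj.homEquiv_unit K Z g).symm
  exact this ▸ (adj.homEquiv K Z).bijective

lemma isIso_of_isUnivArrow {K : D} {L L' : C} {η : K ⟶ G.obj L} (h : IsUnivArrow G η) (i : L ⟶ L')
    (h' : IsUnivArrow G (η ≫ G.map i)) : IsIso i := by
  obtain ⟨j, hj, e⟩ := h.exists_iso h'
  have : i = j := (h L').1 e.symm
  rwa [this]

/-- A map is an isomorphism once its transpose is universal. -/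
lemma isIso_homEquiv_symm {F : D ⥤ C} (adj : F ⊣ G) {K : D} {L : C} {f : K ⟶ G.obj L} (h : IsUnivArrow G f) :
    IsIso ((adj.homEquiv K L).symm f) := by
  refine isIso_of_isUnivArrow (isUnivArrow_unit adj K) _ ?_
  have e : adj.unit.app K ≫ G.map ((adj.homEquiv K L).symm f) = f :=
    (adj.homEquiv_unit K L _).symm.trans (Equiv.apply_symm_apply _ _)
  exact cast (congrArg (IsUnivArrow G) e.symm) h

end Groth.DAlg
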